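import Cfsg.Agent.F42.Filtered

/-!
# The endgame in terms of the 24 positive roots of `F₄`

Positive roots are numbered `24, ..., 47` as in `Def_ChevF4` (`47` the highest).  `x r` is the root element
of `L`, `a r` the new element for the roots in `fr` ("free": the root group has order four), `a r = 1`
otherwise.
-/

set_option autoImplicit false

namespace Cfsg.Agent.F42.RootChain

open Subgroup Filtered

variable {G : Type*} [Group G]

/-- The data: 24 root groups. -/
structure RootData (G : Type*) [Group G] where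
  t : G
  x : ℕ → G
  a : ℕ → G
  fr : ℕ → Prop
  tt : t * t = 1
  xx : ∀ r, 24 ≤ r → r < 48 → x r * x r = 1
  xt : ∀ r, 24 ≤ r → r < 48 → x r * t = t * x r
  at_fr : ∀ r, 24 ≤ r → r < 48 → fr r → a r * t * (a r)⁻¹ = t * x r
  a_one : ∀ r, 24 ≤ r → r < 48 → ¬ fr r → a r = 1
  aa : ∀ r, 24 ≤ r → r < 48 → a r * a r ∈ closure {g | ∃ q, r < q ∧ q < 48 ∧ (g = x q ∨ g = a q)}
  comm : ∀ r s, 24 ≤ r → r ≤ s → s < 48 → ∀ g h, (g = x r ∨ g = a r) → (h = x s ∨ h = a s) →
    g * h * g⁻¹ * h⁻¹ ∈ closure {g | ∃ q, s < q ∧ q < 48 ∧ (g = x q ∨ g = a q)}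

namespace RootData

variable (R : RootData G)

/-- The group generated by the root groups above `r`. -/
def above (r : ℕ) : Subgroup G := closure {g | ∃ q, r < q ∧ q < 48 ∧ (g = R.x q ∨ g = R.a q)}

/-- The part of `L` in it. -/
def xabove (r : ℕ) : Subgroup G := closure {g | ∃ q, r < q ∧ q < 48 ∧ g = R.x q}

/-- The group generated by the `x r`, `r` not free. -/
def triv : Subgroup G := closure {g | ∃ q, 24 ≤ q ∧ q < 48 ∧ ¬ R.fr q ∧ g = R.x q}

theorem set_eq (i : ℕ) (hi : i < 24) : {g | ∃ j < i, g = R.x (47 - j) ∨ g = R.a (47 - j)} =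
    {g | ∃ q, 47 - i < q ∧ q < 48 ∧ (g = R.x q ∨ g = R.a q)} := by
  ext g
  constructor
  · rintro ⟨j, hj, hg⟩
    exact ⟨47 - j, by omega, by omega, hg⟩
  · rintro ⟨q, hq, hq2, hg⟩
    refine ⟨47 - q, by omega, ?_⟩
    have e : 47 - (47 - q) = q := by omega
    rw [e]; exact hg

/-- The chain. -/
def chain : Chain G where
  n := 24
  t := R.t
  x i := R.x (47 - i)
  a i := R.a (47 - i)
  free i := R.fr (47 - i)
  tt := R.tt
  xx i hi := R.xx _ (by omega) (by omega)
  xt i hi := R.xt _ (by omega) (by omega)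
  at_free i hi hf := R.at_fr _ (by omega) (by omega) hf
  a_triv i hi hf := R.a_one _ (by omega) (by omega) hf
  aa i hi := by
    rw [R.set_eq i hi]
    exact R.aa _ (by omega) (by omega)
  comm i j hij hj g h hg hh := by
    rw [R.set_eq i (by omega)]
    have := R.comm (47 - j) (47 - i) (by omega) (by omega) (by omega) h g hh hg
    have h2 := inv_mem this
    have e : (h * g * h⁻¹ * g⁻¹)⁻¹ = g * h * g⁻¹ * h⁻¹ := by group
    rwa [e] at h2

theorem U_eq {k : ℕ} (hk : k < 24) : R.chain.U k = R.xabove (47 - k) := by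
  unfold Chain.U xabove
  congr 1
  ext g
  constructor
  · rintro ⟨j, hj, hg⟩
    exact ⟨47 - j, by omega, by omega, hg⟩
  · rintro ⟨q, hq, hq2, hg⟩
    refine ⟨47 - q, by omega, ?_⟩
    change g = R.x (47 - (47 - q))
    have e : 47 - (47 - q) = q := by omega
    rw [e]; exact hg

theorem U_top : R.chain.U R.chain.n = R.xabove 23 := by
  unfold Chain.U xabove
  congr 1
  ext g
  constructor
  · rintro ⟨j, hj, hg⟩
    change j < 24 at hj
    exact ⟨47 - j, by omega, by omega, hg⟩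
  · rintro ⟨q, hq, hq2, hg⟩
    refine ⟨47 - q, ?_, ?_⟩
    · change 47 - q < 24
      omega
    change g = R.x (47 - (47 - q))
    have e : 47 - (47 - q) = q := by omega
    rw [e]; exact hg

theorem N_top : R.chain.N R.chain.n = R.above 23 := by
  unfold Chain.N above
  congr 1
  ext g
  constructor
  · rintro ⟨j, hj, hg⟩
    change j < 24 at hj
    exact ⟨47 - j, by omega, by omega, hg⟩
  · rintro ⟨q, hq, hq2, hg⟩
    refine ⟨47 - q, ?_, ?_⟩
    · change 47 - q < 24
      omega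
    change g = R.x (47 - (47 - q)) ∨ g = R.a (47 - (47 - q))
    have e : 47 - (47 - q) = q := by omega
    rw [e]; exact hg

theorem Y_eq : R.chain.Y = R.triv := by
  unfold Chain.Y triv
  congr 1
  ext g
  constructor
  · rintro ⟨j, hj, hf, hg⟩
    change j < 24 at hj
    exact ⟨47 - j, by omega, by omega, hf, hg⟩
  · rintro ⟨q, hq, hq2, hf, hg⟩
    have e : 47 - (47 - q) = q := by omega
    refine ⟨47 - q, ?_, ?_, ?_⟩
    · change 47 - q < 24
      omega
    · change ¬ R.fr (47 - (47 - q))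
      rw [e]; exact hf
    · change g = R.x (47 - (47 - q))
      rw [e]; exact hg

theorem hY_of (hY : ∀ r, 24 ≤ r → r < 48 → R.fr r → ∀ y ∈ R.triv, ∀ m ∈ R.xabove r, R.x r * m ≠ y) :
    ∀ k < R.chain.n, R.chain.free k → ∀ y ∈ R.chain.Y, ∀ m ∈ R.chain.U k, R.chain.x k * m ≠ y := by
  intro k hk hf y hy m hm
  change k < 24 at hk
  rw [R.U_eq hk] at hm
  rw [R.Y_eq] at hy
  exact hY (47 - k) (by omega) (by omega) hf y hy m hm

/-- `C_{S^}(t)` is the product of the `x r`. -/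
theorem mem_xabove_of_comm
    (hY : ∀ r, 24 ≤ r → r < 48 → R.fr r → ∀ y ∈ R.triv, ∀ m ∈ R.xabove r, R.x r * m ≠ y)
    {g : G} (hg : g ∈ R.above 23) (h : g * R.t = R.t * g) : g ∈ R.xabove 23 := by
  rw [← R.U_top]
  rw [← R.N_top] at hg
  refine R.chain.comm_t_mem ?_ le_rfl g hg h
  intro k hk hf hxk
  apply R.hY_of hY k hk hf 1 (one_mem _) (R.chain.x k)⁻¹ (inv_mem hxk)
  rw [mul_inv_cancel]

/-- Every involution of `t S^` is `S^`-conjugate to `t y`, `y` in the group generated by the `x r`, `r` not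
free. -/
theorem conj_of_invol
    (hY : ∀ r, 24 ≤ r → r < 48 → R.fr r → ∀ y ∈ R.triv, ∀ m ∈ R.xabove r, R.x r * m ≠ y)
    {u : G} (hu : u * u = 1) (huN : R.t⁻¹ * u ∈ R.above 23) :
    ∃ g ∈ R.above 23, ∃ y ∈ R.triv, g * u * g⁻¹ = R.t * y := by
  rw [← R.N_top] at huN ⊢
  rw [← R.Y_eq]
  exact R.chain.conj_of_invol (R.hY_of hY) hu huN

/-- The endgame: `C_G(t) = ⟨t⟩ × L`. -/
theorem exists_sign [Finite G] (L : Subgroup G) (htL : R.t ∉ L) (hxL : ∀ r, 24 ≤ r → r < 48 → R.x r ∈ L)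
    (hcent : ∀ g, g * R.t = R.t * g ↔ g ∈ L ∨ R.t * g ∈ L) (hodd : Odd ((R.xabove 23).relIndex L))
    (hY : ∀ r, 24 ≤ r → r < 48 → R.fr r → ∀ y ∈ R.triv, ∀ m ∈ R.xabove r, R.x r * m ≠ y)
    (hD : ∀ y ∈ R.triv, ∀ g, g * R.t * g⁻¹ = R.t * y → y = 1) : ∃ m : G →* ℤˣ, m R.t = -1 := by
  apply R.chain.exists_sign L htL
  · intro i hi
    change i < 24 at hi
    exact hxL (47 - i) (by omega) (by omega)
  · exact hcent
  · rw [R.U_top]; exact hodd
  · exact R.hY_of hY
  · intro y hy g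
    rw [R.Y_eq] at hy
    exact hD y hy g

end RootData

end Cfsg.Agent.F42.RootChain
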