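import Cfsg.Agent.FourTwo.Cent

/-!
# `F₄(2)` standard: the common definitions

`LL = F₄(2)` embedded by `φ` in `G`, `t` an involution centralising it.  The only structural hypothesis is
`root`: an element of `C_G(t)` which centralises a root element lies in `⟨t⟩ × L` (it holds with and without a
graph automorphism in `C_G(t)`).
-/

set_option autoImplicit false

namespace Cfsg.Agent.F42

open Cfsg.Agent.FourTwo.Base

/-- `L = φ(F₄(2))` and the involution `t`. -/
structure Std (G : Type*) [Group G] where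
  /-- the embedding -/
  φ : LL →* G
  inj : Function.Injective φ
  /-- the involution -/
  t : G
  tt : t * t = 1
  comm : ∀ l, t * φ l = φ l * t
  tne : ∀ l, t ≠ φ l
  root : ∀ g, g * t = t * g → ∀ r < 48, g * φ (x r) = φ (x r) * g → ∃ l, g = φ l ∨ g = t * φ l

namespace Std

variable {G : Type*} [Group G] (S : Std G)

theorem t_inv : S.t⁻¹ = S.t := inv_eq_of_mul_eq_one_right S.tt

theorem t_ne_one : S.t ≠ 1 := by
  have h := S.tne 1
  rwa [map_one] at h

theorem comm' (l : LL) : S.φ l * S.t = S.t * S.φ l := (S.comm l).symm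

theorem t_mul_ne (l l' : LL) : S.t * S.φ l ≠ S.φ l' := by
  intro h
  apply S.tne (l' * l⁻¹)
  rw [map_mul, map_inv, ← h, mul_inv_cancel_right]

theorem t_mul_inj {l l' : LL} (h : S.t * S.φ l = S.t * S.φ l') : l = l' := S.inj (mul_left_cancel h)

/-- `t y` is conjugate to `t`. -/
def Ty (y : LL) : Prop := ∃ g, g * S.t * g⁻¹ = S.t * S.φ y

/-- some element moves `t` to `t z` and fixes `z`. -/
def Swap (z : LL) : Prop := ∃ n, n * S.t * n⁻¹ = S.t * S.φ z ∧ n * S.φ z * n⁻¹ = S.φ z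

theorem Swap.ty {z : LL} (h : S.Swap z) : S.Ty z := by
  obtain ⟨n, hn, -⟩ := h
  exact ⟨n, hn⟩

theorem ty_conj {y : LL} (h : S.Ty y) (l : LL) : S.Ty (l * y * l⁻¹) := by
  obtain ⟨g, hg⟩ := h
  refine ⟨S.φ l * g, ?_⟩
  calc S.φ l * g * S.t * (S.φ l * g)⁻¹ = S.φ l * (g * S.t * g⁻¹) * (S.φ l)⁻¹ := by group
    _ = S.φ l * (S.t * S.φ y) * (S.φ l)⁻¹ := by rw [hg]
    _ = S.φ l * S.t * (S.φ y * (S.φ l)⁻¹) := by group
    _ = S.t * S.φ l * (S.φ y * (S.φ l)⁻¹) := by rw [S.comm' l]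
    _ = S.t * S.φ (l * y * l⁻¹) := by rw [map_mul, map_mul, map_inv]; group

theorem ty_conj_iff {y : LL} (l : LL) : S.Ty (l * y * l⁻¹) ↔ S.Ty y := by
  refine ⟨fun h => ?_, fun h => S.ty_conj h l⟩
  have h1 := S.ty_conj h l⁻¹
  have e : l⁻¹ * (l * y * l⁻¹) * l⁻¹⁻¹ = y := by group
  rwa [e] at h1

/-- the six pairs `(c, e₁ + c)`, `c = ±e_i` -/
def nsPairs : List (ℕ × ℕ) := [(29, 47), (28, 46), (27, 45), (20, 43), (19, 42), (18, 41)]

/-- split type of `s = x 44` -/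
structure IsSplit (a : G) : Prop where
  aa : a * a = 1
  at_ : a * S.t * a⁻¹ = S.t * S.φ (x 44)
  fix : ∀ r, 15 ≤ r → r < 48 → a * S.φ (x r) = S.φ (x r) * a

/-- nonsplit type of `s = x 44` -/
structure IsNon (a : G) : Prop where
  aa : a * a = 1
  at_ : a * S.t * a⁻¹ = S.t * S.φ (x 44)
  fix : ∀ r, 15 ≤ r → r < 48 → r ∉ [18, 19, 20, 27, 28, 29] → a * S.φ (x r) = S.φ (x r) * a
  mv : ∀ p ∈ nsPairs, a * S.φ (x p.1) * a⁻¹ = S.φ (x p.1 * x p.2)

/-- `C_G(t) = ⟨t⟩ × L`. -/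
def E1 : Prop := ∀ g, g * S.t = S.t * g → ∃ l, g = S.φ l ∨ g = S.t * S.φ l

/-- The dual data (`φ` composed with the graph automorphism). -/
def dual (α : LL ≃* LL) (hα : ∀ r < 48, α (x r) = x (bar r)) : Std G where
  φ := S.φ.comp α.toMonoidHom
  inj := S.inj.comp α.injective
  t := S.t
  tt := S.tt
  comm l := S.comm (α l)
  tne l := S.tne (α l)
  root g hg r hr h := by
    have h1 : g * S.φ (x (bar r)) = S.φ (x (bar r)) * g := by
      rw [← hα r hr]
      exact h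
    obtain ⟨l, hl⟩ := S.root g hg (bar r) (bar_lt hr) h1
    refine ⟨α.symm l, ?_⟩
    change g = S.φ (α (α.symm l)) ∨ g = S.t * S.φ (α (α.symm l))
    rwa [MulEquiv.apply_symm_apply]

variable (α : LL ≃* LL) (hα : ∀ r < 48, α (x r) = x (bar r))

@[simp] theorem dual_t : (S.dual α hα).t = S.t := rfl

@[simp] theorem dual_φ (l : LL) : (S.dual α hα).φ l = S.φ (α l) := rfl

theorem dual_ty (y : LL) : (S.dual α hα).Ty y ↔ S.Ty (α y) := Iff.rfl

theorem dual_swap (z : LL) : (S.dual α hα).Swap z ↔ S.Swap (α z) := Iff.rfl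

include hα in
theorem α44 : α (x 44) = x 47 := hα 44 (by norm_num)

include hα in
theorem α47 : α (x 47) = x 44 := hα 47 (by norm_num)

theorem dual_E1 (h : S.E1) : (S.dual α hα).E1 := by
  intro g hg
  obtain ⟨l, hl⟩ := h g hg
  refine ⟨α.symm l, ?_⟩
  change g = S.φ (α (α.symm l)) ∨ g = S.t * S.φ (α (α.symm l))
  rwa [MulEquiv.apply_symm_apply]

end Std

end Cfsg.Agent.F42
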