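import Cfsg.Agent.F42.AllSys
import Cfsg.Agent.F42.RootChain
import Cfsg.Agent.F42.Std
import Cfsg.Agent.FourTwo.PairW
import Cfsg.Agent.FourTwo.ClassSep

/-!
# Case ALL of `F₄(2)` standard: the system `V`

From involutions `a`, `b` with `t^a = t x₄₄`, `t^b = t x₄₇`, `a` (`b`) commuting with `C_L(x₄₄)` (`C_L(x₄₇)`):
an instance of `AllSys.VSys` on `L = F₄(2)`.
-/

set_option autoImplicit false

namespace Cfsg.Agent.F42.AllInst

open Cfsg.Agent.FourTwo.Base Cfsg.Agent.FourTwo.Par Cfsg.Agent.FourTwo.Cent Cfsg.Agent.F42.AllSys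

variable {G : Type*} [Group G]

/-- the two new elements -/
structure Two (S : Std G) (a b : G) : Prop where
  aa : a * a = 1
  bb : b * b = 1
  ta : a * S.t * a⁻¹ = S.t * S.φ (x 44)
  tb : b * S.t * b⁻¹ = S.t * S.φ (x 47)
  ca : ∀ g : LL, g * x 44 = x 44 * g → S.φ g * a = a * S.φ g
  cb : ∀ g : LL, g * x 47 = x 47 * g → S.φ g * b = b * S.φ g

theorem bar_psP : ((List.range 48).all fun r => !plP r || psP (bar r)) = true := by decide +kernel

theorem comm_of_RG {φ : LL →* G} {P : ℕ → Bool} {c : G} (h : ∀ r < 48, P r = true → φ (x r) * c = c * φ (x r))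
    {g : LL} (hg : g ∈ RG P) : φ g * c = c * φ g := by
  have h1 : RG P ≤ (Subgroup.centralizer {c}).comap φ := RG_le fun r hr hp => by
    rw [Subgroup.mem_comap, Subgroup.mem_centralizer_singleton_iff]
    exact h r hr hp
  have h2 := h1 hg
  rw [Subgroup.mem_comap, Subgroup.mem_centralizer_singleton_iff] at h2
  exact h2

theorem two_of (S : Std G) (α : LL ≃* LL) (hα : ∀ r < 48, α (x r) = x (bar r)) {a b : G} (ha : S.IsSplit a)
    (hb : (S.dual α hα).IsSplit b) : Two S a b where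
  aa := ha.aa
  bb := hb.aa
  ta := ha.at_
  tb := by
    have h := hb.at_
    rw [Std.dual_φ, Std.dual_t, hα 44 (by norm_num)] at h
    exact h
  ca g hg := by
    have h1 : g ∈ Subgroup.centralizer {x 44} := by
      rw [Subgroup.mem_centralizer_singleton_iff]
      exact hg
    rw [cent_short] at h1
    refine comm_of_RG (P := psP) (fun r hr hp => ?_) h1
    unfold psP at hp
    rw [decide_eq_true_eq] at hp
    exact (ha.fix r hp hr).symm
  cb g hg := by
    have h1 : g ∈ Subgroup.centralizer {x 47} := by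
      rw [Subgroup.mem_centralizer_singleton_iff]
      exact hg
    rw [cent_long] at h1
    refine comm_of_RG (P := plP) (fun r hr hp => ?_) h1
    have h2 := bar_psP
    rw [List.all_eq_true] at h2
    have h3 := h2 r (List.mem_range.2 hr)
    rw [hp, Bool.not_true, Bool.false_or] at h3
    unfold psP at h3
    rw [decide_eq_true_eq] at h3
    have h4 := hb.fix (bar r) h3 (bar_lt hr)
    rw [Std.dual_φ, hα _ (bar_lt hr), bar_bar hr] at h4
    exact h4.symm

open Classical in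
/-- the new elements attached to all root elements -/
noncomputable def V (S : Std G) (a b : G) (y : LL) : G :=
  if h : ∃ g : LL, g * x 44 * g⁻¹ = y then S.φ h.choose * a * (S.φ h.choose)⁻¹
  else if h : ∃ g : LL, g * x 47 * g⁻¹ = y then S.φ h.choose * b * (S.φ h.choose)⁻¹ else 1

theorem conj_welldef {φ : LL →* G} {c : G} {z : LL} (hc : ∀ g : LL, g * z = z * g → φ g * c = c * φ g) {g k : LL}
    (h : k * z * k⁻¹ = g * z * g⁻¹) : φ k * c * (φ k)⁻¹ = φ g * c * (φ g)⁻¹ := by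
  have h1 : (g⁻¹ * k) * z = z * (g⁻¹ * k) := by
    calc (g⁻¹ * k) * z = g⁻¹ * (k * z * k⁻¹) * k := by group
      _ = g⁻¹ * (g * z * g⁻¹) * k := by rw [h]
      _ = _ := by group
  have h2 := hc _ h1
  rw [map_mul, map_inv] at h2
  calc φ k * c * (φ k)⁻¹ = φ g * ((φ g)⁻¹ * φ k * c) * (φ k)⁻¹ := by group
    _ = φ g * (c * ((φ g)⁻¹ * φ k)) * (φ k)⁻¹ := by rw [h2]
    _ = _ := by group

theorem V_short {S : Std G} {a b : G} (T : Two S a b) (g : LL) :
    V S a b (g * x 44 * g⁻¹) = S.φ g * a * (S.φ g)⁻¹ := by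
  unfold V
  have h : ∃ g' : LL, g' * x 44 * g'⁻¹ = g * x 44 * g⁻¹ := ⟨g, rfl⟩
  rw [dif_pos h]
  exact conj_welldef T.ca h.choose_spec

theorem not_conj (g g' : LL) : g' * x 44 * g'⁻¹ ≠ g * x 47 * g⁻¹ := by
  intro h
  have h1 : Cfsg.Agent.FourTwo.ClassSep.rk2 (g' * x 44 * g'⁻¹) = Cfsg.Agent.FourTwo.ClassSep.rk2 (g * x 47 * g⁻¹) := by
    rw [h]
  rw [Cfsg.Agent.FourTwo.ClassSep.rk2_conj, Cfsg.Agent.FourTwo.ClassSep.rk2_conj,
    Cfsg.Agent.FourTwo.ClassSep.rk2_44, Cfsg.Agent.FourTwo.ClassSep.rk2_47] at h1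
  exact absurd h1 (by decide)

theorem V_long {S : Std G} {a b : G} (T : Two S a b) (g : LL) :
    V S a b (g * x 47 * g⁻¹) = S.φ g * b * (S.φ g)⁻¹ := by
  unfold V
  have h0 : ¬ ∃ g' : LL, g' * x 44 * g'⁻¹ = g * x 47 * g⁻¹ := fun ⟨g', h'⟩ => not_conj g g' h'
  have h : ∃ g' : LL, g' * x 47 * g'⁻¹ = g * x 47 * g⁻¹ := ⟨g, rfl⟩
  rw [dif_neg h0, dif_pos h]
  exact conj_welldef T.cb h.choose_spec

/-- the root elements -/
def Rt : Set LL := {y | (∃ g : LL, g * x 44 * g⁻¹ = y) ∨ (∃ g : LL, g * x 47 * g⁻¹ = y)}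

theorem Rt_conj {y : LL} (hy : y ∈ Rt) (g : LL) : g * y * g⁻¹ ∈ Rt := by
  rcases hy with ⟨h, rfl⟩ | ⟨h, rfl⟩
  · exact Or.inl ⟨g * h, by group⟩
  · exact Or.inr ⟨g * h, by group⟩

theorem moves {t c f φz : G} (hc : c * t * c⁻¹ = t * φz) (hf : f * t = t * f) :
    (f * c * f⁻¹) * t = t * (f * φz * f⁻¹) * (f * c * f⁻¹) := by
  have h1 : c * t = t * φz * c := by rw [← hc]; group
  have h2 : f⁻¹ * t = t * f⁻¹ := by
    calc f⁻¹ * t = f⁻¹ * (t * f) * f⁻¹ := by group
      _ = f⁻¹ * (f * t) * f⁻¹ := by rw [hf]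
      _ = _ := by group
  calc (f * c * f⁻¹) * t = f * c * (f⁻¹ * t) := by group
    _ = f * (c * t) * f⁻¹ := by rw [h2]; group
    _ = (f * t) * φz * c * f⁻¹ := by rw [h1]; group
    _ = t * (f * φz * f⁻¹) * (f * c * f⁻¹) := by rw [hf]; group

/-- The system. -/
noncomputable def sys {S : Std G} {a b : G} (T : Two S a b) : VSys G LL where
  t := S.t
  φ := S.φ
  Rt := Rt
  V := V S a b
  tt := S.tt
  inj := S.inj
  φt := S.comm'
  cent := by
    have key : ∀ r < 48, ∀ g h : LL, ∀ u : G, u * S.t = S.t * u → Commute (S.φ (h * x r * h⁻¹)) u →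
        ∃ l, u = S.φ l ∨ u = S.t * S.φ l := by
      intro r hr g h u hu hc
      obtain ⟨l, hl⟩ := S.root ((S.φ h)⁻¹ * u * S.φ h) (by
        have h1 := S.comm' h
        calc (S.φ h)⁻¹ * u * S.φ h * S.t = (S.φ h)⁻¹ * u * (S.φ h * S.t) := by group
          _ = (S.φ h)⁻¹ * (u * S.t) * S.φ h := by rw [h1]; group
          _ = (S.φ h)⁻¹ * S.t * u * S.φ h := by rw [hu]; group
          _ = (S.φ h)⁻¹ * (S.t * S.φ h) * ((S.φ h)⁻¹ * u * S.φ h) := by group
          _ = _ := by rw [← h1]; group) r hr (by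
        have h2 := hc.eq
        rw [map_mul, map_mul, map_inv] at h2
        calc (S.φ h)⁻¹ * u * S.φ h * S.φ (x r) = (S.φ h)⁻¹ * (u * (S.φ h * S.φ (x r) * (S.φ h)⁻¹)) * S.φ h := by group
          _ = _ := by rw [← h2]; group)
      refine ⟨h * l * h⁻¹, ?_⟩
      have h3 : u = S.φ h * ((S.φ h)⁻¹ * u * S.φ h) * (S.φ h)⁻¹ := by group
      rcases hl with hl | hl
      · left
        rw [h3, hl, map_mul, map_mul, map_inv]
      · right
        rw [h3, hl, map_mul, map_mul, map_inv]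
        have h1 := S.comm' h
        calc S.φ h * (S.t * S.φ l) * (S.φ h)⁻¹ = (S.φ h * S.t) * S.φ l * (S.φ h)⁻¹ := by group
          _ = _ := by rw [h1]; group
    intro u hu y hy hc
    rcases hy with ⟨h, rfl⟩ | ⟨h, rfl⟩
    · exact key 44 (by norm_num) 1 h u hu hc
    · exact key 47 (by norm_num) 1 h u hu hc
  conj_mem y hy g := Rt_conj hy g
  ysq y hy := by
    rcases hy with ⟨h, rfl⟩ | ⟨h, rfl⟩
    · have h1 := x_mul_self 44
      calc h * x 44 * h⁻¹ * (h * x 44 * h⁻¹) = h * (x 44 * x 44) * h⁻¹ := by group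
        _ = 1 := by rw [h1]; group
    · have h1 := x_mul_self 47
      calc h * x 47 * h⁻¹ * (h * x 47 * h⁻¹) = h * (x 47 * x 47) * h⁻¹ := by group
        _ = 1 := by rw [h1]; group
  yne y hy := by
    rcases hy with ⟨h, rfl⟩ | ⟨h, rfl⟩
    · intro h1
      apply Cfsg.Agent.FourTwo.BN.x_ne_one (r := 44) (by norm_num)
      calc x 44 = h⁻¹ * (h * x 44 * h⁻¹) * h := by group
        _ = 1 := by rw [h1]; group
    · intro h1
      apply Cfsg.Agent.FourTwo.BN.x_ne_one (r := 47) (by norm_num)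
      calc x 47 = h⁻¹ * (h * x 47 * h⁻¹) * h := by group
        _ = 1 := by rw [h1]; group
  Vsq y hy := by
    rcases hy with ⟨h, rfl⟩ | ⟨h, rfl⟩
    · rw [V_short T]
      calc S.φ h * a * (S.φ h)⁻¹ * (S.φ h * a * (S.φ h)⁻¹) = S.φ h * (a * a) * (S.φ h)⁻¹ := by group
        _ = 1 := by rw [T.aa]; group
    · rw [V_long T]
      calc S.φ h * b * (S.φ h)⁻¹ * (S.φ h * b * (S.φ h)⁻¹) = S.φ h * (b * b) * (S.φ h)⁻¹ := by group
        _ = 1 := by rw [T.bb]; group
  Vt y hy := by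
    rcases hy with ⟨h, rfl⟩ | ⟨h, rfl⟩
    · rw [V_short T, map_mul, map_mul, map_inv]
      exact moves T.ta (S.comm' h)
    · rw [V_long T, map_mul, map_mul, map_inv]
      exact moves T.tb (S.comm' h)
  Vconj y hy g := by
    rcases hy with ⟨h, rfl⟩ | ⟨h, rfl⟩
    · have e : g * (h * x 44 * h⁻¹) * g⁻¹ = (g * h) * x 44 * (g * h)⁻¹ := by group
      rw [e, V_short T, V_short T, map_mul]
      group
    · have e : g * (h * x 47 * h⁻¹) * g⁻¹ = (g * h) * x 47 * (g * h)⁻¹ := by group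
      rw [e, V_long T, V_long T, map_mul]
      group

end Cfsg.Agent.F42.AllInst
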