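import Cfsg.Agent.F42.AllSys

/-!
# Commutators of the groups `⟨φ y, V y⟩`

`CM a b cs`: the commutators of `φ a`, `V a` with `φ b`, `V b` lie in the subgroup generated by the `φ c`, `V c`,
`c ∈ cs`.
-/

set_option autoImplicit false

namespace Cfsg.Agent.F42.AllSys.VSys

open Subgroup

variable {G Λ : Type*} [Group G] [Group Λ] (S : VSys G Λ)

/-- the subgroup generated by the groups of the `c ∈ cs` -/
def Nc (cs : List Λ) : Subgroup G := closure {g | ∃ c ∈ cs, g = S.φ c ∨ g = S.V c}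

theorem φ_mem {cs : List Λ} {c : Λ} (h : c ∈ cs) : S.φ c ∈ S.Nc cs := subset_closure ⟨c, h, Or.inl rfl⟩

theorem V_mem {cs : List Λ} {c : Λ} (h : c ∈ cs) : S.V c ∈ S.Nc cs := subset_closure ⟨c, h, Or.inr rfl⟩

theorem Nc_le {cs : List Λ} {H : Subgroup G} (h : ∀ c ∈ cs, S.φ c ∈ H ∧ S.V c ∈ H) : S.Nc cs ≤ H := by
  unfold Nc
  rw [closure_le]
  rintro _ ⟨c, hc, rfl | rfl⟩
  · exact (h c hc).1
  · exact (h c hc).2

/-- commutators of two groups -/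
def CM (a b : Λ) (cs : List Λ) : Prop :=
  ∀ u v, (u = S.φ a ∨ u = S.V a) → (v = S.φ b ∨ v = S.V b) → u * v * u⁻¹ * v⁻¹ ∈ S.Nc cs

theorem CM.symm {a b : Λ} {cs : List Λ} (h : S.CM a b cs) : S.CM b a cs := by
  intro u v hu hv
  have h1 := inv_mem (h v u hv hu)
  have e : (v * u * v⁻¹ * u⁻¹)⁻¹ = u * v * u⁻¹ * v⁻¹ := by group
  rwa [e] at h1

theorem CM.mono {a b : Λ} {cs ds : List Λ} (h : S.CM a b cs) (hcd : ∀ c ∈ cs, c ∈ ds) : S.CM a b ds := by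
  intro u v hu hv
  exact S.Nc_le (fun c hc => ⟨S.φ_mem (hcd c hc), S.V_mem (hcd c hc)⟩) (h u v hu hv)

theorem conj_mem_Nc {cs : List Λ} (hcs : ∀ c ∈ cs, c ∈ S.Rt) (g : Λ) {u : G} (hu : u ∈ S.Nc cs) :
    S.φ g * u * (S.φ g)⁻¹ ∈ S.Nc (cs.map fun c => g * c * g⁻¹) := by
  have h : S.Nc cs ≤ (S.Nc (cs.map fun c => g * c * g⁻¹)).comap (MulAut.conj (S.φ g)).toMonoidHom := by
    refine S.Nc_le fun c hc => ?_
    have hm : g * c * g⁻¹ ∈ cs.map fun c => g * c * g⁻¹ := List.mem_map.2 ⟨c, hc, rfl⟩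
    constructor
    · rw [mem_comap]
      change S.φ g * S.φ c * (S.φ g)⁻¹ ∈ _
      rw [← map_inv, ← map_mul, ← map_mul]
      exact S.φ_mem hm
    · rw [mem_comap]
      change S.φ g * S.V c * (S.φ g)⁻¹ ∈ _
      rw [S.Vconj c (hcs c hc)]
      exact S.V_mem hm
  exact h hu

theorem CM.conj {a b : Λ} (ha : a ∈ S.Rt) (hb : b ∈ S.Rt) {cs : List Λ} (hcs : ∀ c ∈ cs, c ∈ S.Rt)
    (h : S.CM a b cs) (g : Λ) : S.CM (g * a * g⁻¹) (g * b * g⁻¹) (cs.map fun c => g * c * g⁻¹) := by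
  intro u v hu hv
  have hu' : ∃ u', (u' = S.φ a ∨ u' = S.V a) ∧ u = S.φ g * u' * (S.φ g)⁻¹ := by
    rcases hu with rfl | rfl
    · exact ⟨_, Or.inl rfl, by rw [map_mul, map_mul, map_inv]⟩
    · exact ⟨_, Or.inr rfl, (S.Vconj a ha g).symm⟩
  have hv' : ∃ v', (v' = S.φ b ∨ v' = S.V b) ∧ v = S.φ g * v' * (S.φ g)⁻¹ := by
    rcases hv with rfl | rfl
    · exact ⟨_, Or.inl rfl, by rw [map_mul, map_mul, map_inv]⟩
    · exact ⟨_, Or.inr rfl, (S.Vconj b hb g).symm⟩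
  obtain ⟨u', hu1, rfl⟩ := hu'
  obtain ⟨v', hv1, rfl⟩ := hv'
  have h1 := S.conj_mem_Nc hcs g (h u' v' hu1 hv1)
  have e : S.φ g * (u' * v' * u'⁻¹ * v'⁻¹) * (S.φ g)⁻¹ = S.φ g * u' * (S.φ g)⁻¹ * (S.φ g * v' * (S.φ g)⁻¹) *
      (S.φ g * u' * (S.φ g)⁻¹)⁻¹ * (S.φ g * v' * (S.φ g)⁻¹)⁻¹ := by group
  rwa [e] at h1

theorem comm_conj {a b : Λ} (ha : a ∈ S.Rt) (hb : b ∈ S.Rt) (h : S.V a * S.V b = S.V b * S.V a) (g : Λ) :
    S.V (g * a * g⁻¹) * S.V (g * b * g⁻¹) = S.V (g * b * g⁻¹) * S.V (g * a * g⁻¹) := by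
  rw [← S.Vconj a ha, ← S.Vconj b hb, ← S.conj_mul, ← S.conj_mul, h]

theorem CM_comm {a b : Λ} (ha : a ∈ S.Rt) (hb : b ∈ S.Rt) (hab : a * b = b * a)
    (h : S.V a * S.V b = S.V b * S.V a) : S.CM a b [] := by
  have key : ∀ u v : G, Commute u v → u * v * u⁻¹ * v⁻¹ ∈ S.Nc [] := by
    intro u v huv
    have : u * v * u⁻¹ * v⁻¹ = 1 := by rw [huv.eq]; group
    rw [this]; exact one_mem _
  rintro u v (rfl | rfl) (rfl | rfl)
  · exact key _ _ (S.commφφ hab)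
  · exact key _ _ (S.commφV hb hab)
  · exact key _ _ (S.commφV ha hab.symm).symm
  · exact key _ _ h

theorem Obt.cm {a b c : Λ} (h : S.Obt a b c) : S.CM a b [c] := by
  have haa := S.ysq a h.ha
  have hbb := S.ysq b h.hb
  have ia : (S.φ a)⁻¹ = S.φ a := inv_eq_of_mul_eq_one_right (S.φsq haa)
  have ib : (S.φ b)⁻¹ = S.φ b := inv_eq_of_mul_eq_one_right (S.φsq hbb)
  have iA := S.Vinv h.ha
  have iB := S.Vinv h.hb
  have hA := S.Vsq a h.ha
  have hB := S.Vsq b h.hb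
  have mc : S.φ c ∈ S.Nc [c] := S.φ_mem (List.mem_singleton.2 rfl)
  have mV : S.V c ∈ S.Nc [c] := S.V_mem (List.mem_singleton.2 rfl)
  have r1 := h.phi_V
  have r2 := h.symm.phi_V
  apply CM.symm
  rintro u v (rfl | rfl) (rfl | rfl)
  · -- `φ b`, `φ a`
    rw [ia, ib]
    have e : S.φ b * S.φ a * S.φ b * S.φ a = S.φ c := by
      rw [← map_mul, ← map_mul, h.rel, ← map_mul, mul_assoc, ← h.ac, ← mul_assoc, haa, one_mul]
    rw [e]; exact mc
  · -- `φ b`, `V a`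
    rw [iA, ib]
    have e : S.φ b * S.V a * S.φ b * S.V a = S.V c := by
      rw [r1, mul_assoc, ← h.pa.2, ← mul_assoc, hA, one_mul]
    rw [e]; exact mV
  · -- `V b`, `φ a`
    rw [iB, ia]
    have e : S.V b * S.φ a * S.V b * S.φ a = S.V c := by
      calc S.V b * S.φ a * S.V b * S.φ a = S.V b * (S.φ a * S.V b * S.φ a) := by group
        _ = (S.V b * S.V b) * S.V c := by rw [r2]; group
        _ = S.V c := by rw [hB, one_mul]
    rw [e]; exact mV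
  · rw [iA, iB]
    rcases h.rel_VV with e | e
    · rw [e]; exact mV
    · rw [e]; exact mul_mem mc mV

theorem Obf.cm {a b p q : Λ} (h : S.Obf a b p q) : S.CM a b [p, q] := by
  have haa := S.ysq a h.ha
  have hbb := S.ysq b h.hb
  have ia : (S.φ a)⁻¹ = S.φ a := inv_eq_of_mul_eq_one_right (S.φsq haa)
  have ib : (S.φ b)⁻¹ = S.φ b := inv_eq_of_mul_eq_one_right (S.φsq hbb)
  have iA := S.Vinv h.ha
  have iB := S.Vinv h.hb
  have hA := S.Vsq a h.ha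
  have hB := S.Vsq b h.hb
  have mp : S.φ p ∈ S.Nc [p, q] := S.φ_mem (by simp)
  have mq : S.φ q ∈ S.Nc [p, q] := S.φ_mem (by simp)
  have mVp : S.V p ∈ S.Nc [p, q] := S.V_mem (by simp)
  have mVq : S.V q ∈ S.Nc [p, q] := S.V_mem (by simp)
  obtain ⟨j, r1⟩ := h.phi_V
  obtain ⟨j', r2⟩ := h.phi_V'
  apply CM.symm
  rintro u v (rfl | rfl) (rfl | rfl)
  · rw [ia, ib]
    have e : S.φ b * S.φ a * S.φ b * S.φ a = S.φ p * S.φ q := by
      rw [← map_mul, ← map_mul, h.rel, ← map_mul, ← map_mul]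
      congr 1
      have c1 : Commute a (p * q) := (show Commute a p from h.ap).mul_right h.aq
      calc a * p * q * a = a * ((p * q) * a) := by group
        _ = (a * a) * (p * q) := by rw [← c1.eq]; group
        _ = p * q := by rw [haa, one_mul]
    rw [e]; exact mul_mem mp mq
  · rw [iA, ib]
    have c1 : Commute (S.V a) (S.V p * S.V q * S.φ p ^ (j : ℕ)) :=
      ((show Commute (S.V a) (S.V p) from h.vap).mul_right h.vaq).mul_right
        (((S.commφV h.ha h.ap.symm).symm).pow_right _)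
    have e : S.φ b * S.V a * S.φ b * S.V a = S.V p * S.V q * S.φ p ^ (j : ℕ) := by
      calc S.φ b * S.V a * S.φ b * S.V a = S.V a * ((S.V p * S.V q * S.φ p ^ (j : ℕ)) * S.V a) := by rw [r1]; group
        _ = (S.V a * S.V a) * (S.V p * S.V q * S.φ p ^ (j : ℕ)) := by rw [← c1.eq]; group
        _ = _ := by rw [hA, one_mul]
    rw [e]; exact mul_mem (mul_mem mVp mVq) (pow_mem mp _)
  · rw [iB, ia]
    have e : S.V b * S.φ a * S.V b * S.φ a = S.V p * S.V q * S.φ q ^ (j' : ℕ) := by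
      calc S.V b * S.φ a * S.V b * S.φ a = S.V b * (S.φ a * S.V b * S.φ a) := by group
        _ = (S.V b * S.V b) * (S.V p * S.V q * S.φ q ^ (j' : ℕ)) := by rw [r2]; group
        _ = _ := by rw [hB, one_mul]
    rw [e]; exact mul_mem (mul_mem mVp mVq) (pow_mem mq _)
  · rw [iA, iB]
    obtain ⟨i, k, m, n, e⟩ := h.rel_VV
    rw [e]
    exact mul_mem (mul_mem (mul_mem (pow_mem mp _) (pow_mem mq _)) (pow_mem mVp _)) (pow_mem mVq _)

end Cfsg.Agent.F42.AllSys.VSys
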