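import Cfsg.Agent.F42.AllStd
import Cfsg.Agent.FourTwo.Perf

/-!
# Case ALL of `F₄(2)` standard: the root data and the sign

`cm_all`: the commutators of the groups `⟨x_r, V_r⟩`, for all pairs of roots `r ≠ ± s`; `rootData`;
`exists_sign`: if `C_G(t) = ⟨t⟩ × L` and `G` is finite, there is a homomorphism `G → ℤˣ` with value `-1` at `t`.
-/

set_option autoImplicit false

namespace Cfsg.Agent.F42.AllInst

open Cfsg.Agent.FourTwo.Base Cfsg.Agent.FourTwo.Comm Cfsg.Agent.FourTwo.BN Cfsg.Agent.FourTwo.Par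
  Cfsg.Agent.FourTwo.Cent Cfsg.Agent.FourTwo.CentP Cfsg.Agent.FourTwo.PairW Cfsg.Agent.F42.AllSys

variable {G : Type*} [Group G] {S : Std G} {a b : G}

theorem x_Rt_list (T : Two S a b) {L : List ℕ} (h : (L.all fun q => decide (q < 48)) = true) :
    ∀ c ∈ L.map x, c ∈ (sys T).Rt := by
  intro c hc
  obtain ⟨q, hq, rfl⟩ := List.mem_map.1 hc
  rw [List.all_eq_true] at h
  exact sys_Rt T (of_decide_eq_true (h q hq))

theorem cmg_lt_tab : RelTab.all2 (fun r s => (cmg r s).all fun c => decide (c < 48)) = true := by decide +kernel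

/-- transport of `CM` to a conjugate pair -/
theorem cm_transport (T : Two S a b) {r s r' s' : ℕ} (hr : r < 48) (hs : s < 48) (hr' : r' < 48) (hs' : s' < 48)
    {w : List ℕ} (hw : ∀ i ∈ w, i < 4) (h1 : act w r = r') (h2 : act w s = s')
    (h3 : ((cmg r' s').all fun c => (cmg r s).any fun c' => decide (c' < 48) && (act w c' == c)) = true)
    (h : (sys T).CM (x r') (x s') ((cmg r' s').map x)) : (sys T).CM (x r) (x s) ((cmg r s).map x) := by
  have e1 := nw_conj hw hr
  have e2 := nw_conj hw hs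
  rw [h1] at e1
  rw [h2] at e2
  have h4 := VSys.CM.conj (sys T) (sys_Rt T hr') (sys_Rt T hs')
    (x_Rt_list T (RelTab.all2_spec cmg_lt_tab hr' hs')) h (nw w)⁻¹
  rw [back e1, back e2] at h4
  refine VSys.CM.mono (sys T) h4 ?_
  intro c hc
  obtain ⟨c1, hc1, rfl⟩ := List.mem_map.1 hc
  obtain ⟨c2, hc2, rfl⟩ := List.mem_map.1 hc1
  rw [List.all_eq_true] at h3
  have h5 := h3 c2 hc2
  rw [List.any_eq_true] at h5
  obtain ⟨c', hc', h6⟩ := h5
  rw [Bool.and_eq_true, decide_eq_true_eq, beq_iff_eq] at h6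
  have e3 := nw_conj hw h6.1
  rw [h6.2] at e3
  rw [back e3]
  exact List.mem_map.2 ⟨c', hc', rfl⟩

theorem cm_nil (T : Two S a b) {r s : ℕ} (hr : r < 48) (hs : s < 48) (h : cB r s = true) (hc : cmg r s = [])
    (hV : (sys T).V (x r) * (sys T).V (x s) = (sys T).V (x s) * (sys T).V (x r)) :
    (sys T).CM (x r) (x s) ((cmg r s).map x) := by
  rw [hc]
  exact (sys T).CM_comm (sys_Rt T hr) (sys_Rt T hs) (cB_comm h) hV

theorem cm_37_47 (T : Two S a b) : (sys T).CM (x 37) (x 47) ((cmg 37 47).map x) :=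
  cm_nil T (by norm_num) (by norm_num) (by decide +kernel) (by decide +kernel) (comm_47_37 T).symm

/-- the standard pairs -/
theorem cm_std (T : Two S a b) : ∀ p ∈ std, (sys T).CM (x p.1) (x p.2) ((cmg p.1 p.2).map x) := by
  intro p hp
  unfold std at hp
  simp only [List.mem_cons, List.not_mem_nil, or_false] at hp
  rcases hp with rfl | rfl | rfl | rfl | rfl | rfl | rfl | rfl | rfl | rfl | rfl | rfl
  · exact cm_nil T (by norm_num) (by norm_num) (by decide +kernel) (by decide +kernel) (p0_s T).2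
  · exact cm_nil T (by norm_num) (by norm_num) (by decide +kernel) (by decide +kernel) ((sys T).orth (orth_s T)).1
  · have h := VSys.Obt.cm (sys T) (obt_s T)
    rw [show cmg 40 33 = [44] by decide +kernel]
    exact h
  · exact cm_nil T (by norm_num) (by norm_num) (by decide +kernel) (by decide +kernel) (p0_l T).2
  · exact cm_nil T (by norm_num) (by norm_num) (by decide +kernel) (by decide +kernel) ((sys T).orth (orth_l T)).1
  · have h := VSys.Obt.cm (sys T) (obt_l T)
    rw [show cmg 46 24 = [47] by decide +kernel]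
    exact h
  · exact cm_nil T (by norm_num) (by norm_num) (by decide +kernel) (by decide +kernel) (comm_47_44 T).symm
  · -- `(44, 32)`
    have h : ∀ w : List ℕ, w = (word 37 47).reverse → (∀ i ∈ w, i < 4) → act w 44 = 37 → act w 32 = 47 →
        (sys T).CM (x 44) (x 32) ((cmg 44 32).map x) := fun w _ hw h1 h2 =>
      cm_transport T (by norm_num) (by norm_num) (by norm_num) (by norm_num) hw h1 h2 (by
        rw [show cmg 37 47 = [] by decide +kernel]; rfl) (cm_37_47 T)
    exact h _ rfl (fun i hi => word_lt (r := 37) (s := 47) (by norm_num) (by norm_num) i (List.mem_reverse.1 hi))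
      (by decide +kernel) (by decide +kernel)
  · -- `(29, 41)`
    have h := VSys.CM.symm (sys T) (VSys.Obf.cm (sys T) (obf T))
    refine VSys.CM.mono (sys T) h ?_
    rw [show cmg 29 41 = [44, 47] by decide +kernel]
    intro c hc
    exact hc
  · exact cm_nil T (by norm_num) (by norm_num) (by decide +kernel) (by decide +kernel) (comm_47_44 T)
  · exact cm_nil T (by norm_num) (by norm_num) (by decide +kernel) (by decide +kernel) (comm_47_37 T)
  · have h := VSys.Obf.cm (sys T) (obf T)
    refine VSys.CM.mono (sys T) h ?_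
    rw [show cmg 41 29 = [44, 47] by decide +kernel]
    intro c hc
    exact hc

theorem cm_tab : RelTab.all2 (fun r s => Nat.beq r s || Nat.beq (r + s) 47 ||
    (fun w => (cmg (act w r) (act w s)).all fun c => (cmg r s).any fun c' => decide (c' < 48) && (act w c' == c))
      (word r s)) = true := by decide +kernel

/-- **All pairs.** -/
theorem cm_all (T : Two S a b) {r s : ℕ} (hr : r < 48) (hs : s < 48) (h1 : r ≠ s) (h2 : r + s ≠ 47) :
    (sys T).CM (x r) (x s) ((cmg r s).map x) := by
  have h3 := RelTab.all2_spec cm_tab hr hs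
  rw [Bool.or_eq_true, Bool.or_eq_true, Nat.beq_eq, Nat.beq_eq] at h3
  rcases h3 with (h3 | h3) | h3
  · exact absurd h3 h1
  · exact absurd h3 h2
  · exact cm_transport T hr hs (act_lt (word_lt hr hs) hr) (act_lt (word_lt hr hs) hs) (word_lt hr hs) rfl rfl h3
      (cm_std T _ (mem_std hr hs h1 h2))

theorem comm_self {X A : G} (h0 : X * A = A * X) (g h : G) (hg : g = X ∨ g = A) (hh : h = X ∨ h = A) :
    g * h * g⁻¹ * h⁻¹ = 1 := by
  have hXA : Commute X A := h0
  have hgh : Commute g h := by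
    rcases hg with rfl | rfl <;> rcases hh with rfl | rfl
    · exact Commute.refl _
    · exact hXA
    · exact hXA.symm
    · exact Commute.refl _
  rw [hgh.eq]; group

/-! ### the root data -/

/-- The root data: all 24 groups `⟨x_r, V_r⟩`, `24 ≤ r < 48`, are free. -/
noncomputable def rootData (T : Two S a b) : RootChain.RootData G where
  t := S.t
  x r := S.φ (x r)
  a r := (sys T).V (x r)
  fr _ := True
  tt := S.tt
  xx r _ _ := by rw [← map_mul, x_mul_self, map_one]
  xt r _ _ := S.comm' _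
  at_fr r _ hr _ := by
    have h := (sys T).Vt _ (sys_Rt T hr)
    change (sys T).V (x r) * S.t = S.t * S.φ (x r) * (sys T).V (x r) at h
    rw [h, mul_inv_cancel_right]
  a_one r _ _ h := absurd trivial h
  aa r _ hr := by
    have h := (sys T).Vsq _ (sys_Rt T hr)
    rw [h]
    exact one_mem _
  comm r s hr hrs hs g h hg hh := by
    rcases Nat.eq_or_lt_of_le hrs with hlt | hlt
    · have h0 : (sys T).φ (x r) * (sys T).V (x r) = (sys T).V (x r) * (sys T).φ (x r) :=
        ((sys T).commφV (sys_Rt T (hlt ▸ hs)) rfl).eq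
      rw [← hlt] at hh
      rw [comm_self h0 g h hg hh]
      exact one_mem _
    · have h1 := cm_all T (r := r) (s := s) (by omega) hs (by omega) (by omega) g h hg hh
      refine (sys T).Nc_le ?_ h1
      intro c hc
      obtain ⟨q, hq, rfl⟩ := List.mem_map.1 hc
      obtain ⟨-, h2, h3⟩ := cmg_gt hr (by omega) (show 24 ≤ s by omega) hs q hq
      exact ⟨Subgroup.subset_closure ⟨q, h2, h3, Or.inl rfl⟩, Subgroup.subset_closure ⟨q, h2, h3, Or.inr rfl⟩⟩

theorem rootData_t (T : Two S a b) : (rootData T).t = S.t := rfl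

theorem rootData_x (T : Two S a b) (r : ℕ) : (rootData T).x r = S.φ (x r) := rfl

/-- the positive roots above `r` -/
def gtP (r q : ℕ) : Bool := decide (r < q)

theorem closed_gtP : ((List.range 25).all fun r => closedB (gtP (23 + r))) = true := by decide +kernel

theorem closed_gtP' {r : ℕ} (h : 23 ≤ r) (h' : r < 48) : closedB (gtP r) = true := by
  have h1 := closed_gtP
  rw [List.all_eq_true] at h1
  have h2 := h1 (r - 23) (List.mem_range.2 (by omega))
  rwa [Nat.add_sub_cancel' h] at h2

theorem xabove_eq (T : Two S a b) (r : ℕ) : (rootData T).xabove r = (RG (gtP r)).map S.φ := by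
  unfold RootChain.RootData.xabove RG
  rw [MonoidHom.map_closure]
  congr 1
  ext g
  constructor
  · rintro ⟨q, h1, h2, rfl⟩
    exact ⟨x q, ⟨q, h2, decide_eq_true h1, rfl⟩, rfl⟩
  · rintro ⟨_, ⟨q, h2, h1, rfl⟩, rfl⟩
    exact ⟨q, of_decide_eq_true h1, h2, rfl⟩

theorem triv_eq (T : Two S a b) : (rootData T).triv = ⊥ := by
  unfold RootChain.RootData.triv
  rw [Subgroup.closure_eq_bot_iff]
  rintro g ⟨q, -, -, h, -⟩
  exact absurd trivial h

theorem not_mem_xabove (T : Two S a b) {r : ℕ} (h : 24 ≤ r) (h' : r < 48) : (rootData T).x r ∉ (rootData T).xabove r := by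
  rw [xabove_eq, rootData_x]
  intro h1
  obtain ⟨y, hy, hxy⟩ := h1
  have h2 := S.inj hxy
  rw [h2] at hy
  have h3 := (x_mem_RG_iff (closed_gtP' (by omega) h') h').1 hy
  unfold gtP at h3
  rw [decide_eq_true_eq] at h3
  exact lt_irrefl _ h3

theorem hY (T : Two S a b) : ∀ r, 24 ≤ r → r < 48 → (rootData T).fr r → ∀ y ∈ (rootData T).triv,
    ∀ m ∈ (rootData T).xabove r, (rootData T).x r * m ≠ y := by
  intro r hr hr' _ y hy m hm h
  rw [triv_eq, Subgroup.mem_bot] at hy
  rw [hy] at h
  apply not_mem_xabove T hr hr'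
  rw [eq_inv_of_mul_eq_one_left h]
  exact inv_mem hm

theorem hD (T : Two S a b) : ∀ y ∈ (rootData T).triv, ∀ g, g * (rootData T).t * g⁻¹ = (rootData T).t * y → y = 1 := by
  intro y hy _ _
  rwa [triv_eq, Subgroup.mem_bot] at hy

theorem U_eq_gt : U = RG (gtP 23) := by
  rw [U_eq_RG]
  exact RG_congr fun r _ => rfl

theorem xabove_23 (T : Two S a b) : (rootData T).xabove 23 = U.map S.φ := by
  rw [xabove_eq, U_eq_gt]

theorem odd_relIndex (T : Two S a b) : Odd (((rootData T).xabove 23).relIndex S.φ.range) := by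
  rw [xabove_23, MonoidHom.range_eq_map, Subgroup.relIndex_map_map_of_injective _ _ S.inj,
    Subgroup.relIndex_top_right]
  exact Cfsg.Agent.FourTwo.Perf.odd_index

/-- **Case ALL, `C_G(t) = ⟨t⟩ × L`.** -/
theorem exists_sign_two [Finite G] (T : Two S a b) (hE : S.E1) : ∃ m : G →* ℤˣ, m S.t = -1 := by
  refine (rootData T).exists_sign S.φ.range ?_ ?_ ?_ (odd_relIndex T) (hY T) (hD T)
  · rintro ⟨l, hl⟩
    exact S.tne l hl.symm
  · intro r _ _
    exact ⟨x r, rfl⟩
  · intro g
    constructor
    · intro h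
      obtain ⟨l, hl | hl⟩ := hE g h
      · exact Or.inl ⟨l, hl.symm⟩
      · refine Or.inr ⟨l, ?_⟩
        change S.φ l = S.t * g
        rw [hl, ← mul_assoc, S.tt, one_mul]
    · rintro (⟨l, rfl⟩ | ⟨l, hl⟩)
      · exact S.comm' l
      · change S.φ l = S.t * g at hl
        have h1 : g = S.t * S.φ l := by rw [hl, ← mul_assoc, S.tt, one_mul]
        change g * S.t = S.t * g
        rw [h1]
        calc S.t * S.φ l * S.t = S.t * (S.φ l * S.t) := by group
          _ = _ := by rw [S.comm' l]

theorem exists_sign [Finite G] (S : Std G) (hE : S.E1) (α : LL ≃* LL) (hα : ∀ r < 48, α (x r) = x (bar r)) {a b : G}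
    (ha : S.IsSplit a) (hb : (S.dual α hα).IsSplit b) : ∃ m : G →* ℤˣ, m S.t = -1 :=
  exists_sign_two (two_of S α hα ha hb) hE

end Cfsg.Agent.F42.AllInst
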