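import Cfsg.Agent.F42.AllInst
import Cfsg.Agent.F42.AllRel
import Cfsg.Agent.FourTwo.CentAll

/-!
# Case ALL of `F₄(2)` standard: all pairs of root elements
-/

set_option autoImplicit false

namespace Cfsg.Agent.F42.AllInst

open Cfsg.Agent.FourTwo.Base Cfsg.Agent.FourTwo.Comm Cfsg.Agent.FourTwo.BN Cfsg.Agent.FourTwo.Par
  Cfsg.Agent.FourTwo.Cent Cfsg.Agent.FourTwo.CentP Cfsg.Agent.FourTwo.PairW Cfsg.Agent.F42.AllSys

variable {G : Type*} [Group G]

/-! ### algebra in an arbitrary group -/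

section Gen

variable {Λ : Type*} [Group Λ]

theorem reorder {A B C : Λ} (h1 : C * A = A * C) (h2 : C * B = B * C) (i j m : ℕ) :
    A ^ i * B ^ j * C ^ m = C ^ m * A ^ i * B ^ j := by
  have h1' : Commute C A := h1
  have h2' : Commute C B := h2
  have h3 : Commute (C ^ m) (A ^ i * B ^ j) := (h1'.pow_pow _ _).mul_right (h2'.pow_pow _ _)
  rw [mul_assoc (C ^ m), h3.eq]

theorem fst_alg {A B C p q z : Λ} (hA : A = 1 ∨ A = q) (hB : B = 1 ∨ B = p) (hC : C = 1 ∨ C = z)
    (hqz : z * q = q * z) (hpq : p * q ≠ q * p) (h : A * B * C * q = q * (A * B * C)) :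
    A * B * C = 1 ∨ A * B * C = q ∨ A * B * C = z ∨ A * B * C = q * z := by
  have hqz' : Commute z q := hqz
  have cA : Commute A q := by
    rcases hA with rfl | rfl
    · exact Commute.one_left _
    · exact Commute.refl _
  have cC : Commute C q := by
    rcases hC with rfl | rfl
    · exact Commute.one_left _
    · exact hqz'
  have hB1 : B = 1 := by
    rcases hB with rfl | rfl
    · rfl
    · exfalso
      apply hpq
      have h1 : Commute (A * B * C) q := h
      have h3 : B = A⁻¹ * (A * B * C) * C⁻¹ := by group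
      have h2 : Commute B q := by
        rw [h3]
        exact (cA.inv_left.mul_left h1).mul_left cC.inv_left
      exact h2
  rw [hB1, mul_one]
  rcases hA with rfl | rfl <;> rcases hC with rfl | rfl
  · left; rw [one_mul]
  · right; right; left; rw [one_mul]
  · right; left; rw [mul_one]
  · right; right; right; rfl

theorem snd_alg {A B C p q z : Λ} (hA : A = 1 ∨ A = p) (hB : B = 1 ∨ B = q) (hC : C = 1 ∨ C = z)
    (hqz : z * q = q * z) (hpq : p * q ≠ q * p) (h : A * B * C * q = q * (A * B * C)) :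
    A * B * C = 1 ∨ A * B * C = q ∨ A * B * C = z ∨ A * B * C = q * z := by
  have hqz' : Commute z q := hqz
  have cB : Commute B q := by
    rcases hB with rfl | rfl
    · exact Commute.one_left _
    · exact Commute.refl _
  have cC : Commute C q := by
    rcases hC with rfl | rfl
    · exact Commute.one_left _
    · exact hqz'
  have hA1 : A = 1 := by
    rcases hA with rfl | rfl
    · rfl
    · exfalso
      apply hpq
      have h1 : Commute (A * B * C) q := h
      have h3 : A = (A * B * C) * C⁻¹ * B⁻¹ := by group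
      have h2 : Commute A q := by
        rw [h3]
        exact (h1.mul_left cC.inv_left).mul_left cB.inv_left
      exact h2
  rw [hA1, one_mul]
  rcases hB with rfl | rfl <;> rcases hC with rfl | rfl
  · left; rw [one_mul]
  · right; right; left; rw [one_mul]
  · right; left; rw [mul_one]
  · right; right; right; rfl

theorem not_comm_of_conj {q p z : Λ} (h : q * p * q⁻¹ = p * z) (hz : z ≠ 1) : p * q ≠ q * p := by
  intro h1
  rw [← h1, mul_inv_cancel_right] at h
  have h5 : p * 1 = p * z := by rw [mul_one]; exact h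
  exact hz (mul_left_cancel h5).symm

end Gen

/-- the group structure of `LL` (to be passed explicitly) -/
abbrev gi : Group LL := inferInstance

theorem reorderL {A B C : LL} (h1 : C * A = A * C) (h2 : C * B = B * C) (i j m : ℕ) :
    A ^ i * B ^ j * C ^ m = C ^ m * A ^ i * B ^ j := @reorder LL gi A B C h1 h2 i j m

theorem fst_algL {A B C p q z : LL} (hA : A = 1 ∨ A = q) (hB : B = 1 ∨ B = p) (hC : C = 1 ∨ C = z)
    (hqz : z * q = q * z) (hpq : p * q ≠ q * p) (h : A * B * C * q = q * (A * B * C)) :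
    A * B * C = 1 ∨ A * B * C = q ∨ A * B * C = z ∨ A * B * C = q * z :=
  @fst_alg LL gi A B C p q z hA hB hC hqz hpq h

theorem snd_algL {A B C p q z : LL} (hA : A = 1 ∨ A = p) (hB : B = 1 ∨ B = q) (hC : C = 1 ∨ C = z)
    (hqz : z * q = q * z) (hpq : p * q ≠ q * p) (h : A * B * C * q = q * (A * B * C)) :
    A * B * C = 1 ∨ A * B * C = q ∨ A * B * C = z ∨ A * B * C = q * z :=
  @snd_alg LL gi A B C p q z hA hB hC hqz hpq h

theorem not_comm_of_conjL {q p z : LL} (h : q * p * q⁻¹ = p * z) (hz : z ≠ 1) : p * q ≠ q * p :=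
  @not_comm_of_conj LL gi q p z h hz

/-! ### conjugations by words -/

theorem conj_chk (w u v : List ℕ) (h : chk (w ++ u) (v ++ w) = true) : wd w * wd u * (wd w)⁻¹ = wd v := by
  have h1 := wd_eq _ _ h
  rw [wd_append, wd_append] at h1
  rw [h1, mul_inv_cancel_right]

theorem conj_chk1 (w : List ℕ) (u v : ℕ) (h : chk (w ++ [u]) ([v] ++ w) = true) : wd w * x u * (wd w)⁻¹ = x v := by
  have h1 := conj_chk w [u] [v] h
  rwa [wd_one, wd_one] at h1

theorem conj_chk2 (w : List ℕ) (u v v' : ℕ) (h : chk (w ++ [u]) ([v, v'] ++ w) = true) :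
    wd w * x u * (wd w)⁻¹ = x v * x v' := by
  have h1 := conj_chk w [u] [v, v'] h
  rwa [wd_one, wd_cons, wd_one] at h1

theorem conj_chk3 (w : List ℕ) (u v v' v'' : ℕ) (h : chk (w ++ [u]) ([v, v', v''] ++ w) = true) :
    wd w * x u * (wd w)⁻¹ = x v * x v' * x v'' := by
  have h1 := conj_chk w [u] [v, v', v''] h
  rwa [wd_one, wd_cons, wd_cons, wd_one, ← mul_assoc] at h1

/-- commuting root elements, Boolean -/
def cB (a q : ℕ) : Bool := decide (a < 48) && decide (q < 48) && (a == q || (!(a + q == 47) && cmg a q == []))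

theorem cB_comm {a q : ℕ} (h : cB a q = true) : x a * x q = x q * x a := by
  unfold cB at h
  simp only [Bool.and_eq_true, decide_eq_true_eq, Bool.or_eq_true, beq_iff_eq, Bool.not_eq_true',
    beq_eq_false_iff_ne, ne_eq] at h
  obtain ⟨⟨ha, hq⟩, h1⟩ := h
  rcases h1 with h1 | ⟨h1, h2⟩
  · rw [h1]
  · exact comm_one ha hq h1 h2

theorem cB_list {L : List ℕ} {a : ℕ} (h : (L.all fun q => cB q a) = true) : ∀ q ∈ L, x q * x a = x a * x q := by
  intro q hq
  rw [List.all_eq_true] at h
  exact cB_comm (h q hq)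

/-- the centraliser hypothesis from two roots -/
theorem hyp2 {a b : ℕ} {L : List ℕ} (hL : (L.all fun q => cB q a && cB q b) = true) {l : LL}
    (hl : ∀ k : LL, k * x a = x a * k → k * x b = x b * k → l * k = k * l) : ∀ q ∈ L, Commute l (x q) := by
  intro q hq
  rw [List.all_eq_true] at hL
  have h1 := hL q hq
  rw [Bool.and_eq_true] at h1
  exact hl _ (cB_comm h1.1) (cB_comm h1.2)

/-! ### root elements -/

theorem x_Rt {r : ℕ} (hr : r < 48) : x r ∈ Rt := by
  have h := Cfsg.Agent.FourTwo.CentAll.wr_base hr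
  rw [← h]
  unfold Cfsg.Agent.FourTwo.CentAll.base
  split_ifs
  · exact Or.inl ⟨_, rfl⟩
  · exact Or.inr ⟨_, rfl⟩

theorem x_ne {r s : ℕ} (hr : r < 48) (hs : s < 48) (h : r ≠ s) : x r ≠ x s := fun h1 => h (x_inj hr hs h1)

variable {S : Std G} {a b : G}

theorem sys_Rt (T : Two S a b) {r : ℕ} (hr : r < 48) : x r ∈ (sys T).Rt := x_Rt hr

theorem sys_Rt' (T : Two S a b) {y : LL} (h : ∃ r < 48, ∃ g : LL, g * x r * g⁻¹ = y) : y ∈ (sys T).Rt := by
  obtain ⟨r, hr, g, rfl⟩ := h
  exact Rt_conj (x_Rt hr) g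

/-! ### lines -/

theorem or_swap {l p q : LL} (hpq : p * q = q * p)
    (h : ∃ a b : LL, (a = 1 ∨ a = q) ∧ (b = 1 ∨ b = p) ∧ l = a * b) : l = 1 ∨ l = p ∨ l = q ∨ l = p * q := by
  obtain ⟨a, b, rfl | rfl, rfl | rfl, rfl⟩ := h
  · left; rw [one_mul]
  · right; left; rw [one_mul]
  · right; right; left; rw [mul_one]
  · right; right; right; rw [hpq]

theorem or_swap' {l p q : LL} (h : ∃ a b : LL, (a = 1 ∨ a = p) ∧ (b = 1 ∨ b = q) ∧ l = a * b) :
    l = 1 ∨ l = p ∨ l = q ∨ l = p * q := by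
  obtain ⟨a, b, rfl | rfl, rfl | rfl, rfl⟩ := h
  · left; rw [one_mul]
  · right; right; left; rw [one_mul]
  · right; left; rw [mul_one]
  · right; right; right; rfl

theorem c4746 : cB 47 46 = true := by decide +kernel
theorem c4440 : cB 44 40 = true := by decide +kernel

theorem line_l (T : Two S a b) : (sys T).Line (x 47) (x 46) where
  ha := sys_Rt T (by norm_num)
  hb := sys_Rt T (by norm_num)
  hc := sys_Rt' T ⟨46, by norm_num, wd [24, 23], conj_chk2 _ _ _ _ (by decide +kernel)⟩
  comm := cB_comm c4746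
  cent l hl := or_swap (cB_comm c4746) (cent60l (hyp2 (by decide +kernel) hl))
  swap := ⟨wd [24, 23, 24], conj_chk1 _ _ _ (by decide +kernel), conj_chk1 _ _ _ (by decide +kernel)⟩
  rot := ⟨wd [24, 23], conj_chk1 _ _ _ (by decide +kernel), conj_chk2 _ _ _ _ (by decide +kernel)⟩

theorem line_s (T : Two S a b) : (sys T).Line (x 44) (x 40) where
  ha := sys_Rt T (by norm_num)
  hb := sys_Rt T (by norm_num)
  hc := sys_Rt' T ⟨40, by norm_num, wd [33, 14], conj_chk2 _ _ _ _ (by decide +kernel)⟩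
  comm := cB_comm c4440
  cent l hl := or_swap (cB_comm c4440) (cent60s (hyp2 (by decide +kernel) hl))
  swap := ⟨wd [33, 14, 33], conj_chk1 _ _ _ (by decide +kernel), conj_chk1 _ _ _ (by decide +kernel)⟩
  rot := ⟨wd [33, 14], conj_chk1 _ _ _ (by decide +kernel), conj_chk2 _ _ _ _ (by decide +kernel)⟩

theorem p0_l (T : Two S a b) : (sys T).P0 (x 47) (x 46) :=
  (sys T).P0_of_plane (line_l T) (d := x 45) (sys_Rt T (by norm_num)) (x_ne (by norm_num) (by norm_num) (by norm_num))
    ⟨wd [24, 23, 24, 25, 22, 25], conj_chk1 _ _ _ (by decide +kernel), conj_chk1 _ _ _ (by decide +kernel)⟩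
    ⟨wd [23, 24, 25, 22, 25], conj_chk2 _ _ _ _ (by decide +kernel), conj_chk1 _ _ _ (by decide +kernel)⟩
    ⟨wd [22, 25], conj_chk1 _ _ _ (by decide +kernel), conj_chk2 _ _ _ _ (by decide +kernel)⟩

theorem p0_s (T : Two S a b) : (sys T).P0 (x 44) (x 40) :=
  (sys T).P0_of_plane (line_s T) (d := x 39) (sys_Rt T (by norm_num)) (x_ne (by norm_num) (by norm_num) (by norm_num))
    ⟨wd [33, 14, 33, 27, 20, 27], conj_chk1 _ _ _ (by decide +kernel), conj_chk1 _ _ _ (by decide +kernel)⟩
    ⟨wd [14, 33, 27, 20, 27], conj_chk2 _ _ _ _ (by decide +kernel), conj_chk1 _ _ _ (by decide +kernel)⟩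
    ⟨wd [20, 27], conj_chk1 _ _ _ (by decide +kernel), conj_chk2 _ _ _ _ (by decide +kernel)⟩

/-! ### transport -/

theorem back {g y z : LL} (h : g * y * g⁻¹ = z) : g⁻¹ * z * g⁻¹⁻¹ = y := by
  rw [← h]; group

/-- the conjugating element of a pair -/
theorem exists_g {P : ℕ → ℕ → Bool} {a0 b0 : ℕ} (hP : actB P a0 b0 = true) {r s : ℕ} (hr : r < 48) (hs : s < 48)
    (h : P r s = true) : ∃ g : LL, g * x a0 * g⁻¹ = x r ∧ g * x b0 * g⁻¹ = x s := by
  obtain ⟨h1, h2⟩ := act_of hP hr hs h
  have h3 := nw_conj (word_lt hr hs) hr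
  have h4 := nw_conj (word_lt hr hs) hs
  rw [h1] at h3
  rw [h2] at h4
  exact ⟨_, back h3, back h4⟩

theorem p0_transport (T : Two S a b) {P : ℕ → ℕ → Bool} {a0 b0 : ℕ} (hP : actB P a0 b0 = true) (ha0 : a0 < 48)
    (hb0 : b0 < 48) (h0 : x a0 * x b0 ∈ Rt) (h : (sys T).P0 (x a0) (x b0)) {r s : ℕ} (hr : r < 48) (hs : s < 48)
    (hrs : P r s = true) : (sys T).P0 (x r) (x s) := by
  obtain ⟨g, hg1, hg2⟩ := exists_g hP hr hs hrs
  have h1 := (sys T).P0_conj (sys_Rt T ha0) (sys_Rt T hb0) h0 h g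
  rw [hg1, hg2] at h1
  exact h1

theorem p0_l60 (T : Two S a b) {r s : ℕ} (hr : r < 48) (hs : s < 48) (h : l60 r s = true) :
    (sys T).P0 (x r) (x s) :=
  p0_transport T act60l (by norm_num) (by norm_num) (line_l T).hc (p0_l T) hr hs h

theorem p0_p60 (T : Two S a b) {r s : ℕ} (hr : r < 48) (hs : s < 48) (h : RelTab.p60 r s = true) :
    (sys T).P0 (x r) (x s) :=
  p0_transport T act60s (by norm_num) (by norm_num) (line_s T).hc (p0_s T) hr hs h

theorem comm_transport (T : Two S a b) {P : ℕ → ℕ → Bool} {a0 b0 : ℕ} (hP : actB P a0 b0 = true) (ha0 : a0 < 48)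
    (hb0 : b0 < 48) (h : (sys T).V (x a0) * (sys T).V (x b0) = (sys T).V (x b0) * (sys T).V (x a0)) {r s : ℕ}
    (hr : r < 48) (hs : s < 48) (hrs : P r s = true) :
    (sys T).V (x r) * (sys T).V (x s) = (sys T).V (x s) * (sys T).V (x r) := by
  obtain ⟨g, hg1, hg2⟩ := exists_g hP hr hs hrs
  have h1 := (sys T).comm_conj (sys_Rt T ha0) (sys_Rt T hb0) h g
  rw [hg1, hg2] at h1
  exact h1

/-! ### 45 degrees, and 90 degrees of different lengths -/

theorem half_47_44 (T : Two S a b) : (sys T).Half (x 47) (x 44) (x 46) where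
  hr := sys_Rt T (by norm_num)
  hs := sys_Rt T (by norm_num)
  hr' := sys_Rt T (by norm_num)
  hrr := (line_l T).hc
  crs := cB_comm (by decide +kernel)
  crr := cB_comm (by decide +kernel)
  csr := cB_comm (by decide +kernel)
  cent l hl := or_swap (cB_comm (by decide +kernel)) (cent45 (hyp2 (by decide +kernel) hl))
  p0 := p0_l T
  g1 := ⟨wd [24, 23, 24], conj_chk1 _ _ _ (by decide +kernel), conj_chk1 _ _ _ (by decide +kernel)⟩
  g2 := ⟨wd [24, 24, 23, 24], conj_chk2 _ _ _ _ (by decide +kernel), conj_chk1 _ _ _ (by decide +kernel)⟩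

theorem half_44_47 (T : Two S a b) : (sys T).Half (x 44) (x 47) (x 40) where
  hr := sys_Rt T (by norm_num)
  hs := sys_Rt T (by norm_num)
  hr' := sys_Rt T (by norm_num)
  hrr := (line_s T).hc
  crs := cB_comm (by decide +kernel)
  crr := cB_comm (by decide +kernel)
  csr := cB_comm (by decide +kernel)
  cent l hl := or_swap' (cent45 (hyp2 (by decide +kernel) fun k h1 h2 => hl k h2 h1))
  p0 := p0_s T
  g1 := ⟨wd [33, 14, 33], conj_chk1 _ _ _ (by decide +kernel), conj_chk1 _ _ _ (by decide +kernel)⟩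
  g2 := ⟨wd [33, 33, 14, 33], conj_chk2 _ _ _ _ (by decide +kernel), conj_chk1 _ _ _ (by decide +kernel)⟩

theorem comm_47_44 (T : Two S a b) : (sys T).V (x 47) * (sys T).V (x 44) = (sys T).V (x 44) * (sys T).V (x 47) :=
  (sys T).comm_mixed (x_ne (by norm_num) (by norm_num) (by norm_num)) (half_47_44 T) (half_44_47 T)

theorem comm_m45 (T : Two S a b) {r s : ℕ} (hr : r < 48) (hs : s < 48) (h : m45 r s = true) :
    (sys T).V (x r) * (sys T).V (x s) = (sys T).V (x s) * (sys T).V (x r) :=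
  comm_transport T act45 (by norm_num) (by norm_num) (comm_47_44 T) hr hs h

theorem half_47_37 (T : Two S a b) : (sys T).Half (x 47) (x 37) (x 42) where
  hr := sys_Rt T (by norm_num)
  hs := sys_Rt T (by norm_num)
  hr' := sys_Rt T (by norm_num)
  hrr := sys_Rt' T ⟨42, by norm_num, wd [32], conj_chk2 _ _ _ _ (by decide +kernel)⟩
  crs := cB_comm (by decide +kernel)
  crr := cB_comm (by decide +kernel)
  csr := cB_comm (by decide +kernel)
  cent l hl := or_swap (cB_comm (by decide +kernel)) (cent90m (hyp2 (by decide +kernel) hl))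
  p0 := p0_l60 T (by norm_num) (by norm_num) (by decide +kernel)
  g1 := ⟨wd [32, 15, 32], conj_chk1 _ _ _ (by decide +kernel), conj_chk1 _ _ _ (by decide +kernel)⟩
  g2 := ⟨wd [32, 32, 15, 32], conj_chk2 _ _ _ _ (by decide +kernel), conj_chk1 _ _ _ (by decide +kernel)⟩

theorem half_37_47 (T : Two S a b) : (sys T).Half (x 37) (x 47) (x 28) where
  hr := sys_Rt T (by norm_num)
  hs := sys_Rt T (by norm_num)
  hr' := sys_Rt T (by norm_num)
  hrr := sys_Rt' T ⟨28, by norm_num, wd [34], conj_chk2 _ _ _ _ (by decide +kernel)⟩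
  crs := cB_comm (by decide +kernel)
  crr := cB_comm (by decide +kernel)
  csr := cB_comm (by decide +kernel)
  cent l hl := or_swap' (cent90m (hyp2 (by decide +kernel) fun k h1 h2 => hl k h2 h1))
  p0 := p0_p60 T (by norm_num) (by norm_num) (by decide +kernel)
  g1 := ⟨wd [34, 13, 34], conj_chk1 _ _ _ (by decide +kernel), conj_chk1 _ _ _ (by decide +kernel)⟩
  g2 := ⟨wd [34, 34, 13, 34], conj_chk2 _ _ _ _ (by decide +kernel), conj_chk1 _ _ _ (by decide +kernel)⟩

theorem comm_47_37 (T : Two S a b) : (sys T).V (x 47) * (sys T).V (x 37) = (sys T).V (x 37) * (sys T).V (x 47) :=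
  (sys T).comm_mixed (x_ne (by norm_num) (by norm_num) (by norm_num)) (half_47_37 T) (half_37_47 T)

theorem comm_m90 (T : Two S a b) {r s : ℕ} (hr : r < 48) (hs : s < 48) (h : m90 r s = true) :
    (sys T).V (x r) * (sys T).V (x s) = (sys T).V (x s) * (sys T).V (x r) :=
  comm_transport T act90m (by norm_num) (by norm_num) (comm_47_37 T) hr hs h

/-! ### 90 degrees, same length -/

theorem p1 (y : LL) : y ^ ((1 : Fin 2) : ℕ) = y := by rw [Fin.val_one, pow_one]
theorem p0 (y : LL) : y ^ ((0 : Fin 2) : ℕ) = 1 := by rw [Fin.val_zero, pow_zero]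

theorem exists_fin {c y : LL} (h : c = 1 ∨ c = y) : ∃ i : Fin 2, c = y ^ (i : ℕ) := by
  rcases h with rfl | rfl
  · exact ⟨0, (p0 _).symm⟩
  · exact ⟨1, (p1 _).symm⟩

/-- the centraliser hypothesis from three roots -/
theorem hyp3 {a b c : ℕ} {L : List ℕ} (hL : (L.all fun q => cB q a && cB q b && cB q c) = true) {l : LL}
    (hl : ∀ k : LL, k * x a = x a * k → k * x b = x b * k → k * x c = x c * k → l * k = k * l) :
    ∀ q ∈ L, Commute l (x q) := by
  intro q hq
  rw [List.all_eq_true] at hL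
  have h1 := hL q hq
  rw [Bool.and_eq_true, Bool.and_eq_true] at h1
  exact hl _ (cB_comm h1.1.1) (cB_comm h1.1.2) (cB_comm h1.2)

theorem orth_l (T : Two S a b) : (sys T).Orth (x 47) (x 41) (x 44) where
  ha := sys_Rt T (by norm_num)
  hb := sys_Rt T (by norm_num)
  hs := sys_Rt T (by norm_num)
  hd := sys_Rt' T ⟨41, by norm_num, wd [29], conj_chk3 _ _ _ _ _ (by decide +kernel)⟩
  hab := cB_comm (by decide +kernel)
  has := cB_comm (by decide +kernel)
  hbs := cB_comm (by decide +kernel)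
  nas := x_ne (by norm_num) (by norm_num) (by norm_num)
  nab := x_ne (by norm_num) (by norm_num) (by norm_num)
  cent l hl := by
    obtain ⟨A, B, C, hA, hB, hC, rfl⟩ := cent90l (hyp3 (a := 47) (b := 41) (c := 44) (by decide +kernel) hl)
    obtain ⟨i, rfl⟩ := exists_fin hA
    obtain ⟨j, rfl⟩ := exists_fin hB
    obtain ⟨m, rfl⟩ := exists_fin hC
    exact ⟨m, i, j, reorderL (cB_comm (by decide +kernel)) (cB_comm (by decide +kernel)) _ _ _⟩
  vas := (comm_47_44 T).symm
  vbs := (comm_m45 T (r := 41) (s := 44) (by norm_num) (by norm_num) (by decide +kernel)).symm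
  e := ⟨wd [29], conj_chk1 _ _ _ (by decide +kernel), conj_chk1 _ _ _ (by decide +kernel),
    conj_chk3 _ _ _ _ _ (by decide +kernel)⟩
  n := ⟨wd [29, 18, 29], conj_chk1 _ _ _ (by decide +kernel), conj_chk1 _ _ _ (by decide +kernel),
    conj_chk1 _ _ _ (by decide +kernel)⟩

theorem orth_s (T : Two S a b) : (sys T).Orth (x 44) (x 29) (x 47) where
  ha := sys_Rt T (by norm_num)
  hb := sys_Rt T (by norm_num)
  hs := sys_Rt T (by norm_num)
  hd := sys_Rt' T ⟨29, by norm_num, wd [41], conj_chk3 _ _ _ _ _ (by decide +kernel)⟩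
  hab := cB_comm (by decide +kernel)
  has := cB_comm (by decide +kernel)
  hbs := cB_comm (by decide +kernel)
  nas := x_ne (by norm_num) (by norm_num) (by norm_num)
  nab := x_ne (by norm_num) (by norm_num) (by norm_num)
  cent l hl := by
    obtain ⟨A, B, C, hA, hB, hC, rfl⟩ := cent90s (hyp3 (a := 44) (b := 29) (c := 47) (by decide +kernel) hl)
    obtain ⟨i, rfl⟩ := exists_fin hA
    obtain ⟨j, rfl⟩ := exists_fin hB
    obtain ⟨m, rfl⟩ := exists_fin hC
    exact ⟨m, i, j, reorderL (cB_comm (by decide +kernel)) (cB_comm (by decide +kernel)) _ _ _⟩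
  vas := comm_47_44 T
  vbs := comm_m45 T (r := 47) (s := 29) (by norm_num) (by norm_num) (by decide +kernel)
  e := ⟨wd [41], conj_chk1 _ _ _ (by decide +kernel), conj_chk1 _ _ _ (by decide +kernel),
    conj_chk3 _ _ _ _ _ (by decide +kernel)⟩
  n := ⟨wd [41, 6, 41], conj_chk1 _ _ _ (by decide +kernel), conj_chk1 _ _ _ (by decide +kernel),
    conj_chk1 _ _ _ (by decide +kernel)⟩

/-! ### 120 degrees -/

theorem nc_46_24 : x 46 * x 24 ≠ x 24 * x 46 := by
  have h := conj_chk2 [24] 46 46 47 (by decide +kernel)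
  rw [wd_one] at h
  exact not_comm_of_conjL h (x_ne_one (by norm_num))

theorem obt_l (T : Two S a b) : (sys T).Obt (x 46) (x 24) (x 47) where
  ha := sys_Rt T (by norm_num)
  hb := sys_Rt T (by norm_num)
  hc := sys_Rt T (by norm_num)
  rel := by
    have h := conj_chk2 [24] 46 46 47 (by decide +kernel)
    rwa [wd_one, x_inv] at h
  ac := cB_comm (by decide +kernel)
  bc := cB_comm (by decide +kernel)
  pa := p0_l60 T (by norm_num) (by norm_num) (by decide +kernel)
  pb := p0_l60 T (by norm_num) (by norm_num) (by decide +kernel)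
  centb l hl hlb := by
    obtain ⟨A, B, C, hA, hB, hC, rfl⟩ := cent120l (hyp2 (a := 46) (b := 24) (by decide +kernel) hl)
    exact fst_algL hA hB hC (cB_comm (by decide +kernel)) nc_46_24 hlb
  centa l hl hla := by
    obtain ⟨A, B, C, hA, hB, hC, rfl⟩ := cent120l (hyp2 (a := 46) (b := 24) (by decide +kernel) hl)
    exact snd_algL hA hB hC (cB_comm (by decide +kernel)) (Ne.symm nc_46_24) hla

theorem nc_40_33 : x 40 * x 33 ≠ x 33 * x 40 := by
  have h := conj_chk2 [33] 40 40 44 (by decide +kernel)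
  rw [wd_one] at h
  exact not_comm_of_conjL h (x_ne_one (by norm_num))

theorem obt_s (T : Two S a b) : (sys T).Obt (x 40) (x 33) (x 44) where
  ha := sys_Rt T (by norm_num)
  hb := sys_Rt T (by norm_num)
  hc := sys_Rt T (by norm_num)
  rel := by
    have h := conj_chk2 [33] 40 40 44 (by decide +kernel)
    rwa [wd_one, x_inv] at h
  ac := cB_comm (by decide +kernel)
  bc := cB_comm (by decide +kernel)
  pa := p0_p60 T (by norm_num) (by norm_num) (by decide +kernel)
  pb := p0_p60 T (by norm_num) (by norm_num) (by decide +kernel)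
  centb l hl hlb := by
    obtain ⟨A, B, C, hA, hB, hC, rfl⟩ := cent120s (hyp2 (a := 40) (b := 33) (by decide +kernel) hl)
    exact fst_algL hA hB hC (cB_comm (by decide +kernel)) nc_40_33 hlb
  centa l hl hla := by
    obtain ⟨A, B, C, hA, hB, hC, rfl⟩ := cent120s (hyp2 (a := 40) (b := 33) (by decide +kernel) hl)
    exact snd_algL hA hB hC (cB_comm (by decide +kernel)) (Ne.symm nc_40_33) hla

/-! ### 135 degrees -/

theorem hyp4 {a b c d : ℕ} {L : List ℕ} {l : LL}
    (hL : (L.all fun q => (q == a || q == b) || (cB q a && cB q b && cB q c && cB q d)) = true)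
    (hl : ∀ k : LL, k * x a = x a * k → k * x b = x b * k → k * x c = x c * k → k * x d = x d * k → l * k = k * l)
    (ha : l * x a = x a * l) (hb : l * x b = x b * l) : ∀ q ∈ L, Commute l (x q) := by
  intro q hq
  rw [List.all_eq_true] at hL
  have h1 := hL q hq
  rw [Bool.or_eq_true, Bool.or_eq_true, beq_iff_eq, beq_iff_eq, Bool.and_eq_true, Bool.and_eq_true,
    Bool.and_eq_true] at h1
  rcases h1 with (h1 | h1) | h1
  · rw [h1]; exact ha
  · rw [h1]; exact hb
  · exact hl _ (cB_comm h1.1.1.1) (cB_comm h1.1.1.2) (cB_comm h1.1.2) (cB_comm h1.2)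

theorem or_swap'' {l p q : LL} (h : ∃ a b : LL, (a = 1 ∨ a = p) ∧ (b = 1 ∨ b = q) ∧ l = a * b) :
    l = 1 ∨ l = p ∨ l = q ∨ l = p * q := or_swap' h

theorem obf (T : Two S a b) : (sys T).Obf (x 41) (x 29) (x 44) (x 47) where
  ha := sys_Rt T (by norm_num)
  hb := sys_Rt T (by norm_num)
  hp := sys_Rt T (by norm_num)
  hq := sys_Rt T (by norm_num)
  rel := by
    have h := conj_chk3 [29] 41 41 44 47 (by decide +kernel)
    rwa [wd_one, x_inv] at h
  ap := cB_comm (by decide +kernel)
  aq := cB_comm (by decide +kernel)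
  bp := cB_comm (by decide +kernel)
  bq := cB_comm (by decide +kernel)
  pq := cB_comm (by decide +kernel)
  vap := comm_m45 T (r := 41) (s := 44) (by norm_num) (by norm_num) (by decide +kernel)
  vaq := ((sys T).orth (orth_l T)).1.symm
  vbp := ((sys T).orth (orth_s T)).1.symm
  vbq := (comm_m45 T (r := 47) (s := 29) (by norm_num) (by norm_num) (by decide +kernel)).symm
  vpq := (comm_47_44 T).symm
  va := by
    have h := ((sys T).orth (orth_l T)).2
    have e : x 47 * x 41 * x 44 = x 41 * x 44 * x 47 := by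
      rw [cB_comm (a := 47) (q := 41) (by decide +kernel), mul_assoc,
        cB_comm (a := 47) (q := 44) (by decide +kernel), mul_assoc]
    have e2 : (sys T).V (x 47) * (sys T).V (x 41) * (sys T).V (x 44) =
        (sys T).V (x 41) * (sys T).V (x 44) * (sys T).V (x 47) := by
      rw [((sys T).orth (orth_l T)).1, mul_assoc, comm_47_44 T, mul_assoc]
    rw [e, e2] at h
    exact h
  vb := by
    have h := ((sys T).orth (orth_s T)).2
    have e : x 44 * x 29 * x 47 = x 29 * x 44 * x 47 := by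
      rw [cB_comm (a := 44) (q := 29) (by decide +kernel)]
    rw [e, ((sys T).orth (orth_s T)).1] at h
    exact h
  cent l hl ha hb := or_swap'' (cent135 (hyp4 (by decide +kernel) hl ha hb))

end Cfsg.Agent.F42.AllInst
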