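import Mathlib

/-!
# Case ALL: relations among the elements `V y`

`t` an involution of `G`, `φ : Λ →* G` injective; an element commuting with `t` and with some root element
`φ y` lies in `φ(Λ) ∪ t φ(Λ)`; for every root element `y` of
`Λ` there is an involution `V y` with `V y * t = t * φ y * V y` such that `V (g y g⁻¹) = φ g * V y * (φ g)⁻¹`.
All commutation relations between the `V y` and the `φ y` follow from centraliser facts in `Λ`.
-/

set_option autoImplicit false

namespace Cfsg.Agent.F42.AllSys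

structure VSys (G Λ : Type*) [Group G] [Group Λ] where
  t : G
  φ : Λ →* G
  Rt : Set Λ
  V : Λ → G
  tt : t * t = 1
  inj : Function.Injective φ
  φt : ∀ l, φ l * t = t * φ l
  cent : ∀ g, g * t = t * g → ∀ y ∈ Rt, Commute (φ y) g → ∃ l, g = φ l ∨ g = t * φ l
  conj_mem : ∀ y ∈ Rt, ∀ g, g * y * g⁻¹ ∈ Rt
  ysq : ∀ y ∈ Rt, y * y = 1
  yne : ∀ y ∈ Rt, y ≠ 1
  Vsq : ∀ y ∈ Rt, V y * V y = 1
  Vt : ∀ y ∈ Rt, V y * t = t * φ y * V y
  Vconj : ∀ y ∈ Rt, ∀ g, φ g * V y * (φ g)⁻¹ = V (g * y * g⁻¹)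

namespace VSys

variable {G Λ : Type*} [Group G] [Group Λ] (S : VSys G Λ)

/-- `u` moves `t` to `t * φ z`. -/
def Mv (u : G) (z : Λ) : Prop := u * S.t = S.t * S.φ z * u

theorem Mv_V {y : Λ} (hy : y ∈ S.Rt) : S.Mv (S.V y) y := S.Vt y hy

theorem Mv_mul {u v : G} {z w : Λ} (hu : S.Mv u z) (hv : S.Mv v w) (h : Commute u (S.φ w)) :
    S.Mv (u * v) (z * w) := by
  unfold Mv at *
  calc u * v * S.t = u * (v * S.t) := by group
    _ = u * (S.t * S.φ w * v) := by rw [hv]
    _ = (u * S.t) * S.φ w * v := by group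
    _ = (S.t * S.φ z * u) * S.φ w * v := by rw [hu]
    _ = S.t * S.φ z * (u * S.φ w) * v := by group
    _ = S.t * S.φ z * (S.φ w * u) * v := by rw [h.eq]
    _ = S.t * S.φ (z * w) * (u * v) := by rw [map_mul]; group

theorem Mv_one_iff {u : G} : S.Mv u 1 ↔ u * S.t = S.t * u := by
  unfold Mv; rw [map_one, mul_one]

theorem Mv_φ (l : Λ) : S.Mv (S.φ l) 1 := by rw [Mv_one_iff, S.φt]

theorem Mv_t : S.Mv S.t 1 := by rw [Mv_one_iff]

theorem commφV {y g : Λ} (hy : y ∈ S.Rt) (h : g * y = y * g) : Commute (S.φ g) (S.V y) := by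
  have h1 := S.Vconj y hy g
  have h2 : g * y * g⁻¹ = y := by rw [h]; group
  rw [h2] at h1
  change S.φ g * S.V y = S.V y * S.φ g
  calc S.φ g * S.V y = (S.φ g * S.V y * (S.φ g)⁻¹) * S.φ g := by group
    _ = _ := by rw [h1]

theorem commφφ {g h : Λ} (hc : g * h = h * g) : Commute (S.φ g) (S.φ h) := by
  change S.φ g * S.φ h = S.φ h * S.φ g
  rw [← map_mul, hc, map_mul]

/-- Rigidity. -/
theorem rigid {u : G} (hu : u * S.t = S.t * u) (K : Set Λ) (hK : ∀ k ∈ K, Commute (S.φ k) u)
    {r : Λ} (hr : r ∈ S.Rt) (hrK : r ∈ K) :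
    ∃ l, (∀ k ∈ K, l * k = k * l) ∧ (u = S.φ l ∨ u = S.t * S.φ l) := by
  obtain ⟨l, hl⟩ := S.cent u hu r hr (hK r hrK)
  refine ⟨l, fun k hk => ?_, hl⟩
  have h1 := (hK k hk).eq
  apply S.inj
  rw [map_mul, map_mul]
  rcases hl with hl | hl
  · rw [hl] at h1; exact h1.symm
  · rw [hl] at h1
    have h2 : S.t * (S.φ l * S.φ k) = S.t * (S.φ k * S.φ l) := by
      calc S.t * (S.φ l * S.φ k) = S.t * S.φ l * S.φ k := by group
        _ = S.φ k * (S.t * S.φ l) := h1.symm
        _ = (S.φ k * S.t) * S.φ l := by group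
        _ = _ := by rw [S.φt]; group
    exact mul_left_cancel h2

theorem no_t {y l : Λ} (hy : y ∈ S.Rt) (hly : l * y = y * l)
    (h : Commute (S.t * S.φ l) (S.V y)) : False := by
  apply S.yne y hy
  apply S.inj
  rw [map_one]
  have h1 := h.eq
  have h2 := (S.commφV hy hly).eq
  have h3 : S.t * S.V y * S.φ l = S.t * S.φ y * S.V y * S.φ l := by
    calc S.t * S.V y * S.φ l = S.t * (S.V y * S.φ l) := by group
      _ = S.t * S.φ l * S.V y := by rw [← h2]; group
      _ = S.V y * (S.t * S.φ l) := h1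
      _ = (S.V y * S.t) * S.φ l := by group
      _ = _ := by rw [S.Vt y hy]
  have h4 := mul_right_cancel (mul_right_cancel h3)
  have h5 : S.t * 1 = S.t * S.φ y := by rw [mul_one]; exact h4
  exact (mul_left_cancel h5).symm

theorem rigid' {u : G} (hu : u * S.t = S.t * u) (K : Set Λ) (hK : ∀ k ∈ K, Commute (S.φ k) u)
    {r : Λ} (hr : r ∈ S.Rt) (hrK : r ∈ K) {y : Λ}
    (hy : y ∈ S.Rt) (huy : Commute u (S.V y)) (hl : ∀ l, (∀ k ∈ K, l * k = k * l) → l * y = y * l) :
    ∃ l, (∀ k ∈ K, l * k = k * l) ∧ u = S.φ l := by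
  obtain ⟨l, h1, h2 | h2⟩ := S.rigid hu K hK hr hrK
  · exact ⟨l, h1, h2⟩
  · rw [h2] at huy
    exact (S.no_t hy (hl l h1) huy).elim

/-- conjugation of words -/
theorem conj_mul (g : Λ) (u v : G) : S.φ g * (u * v) * (S.φ g)⁻¹ = (S.φ g * u * (S.φ g)⁻¹) * (S.φ g * v * (S.φ g)⁻¹) := by
  group

theorem conj_eq {u v : G} (h : u = v) (g : Λ) : S.φ g * u * (S.φ g)⁻¹ = S.φ g * v * (S.φ g)⁻¹ := by rw [h]

theorem Vinv {y : Λ} (hy : y ∈ S.Rt) : (S.V y)⁻¹ = S.V y := inv_eq_of_mul_eq_one_right (S.Vsq y hy)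

theorem φsq {y : Λ} (hy : y * y = 1) : S.φ y * S.φ y = 1 := by rw [← map_mul, hy, map_one]

/-- The commutator of two commuting-type root elements. -/
theorem comm_rigid {a b : Λ} (ha : a ∈ S.Rt) (hb : b ∈ S.Rt) (hab : a * b = b * a)
    (hsq : ∀ l, (∀ k, k * a = a * k → k * b = b * k → l * k = k * l) → l * l = 1) :
    ∃ l, (∀ k, k * a = a * k → k * b = b * k → l * k = k * l) ∧
      S.V a * S.V b * (S.V a * S.V b) = S.φ l := by
  set c := S.V a * S.V b * (S.V a * S.V b) with hc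
  have haa := S.ysq a ha
  have hbb := S.ysq b hb
  have hAB : Commute (S.V a) (S.φ b) := (S.commφV ha hab.symm).symm
  have hBA : Commute (S.V b) (S.φ a) := (S.commφV hb hab).symm
  have hm : S.Mv (S.V a * S.V b) (a * b) := S.Mv_mul (S.Mv_V ha) (S.Mv_V hb) hAB
  have hABc : Commute (S.V a * S.V b) (S.φ (a * b)) := by
    rw [map_mul]
    have h1 : Commute (S.V a) (S.φ a) := (S.commφV ha rfl).symm
    have h2 : Commute (S.V b) (S.φ b) := (S.commφV hb rfl).symm
    exact (h1.mul_right hAB).mul_left (hBA.mul_right h2)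
  have hm2 : S.Mv c 1 := by
    have := S.Mv_mul hm hm hABc
    have e : a * b * (a * b) = 1 := by
      calc a * b * (a * b) = a * (b * a) * b := by group
        _ = a * (a * b) * b := by rw [hab]
        _ = (a * a) * (b * b) := by group
        _ = 1 := by rw [haa, hbb, one_mul]
    rwa [e] at this
  have hct := S.Mv_one_iff.1 hm2
  set K : Set Λ := {k | k * a = a * k ∧ k * b = b * k} with hK
  have hcK : ∀ k ∈ K, Commute (S.φ k) c := by
    rintro k ⟨hka, hkb⟩
    have h1 := S.commφV ha hka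
    have h2 := S.commφV hb hkb
    exact (h1.mul_right h2).mul_right (h1.mul_right h2)
  have hKK : ∀ l, (∀ k ∈ K, l * k = k * l) ↔ (∀ k, k * a = a * k → k * b = b * k → l * k = k * l) := by
    intro l
    exact ⟨fun h k h1 h2 => h k ⟨h1, h2⟩, fun h k hk => h k hk.1 hk.2⟩
  have hcc : c * c = 1 := by
    obtain ⟨l, h1, h2 | h2⟩ := S.rigid hct K hcK ha ⟨rfl, hab⟩
    · rw [h2]; exact S.φsq (hsq l ((hKK l).1 h1))
    · rw [h2]
      calc S.t * S.φ l * (S.t * S.φ l) = S.t * (S.φ l * S.t) * S.φ l := by group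
        _ = (S.t * S.t) * (S.φ l * S.φ l) := by rw [S.φt]; group
        _ = 1 := by rw [S.tt, S.φsq (hsq l ((hKK l).1 h1)), one_mul]
  have hA := S.Vsq a ha
  have hB := S.Vsq b hb
  have hcA : Commute c (S.V a) := by
    change c * S.V a = S.V a * c
    have h1 : S.V a * c = S.V b * S.V a * S.V b := by
      rw [hc]
      calc S.V a * (S.V a * S.V b * (S.V a * S.V b)) = (S.V a * S.V a) * (S.V b * S.V a * S.V b) := by group
        _ = _ := by rw [hA, one_mul]
    have h2 : (c * S.V a) * (S.V b * S.V a * S.V b) = 1 := by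
      rw [← hcc]
      calc c * S.V a * (S.V b * S.V a * S.V b) = c * (S.V a * S.V b * (S.V a * S.V b)) := by group
        _ = c * c := by rw [← hc]
    have h3 : (S.V b * S.V a * S.V b) * (S.V b * S.V a * S.V b) = 1 := by
      calc (S.V b * S.V a * S.V b) * (S.V b * S.V a * S.V b) = S.V b * S.V a * (S.V b * S.V b) * S.V a * S.V b := by group
        _ = S.V b * (S.V a * S.V a) * S.V b := by rw [hB]; group
        _ = 1 := by rw [hA, mul_one, hB]
    rw [h1]
    calc c * S.V a = (c * S.V a) * ((S.V b * S.V a * S.V b) * (S.V b * S.V a * S.V b)) := by rw [h3, mul_one]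
      _ = ((c * S.V a) * (S.V b * S.V a * S.V b)) * (S.V b * S.V a * S.V b) := by group
      _ = _ := by rw [h2, one_mul]
  obtain ⟨l, h1, h2⟩ := S.rigid' hct K hcK ha ⟨rfl, hab⟩ ha hcA (fun l hl => hl a ⟨rfl, hab⟩)
  exact ⟨l, (hKK l).1 h1, h2⟩

/-- A line of root elements. -/
structure Line (a b : Λ) : Prop where
  ha : a ∈ S.Rt
  hb : b ∈ S.Rt
  hc : a * b ∈ S.Rt
  comm : a * b = b * a
  cent : ∀ l, (∀ k, k * a = a * k → k * b = b * k → l * k = k * l) → l = 1 ∨ l = a ∨ l = b ∨ l = a * b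
  swap : ∃ g, g * a * g⁻¹ = b ∧ g * b * g⁻¹ = a
  rot : ∃ g, g * a * g⁻¹ = b ∧ g * b * g⁻¹ = a * b

/-- `V` is multiplicative on the line. -/
def P0 (a b : Λ) : Prop := S.V a * S.V b = S.V (a * b) ∧ S.V a * S.V b = S.V b * S.V a

/-- The bad case. -/
def P1 (a b : Λ) : Prop :=
  (S.t * S.V a) * (S.t * S.V b) = (S.t * S.V b) * (S.t * S.V a) ∧
  (S.t * S.V a) * (S.t * S.V b) * (S.t * S.V (a * b)) = 1

theorem P1_conj {a b : Λ} (ha : a ∈ S.Rt) (hb : b ∈ S.Rt) (hab : a * b ∈ S.Rt) (h : S.P1 a b) (g : Λ) :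
    S.P1 (g * a * g⁻¹) (g * b * g⁻¹) := by
  have ht : S.φ g * S.t * (S.φ g)⁻¹ = S.t := by rw [S.φt]; group
  have e : g * a * g⁻¹ * (g * b * g⁻¹) = g * (a * b) * g⁻¹ := by group
  unfold P1 at *
  rw [e, ← S.Vconj a ha g, ← S.Vconj b hb g, ← S.Vconj (a * b) hab g]
  have e2 : ∀ y, S.t * (S.φ g * S.V y * (S.φ g)⁻¹) = S.φ g * (S.t * S.V y) * (S.φ g)⁻¹ := by
    intro y
    calc S.t * (S.φ g * S.V y * (S.φ g)⁻¹) = (S.φ g * S.t * (S.φ g)⁻¹) * (S.φ g * S.V y * (S.φ g)⁻¹) := by rw [ht]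
      _ = _ := by group
  rw [e2, e2, e2]
  constructor
  · rw [← S.conj_mul, ← S.conj_mul, h.1]
  · rw [← S.conj_mul, ← S.conj_mul, h.2]; group

theorem P0_conj {a b : Λ} (ha : a ∈ S.Rt) (hb : b ∈ S.Rt) (hab : a * b ∈ S.Rt) (h : S.P0 a b) (g : Λ) :
    S.P0 (g * a * g⁻¹) (g * b * g⁻¹) := by
  have e : g * a * g⁻¹ * (g * b * g⁻¹) = g * (a * b) * g⁻¹ := by group
  unfold P0 at *
  rw [e, ← S.Vconj a ha g, ← S.Vconj b hb g, ← S.Vconj (a * b) hab g]
  constructor
  · rw [← S.conj_mul, h.1]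
  · rw [← S.conj_mul, ← S.conj_mul, h.2]

theorem tV_sq {y : Λ} (hy : y ∈ S.Rt) : (S.t * S.V y) * (S.t * S.V y) = S.φ y := by
  calc (S.t * S.V y) * (S.t * S.V y) = S.t * (S.V y * S.t) * S.V y := by group
    _ = S.t * (S.t * S.φ y * S.V y) * S.V y := by rw [S.Vt y hy]
    _ = (S.t * S.t) * S.φ y * (S.V y * S.V y) := by group
    _ = _ := by rw [S.tt, S.Vsq y hy, one_mul, mul_one]

theorem line_cases {a b : Λ} (h : S.Line a b) : S.P0 a b ∨ S.P1 a b := by
  obtain ⟨ha, hb, hc, hab, hcent, ⟨σ, hσa, hσb⟩, ⟨τ, hτa, hτb⟩⟩ := h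
  have haa := S.ysq a ha
  have hbb := S.ysq b hb
  have hcc := S.ysq _ hc
  have hne : a ≠ b := by
    intro h; apply S.yne _ hc; rw [h]; exact hbb
  have hτc : τ * (a * b) * τ⁻¹ = a := by
    calc τ * (a * b) * τ⁻¹ = (τ * a * τ⁻¹) * (τ * b * τ⁻¹) := by group
      _ = b * (a * b) := by rw [hτa, hτb]
      _ = (b * a) * b := by group
      _ = a * (b * b) := by rw [← hab]; group
      _ = a := by rw [hbb, mul_one]
  -- fixed points of `τ`
  have hfix : ∀ l, (l = 1 ∨ l = a ∨ l = b ∨ l = a * b) → τ * l * τ⁻¹ = l → l = 1 := by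
    rintro l (rfl | rfl | rfl | rfl) hl
    · rfl
    · rw [hτa] at hl; exact absurd hl.symm hne
    · rw [hτb] at hl
      exact absurd (mul_right_cancel (hl.trans (one_mul l).symm)) (S.yne a ha)
    · rw [hτc] at hl
      exact absurd (mul_left_cancel ((mul_one a).trans hl)).symm (S.yne b hb)
  have hmem : ∀ l, (∀ k, k * a = a * k → k * b = b * k → l * k = k * l) → l * l = 1 := by
    intro l hl
    rcases hcent l hl with rfl | rfl | rfl | rfl
    · exact one_mul 1
    · exact haa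
    · exact hbb
    · exact hcc
  obtain ⟨l, hl, hcl⟩ := S.comm_rigid ha hb hab hmem
  have hA := S.Vsq a ha
  have hB := S.Vsq b hb
  have hD := S.Vsq _ hc
  have hAc : S.φ τ * S.V a * (S.φ τ)⁻¹ = S.V b := by rw [S.Vconj a ha, hτa]
  have hBc : S.φ τ * S.V b * (S.φ τ)⁻¹ = S.V (a * b) := by rw [S.Vconj b hb, hτb]
  have hDc : S.φ τ * S.V (a * b) * (S.φ τ)⁻¹ = S.V a := by rw [S.Vconj _ hc, hτc]
  have hab1 : (a * b) * a = a * (a * b) := by rw [mul_assoc, ← hab]
  have hab2 : (a * b) * b = b * (a * b) := by rw [← mul_assoc, ← hab]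
  -- products moving `t` trivially
  have hMAB : S.Mv (S.V a * S.V b) (a * b) := S.Mv_mul (S.Mv_V ha) (S.Mv_V hb) (S.commφV ha hab.symm).symm
  have hcAB : Commute (S.V a * S.V b) (S.φ (a * b)) :=
    ((S.commφV ha hab1).symm).mul_left ((S.commφV hb hab2).symm)
  have hMw : S.Mv (S.V a * S.V b * S.V (a * b)) 1 := by
    have := S.Mv_mul hMAB (S.Mv_V hc) hcAB
    rwa [hcc] at this
  set K : Set Λ := {k | k * a = a * k ∧ k * b = b * k} with hK
  have hKK : ∀ l, (∀ k ∈ K, l * k = k * l) ↔ (∀ k, k * a = a * k → k * b = b * k → l * k = k * l) := by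
    intro l
    exact ⟨fun h k h1 h2 => h k ⟨h1, h2⟩, fun h k hk => h k hk.1 hk.2⟩
  have hwK : ∀ k ∈ K, Commute (S.φ k) (S.V a * S.V b * S.V (a * b)) := by
    rintro k ⟨hka, hkb⟩
    refine ((S.commφV ha hka).mul_right (S.commφV hb hkb)).mul_right (S.commφV hc ?_)
    rw [← mul_assoc, hka, mul_assoc, hkb, mul_assoc]
  -- the swap
  have hσ : σ * l * σ⁻¹ = l := by
    apply S.inj
    have h1 : S.φ σ * S.φ l * (S.φ σ)⁻¹ = S.V b * S.V a * (S.V b * S.V a) := by
      rw [← hcl, S.conj_mul, S.conj_mul, S.Vconj a ha, S.Vconj b hb, hσa, hσb]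
    have h2 : (S.V a * S.V b * (S.V a * S.V b)) * (S.V b * S.V a * (S.V b * S.V a)) = 1 := by
      calc (S.V a * S.V b * (S.V a * S.V b)) * (S.V b * S.V a * (S.V b * S.V a))
          = S.V a * S.V b * S.V a * (S.V b * S.V b) * S.V a * (S.V b * S.V a) := by group
        _ = S.V a * S.V b * (S.V a * S.V a) * (S.V b * S.V a) := by rw [hB]; group
        _ = S.V a * (S.V b * S.V b) * S.V a := by rw [hA]; group
        _ = 1 := by rw [hB, mul_one, hA]
    rw [map_mul, map_mul, map_inv, h1]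
    rw [hcl] at h2
    have h3 := eq_inv_of_mul_eq_one_right h2
    rw [h3]
    exact (eq_inv_of_mul_eq_one_left (S.φsq (hmem l hl))).symm
  have hl2 : l = 1 ∨ l = a * b := by
    rcases hcent l hl with rfl | rfl | rfl | rfl
    · exact Or.inl rfl
    · rw [hσa] at hσ; exact absurd hσ.symm hne
    · rw [hσb] at hσ; exact absurd hσ hne
    · exact Or.inr rfl
  rcases hl2 with rfl | rfl
  · left
    rw [map_one] at hcl
    have hAB : S.V a * S.V b = S.V b * S.V a := by
      have h1 := eq_inv_of_mul_eq_one_left hcl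
      rw [h1, mul_inv_rev, S.Vinv ha, S.Vinv hb]
    have hBD : S.V b * S.V (a * b) = S.V (a * b) * S.V b := by
      have := S.conj_eq hAB τ
      rwa [S.conj_mul, S.conj_mul, hAc, hBc] at this
    have hDA : S.V (a * b) * S.V a = S.V a * S.V (a * b) := by
      have := S.conj_eq hBD τ
      rwa [S.conj_mul, S.conj_mul, hDc, hBc] at this
    have hwA : Commute (S.V a * S.V b * S.V (a * b)) (S.V a) := by
      have h1 : Commute (S.V a) (S.V b) := hAB
      have h2 : Commute (S.V (a * b)) (S.V a) := hDA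
      exact ((Commute.refl _).mul_left h1.symm).mul_left h2
    obtain ⟨l', hl', hw⟩ := S.rigid' (S.Mv_one_iff.1 hMw) K hwK ha ⟨rfl, hab⟩ ha hwA (fun l hl => hl a ⟨rfl, hab⟩)
    have hτw : τ * l' * τ⁻¹ = l' := by
      apply S.inj
      rw [map_mul, map_mul, map_inv, ← hw, S.conj_mul, S.conj_mul, hAc, hBc, hDc]
      calc S.V b * S.V (a * b) * S.V a = S.V b * (S.V (a * b) * S.V a) := by group
        _ = (S.V b * S.V a) * S.V (a * b) := by rw [hDA]; group
        _ = _ := by rw [← hAB]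
    have hl1 := hfix l' (hcent l' ((hKK l').1 hl')) hτw
    rw [hl1, map_one] at hw
    refine ⟨?_, hAB⟩
    have h1 := eq_inv_of_mul_eq_one_left hw
    rw [h1, S.Vinv hc]
  · right
    unfold P1
    obtain ⟨A', hA'⟩ : ∃ A', A' = S.t * S.V a := ⟨_, rfl⟩
    obtain ⟨B', hB'⟩ : ∃ B', B' = S.t * S.V b := ⟨_, rfl⟩
    obtain ⟨D', hD'⟩ : ∃ D', D' = S.t * S.V (a * b) := ⟨_, rfl⟩
    have htc : S.φ τ * S.t * (S.φ τ)⁻¹ = S.t := by rw [S.φt]; group
    have hA'c : S.φ τ * A' * (S.φ τ)⁻¹ = B' := by rw [hA', S.conj_mul, htc, hAc, hB']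
    have hB'c : S.φ τ * B' * (S.φ τ)⁻¹ = D' := by rw [hB', S.conj_mul, htc, hBc, hD']
    have hD'c : S.φ τ * D' * (S.φ τ)⁻¹ = A' := by rw [hD', S.conj_mul, htc, hDc, hA']
    have hAB : A' * B' = B' * A' := by
      have h1 : A' * B' = S.φ a * (S.V a * S.V b) := by
        calc A' * B' = S.t * (S.V a * S.t) * S.V b := by rw [hA', hB']; group
          _ = (S.t * S.t) * S.φ a * (S.V a * S.V b) := by rw [S.Vt a ha]; group
          _ = _ := by rw [S.tt, one_mul]
      have h2 : B' * A' = S.φ b * (S.V b * S.V a) := by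
        calc B' * A' = S.t * (S.V b * S.t) * S.V a := by rw [hA', hB']; group
          _ = (S.t * S.t) * S.φ b * (S.V b * S.V a) := by rw [S.Vt b hb]; group
          _ = _ := by rw [S.tt, one_mul]
      have h3 : S.V a * S.V b = S.φ (a * b) * (S.V b * S.V a) := by
        have h4 : (S.V a * S.V b) * (S.V b * S.V a) = 1 := by
          calc (S.V a * S.V b) * (S.V b * S.V a) = S.V a * (S.V b * S.V b) * S.V a := by group
            _ = 1 := by rw [hB, mul_one, hA]
        calc S.V a * S.V b = (S.V a * S.V b) * ((S.V a * S.V b) * (S.V b * S.V a)) := by rw [h4, mul_one]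
          _ = (S.V a * S.V b * (S.V a * S.V b)) * (S.V b * S.V a) := by group
          _ = _ := by rw [hcl]
      have h4 : a * (a * b) = b := by rw [← mul_assoc, haa, one_mul]
      rw [h1, h2, h3, ← mul_assoc, ← map_mul, h4]
    have hBD : B' * D' = D' * B' := by
      have := S.conj_eq hAB τ
      rwa [S.conj_mul, S.conj_mul, hA'c, hB'c] at this
    have hDA : D' * A' = A' * D' := by
      have := S.conj_eq hBD τ
      rwa [S.conj_mul, S.conj_mul, hD'c, hB'c] at this
    rw [← hA', ← hB', ← hD']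
    refine ⟨hAB, ?_⟩
    -- `A' * B' * D'`
    have hw' : A' * B' * D' = S.t * (S.φ b * (S.V a * S.V b * S.V (a * b))) := by
      have h1 : S.V b * S.t = S.t * S.φ b * S.V b := S.Vt b hb
      have h2 : S.V a * S.t = S.t * S.φ a * S.V a := S.Vt a ha
      have h3 : S.V a * S.φ b = S.φ b * S.V a := (S.commφV ha hab.symm).eq.symm
      calc A' * B' * D' = S.t * S.V a * S.t * (S.V b * S.t) * S.V (a * b) := by rw [hA', hB', hD']; group
        _ = S.t * (S.V a * (S.t * S.t)) * S.φ b * S.V b * S.V (a * b) := by rw [h1]; group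
        _ = S.t * (S.V a * S.φ b) * (S.V b * S.V (a * b)) := by rw [S.tt, mul_one]; group
        _ = _ := by rw [h3]; group
    have hφφ : ∀ k, k * a = a * k → k * b = b * k → Commute (S.φ k) (A' * B' * D') := by
      intro k hka hkb
      rw [hw']
      have h0 : Commute (S.φ k) S.t := S.φt k
      exact h0.mul_right ((S.commφφ hkb).mul_right (hwK k ⟨hka, hkb⟩))
    have hwt : (A' * B' * D') * S.t = S.t * (A' * B' * D') := by
      rw [hw']
      have h1 := S.Mv_one_iff.1 hMw
      calc S.t * (S.φ b * (S.V a * S.V b * S.V (a * b))) * S.t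
          = S.t * (S.φ b * ((S.V a * S.V b * S.V (a * b)) * S.t)) := by group
        _ = S.t * ((S.φ b * S.t) * (S.V a * S.V b * S.V (a * b))) := by rw [h1]; group
        _ = _ := by rw [S.φt]; group
    obtain ⟨l', hl', hw⟩ := S.rigid hwt K (fun k hk => hφφ k hk.1 hk.2) ha ⟨rfl, hab⟩
    have hwA : Commute (A' * B' * D') A' := by
      have h1 : Commute A' B' := hAB
      have h2 : Commute D' A' := hDA
      exact ((Commute.refl _).mul_left h1.symm).mul_left h2
    have hl'' : A' * B' * D' = S.φ l' := by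
      rcases hw with hw | hw
      · exact hw
      · exfalso
        rw [hw, hA'] at hwA
        have hla : l' * a = a * l' := (hKK l').1 hl' a rfl hab
        have h1 := hwA.eq
        have h2 : S.t * (S.φ l' * S.t) * S.V a = S.t * (S.V a * S.t) * S.φ l' := by
          calc S.t * (S.φ l' * S.t) * S.V a = S.t * S.φ l' * (S.t * S.V a) := by group
            _ = S.t * S.V a * (S.t * S.φ l') := h1
            _ = _ := by group
        rw [S.φt, S.Vt a ha] at h2
        have h3 : (S.t * S.t) * (S.φ l' * S.V a) = (S.t * S.t) * (S.φ a * (S.V a * S.φ l')) := by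
          calc (S.t * S.t) * (S.φ l' * S.V a) = S.t * (S.t * S.φ l') * S.V a := by group
            _ = _ := by rw [h2]; group
        rw [S.tt, one_mul, one_mul, ← (S.commφV ha hla).eq] at h3
        have h4 : 1 * (S.φ l' * S.V a) = S.φ a * (S.φ l' * S.V a) := by rw [one_mul]; exact h3
        have h5 := mul_right_cancel h4
        apply S.yne a ha
        apply S.inj
        rw [map_one]; exact h5.symm
    have hτw : τ * l' * τ⁻¹ = l' := by
      apply S.inj
      rw [map_mul, map_mul, map_inv, ← hl'', S.conj_mul, S.conj_mul, hA'c, hB'c, hD'c]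
      calc B' * D' * A' = B' * (D' * A') := by group
        _ = (B' * A') * D' := by rw [hDA]; group
        _ = _ := by rw [← hAB]
    rw [hl'', hfix l' (hcent l' ((hKK l').1 hl')) hτw, map_one]

theorem plane_aux {A B D AB BD W : G} (h1 : A * B = B * A) (h1' : A * B * AB = 1) (h2 : B * D = D * B)
    (h2' : B * D * BD = 1) (h3 : AB * D * W = 1) (h4 : A * BD * W = 1) : A * A = D * D := by
  have e1 : AB = (A * B)⁻¹ := eq_inv_of_mul_eq_one_right h1'
  have e2 : BD = (B * D)⁻¹ := eq_inv_of_mul_eq_one_right h2'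
  have e3 : W = (AB * D)⁻¹ := eq_inv_of_mul_eq_one_right h3
  have e4 : W = (A * BD)⁻¹ := eq_inv_of_mul_eq_one_right h4
  rw [e3] at e4
  have e5 : AB * D = A * BD := inv_injective e4
  rw [e1, e2, mul_inv_rev, mul_inv_rev] at e5
  have hAB' : B⁻¹ * A⁻¹ = A⁻¹ * B⁻¹ := by rw [← mul_inv_rev, ← mul_inv_rev, h1]
  have hBD' : B⁻¹ * D = D * B⁻¹ := by
    have : Commute B D := h2
    exact this.inv_left.eq
  have e6 : A⁻¹ * D * B⁻¹ = A * D⁻¹ * B⁻¹ := by
    calc A⁻¹ * D * B⁻¹ = A⁻¹ * (D * B⁻¹) := by group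
      _ = (A⁻¹ * B⁻¹) * D := by rw [← hBD']; group
      _ = B⁻¹ * A⁻¹ * D := by rw [← hAB']
      _ = _ := by rw [e5]; group
  have e7 : A⁻¹ * D = A * D⁻¹ := mul_right_cancel e6
  calc A * A = A * (A * D⁻¹) * D := by group
    _ = A * (A⁻¹ * D) * D := by rw [e7]
    _ = D * D := by group

/-- The plane kills `P1`. -/
theorem plane {a b d : Λ} (ha : a ∈ S.Rt) (hd : d ∈ S.Rt) (had : a ≠ d)
    (h1 : S.P1 a b) (h2 : S.P1 b d) (h3 : S.P1 (a * b) d) (h4 : S.P1 a (b * d)) : False := by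
  apply had
  apply S.inj
  rw [← S.tV_sq ha, ← S.tV_sq hd]
  have h4' := h4.2
  rw [← mul_assoc a b d] at h4'
  exact plane_aux h1.1 h1.2 h2.1 h2.2 h3.2 h4'

/-- `P0` on a line contained in a plane all of whose lines are conjugate. -/
theorem P0_of_plane {a b d : Λ} (h : S.Line a b) (hd : d ∈ S.Rt) (had : a ≠ d)
    (h2 : ∃ g, g * a * g⁻¹ = b ∧ g * b * g⁻¹ = d) (h3 : ∃ g, g * a * g⁻¹ = a * b ∧ g * b * g⁻¹ = d)
    (h4 : ∃ g, g * a * g⁻¹ = a ∧ g * b * g⁻¹ = b * d) : S.P0 a b := by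
  rcases S.line_cases h with h0 | h1
  · exact h0
  · exfalso
    have hc : ∀ g, S.P1 (g * a * g⁻¹) (g * b * g⁻¹) := S.P1_conj h.ha h.hb h.hc h1
    obtain ⟨g2, e2, e2'⟩ := h2
    obtain ⟨g3, e3, e3'⟩ := h3
    obtain ⟨g4, e4, e4'⟩ := h4
    have q2 := hc g2
    have q3 := hc g3
    have q4 := hc g4
    rw [e2, e2'] at q2
    rw [e3, e3'] at q3
    rw [e4, e4'] at q4
    exact S.plane h.ha hd had h1 q2 q3 q4

/-- Data for one half of the commutation of `V r`, `V s`. -/
structure Half (r s r' : Λ) : Prop where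
  hr : r ∈ S.Rt
  hs : s ∈ S.Rt
  hr' : r' ∈ S.Rt
  hrr : r * r' ∈ S.Rt
  crs : r * s = s * r
  crr : r * r' = r' * r
  csr : r' * s = s * r'
  cent : ∀ l, (∀ k, k * r = r * k → k * s = s * k → l * k = k * l) → l = 1 ∨ l = r ∨ l = s ∨ l = r * s
  p0 : S.P0 r r'
  g1 : ∃ g, g * r * g⁻¹ = r' ∧ g * s * g⁻¹ = s
  g2 : ∃ g, g * r * g⁻¹ = r * r' ∧ g * s * g⁻¹ = s

theorem half {r s r' : Λ} (h : S.Half r s r') :
    S.V r * S.V s * (S.V r * S.V s) = 1 ∨ S.V r * S.V s * (S.V r * S.V s) = S.φ r := by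
  obtain ⟨hr, hs, hr', hrr, crs, crr, csr, cent, p0, ⟨g, g1, g2⟩, ⟨f, f1, f2⟩⟩ := h
  have hrs := S.ysq r hr
  have hss := S.ysq s hs
  obtain ⟨l, hl, hc⟩ := S.comm_rigid hr hs crs (by
    intro l hl
    rcases cent l hl with rfl | rfl | rfl | rfl
    · exact one_mul 1
    · exact hrs
    · exact hss
    · calc r * s * (r * s) = r * (s * r) * s := by group
        _ = (r * r) * (s * s) := by rw [← crs]; group
        _ = 1 := by rw [hrs, hss, one_mul])
  have hc' : S.V r' * S.V s * (S.V r' * S.V s) = S.φ (g * l * g⁻¹) := by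
    have := S.conj_eq hc g
    rw [S.conj_mul, S.conj_mul, S.Vconj r hr, S.Vconj s hs, g1, g2] at this
    rw [this, map_mul, map_mul, map_inv]
  have hc'' : S.V (r * r') * S.V s * (S.V (r * r') * S.V s) = S.φ (f * l * f⁻¹) := by
    have := S.conj_eq hc f
    rw [S.conj_mul, S.conj_mul, S.Vconj r hr, S.Vconj s hs, f1, f2] at this
    rw [this, map_mul, map_mul, map_inv]
  -- `l' = g l g⁻¹` commutes with `r`, `s`, `r'`
  have hl' : (g * l * g⁻¹) * r = r * (g * l * g⁻¹) ∧ (g * l * g⁻¹) * s = s * (g * l * g⁻¹) ∧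
      (g * l * g⁻¹) * r' = r' * (g * l * g⁻¹) := by
    rcases cent l hl with rfl | rfl | rfl | rfl
    · rw [mul_one, mul_inv_cancel]; simp only [one_mul, mul_one, and_self]
    · rw [g1]; exact ⟨crr.symm, csr, rfl⟩
    · rw [g2]; exact ⟨crs.symm, rfl, csr.symm⟩
    · have e : g * (r * s) * g⁻¹ = r' * s := by
        calc g * (r * s) * g⁻¹ = (g * r * g⁻¹) * (g * s * g⁻¹) := by group
          _ = _ := by rw [g1, g2]
      rw [e]
      refine ⟨?_, ?_, ?_⟩
      · rw [mul_assoc, ← crs, ← mul_assoc, ← crr, mul_assoc]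
      · rw [← mul_assoc s r' s, ← csr]
      · rw [mul_assoc, ← csr, ← mul_assoc]
  have key : S.V (r * r') * S.V s * (S.V (r * r') * S.V s) = S.φ (g * l * g⁻¹) * S.φ l := by
    have h1 : S.V r' * S.V s = S.φ (g * l * g⁻¹) * (S.V s * S.V r') := by
      have h4 : (S.V r' * S.V s) * (S.V s * S.V r') = 1 := by
        calc (S.V r' * S.V s) * (S.V s * S.V r') = S.V r' * (S.V s * S.V s) * S.V r' := by group
          _ = 1 := by rw [S.Vsq s hs, mul_one, S.Vsq r' hr']
      calc S.V r' * S.V s = (S.V r' * S.V s) * ((S.V r' * S.V s) * (S.V s * S.V r')) := by rw [h4, mul_one]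
        _ = (S.V r' * S.V s * (S.V r' * S.V s)) * (S.V s * S.V r') := by group
        _ = _ := by rw [hc']
    have h2 : S.φ (g * l * g⁻¹) * S.V r = S.V r * S.φ (g * l * g⁻¹) := (S.commφV hr hl'.1).eq
    rw [← p0.1]
    calc S.V r * S.V r' * S.V s * (S.V r * S.V r' * S.V s)
        = S.V r * (S.V r' * S.V s) * (S.V r * S.V r') * S.V s := by group
      _ = (S.V r * S.φ (g * l * g⁻¹)) * (S.V s * S.V r') * (S.V r' * S.V r) * S.V s := by rw [h1, p0.2]; group
      _ = S.φ (g * l * g⁻¹) * S.V r * S.V s * (S.V r' * S.V r') * S.V r * S.V s := by rw [← h2]; group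
      _ = S.φ (g * l * g⁻¹) * (S.V r * S.V s * (S.V r * S.V s)) := by rw [S.Vsq r' hr']; group
      _ = _ := by rw [hc]
  rw [hc'', ← map_mul] at key
  have key := S.inj key
  rcases cent l hl with rfl | rfl | rfl | rfl
  · left; rw [hc, map_one]
  · right; exact hc
  · exfalso
    rw [f2, g2, hss] at key
    exact S.yne _ hs key
  · exfalso
    have e : g * (r * s) * g⁻¹ = r' * s := by
      calc g * (r * s) * g⁻¹ = (g * r * g⁻¹) * (g * s * g⁻¹) := by group
        _ = _ := by rw [g1, g2]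
    have e' : f * (r * s) * f⁻¹ = r * r' * s := by
      calc f * (r * s) * f⁻¹ = (f * r * f⁻¹) * (f * s * f⁻¹) := by group
        _ = _ := by rw [f1, f2]
    rw [e, e'] at key
    have e2 : r' * s * (r * s) = r * r' := by
      calc r' * s * (r * s) = r' * (s * r) * s := by group
        _ = (r' * r) * (s * s) := by rw [← crs]; group
        _ = _ := by rw [hss, mul_one, crr]
    rw [e2] at key
    have : r * r' * s = r * r' * 1 := by rw [key, mul_one]
    exact S.yne _ hs (mul_left_cancel this)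

/-- `V r`, `V s` commute (45 degrees, or 90 degrees of different length). -/
theorem comm_mixed {r s r' s' : Λ} (hne : r ≠ s) (h1 : S.Half r s r') (h2 : S.Half s r s') :
    S.V r * S.V s = S.V s * S.V r := by
  have hR := S.Vsq r h1.hr
  have hS := S.Vsq s h1.hs
  have hinv : (S.V r * S.V s * (S.V r * S.V s)) * (S.V s * S.V r * (S.V s * S.V r)) = 1 := by
    calc (S.V r * S.V s * (S.V r * S.V s)) * (S.V s * S.V r * (S.V s * S.V r))
        = S.V r * S.V s * S.V r * (S.V s * S.V s) * S.V r * (S.V s * S.V r) := by group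
      _ = S.V r * S.V s * (S.V r * S.V r) * (S.V s * S.V r) := by rw [hS]; group
      _ = S.V r * (S.V s * S.V s) * S.V r := by rw [hR]; group
      _ = 1 := by rw [hS, mul_one, hR]
  have hone : S.V r * S.V s * (S.V r * S.V s) = 1 := by
    rcases S.half h1 with h3 | h3
    · exact h3
    · rcases S.half h2 with h4 | h4
      · rw [h4, mul_one] at hinv; exact hinv
      · exfalso
        rw [h3, h4, ← map_mul] at hinv
        have h5 : r * s = 1 := S.inj (by rw [hinv, map_one])
        apply hne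
        have h6 := eq_inv_of_mul_eq_one_left h5
        rw [h6]
        exact (eq_inv_of_mul_eq_one_left (S.ysq s h1.hs)).symm
  have h1' := eq_inv_of_mul_eq_one_left hone
  rw [h1', mul_inv_rev, S.Vinv h1.hr, S.Vinv h1.hs]

/-- A pair of orthogonal root elements `a`, `b` of the same length; `s` is the root element of the other
length in their double centraliser, `e` moves `b` to `a * b * s`. -/
structure Orth (a b s : Λ) : Prop where
  ha : a ∈ S.Rt
  hb : b ∈ S.Rt
  hs : s ∈ S.Rt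
  hd : a * b * s ∈ S.Rt
  hab : a * b = b * a
  has : a * s = s * a
  hbs : b * s = s * b
  nas : a ≠ s
  nab : a ≠ b
  cent : ∀ l, (∀ k, k * a = a * k → k * b = b * k → k * s = s * k → l * k = k * l) →
    ∃ i j m : Fin 2, l = a ^ (i : ℕ) * b ^ (j : ℕ) * s ^ (m : ℕ)
  vas : S.V s * S.V a = S.V a * S.V s
  vbs : S.V s * S.V b = S.V b * S.V s
  e : ∃ e, e * a * e⁻¹ = a ∧ e * s * e⁻¹ = s ∧ e * b * e⁻¹ = a * b * s
  n : ∃ n, n * a * n⁻¹ = b ∧ n * b * n⁻¹ = a ∧ n * s * n⁻¹ = s

theorem orth {a b s : Λ} (h : S.Orth a b s) : S.V a * S.V b = S.V b * S.V a ∧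
    (S.V (a * b * s) = S.V a * S.V b * S.V s ∨ S.V (a * b * s) = S.V a * S.V b * S.V s * S.φ s) := by
  obtain ⟨ha, hb, hs, hd, hab, has, hbs, nas, nab, cent', vas, vbs, ⟨e, ea, es, eb⟩, ⟨n, na, nb, ns⟩⟩ := h
  have cent : ∀ l, (∀ k, k * a = a * k → k * b = b * k → l * k = k * l) →
      ∃ i j m : Fin 2, l = a ^ (i : ℕ) * b ^ (j : ℕ) * s ^ (m : ℕ) :=
    fun l hl => cent' l fun k h1 h2 _ => hl k h1 h2
  have haa := S.ysq a ha
  have hbb := S.ysq b hb
  have hss := S.ysq s hs
  have hdd := S.ysq _ hd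
  have hA := S.Vsq a ha
  have hB := S.Vsq b hb
  have hS := S.Vsq s hs
  have hD := S.Vsq _ hd
  have pw : ∀ x : Λ, ∀ i : Fin 2, x ^ (i : ℕ) = 1 ∨ x ^ (i : ℕ) = x := by
    intro x i
    fin_cases i
    · left; exact pow_zero x
    · right; exact pow_one x
  -- the eight elements commute with a, b, s and have square one
  have cA : ∀ i j m : Fin 2, Commute (a ^ (i : ℕ) * b ^ (j : ℕ) * s ^ (m : ℕ)) a := by
    intro i j m
    have h1 : Commute b a := hab.symm
    have h2 : Commute s a := has.symm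
    exact (((Commute.refl a).pow_left _).mul_left (h1.pow_left _)).mul_left (h2.pow_left _)
  have cB : ∀ i j m : Fin 2, Commute (a ^ (i : ℕ) * b ^ (j : ℕ) * s ^ (m : ℕ)) b := by
    intro i j m
    have h1 : Commute a b := hab
    have h2 : Commute s b := hbs.symm
    exact ((h1.pow_left _).mul_left ((Commute.refl b).pow_left _)).mul_left (h2.pow_left _)
  have cS : ∀ i j m : Fin 2, Commute (a ^ (i : ℕ) * b ^ (j : ℕ) * s ^ (m : ℕ)) s := by
    intro i j m
    have h1 : Commute a s := has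
    have h2 : Commute b s := hbs
    exact ((h1.pow_left _).mul_left (h2.pow_left _)).mul_left ((Commute.refl s).pow_left _)
  have sq1 : ∀ x : Λ, x * x = 1 → ∀ i : Fin 2, x ^ (i : ℕ) * x ^ (i : ℕ) = 1 := by
    intro x hx i
    rcases pw x i with h | h
    · rw [h, one_mul]
    · rw [h, hx]
  have csq : ∀ i j m : Fin 2, (a ^ (i : ℕ) * b ^ (j : ℕ) * s ^ (m : ℕ)) *
      (a ^ (i : ℕ) * b ^ (j : ℕ) * s ^ (m : ℕ)) = 1 := by
    intro i j m
    have h1 : Commute (a ^ (i : ℕ)) (b ^ (j : ℕ)) := (show Commute a b from hab).pow_pow _ _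
    have h2 : Commute (a ^ (i : ℕ)) (s ^ (m : ℕ)) := (show Commute a s from has).pow_pow _ _
    have h3 : Commute (b ^ (j : ℕ)) (s ^ (m : ℕ)) := (show Commute b s from hbs).pow_pow _ _
    have h4 : Commute (a ^ (i : ℕ) * b ^ (j : ℕ)) (s ^ (m : ℕ)) := h2.mul_left h3
    rw [h4.symm.mul_mul_mul_comm, h1.symm.mul_mul_mul_comm, sq1 a haa, sq1 b hbb, sq1 s hss, one_mul, one_mul]
  have csq' : ∀ l, (∀ k, k * a = a * k → k * b = b * k → l * k = k * l) → l * l = 1 := by
    intro l hl
    obtain ⟨i, j, m, rfl⟩ := cent l hl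
    exact csq i j m
  obtain ⟨l, hl, hc⟩ := S.comm_rigid ha hb hab csq'
  -- `s` commutes with everything in `C(a) ∩ C(b)`? only through `cent` of `s`
  have hVd : S.V (a * b * s) = S.φ e * S.V b * (S.φ e)⁻¹ := by rw [S.Vconj b hb, eb]
  have hVa : S.φ e * S.V a * (S.φ e)⁻¹ = S.V a := by rw [S.Vconj a ha, ea]
  have hVs : S.φ e * S.V s * (S.φ e)⁻¹ = S.V s := by rw [S.Vconj s hs, es]
  have hcd : S.V a * S.V (a * b * s) * (S.V a * S.V (a * b * s)) = S.φ (e * l * e⁻¹) := by
    have := S.conj_eq hc e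
    rw [S.conj_mul, S.conj_mul, hVa, ← hVd] at this
    rw [this, map_mul, map_mul, map_inv]
  -- the element `w`
  set u := S.V a * S.V b * S.V s with hu
  have c1 : Commute (S.V a) (S.φ b) := (S.commφV ha hab.symm).symm
  have c2 : Commute (S.V a * S.V b) (S.φ s) :=
    ((S.commφV ha has.symm).symm).mul_left ((S.commφV hb hbs.symm).symm)
  have hmu : S.Mv u (a * b * s) :=
    S.Mv_mul (S.Mv_mul (S.Mv_V ha) (S.Mv_V hb) c1) (S.Mv_V hs) c2
  have da : (a * b * s) * a = a * (a * b * s) := by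
    have := (cA 1 1 1).eq; simpa using this
  have db : (a * b * s) * b = b * (a * b * s) := by
    have := (cB 1 1 1).eq; simpa using this
  have ds : (a * b * s) * s = s * (a * b * s) := by
    have := (cS 1 1 1).eq; simpa using this
  have c3 : Commute u (S.φ (a * b * s)) :=
    (((S.commφV ha da).symm).mul_left ((S.commφV hb db).symm)).mul_left ((S.commφV hs ds).symm)
  have hmw : S.Mv (u * S.V (a * b * s)) 1 := by
    have := S.Mv_mul hmu (S.Mv_V hd) c3
    rwa [hdd] at this
  have hwt := S.Mv_one_iff.1 hmw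
  set K : Set Λ := {k | k * a = a * k ∧ k * b = b * k ∧ k * s = s * k} with hK
  have hwK : ∀ k ∈ K, Commute (S.φ k) (u * S.V (a * b * s)) := by
    rintro k ⟨hka, hkb, hks⟩
    have hkd : k * (a * b * s) = a * b * s * k := by
      have h1 : Commute k a := hka
      have h2 : Commute k b := hkb
      have h3 : Commute k s := hks
      exact ((h1.mul_right h2).mul_right h3).eq
    exact (((S.commφV ha hka).mul_right (S.commφV hb hkb)).mul_right (S.commφV hs hks)).mul_right
      (S.commφV hd hkd)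
  -- `c` is fixed by `n`
  have hVan : S.φ n * S.V a * (S.φ n)⁻¹ = S.V b := by rw [S.Vconj a ha, na]
  have hVbn : S.φ n * S.V b * (S.φ n)⁻¹ = S.V a := by rw [S.Vconj b hb, nb]
  have hVsn : S.φ n * S.V s * (S.φ n)⁻¹ = S.V s := by rw [S.Vconj s hs, ns]
  have hnd : n * (a * b * s) * n⁻¹ = a * b * s := by
    calc n * (a * b * s) * n⁻¹ = (n * a * n⁻¹) * (n * b * n⁻¹) * (n * s * n⁻¹) := by group
      _ = a * b * s := by rw [na, nb, ns, hab]
  have hed : e * (a * b * s) * e⁻¹ = b := by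
    calc e * (a * b * s) * e⁻¹ = (e * a * e⁻¹) * (e * b * e⁻¹) * (e * s * e⁻¹) := by group
      _ = a * (a * b * s) * s := by rw [ea, eb, es]
      _ = (a * a) * b * (s * s) := by group
      _ = b := by rw [haa, hss, one_mul, mul_one]
  have hVdn : S.φ n * S.V (a * b * s) * (S.φ n)⁻¹ = S.V (a * b * s) := by rw [S.Vconj _ hd, hnd]
  have hVde : S.φ e * S.V (a * b * s) * (S.φ e)⁻¹ = S.V b := by rw [S.Vconj _ hd, hed]
  have cAB : S.V a * S.V b = S.φ l * (S.V b * S.V a) := by
    have h1 : (S.V a * S.V b) * (S.V b * S.V a) = 1 := by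
      calc (S.V a * S.V b) * (S.V b * S.V a) = S.V a * (S.V b * S.V b) * S.V a := by group
        _ = 1 := by rw [hB, mul_one, hA]
    calc S.V a * S.V b = (S.V a * S.V b) * ((S.V a * S.V b) * (S.V b * S.V a)) := by rw [h1, mul_one]
      _ = (S.V a * S.V b * (S.V a * S.V b)) * (S.V b * S.V a) := by group
      _ = _ := by rw [hc]
  -- the inverse of `u`
  have huinv : u⁻¹ = S.V s * S.V b * S.V a := by
    rw [hu, mul_inv_rev, mul_inv_rev, S.Vinv ha, S.Vinv hb, S.Vinv hs, mul_assoc]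
  have hsq2 : S.V s * S.V b * S.V a * (S.V s * S.V b * S.V a) = S.V b * S.V a * (S.V b * S.V a) := by
    have h1 : Commute (S.V s) (S.V b * S.V a) :=
      (show Commute (S.V s) (S.V b) from vbs).mul_right (show Commute (S.V s) (S.V a) from vas)
    calc S.V s * S.V b * S.V a * (S.V s * S.V b * S.V a)
        = (S.V s * (S.V b * S.V a)) * (S.V s * (S.V b * S.V a)) := by group
      _ = ((S.V b * S.V a) * S.V s) * (S.V s * (S.V b * S.V a)) := by rw [h1.eq]
      _ = (S.V b * S.V a) * (S.V s * S.V s) * (S.V b * S.V a) := by group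
      _ = _ := by rw [hS, mul_one]
  have hinv : (S.V a * S.V b * (S.V a * S.V b)) * (S.V b * S.V a * (S.V b * S.V a)) = 1 := by
    calc (S.V a * S.V b * (S.V a * S.V b)) * (S.V b * S.V a * (S.V b * S.V a))
        = S.V a * S.V b * S.V a * (S.V b * S.V b) * S.V a * (S.V b * S.V a) := by group
      _ = S.V a * S.V b * (S.V a * S.V a) * (S.V b * S.V a) := by rw [hB]; group
      _ = S.V a * (S.V b * S.V b) * S.V a := by rw [hA]; group
      _ = 1 := by rw [hB, mul_one, hA]
  obtain ⟨l', hl', hw⟩ := S.rigid hwt K hwK ha ⟨rfl, hab, has⟩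
  obtain ⟨i', j', m', hl3⟩ := cent' l' fun k h1 h2 h3 => hl' k ⟨h1, h2, h3⟩
  have la : l' * a = a * l' := by rw [hl3]; exact (cA i' j' m').eq
  have lb : l' * b = b * l' := by rw [hl3]; exact (cB i' j' m').eq
  have ls : l' * s = s * l' := by rw [hl3]; exact (cS i' j' m').eq
  have l2 : l' * l' = 1 := by rw [hl3]; exact csq i' j' m'
  have φl2 : S.φ l' * S.φ l' = 1 := S.φsq l2
  have cl : Commute (S.V s * S.V b * S.V a) (S.φ l') :=
    (((S.commφV hs ls).symm).mul_left ((S.commφV hb lb).symm)).mul_left ((S.commφV ha la).symm)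
  rcases hw with hw | hw
  · -- good case
    have hVD : S.V (a * b * s) = S.V s * S.V b * S.V a * S.φ l' := by
      rw [← huinv, ← hw]; group
    have hba : S.V b * S.V a * (S.V b * S.V a) = 1 := by
      rw [← hsq2]
      calc S.V s * S.V b * S.V a * (S.V s * S.V b * S.V a)
          = S.V s * S.V b * S.V a * (S.V s * S.V b * S.V a) * (S.φ l' * S.φ l') := by rw [φl2, mul_one]
        _ = S.V s * S.V b * S.V a * (S.V s * S.V b * S.V a * S.φ l') * S.φ l' := by group
        _ = S.V s * S.V b * S.V a * (S.φ l' * (S.V s * S.V b * S.V a)) * S.φ l' := by rw [cl.eq]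
        _ = (S.V s * S.V b * S.V a * S.φ l') * (S.V s * S.V b * S.V a * S.φ l') := by group
        _ = 1 := by rw [← hVD, hD]
    have hAB : S.V a * S.V b = S.V b * S.V a := by
      have h1 := eq_inv_of_mul_eq_one_left hba
      rw [h1, mul_inv_rev, S.Vinv ha, S.Vinv hb]
    refine ⟨hAB, ?_⟩
    have hVD2 : S.V (a * b * s) = S.V a * S.V b * S.V s * S.φ l' := by
      rw [hVD]
      congr 1
      have h1 : Commute (S.V s) (S.V b * S.V a) :=
        (show Commute (S.V s) (S.V b) from vbs).mul_right (show Commute (S.V s) (S.V a) from vas)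
      rw [hAB, mul_assoc, h1.eq]
    have hln : n * l' * n⁻¹ = l' := by
      apply S.inj
      rw [map_mul, map_mul, map_inv]
      have := S.conj_eq hVD2 n
      rw [S.conj_mul, S.conj_mul, S.conj_mul, hVdn, hVan, hVbn, hVsn, ← hAB, hVD2] at this
      exact (mul_left_cancel this).symm
    have hle : e * l' * e⁻¹ = l' := by
      apply S.inj
      rw [map_mul, map_mul, map_inv]
      have := S.conj_eq hVD2 e
      rw [S.conj_mul, S.conj_mul, S.conj_mul, hVde, hVa, ← hVd, hVs, hVD2] at this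
      -- V b = V a * (V a V b V s φ l') * V s * conj
      have h1 : S.V b = S.V b * (S.φ l' * (S.φ e * S.φ l' * (S.φ e)⁻¹)) := by
        have h3 : Commute (S.φ l') (S.V s) := S.commφV hs ls
        calc S.V b = S.V a * (S.V a * S.V b * S.V s * S.φ l') * S.V s * (S.φ e * S.φ l' * (S.φ e)⁻¹) := this
          _ = (S.V a * S.V a) * S.V b * S.V s * (S.φ l' * S.V s) * (S.φ e * S.φ l' * (S.φ e)⁻¹) := by group
          _ = S.V b * (S.V s * S.V s) * S.φ l' * (S.φ e * S.φ l' * (S.φ e)⁻¹) := by rw [h3.eq, hA]; group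
          _ = _ := by rw [hS]; group
      have h2 : S.φ l' * (S.φ e * S.φ l' * (S.φ e)⁻¹) = 1 := by
        apply mul_left_cancel (a := S.V b)
        rw [mul_one]; exact h1.symm
      calc S.φ e * S.φ l' * (S.φ e)⁻¹ = (S.φ l' * S.φ l') * (S.φ e * S.φ l' * (S.φ e)⁻¹) := by rw [φl2, one_mul]
        _ = S.φ l' * (S.φ l' * (S.φ e * S.φ l' * (S.φ e)⁻¹)) := by group
        _ = S.φ l' := by rw [h2, mul_one]
    -- so `l' = 1` or `l' = s`
    have key : l' = 1 ∨ l' = s := by
      have en : n * l' * n⁻¹ = b ^ (i' : ℕ) * a ^ (j' : ℕ) * s ^ (m' : ℕ) := by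
        rw [hl3]
        calc n * (a ^ (i' : ℕ) * b ^ (j' : ℕ) * s ^ (m' : ℕ)) * n⁻¹
            = (n * a ^ (i' : ℕ) * n⁻¹) * (n * b ^ (j' : ℕ) * n⁻¹) * (n * s ^ (m' : ℕ) * n⁻¹) := by group
          _ = _ := by rw [← conj_pow, ← conj_pow, ← conj_pow, na, nb, ns]
      have ee : e * l' * e⁻¹ = a ^ (i' : ℕ) * (a * b * s) ^ (j' : ℕ) * s ^ (m' : ℕ) := by
        rw [hl3]
        calc e * (a ^ (i' : ℕ) * b ^ (j' : ℕ) * s ^ (m' : ℕ)) * e⁻¹
            = (e * a ^ (i' : ℕ) * e⁻¹) * (e * b ^ (j' : ℕ) * e⁻¹) * (e * s ^ (m' : ℕ) * e⁻¹) := by group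
          _ = _ := by rw [← conj_pow, ← conj_pow, ← conj_pow, ea, eb, es]
      rw [en] at hln
      rw [ee] at hle
      rw [hl3] at hln hle
      have h1 := mul_right_cancel hln
      have h2 := mul_right_cancel hle
      -- second: (abs)^j = b^j, so j = 0
      have h3 := mul_left_cancel h2
      have hj : (j' : ℕ) = 0 := by
        rcases (by omega : (j' : ℕ) = 0 ∨ (j' : ℕ) = 1) with h | h
        · exact h
        · exfalso
          rw [h, pow_one, pow_one] at h3
          -- a b s = b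
          apply nas
          have h5 : b * (a * s) = b * 1 := by
            rw [mul_one, ← mul_assoc, ← hab]; exact h3
          have h6 := mul_left_cancel h5
          rw [eq_inv_of_mul_eq_one_left h6]
          exact (eq_inv_of_mul_eq_one_left hss).symm
      rw [hj, pow_zero, pow_zero, mul_one, mul_one] at h1
      have hi : (i' : ℕ) = 0 := by
        rcases (by omega : (i' : ℕ) = 0 ∨ (i' : ℕ) = 1) with h | h
        · exact h
        · exfalso
          rw [h, pow_one, pow_one] at h1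
          exact nab h1.symm
      rw [hl3, hi, hj, pow_zero, pow_zero, one_mul, one_mul]
      exact pw s m'
    rcases key with h | h
    · left; rw [hVD2, h, map_one, mul_one]
    · right; rw [hVD2, h]
  · -- bad case
    exfalso
    have c1' : Commute (S.V s) (S.φ b) := (S.commφV hs hbs).symm
    have c2' : Commute (S.V s * S.V b) (S.φ a) :=
      ((S.commφV hs has).symm).mul_left ((S.commφV hb hab).symm)
    have hmu' : S.Mv (S.V s * S.V b * S.V a) (s * b * a) :=
      S.Mv_mul (S.Mv_mul (S.Mv_V hs) (S.Mv_V hb) c1') (S.Mv_V ha) c2'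
    have esba : s * b * a = a * b * s := by
      rw [← hbs, mul_assoc, ← has, ← mul_assoc, hab]
    rw [esba] at hmu'
    have hmu'' : S.V s * S.V b * S.V a * S.t = S.t * S.φ (a * b * s) * (S.V s * S.V b * S.V a) := hmu'
    obtain ⟨X, hX⟩ : ∃ X, X = S.V s * S.V b * S.V a := ⟨_, rfl⟩
    rw [← hX] at hmu'' huinv hsq2 cl
    have hVD : S.V (a * b * s) = S.t * S.φ (a * b * s) * X * S.φ l' := by
      have h1 : S.V (a * b * s) = u⁻¹ * (S.t * S.φ l') := by rw [← hw]; group
      rw [h1, huinv]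
      calc X * (S.t * S.φ l') = (X * S.t) * S.φ l' := by group
        _ = _ := by rw [hmu'']
    have cXd : Commute X (S.φ (a * b * s)) := by
      rw [hX]
      exact (((S.commφV hs ds).symm).mul_left ((S.commφV hb db).symm)).mul_left ((S.commφV ha da).symm)
    have cdl : Commute (S.φ (a * b * s)) (S.φ l') := by
      apply S.commφφ
      have h1 : Commute l' a := la
      have h2 : Commute l' b := lb
      have h3 : Commute l' s := ls
      exact ((h1.mul_right h2).mul_right h3).eq.symm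
    have φdd : S.φ (a * b * s) * S.φ (a * b * s) = 1 := S.φsq hdd
    have hXX : X * X = S.φ (a * b * s) := by
      have h1 : X * X * S.φ (a * b * s) = 1 := by
        rw [← hD]
        conv_rhs => rw [hVD]
        symm
        calc S.t * S.φ (a * b * s) * X * S.φ l' * (S.t * S.φ (a * b * s) * X * S.φ l')
            = S.t * S.φ (a * b * s) * X * (S.φ l' * S.t) * S.φ (a * b * s) * X * S.φ l' := by group
          _ = S.t * S.φ (a * b * s) * (X * S.t) * S.φ l' * S.φ (a * b * s) * X * S.φ l' := by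
              rw [S.φt l']; group
          _ = S.t * (S.φ (a * b * s) * S.t) * S.φ (a * b * s) * X * S.φ l' * S.φ (a * b * s) * X * S.φ l' := by
              rw [hmu'']; group
          _ = (S.t * S.t) * (S.φ (a * b * s) * S.φ (a * b * s)) * X * (S.φ l' * S.φ (a * b * s)) * X * S.φ l' := by
              rw [S.φt (a * b * s)]; group
          _ = X * (S.φ (a * b * s) * S.φ l') * X * S.φ l' := by
              rw [S.tt, φdd, ← cdl.eq, one_mul, one_mul]
          _ = X * S.φ (a * b * s) * (S.φ l' * X) * S.φ l' := by group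
          _ = X * (S.φ (a * b * s) * X) * (S.φ l' * S.φ l') := by rw [← cl.eq]; group
          _ = _ := by rw [← cXd.eq, φl2]; group
      calc X * X = X * X * (S.φ (a * b * s) * S.φ (a * b * s)) := by rw [φdd, mul_one]
        _ = (X * X * S.φ (a * b * s)) * S.φ (a * b * s) := by group
        _ = _ := by rw [h1, one_mul]
    have hld : l = a * b * s := by
      apply S.inj
      rw [hc, ← hsq2, hXX] at hinv
      rw [eq_inv_of_mul_eq_one_left hinv]
      exact (eq_inv_of_mul_eq_one_left φdd).symm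
    rw [hld] at hcd cAB
    rw [hed] at hcd
    have hVaX : S.V a * X * S.V a = S.φ (a * b * s) * X := by
      have h1 : Commute (S.V s) (S.φ (a * b * s)) := (S.commφV hs ds).symm
      rw [hX]
      calc S.V a * (S.V s * S.V b * S.V a) * S.V a = (S.V a * S.V s) * S.V b * (S.V a * S.V a) := by group
        _ = S.V s * (S.V a * S.V b) := by rw [← vas, hA]; group
        _ = (S.V s * S.φ (a * b * s)) * (S.V b * S.V a) := by rw [cAB]; group
        _ = _ := by rw [h1.eq]; group
    have h5 : S.V a * S.V (a * b * s) * S.V a = S.φ (a * (a * b * s)) * S.V (a * b * s) := by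
      have e1 : Commute (S.V a) (S.φ (a * b * s)) := (S.commφV ha da).symm
      have e2 : Commute (S.V a) (S.φ l') := (S.commφV ha la).symm
      have e3 : Commute (S.φ a) (S.φ (a * b * s)) := S.commφφ da.symm
      calc S.V a * S.V (a * b * s) * S.V a
          = (S.V a * S.t) * S.φ (a * b * s) * X * (S.φ l' * S.V a) := by rw [hVD]; group
        _ = S.t * S.φ a * (S.V a * S.φ (a * b * s)) * X * S.V a * S.φ l' := by
            rw [S.Vt a ha, ← e2.eq]; group
        _ = S.t * S.φ a * S.φ (a * b * s) * (S.V a * X * S.V a) * S.φ l' := by rw [e1.eq]; group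
        _ = S.t * (S.φ a * S.φ (a * b * s)) * S.φ (a * b * s) * X * S.φ l' := by rw [hVaX]; group
        _ = (S.φ (a * (a * b * s)) * S.t) * S.φ (a * b * s) * X * S.φ l' := by
            rw [S.φt (a * (a * b * s)), map_mul S.φ a (a * b * s)]
        _ = _ := by rw [hVD]; group
    have h6 : S.φ (a * (a * b * s)) = S.φ b := by
      rw [← hcd]
      calc S.φ (a * (a * b * s)) = S.φ (a * (a * b * s)) * (S.V (a * b * s) * S.V (a * b * s)) := by
            rw [hD, mul_one]
        _ = (S.φ (a * (a * b * s)) * S.V (a * b * s)) * S.V (a * b * s) := by group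
        _ = _ := by rw [← h5]; group
    have h7 := S.inj h6
    have h8 : b * s = b * 1 := by
      calc b * s = (a * a) * (b * s) := by rw [haa, one_mul]
        _ = a * (a * b * s) := by group
        _ = b := h7
        _ = b * 1 := (mul_one b).symm
    exact S.yne s hs (mul_left_cancel h8)

/-- Two root elements of the same length at 120 degrees, `c` the third one. -/
structure Obt (a b c : Λ) : Prop where
  ha : a ∈ S.Rt
  hb : b ∈ S.Rt
  hc : c ∈ S.Rt
  rel : b * a * b = a * c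
  ac : a * c = c * a
  bc : b * c = c * b
  pa : S.P0 a c
  pb : S.P0 b c
  centb : ∀ l, (∀ k, k * a = a * k → k * b = b * k → l * k = k * l) → l * b = b * l →
    l = 1 ∨ l = b ∨ l = c ∨ l = b * c
  centa : ∀ l, (∀ k, k * a = a * k → k * b = b * k → l * k = k * l) → l * a = a * l →
    l = 1 ∨ l = a ∨ l = c ∨ l = a * c

theorem Obt.symm {a b c : Λ} (h : S.Obt a b c) : S.Obt b a c := by
  have haa := S.ysq a h.ha
  have hbb := S.ysq b h.hb
  have hcc := S.ysq c h.hc
  refine ⟨h.hb, h.ha, h.hc, ?_, h.bc, h.ac, h.pb, h.pa, ?_, ?_⟩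
  · have h1 := h.rel
    calc a * b * a = b * (b * a * b) * a := by
          rw [show b * (b * a * b) * a = (b * b) * a * b * a by group, hbb, one_mul]
      _ = b * (a * c) * a := by rw [h1]
      _ = b * (c * a) * a := by rw [h.ac]
      _ = b * c * (a * a) := by group
      _ = b * c := by rw [haa, mul_one]
  · intro l hl hla
    exact h.centa l (fun k h1 h2 => hl k h2 h1) hla
  · intro l hl hla
    exact h.centb l (fun k h1 h2 => hl k h2 h1) hla

/-- First relation. -/
theorem Obt.phi_V {a b c : Λ} (h : S.Obt a b c) : S.φ b * S.V a * S.φ b = S.V a * S.V c := by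
  have hbb := S.ysq b h.hb
  have h1 := S.Vconj a h.ha b
  have hbi : b⁻¹ = b := inv_eq_of_mul_eq_one_right hbb
  have hbi' : (S.φ b)⁻¹ = S.φ b := by rw [← map_inv, hbi]
  rw [hbi, hbi', h.rel] at h1
  rw [h1, h.pa.1]

/-- Half of the computation. -/
theorem Obt.half {a b c : Λ} (h : S.Obt a b c) :
    ∃ l, (l = 1 ∨ l = b ∨ l = c ∨ l = b * c) ∧ S.V b * S.V a * S.V b * S.V a * S.V c = S.φ l := by
  have haa := S.ysq a h.ha
  have hbb := S.ysq b h.hb
  have hcc := S.ysq c h.hc
  have hA := S.Vsq a h.ha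
  have hB := S.Vsq b h.hb
  have hC := S.Vsq c h.hc
  have φaa := S.φsq haa
  have φbb := S.φsq hbb
  have φcc := S.φsq hcc
  have r1 : S.φ b * S.V a * S.φ b = S.V a * S.V c := h.phi_V
  have r2 : S.φ a * S.V b * S.φ a = S.V b * S.V c := h.symm.phi_V
  have kAC : Commute (S.V a) (S.V c) := h.pa.2
  have kBC : Commute (S.V b) (S.V c) := h.pb.2
  have kAφc : Commute (S.V a) (S.φ c) := (S.commφV h.ha h.ac.symm).symm
  have kBφc : Commute (S.V b) (S.φ c) := (S.commφV h.hb h.bc.symm).symm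
  have kCφa : Commute (S.V c) (S.φ a) := (S.commφV h.hc h.ac).symm
  have kCφb : Commute (S.V c) (S.φ b) := (S.commφV h.hc h.bc).symm
  have kCφc : Commute (S.V c) (S.φ c) := (S.commφV h.hc rfl).symm
  have kAφa : Commute (S.V a) (S.φ a) := (S.commφV h.ha rfl).symm
  have kBφb : Commute (S.V b) (S.φ b) := (S.commφV h.hb rfl).symm
  -- moving
  have e1 : S.V b * S.φ a = S.φ a * (S.V b * S.V c) := by
    calc S.V b * S.φ a = (S.φ a * S.φ a) * (S.V b * S.φ a) := by rw [φaa, one_mul]
      _ = S.φ a * (S.φ a * S.V b * S.φ a) := by group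
      _ = _ := by rw [r2]
  have e2 : S.V a * S.φ b = S.φ b * (S.V a * S.V c) := by
    calc S.V a * S.φ b = (S.φ b * S.φ b) * (S.V a * S.φ b) := by rw [φbb, one_mul]
      _ = S.φ b * (S.φ b * S.V a * S.φ b) := by group
      _ = _ := by rw [r1]
  obtain ⟨g, hg⟩ : ∃ g, g = S.V b * S.V a * S.V b := ⟨_, rfl⟩
  have kgC : Commute g (S.V c) := by rw [hg]; exact (kBC.mul_left kAC).mul_left kBC
  have hφbab : S.φ b * S.φ a * S.φ b = S.φ (a * c) := by rw [← map_mul, ← map_mul, h.rel]
  have hmg : S.Mv g (a * c) := by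
    unfold Mv
    calc g * S.t = S.V b * S.V a * (S.V b * S.t) := by rw [hg]; group
      _ = S.V b * (S.V a * S.t) * S.φ b * S.V b := by rw [S.Vt b h.hb]; group
      _ = (S.V b * S.t) * S.φ a * (S.V a * S.φ b) * S.V b := by rw [S.Vt a h.ha]; group
      _ = S.t * S.φ b * (S.V b * S.φ a) * (S.φ b * (S.V a * S.V c)) * S.V b := by
          rw [S.Vt b h.hb, e2]; group
      _ = S.t * S.φ b * S.φ a * S.V b * (S.V c * S.φ b) * (S.V a * S.V c) * S.V b := by rw [e1]; group
      _ = S.t * S.φ b * S.φ a * (S.V b * S.φ b) * (S.V c * S.V a) * S.V c * S.V b := by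
          rw [kCφb.eq]; group
      _ = S.t * (S.φ b * S.φ a * S.φ b) * S.V b * S.V a * (S.V c * S.V c) * S.V b := by
          rw [kBφb.eq, ← kAC.eq]; group
      _ = S.t * S.φ (a * c) * g := by rw [hφbab, hC, hg]; group
  have hgt : g * S.t = S.t * S.φ (a * c) * g := hmg
  -- `g` commutes with `φ (ac)`
  have e3 : S.V b * S.φ a * S.V b = S.V c * S.φ a := by
    calc S.V b * S.φ a * S.V b = S.φ a * (S.V b * S.V c) * S.V b := by rw [e1]
      _ = S.φ a * (S.V c * S.V b) * S.V b := by rw [kBC.eq]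
      _ = S.φ a * S.V c * (S.V b * S.V b) := by group
      _ = _ := by rw [hB, mul_one, kCφa.eq]
  have kgac : Commute g (S.φ (a * c)) := by
    have e4 : S.V b * S.φ (a * c) = S.V c * S.φ (a * c) * S.V b := by
      calc S.V b * S.φ (a * c) = S.V b * S.φ a * S.φ c := by rw [map_mul]; group
        _ = S.V b * S.φ a * (S.V b * S.V b) * S.φ c := by rw [hB, mul_one]
        _ = (S.V b * S.φ a * S.V b) * (S.V b * S.φ c) := by group
        _ = S.V c * S.φ a * S.φ c * S.V b := by rw [e3, kBφc.eq]; group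
        _ = _ := by rw [map_mul]; group
    have e5 : Commute (S.V a) (S.V c * S.φ (a * c)) := by
      rw [map_mul]
      exact kAC.mul_right (kAφa.mul_right kAφc)
    change g * S.φ (a * c) = S.φ (a * c) * g
    rw [hg]
    calc S.V b * S.V a * S.V b * S.φ (a * c) = S.V b * S.V a * (S.V b * S.φ (a * c)) := by group
      _ = S.V b * (S.V a * (S.V c * S.φ (a * c))) * S.V b := by rw [e4]; group
      _ = S.V b * S.V c * S.φ (a * c) * S.V a * S.V b := by rw [e5.eq]; group
      _ = S.V c * (S.V b * S.φ (a * c)) * S.V a * S.V b := by rw [kBC.eq]; group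
      _ = (S.V c * S.V c) * S.φ (a * c) * S.V b * S.V a * S.V b := by rw [e4]; group
      _ = _ := by rw [hC]; group
  obtain ⟨m, hm⟩ : ∃ m, m = S.V a * S.V c := ⟨_, rfl⟩
  have hmm : S.Mv m (a * c) := by
    rw [hm]; exact S.Mv_mul (S.Mv_V h.ha) (S.Mv_V h.hc) kAφc
  have hac2 : a * c * (a * c) = 1 := by
    calc a * c * (a * c) = a * (c * a) * c := by group
      _ = (a * a) * (c * c) := by rw [← h.ac]; group
      _ = 1 := by rw [haa, hcc, one_mul]
  have hh : (g * m) * S.t = S.t * (g * m) := by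
    have := S.Mv_mul hmg hmm kgac
    rw [hac2] at this
    exact S.Mv_one_iff.1 this
  set K : Set Λ := {k | (k * a = a * k ∧ k * b = b * k) ∨ k = b} with hK
  -- `h` commutes with `φ b`
  have khb : Commute (S.φ b) (g * m) := by
    change S.φ b * (g * m) = g * m * S.φ b
    symm
    calc g * m * S.φ b = g * S.V a * (S.V c * S.φ b) := by rw [hm]; group
      _ = g * (S.V a * S.φ b) * S.V c := by rw [kCφb.eq]; group
      _ = g * S.φ b * S.V a * (S.V c * S.V c) := by rw [e2]; group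
      _ = S.V b * S.V a * (S.V b * S.φ b) * S.V a := by rw [hC, hg]; group
      _ = S.V b * (S.V a * S.φ b) * S.V b * S.V a := by rw [kBφb.eq]; group
      _ = (S.V b * S.φ b) * S.V a * (S.V c * S.V b) * S.V a := by rw [e2]; group
      _ = S.φ b * S.V b * S.V a * S.V b * (S.V c * S.V a) := by rw [kBφb.eq, ← kBC.eq]; group
      _ = S.φ b * (g * m) := by rw [← kAC.eq, hg, hm]; group
  have hKc : ∀ k ∈ K, Commute (S.φ k) (g * m) := by
    rintro k (⟨hka, hkb⟩ | rfl)
    · have hkc : k * c = c * k := by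
        have h1 : c = a * (b * a * b) := by rw [h.rel, ← mul_assoc, haa, one_mul]
        have h2 : Commute k a := hka
        have h3 : Commute k b := hkb
        rw [h1]
        exact (h2.mul_right ((h3.mul_right h2).mul_right h3)).eq
      have h1 := S.commφV h.ha hka
      have h2 := S.commφV h.hb hkb
      have h3 := S.commφV h.hc hkc
      rw [hg, hm]
      exact ((h2.mul_right h1).mul_right h2).mul_right (h1.mul_right h3)
    · exact khb
  have khC : Commute (g * m) (S.V c) := by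
    rw [hm]
    exact kgC.mul_left (kAC.mul_left (Commute.refl _))
  obtain ⟨l, hl, hl2⟩ := S.rigid' hh K hKc h.hc (Or.inl ⟨h.ac.symm, h.bc.symm⟩) h.hc khC (fun l hl => hl c (Or.inl ⟨h.ac.symm, h.bc.symm⟩))
  refine ⟨l, h.centb l (fun k h1 h2 => hl k (Or.inl ⟨h1, h2⟩)) (hl b (Or.inr rfl)), ?_⟩
  rw [← hl2, hg, hm]; group

theorem Obt.rel_VV {a b c : Λ} (h : S.Obt a b c) :
    S.V b * S.V a * S.V b * S.V a = S.V c ∨ S.V b * S.V a * S.V b * S.V a = S.φ c * S.V c := by
  have haa := S.ysq a h.ha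
  have hbb := S.ysq b h.hb
  have hcc := S.ysq c h.hc
  have hA := S.Vsq a h.ha
  have hB := S.Vsq b h.hb
  have hC := S.Vsq c h.hc
  obtain ⟨l, hl, h1⟩ := h.half
  obtain ⟨l', hl', h1'⟩ := h.symm.half
  have kAC : Commute (S.V a) (S.V c) := h.pa.2
  have kBC : Commute (S.V b) (S.V c) := h.pb.2
  have nab : a * b ≠ b * a := by
    intro h2
    apply S.yne c h.hc
    have h3 := h.rel
    rw [← h2, mul_assoc, hbb] at h3
    exact (mul_left_cancel h3).symm
  have hprod : (S.V b * S.V a * S.V b * S.V a * S.V c) * (S.V a * S.V b * S.V a * S.V b * S.V c) = 1 := by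
    have h2 : Commute (S.V c) (S.V a * S.V b * S.V a * S.V b) :=
      ((kAC.symm.mul_right kBC.symm).mul_right kAC.symm).mul_right kBC.symm
    calc (S.V b * S.V a * S.V b * S.V a * S.V c) * (S.V a * S.V b * S.V a * S.V b * S.V c)
        = (S.V b * S.V a * S.V b * S.V a) * (S.V c * (S.V a * S.V b * S.V a * S.V b)) * S.V c := by group
      _ = S.V b * S.V a * S.V b * (S.V a * S.V a) * S.V b * S.V a * S.V b * (S.V c * S.V c) := by
          rw [h2.eq]; group
      _ = S.V b * S.V a * (S.V b * S.V b) * S.V a * S.V b := by rw [hA, hC]; group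
      _ = S.V b * (S.V a * S.V a) * S.V b := by rw [hB]; group
      _ = 1 := by rw [hA, mul_one, hB]
  rw [h1, h1', ← map_mul] at hprod
  have h2 : l * l' = 1 := S.inj (by rw [hprod, map_one])
  -- `l` commutes with `b`, `l'` with `a`
  have hll : l = 1 ∨ l = c := by
    have cl' : l' * a = a * l' := by
      rcases hl' with rfl | rfl | rfl | rfl
      · rw [one_mul, mul_one]
      · rfl
      · exact h.ac.symm
      · rw [mul_assoc, ← h.ac]
    have hla : l * a = a * l := by
      have h3 : l = l'⁻¹ := eq_inv_of_mul_eq_one_left h2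
      have h4 : Commute l' a := cl'
      rw [h3]; exact h4.inv_left.eq
    rcases hl with rfl | rfl | rfl | rfl
    · exact Or.inl rfl
    · exact absurd hla.symm nab
    · exact Or.inr rfl
    · exfalso
      apply nab
      have h5 : b * a * c = a * b * c := by
        calc b * a * c = b * (c * a) := by rw [← h.ac]; group
          _ = b * c * a := by group
          _ = a * (b * c) := hla
          _ = _ := by group
      exact (mul_right_cancel h5).symm
  have h3 : S.V b * S.V a * S.V b * S.V a = S.φ l * S.V c := by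
    rw [← h1]
    calc S.V b * S.V a * S.V b * S.V a = S.V b * S.V a * S.V b * S.V a * (S.V c * S.V c) := by rw [hC, mul_one]
      _ = _ := by group
  rcases hll with rfl | rfl
  · left; rw [h3, map_one, one_mul]
  · right; exact h3

/-- A long and a short root element at 135 degrees: `p` short, `q` long. The two relations about `V (a p q)`,
`V (b p q)` come from `orth`. -/
structure Obf (a b p q : Λ) : Prop where
  ha : a ∈ S.Rt
  hb : b ∈ S.Rt
  hp : p ∈ S.Rt
  hq : q ∈ S.Rt
  rel : b * a * b = a * p * q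
  ap : a * p = p * a
  aq : a * q = q * a
  bp : b * p = p * b
  bq : b * q = q * b
  pq : p * q = q * p
  vap : S.V a * S.V p = S.V p * S.V a
  vaq : S.V a * S.V q = S.V q * S.V a
  vbp : S.V b * S.V p = S.V p * S.V b
  vbq : S.V b * S.V q = S.V q * S.V b
  vpq : S.V p * S.V q = S.V q * S.V p
  va : S.V (a * p * q) = S.V a * S.V p * S.V q ∨ S.V (a * p * q) = S.V a * S.V p * S.V q * S.φ p
  vb : S.V (b * p * q) = S.V b * S.V p * S.V q ∨ S.V (b * p * q) = S.V b * S.V p * S.V q * S.φ q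
  cent : ∀ l, (∀ k, k * a = a * k → k * b = b * k → k * p = p * k → k * q = q * k → l * k = k * l) →
    l * a = a * l → l * b = b * l → l = 1 ∨ l = p ∨ l = q ∨ l = p * q

theorem Obf.phi_V {a b p q : Λ} (h : S.Obf a b p q) : ∃ j : Fin 2,
    S.φ b * S.V a * S.φ b = S.V a * S.V p * S.V q * S.φ p ^ (j : ℕ) := by
  have hbb := S.ysq b h.hb
  have h1 := S.Vconj a h.ha b
  have hbi : b⁻¹ = b := inv_eq_of_mul_eq_one_right hbb
  have hbi' : (S.φ b)⁻¹ = S.φ b := by rw [← map_inv, hbi]
  rw [hbi, hbi', h.rel] at h1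
  rcases h.va with h2 | h2
  · refine ⟨0, ?_⟩
    rw [h1, h2, Fin.val_zero, pow_zero, mul_one]
  · refine ⟨1, ?_⟩
    rw [h1, h2, Fin.val_one, pow_one]

theorem Obf.phi_V' {a b p q : Λ} (h : S.Obf a b p q) : ∃ j : Fin 2,
    S.φ a * S.V b * S.φ a = S.V b * S.V p * S.V q * S.φ q ^ (j : ℕ) := by
  have haa := S.ysq a h.ha
  have hbb := S.ysq b h.hb
  have hpp := S.ysq p h.hp
  have hqq := S.ysq q h.hq
  have h1 := S.Vconj b h.hb a
  have hai : a⁻¹ = a := inv_eq_of_mul_eq_one_right haa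
  have hai' : (S.φ a)⁻¹ = S.φ a := by rw [← map_inv, hai]
  have hrel : a * b * a = b * p * q := by
    have h3 : b * (b * a * b) * (b * a * b) * a * b * a = b * (a * p * q) * (a * p * q) * a * b * a := by rw [h.rel]
    have cpq : Commute (a * p * q) (a * p * q) := Commute.refl _
    -- `b a b = a p q`, so `a b = b (a p q)`, `b a = (a p q) b`
    have e1 : a * b = b * (a * p * q) := by
      rw [← h.rel, show b * (b * a * b) = (b * b) * (a * b) by group, hbb, one_mul]
    calc a * b * a = b * (a * p * q) * a := by rw [e1]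
      _ = b * (a * p * (q * a)) := by group
      _ = b * (a * (p * a) * q) := by rw [← h.aq]; group
      _ = b * ((a * a) * p * q) := by rw [← h.ap]; group
      _ = b * p * q := by rw [haa, one_mul]; group
  rw [hai, hai', hrel] at h1
  rcases h.vb with h2 | h2
  · refine ⟨0, ?_⟩
    rw [h1, h2, Fin.val_zero, pow_zero, mul_one]
  · refine ⟨1, ?_⟩
    rw [h1, h2, Fin.val_one, pow_one]

theorem Obf.rel_VV {a b p q : Λ} (h : S.Obf a b p q) : ∃ i j k m : ℕ,
    S.V b * S.V a * S.V b * S.V a = S.φ p ^ i * S.φ q ^ j * S.V p ^ k * S.V q ^ m := by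
  obtain ⟨j, hj⟩ := h.phi_V
  obtain ⟨j', hj'⟩ := h.phi_V'
  obtain ⟨n, hn⟩ : ∃ n : ℕ, n = (j : ℕ) := ⟨_, rfl⟩
  obtain ⟨n', hn'⟩ : ∃ n' : ℕ, n' = (j' : ℕ) := ⟨_, rfl⟩
  rw [← hn] at hj
  rw [← hn'] at hj'
  have haa := S.ysq a h.ha
  have hbb := S.ysq b h.hb
  have hpp := S.ysq p h.hp
  have hqq := S.ysq q h.hq
  have hA := S.Vsq a h.ha
  have hB := S.Vsq b h.hb
  have hP := S.Vsq p h.hp
  have hQ := S.Vsq q h.hq
  have φaa := S.φsq haa
  have φbb := S.φsq hbb
  have φpp := S.φsq hpp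
  have φqq := S.φsq hqq
  have kAP : Commute (S.V a) (S.V p) := h.vap
  have kAQ : Commute (S.V a) (S.V q) := h.vaq
  have kBP : Commute (S.V b) (S.V p) := h.vbp
  have kBQ : Commute (S.V b) (S.V q) := h.vbq
  have kPQ : Commute (S.V p) (S.V q) := h.vpq
  have kAa : Commute (S.V a) (S.φ a) := (S.commφV h.ha rfl).symm
  have kAp : Commute (S.V a) (S.φ p) := (S.commφV h.ha h.ap.symm).symm
  have kAq : Commute (S.V a) (S.φ q) := (S.commφV h.ha h.aq.symm).symm
  have kBb : Commute (S.V b) (S.φ b) := (S.commφV h.hb rfl).symm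
  have kBp : Commute (S.V b) (S.φ p) := (S.commφV h.hb h.bp.symm).symm
  have kBq : Commute (S.V b) (S.φ q) := (S.commφV h.hb h.bq.symm).symm
  have kPa : Commute (S.V p) (S.φ a) := (S.commφV h.hp h.ap).symm
  have kPb : Commute (S.V p) (S.φ b) := (S.commφV h.hp h.bp).symm
  have kPp : Commute (S.V p) (S.φ p) := (S.commφV h.hp rfl).symm
  have kPq : Commute (S.V p) (S.φ q) := (S.commφV h.hp h.pq.symm).symm
  have kQa : Commute (S.V q) (S.φ a) := (S.commφV h.hq h.aq).symm
  have kQb : Commute (S.V q) (S.φ b) := (S.commφV h.hq h.bq).symm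
  have kQp : Commute (S.V q) (S.φ p) := (S.commφV h.hq h.pq).symm
  have kQq : Commute (S.V q) (S.φ q) := (S.commφV h.hq rfl).symm
  have kap : Commute (S.φ a) (S.φ p) := S.commφφ h.ap
  have kaq : Commute (S.φ a) (S.φ q) := S.commφφ h.aq
  have kbp : Commute (S.φ b) (S.φ p) := S.commφφ h.bp
  have kbq : Commute (S.φ b) (S.φ q) := S.commφφ h.bq
  have kpq : Commute (S.φ p) (S.φ q) := S.commφφ h.pq
  -- `W = V p V q φ(p)^n`, `W' = V p V q φ(q)^n'`
  obtain ⟨W, hW⟩ : ∃ W, W = S.V p * S.V q * S.φ p ^ n := ⟨_, rfl⟩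
  obtain ⟨W', hW'⟩ : ∃ W', W' = S.V p * S.V q * S.φ q ^ n' := ⟨_, rfl⟩
  have hAW : S.φ b * S.V a * S.φ b = S.V a * W := by rw [hj, hW]; group
  have hBW : S.φ a * S.V b * S.φ a = S.V b * W' := by rw [hj', hW']; group
  have cW : ∀ u : G, Commute u (S.V p) → Commute u (S.V q) → Commute u (S.φ p) → Commute u W := by
    intro u h1 h2 h3
    rw [hW]; exact (h1.mul_right h2).mul_right (h3.pow_right n)
  have cW' : ∀ u : G, Commute u (S.V p) → Commute u (S.V q) → Commute u (S.φ q) → Commute u W' := by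
    intro u h1 h2 h3
    rw [hW']; exact (h1.mul_right h2).mul_right (h3.pow_right n')
  have kAW := cW _ kAP kAQ kAp
  have kBW := cW _ kBP kBQ kBp
  have kPW := cW _ (Commute.refl _) kPQ kPp
  have kQW := cW _ kPQ.symm (Commute.refl _) kQp
  have kaW := cW _ kPa.symm kQa.symm kap
  have kbW := cW _ kPb.symm kQb.symm kbp
  have kpW := cW _ kPp.symm kQp.symm (Commute.refl _)
  have kqW := cW _ kPq.symm kQq.symm kpq.symm
  have kAW' := cW' _ kAP kAQ kAq
  have kBW' := cW' _ kBP kBQ kBq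
  have kPW' := cW' _ (Commute.refl _) kPQ kPq
  have kQW' := cW' _ kPQ.symm (Commute.refl _) kQq
  have kaW' := cW' _ kPa.symm kQa.symm kaq
  have kbW' := cW' _ kPb.symm kQb.symm kbq
  have kpW' := cW' _ kPp.symm kQp.symm kpq
  have kqW' := cW' _ kPq.symm kQq.symm (Commute.refl _)
  have sqp : ∀ x : G, x * x = 1 → ∀ n : ℕ, x ^ n * x ^ n = 1 := by
    intro x hx n
    rw [← (Commute.refl x).mul_pow, hx, one_pow]
  have hWW : W * W = 1 := by
    have h1 : Commute (S.V p * S.V q) (S.φ p ^ n) := (kPp.mul_left kQp).pow_right n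
    rw [hW, h1.symm.mul_mul_mul_comm, kPQ.symm.mul_mul_mul_comm, hP, hQ, sqp _ φpp, one_mul, one_mul]
  have hWW' : W' * W' = 1 := by
    have h1 : Commute (S.V p * S.V q) (S.φ q ^ n') := (kPq.mul_left kQq).pow_right n'
    rw [hW', h1.symm.mul_mul_mul_comm, kPQ.symm.mul_mul_mul_comm, hP, hQ, sqp _ φqq, one_mul, one_mul]
  -- moving rules
  have e1 : S.V b * S.φ a = S.φ a * (S.V b * W') := by
    calc S.V b * S.φ a = (S.φ a * S.φ a) * (S.V b * S.φ a) := by rw [φaa, one_mul]
      _ = S.φ a * (S.φ a * S.V b * S.φ a) := by group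
      _ = _ := by rw [hBW]
  have e2 : S.V a * S.φ b = S.φ b * (S.V a * W) := by
    calc S.V a * S.φ b = (S.φ b * S.φ b) * (S.V a * S.φ b) := by rw [φbb, one_mul]
      _ = S.φ b * (S.φ b * S.V a * S.φ b) := by group
      _ = _ := by rw [hAW]
  obtain ⟨g, hg⟩ : ∃ g, g = S.V b * S.V a * S.V b := ⟨_, rfl⟩
  have gc : ∀ u : G, Commute (S.V a) u → Commute (S.V b) u → Commute g u := by
    intro u h1 h2
    rw [hg]; exact (h2.mul_left h1).mul_left h2
  have kWW' : Commute W W' := by
    rw [hW]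
    exact (kPW'.mul_left kQW').mul_left (kpW'.pow_left n)
  have hφbab : S.φ b * S.φ a * S.φ b = S.φ (a * p * q) := by rw [← map_mul, ← map_mul, h.rel]
  obtain ⟨z, hz⟩ : ∃ z, z = a * p ^ (1 + n) * q ^ (1 + n') := ⟨_, rfl⟩
  have hφz : S.φ z = S.φ a * S.φ p ^ (1 + n) * S.φ q ^ (1 + n') := by
    rw [hz, map_mul, map_mul, map_pow, map_pow]
  have hWWp : W' * W = S.φ p ^ n * S.φ q ^ n' := by
    rw [hW, hW']
    have h1 : Commute (S.φ q ^ n') (S.V p * S.V q) := (kPq.symm.mul_right kQq.symm).pow_left n'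
    calc S.V p * S.V q * S.φ q ^ n' * (S.V p * S.V q * S.φ p ^ n)
        = S.V p * S.V q * (S.φ q ^ n' * (S.V p * S.V q)) * S.φ p ^ n := by group
      _ = (S.V p * S.V q * (S.V p * S.V q)) * (S.φ q ^ n' * S.φ p ^ n) := by rw [h1.eq]; group
      _ = _ := by
          rw [kPQ.symm.mul_mul_mul_comm, hP, hQ, one_mul, one_mul]
          exact (kpq.symm.pow_pow n' n).eq
  have hmg : g * S.t = S.t * S.φ z * g := by
    calc g * S.t = S.V b * S.V a * (S.V b * S.t) := by rw [hg]; group
      _ = S.V b * (S.V a * S.t) * S.φ b * S.V b := by rw [S.Vt b h.hb]; group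
      _ = (S.V b * S.t) * S.φ a * (S.V a * S.φ b) * S.V b := by rw [S.Vt a h.ha]; group
      _ = S.t * S.φ b * (S.V b * S.φ a) * (S.φ b * (S.V a * W)) * S.V b := by
          rw [S.Vt b h.hb, e2]; group
      _ = S.t * S.φ b * S.φ a * S.V b * (W' * S.φ b) * (S.V a * W) * S.V b := by rw [e1]; group
      _ = S.t * S.φ b * S.φ a * (S.V b * S.φ b) * (W' * S.V a) * W * S.V b := by
          rw [← kbW'.eq]; group
      _ = S.t * (S.φ b * S.φ a * S.φ b) * S.V b * S.V a * ((W' * W) * S.V b) := by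
          rw [kBb.eq, ← kAW'.eq]; group
      _ = S.t * S.φ (a * p * q) * g * (S.φ p ^ n * S.φ q ^ n') := by
          have h1 : Commute (S.φ p ^ n * S.φ q ^ n') (S.V b) :=
            (kBp.symm.pow_left n).mul_left (kBq.symm.pow_left n')
          rw [hφbab, hWWp, h1.eq, hg]; group
      _ = S.t * (S.φ (a * p * q) * (S.φ p ^ n * S.φ q ^ n')) * g := by
          have h1 : Commute (S.φ p ^ n * S.φ q ^ n') g :=
            ((gc _ kAp kBp).symm.pow_left n).mul_left ((gc _ kAq kBq).symm.pow_left n')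
          rw [mul_assoc (S.t * S.φ (a * p * q)), ← h1.eq]; group
      _ = S.t * S.φ z * g := by
          have h1 : S.φ q * S.φ p ^ n = S.φ p ^ n * S.φ q := (kpq.symm.pow_right n).eq
          rw [hφz, map_mul, map_mul, pow_add, pow_add, pow_one, pow_one]
          calc S.t * (S.φ a * S.φ p * S.φ q * (S.φ p ^ n * S.φ q ^ n')) * g
              = S.t * (S.φ a * S.φ p * (S.φ q * S.φ p ^ n) * S.φ q ^ n') * g := by group
            _ = _ := by rw [h1]; group
  -- `g` commutes with `φ a`, `φ z`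
  have kga : Commute g (S.φ a) := by
    change g * S.φ a = S.φ a * g
    rw [hg]
    calc S.V b * S.V a * S.V b * S.φ a = S.V b * S.V a * (S.V b * S.φ a) := by group
      _ = S.V b * (S.V a * S.φ a) * S.V b * W' := by rw [e1]; group
      _ = (S.V b * S.φ a) * S.V a * S.V b * W' := by rw [kAa.eq]; group
      _ = S.φ a * S.V b * (W' * (S.V a * S.V b)) * W' := by rw [e1]; group
      _ = S.φ a * S.V b * S.V a * S.V b * (W' * W') := by
          rw [← (kAW'.mul_left kBW').eq]; group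
      _ = _ := by rw [hWW']; group
  have kgp := gc _ kAp kBp
  have kgq := gc _ kAq kBq
  have kgz : Commute g (S.φ z) := by
    rw [hφz]; exact (kga.mul_right (kgp.pow_right _)).mul_right (kgq.pow_right _)
  obtain ⟨m, hm⟩ : ∃ m, m = S.V a * S.V p ^ (1 + n) * S.V q ^ (1 + n') := ⟨_, rfl⟩
  have hMvpow : ∀ y, y ∈ S.Rt → ∀ i : ℕ, S.Mv (S.V y ^ i) (y ^ i) := by
    intro y hy i
    induction i with
    | zero => rw [pow_zero, pow_zero]; rw [S.Mv_one_iff, one_mul, mul_one]
    | succ i ih =>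
      rw [pow_succ, pow_succ]
      exact S.Mv_mul ih (S.Mv_V hy) (((S.commφV hy rfl).symm).pow_left i)
  have hmm : S.Mv m z := by
    rw [hm, hz]
    refine S.Mv_mul (S.Mv_mul (S.Mv_V h.ha) (hMvpow p h.hp _) ?_) (hMvpow q h.hq _) ?_
    · rw [map_pow]; exact kAp.pow_right _
    · rw [map_pow]; exact (kAq.mul_left (kPq.pow_left _)).pow_right _
  have hzz : z * z = 1 := by
    have c1 : Commute a (p ^ (1 + n)) := (show Commute a p from h.ap).pow_right _
    have c2 : Commute a (q ^ (1 + n')) := (show Commute a q from h.aq).pow_right _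
    have c3 : Commute (p ^ (1 + n)) (q ^ (1 + n')) := (show Commute p q from h.pq).pow_pow _ _
    rw [hz, (c2.mul_left c3).symm.mul_mul_mul_comm, c1.symm.mul_mul_mul_comm, haa]
    rw [← (Commute.refl p).mul_pow, hpp, one_pow, ← (Commute.refl q).mul_pow, hqq, one_pow, one_mul, one_mul]
  have hmm1 : m * m = 1 := by
    have c1 : Commute (S.V a) (S.V p ^ (1 + n)) := kAP.pow_right _
    have c2 : Commute (S.V a) (S.V q ^ (1 + n')) := kAQ.pow_right _
    have c3 : Commute (S.V p ^ (1 + n)) (S.V q ^ (1 + n')) := kPQ.pow_pow _ _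
    rw [hm, (c2.mul_left c3).symm.mul_mul_mul_comm, c1.symm.mul_mul_mul_comm, hA, sqp _ hP, sqp _ hQ,
      one_mul, one_mul]
  have hh : (g * m) * S.t = S.t * (g * m) := by
    have := S.Mv_mul (show S.Mv g z from hmg) hmm kgz
    rw [hzz] at this
    exact S.Mv_one_iff.1 this
  set K : Set Λ := {k | (k * a = a * k ∧ k * b = b * k ∧ k * p = p * k ∧ k * q = q * k) ∨ k = a ∨ k = b} with hK
  have khb : Commute (S.φ b) (g * m) := by
    have e3 : g * S.φ b = S.φ b * g * W := by
      rw [hg]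
      calc S.V b * S.V a * S.V b * S.φ b = S.V b * S.V a * (S.V b * S.φ b) := by group
        _ = S.V b * (S.V a * S.φ b) * S.V b := by rw [kBb.eq]; group
        _ = (S.V b * S.φ b) * S.V a * (W * S.V b) := by rw [e2]; group
        _ = _ := by rw [kBb.eq, ← kBW.eq]; group
    have e4 : m * S.φ b = S.φ b * m * W := by
      have h1 : Commute (S.V p ^ (1 + n) * S.V q ^ (1 + n')) (S.φ b) :=
        (kPb.pow_left _).mul_left (kQb.pow_left _)
      have h2 : Commute W (S.V p ^ (1 + n) * S.V q ^ (1 + n')) :=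
        (kPW.symm.pow_right _).mul_right (kQW.symm.pow_right _)
      rw [hm]
      calc S.V a * S.V p ^ (1 + n) * S.V q ^ (1 + n') * S.φ b
          = S.V a * ((S.V p ^ (1 + n) * S.V q ^ (1 + n')) * S.φ b) := by group
        _ = (S.V a * S.φ b) * (S.V p ^ (1 + n) * S.V q ^ (1 + n')) := by rw [h1.eq]; group
        _ = S.φ b * S.V a * (W * (S.V p ^ (1 + n) * S.V q ^ (1 + n'))) := by rw [e2]; group
        _ = _ := by rw [h2.eq]; group
    have kmW : Commute m W := by
      rw [hm]; exact (kAW.mul_left (kPW.pow_left _)).mul_left (kQW.pow_left _)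
    symm
    change g * m * S.φ b = S.φ b * (g * m)
    calc g * m * S.φ b = g * (m * S.φ b) := by group
      _ = (g * S.φ b) * m * W := by rw [e4]; group
      _ = S.φ b * g * (W * m) * W := by rw [e3]; group
      _ = S.φ b * (g * m) * (W * W) := by rw [← kmW.eq]; group
      _ = _ := by rw [hWW, mul_one]
  have hKc : ∀ k ∈ K, Commute (S.φ k) (g * m) := by
    rintro k (⟨hka, hkb, hkp, hkq⟩ | rfl | rfl)
    · have h1 := S.commφV h.ha hka
      have h2 := S.commφV h.hb hkb
      have h3 := S.commφV h.hp hkp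
      have h4 := S.commφV h.hq hkq
      rw [hg, hm]
      exact ((h2.mul_right h1).mul_right h2).mul_right ((h1.mul_right (h3.pow_right _)).mul_right (h4.pow_right _))
    · rw [hm]
      exact kga.symm.mul_right ((kAa.symm.mul_right (kPa.symm.pow_right _)).mul_right (kQa.symm.pow_right _))
    · exact khb
  have khP : Commute (g * m) (S.V p) := by
    rw [hm]
    exact (gc _ kAP kBP).mul_left ((kAP.mul_left ((Commute.refl _).pow_left _)).mul_left (kPQ.symm.pow_left _))
  have hpK : p ∈ K := Or.inl ⟨h.ap.symm, h.bp.symm, rfl, h.pq⟩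
  obtain ⟨l, hl, hl2⟩ := S.rigid' hh K hKc h.hp hpK h.hp khP (fun l hl => hl p hpK)
  have hl3 := h.cent l (fun k h1 h2 h3 h4 => hl k (Or.inl ⟨h1, h2, h3, h4⟩)) (hl a (Or.inr (Or.inl rfl)))
    (hl b (Or.inr (Or.inr rfl)))
  have key : S.V b * S.V a * S.V b * S.V a = S.φ l * (S.V p ^ (1 + n) * S.V q ^ (1 + n')) := by
    have c1 : Commute (S.V a) (S.V p ^ (1 + n) * S.V q ^ (1 + n')) := (kAP.pow_right _).mul_right (kAQ.pow_right _)
    calc S.V b * S.V a * S.V b * S.V a = g * S.V a := by rw [hg]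
      _ = g * (m * m) * S.V a := by rw [hmm1, mul_one]
      _ = (g * m) * (m * S.V a) := by group
      _ = S.φ l * (S.V a * (S.V p ^ (1 + n) * S.V q ^ (1 + n')) * S.V a) := by rw [hl2, hm]; group
      _ = S.φ l * ((S.V p ^ (1 + n) * S.V q ^ (1 + n')) * (S.V a * S.V a)) := by rw [c1.eq]; group
      _ = _ := by rw [hA, mul_one]
  rcases hl3 with rfl | rfl | rfl | rfl
  · exact ⟨0, 0, 1 + n, 1 + n', by rw [key, map_one, pow_zero, pow_zero]; group⟩
  · exact ⟨1, 0, 1 + n, 1 + n', by rw [key, pow_one, pow_zero]; group⟩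
  · exact ⟨0, 1, 1 + n, 1 + n', by rw [key, pow_one, pow_zero]; group⟩
  · exact ⟨1, 1, 1 + n, 1 + n', by rw [key, pow_one, pow_one, map_mul]; group⟩

end VSys

end Cfsg.Agent.F42.AllSys
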