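import Mathlib

/-!
# Automorphisms of a root parabolic `P = C_L(x_r)` of `F₄(2)` (abstract part)

`Data` lists the facts on the parabolic `P = Q . Sp₆(2)`, `Q = 2^{1+6+8}`, `W = Z(Q)`, `Q' = ⟨z⟩`.
`Data.exists_inner`: an automorphism preserving `Q` and acting on `W` as an element of `P` agrees, up to an
inner automorphism, with the identity on `Q`, and moves every element of `P` by an element of `W`.
-/

set_option autoImplicit false
set_option linter.unusedSectionVars false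

namespace Cfsg.Agent.F42.AutPar

variable {P : Type*} [Group P]

/-- Facts on the parabolic subgroup. -/
structure Data (Q W U : Subgroup P) (z x0 l0 g0 : P) {ι : Type*} (xs ys : ι → P) : Prop where
  W_le : W ≤ Q
  z_mem : z ∈ W
  z_sq : z * z = 1
  z_cent : ∀ g, g * z = z * g
  comm_W : ∀ w ∈ W, ∀ q ∈ Q, q * w = w * q
  Q_comm : ∀ x ∈ Q, ∀ y ∈ Q, x * y * x⁻¹ * y⁻¹ ∈ Subgroup.zpowers z
  Q_norm : ∀ g, ∀ x ∈ Q, g * x * g⁻¹ ∈ Q
  W_norm : ∀ g, ∀ w ∈ W, g * w * g⁻¹ ∈ W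
  cent_W : ∀ g, (∀ w ∈ W, g * w = w * g) → g ∈ Q
  cent_Q : ∀ g, (∀ q ∈ Q, g * q = q * g) → g ∈ W
  x0_mem : x0 ∈ Q
  x0_not : x0 ∉ W
  U_x0 : ∀ u ∈ U, u * x0 * u⁻¹ * x0⁻¹ ∈ W
  top_Q : ∀ x ∈ Q, (∀ u ∈ U, u * x * u⁻¹ * x⁻¹ ∈ W) → x ∈ W ∨ x * x0⁻¹ ∈ W
  gen_Q : Q ≤ Subgroup.closure ((W : Set P) ∪ {x | ∃ g, x = g * x0 * g⁻¹})
  top_W : ∀ w ∈ W, (∀ u ∈ U, u * w * u⁻¹ * w⁻¹ ∈ Subgroup.zpowers z) →
    w ∈ Subgroup.zpowers z ∨ w * l0⁻¹ ∈ Subgroup.zpowers z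
  g0_x0 : g0 * x0 * g0⁻¹ * x0⁻¹ ∈ W
  g0_l0 : g0 * l0 * g0⁻¹ * l0⁻¹ ∉ Subgroup.zpowers z
  xs_mem : ∀ i, xs i ∈ Q
  ys_mem : ∀ i, ys i ∈ Q
  gen_xs : Q ≤ Subgroup.closure ((W : Set P) ∪ Set.range xs)
  dual_self : ∀ i, ys i * xs i * (ys i)⁻¹ * (xs i)⁻¹ = z
  dual_ne : ∀ i j, i ≠ j → ys i * xs j * (ys i)⁻¹ * (xs j)⁻¹ = 1

namespace Data

variable {Q W U : Subgroup P} {z x0 l0 g0 : P} {ι : Type*} {xs ys : ι → P}
  (h : Data Q W U z x0 l0 g0 xs ys)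

include h

theorem zpowers_le : Subgroup.zpowers z ≤ W := by
  rw [Subgroup.zpowers_le]; exact h.z_mem

theorem mem_zpowers {c : P} (hc : c ∈ Subgroup.zpowers z) : c = 1 ∨ c = z := by
  obtain ⟨k, rfl⟩ := hc
  have hz2 : z ^ (2 : ℤ) = 1 := by
    rw [zpow_two]; exact h.z_sq
  rcases Int.even_or_odd' k with ⟨m, rfl | rfl⟩
  · left
    show z ^ (2 * m) = 1
    rw [zpow_mul, hz2, one_zpow]
  · right
    show z ^ (2 * m + 1) = z
    rw [zpow_add, zpow_mul, hz2, one_zpow, one_mul, zpow_one]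

theorem cent {c : P} (hc : c ∈ Subgroup.zpowers z) (g : P) : g * c = c * g := by
  rcases h.mem_zpowers hc with rfl | rfl
  · simp
  · exact h.z_cent g

theorem sq_of_mem {c : P} (hc : c ∈ Subgroup.zpowers z) : c * c = 1 := by
  rcases h.mem_zpowers hc with rfl | rfl
  · simp
  · exact h.z_sq

/-- Dual elements: every map `ι → {1, z}` is a commutator map. -/
theorem exists_dual [Finite ι] (f : ι → P) (hf : ∀ i, f i ∈ Subgroup.zpowers z) :
    ∃ q ∈ Q, ∀ i, q * xs i * q⁻¹ * (xs i)⁻¹ = f i := by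
  classical
  have := Fintype.ofFinite ι
  -- induction on a finset of indices
  have key : ∀ s : Finset ι, ∃ q ∈ Q, (∀ i ∈ s, q * xs i * q⁻¹ * (xs i)⁻¹ = f i) ∧
      ∀ i ∉ s, q * xs i * q⁻¹ * (xs i)⁻¹ = 1 := by
    intro s
    induction s using Finset.induction_on with
    | empty => exact ⟨1, Q.one_mem, by simp, by simp⟩
    | insert a s ha ih =>
      obtain ⟨q, hq, h1, h2⟩ := ih
      rcases h.mem_zpowers (hf a) with h3 | h3
      · refine ⟨q, hq, fun i hi => ?_, fun i hi => h2 i fun h' => hi (Finset.mem_insert_of_mem h')⟩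
        rcases Finset.mem_insert.1 hi with rfl | hi
        · rw [h2 i ha, h3]
        · exact h1 i hi
      · have e : ∀ i, ys a * q * xs i * (ys a * q)⁻¹ * (xs i)⁻¹ =
            (q * xs i * q⁻¹ * (xs i)⁻¹) * (ys a * xs i * (ys a)⁻¹ * (xs i)⁻¹) := by
          intro i
          have hc := h.Q_comm q hq (xs i) (h.xs_mem i)
          set c := q * xs i * q⁻¹ * (xs i)⁻¹ with hcdef
          have e1 : q * xs i * q⁻¹ = c * xs i := by rw [hcdef]; group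
          calc ys a * q * xs i * (ys a * q)⁻¹ * (xs i)⁻¹
              = ys a * (q * xs i * q⁻¹) * (ys a)⁻¹ * (xs i)⁻¹ := by group
            _ = ys a * (c * xs i) * (ys a)⁻¹ * (xs i)⁻¹ := by rw [e1]
            _ = (ys a * c) * xs i * (ys a)⁻¹ * (xs i)⁻¹ := by group
            _ = (c * ys a) * xs i * (ys a)⁻¹ * (xs i)⁻¹ := by rw [h.cent hc]
            _ = c * (ys a * xs i * (ys a)⁻¹ * (xs i)⁻¹) := by group
        refine ⟨ys a * q, Q.mul_mem (h.ys_mem a) hq, fun i hi => ?_, fun i hi => ?_⟩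
        · rw [e i]
          rcases Finset.mem_insert.1 hi with rfl | hi
          · rw [h2 i ha, h.dual_self, h3, one_mul]
          · have hne : a ≠ i := by rintro rfl; exact ha hi
            rw [h1 i hi, h.dual_ne a i hne, mul_one]
        · rw [e i]
          have hne : a ≠ i := by rintro rfl; exact hi (Finset.mem_insert_self _ _)
          rw [h2 i fun h' => hi (Finset.mem_insert_of_mem h'), h.dual_ne a i hne, mul_one]
  obtain ⟨q, hq, h1, -⟩ := key Finset.univ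
  exact ⟨q, hq, fun i => h1 i (Finset.mem_univ i)⟩

/-- An automorphism fixing `W` pointwise and preserving `Q`. -/
theorem exists_of_fix [Finite ι] (γ : MulAut P) (hQ : ∀ q ∈ Q, γ q ∈ Q) (hW : ∀ w ∈ W, γ w = w) :
    ∃ q0 ∈ Q, (∀ q ∈ Q, γ q = q0 * q * q0⁻¹) ∧ ∀ g, q0⁻¹ * γ g * q0 * g⁻¹ ∈ W := by
  -- (i)
  have h1 : ∀ g, γ g * g⁻¹ ∈ Q := by
    intro g
    have : g⁻¹ * γ g ∈ Q := by
      apply h.cent_W
      intro w hw
      have e1 : γ (g * w * g⁻¹) = g * w * g⁻¹ := hW _ (h.W_norm g w hw)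
      rw [map_mul, map_mul, map_inv, hW w hw] at e1
      calc g⁻¹ * γ g * w = g⁻¹ * (γ g * w * (γ g)⁻¹) * γ g := by group
        _ = g⁻¹ * (g * w * g⁻¹) * γ g := by rw [e1]
        _ = w * (g⁻¹ * γ g) := by group
    have h2 := h.Q_norm g _ this
    have e : g * (g⁻¹ * γ g) * g⁻¹ = γ g * g⁻¹ := by group
    rwa [e] at h2
  -- commutators with elements of Q
  have hcen : ∀ q ∈ Q, ∀ x ∈ Q, ∀ g, g * (q * x * q⁻¹ * x⁻¹) = (q * x * q⁻¹ * x⁻¹) * g :=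
    fun q hq x hx g => h.cent (h.Q_comm q hq x hx) g
  -- (iii)
  have h3 : γ x0 * x0⁻¹ ∈ W := by
    have hx := hQ x0 h.x0_mem
    have h4 : γ x0 ∈ W ∨ γ x0 * x0⁻¹ ∈ W := by
      apply h.top_Q _ hx
      intro u hu
      have h5 : γ (u * x0 * u⁻¹ * x0⁻¹) ∈ W := by
        rw [hW _ (h.U_x0 u hu)]; exact h.U_x0 u hu
      rw [map_mul, map_mul, map_mul, map_inv, map_inv] at h5
      set q := γ u * u⁻¹ with hq
      have hqQ : q ∈ Q := h1 u
      have hγu : γ u = q * u := by rw [hq]; group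
      have hx' : u * γ x0 * u⁻¹ ∈ Q := h.Q_norm u _ hx
      have e : γ u * γ x0 * (γ u)⁻¹ * (γ x0)⁻¹ =
          (q * (u * γ x0 * u⁻¹) * q⁻¹ * (u * γ x0 * u⁻¹)⁻¹) * (u * γ x0 * u⁻¹ * (γ x0)⁻¹) := by
        rw [hγu]; group
      rw [e] at h5
      have h6 := h.zpowers_le (h.Q_comm q hqQ _ hx')
      exact (Subgroup.mul_mem_cancel_left W h6).1 h5
    rcases h4 with h4 | h4
    · exfalso
      have h5 : γ (γ x0) = γ x0 := hW _ h4
      have h6 : γ x0 = x0 := γ.injective h5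
      rw [h6] at h4
      exact h.x0_not h4
    · exact h4
  -- (iv)
  have h4 : ∀ x ∈ Q, γ x * x⁻¹ ∈ W := by
    intro x hx
    have hmem := h.gen_Q hx
    have hstep : ∀ x ∈ Subgroup.closure ((W : Set P) ∪ {x | ∃ g, x = g * x0 * g⁻¹}),
        x ∈ Q ∧ γ x * x⁻¹ ∈ W := by
      intro x hx
      induction hx using Subgroup.closure_induction with
      | mem x hx =>
        rcases hx with hx | ⟨g, rfl⟩
        · refine ⟨h.W_le hx, ?_⟩
          rw [hW x hx, mul_inv_cancel]; exact W.one_mem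
        · refine ⟨h.Q_norm g _ h.x0_mem, ?_⟩
          set q := γ g * g⁻¹ with hq
          have hqQ : q ∈ Q := h1 g
          have hγg : γ g = q * g := by rw [hq]; group
          set w := γ x0 * x0⁻¹ with hw
          have hγx : γ x0 = w * x0 := by rw [hw]; group
          have hw' : g * w * g⁻¹ ∈ W := h.W_norm g w h3
          have e : γ (g * x0 * g⁻¹) * (g * x0 * g⁻¹)⁻¹ =
              (g * w * g⁻¹) * (q * (g * x0 * g⁻¹) * q⁻¹ * (g * x0 * g⁻¹)⁻¹) := by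
            rw [map_mul, map_mul, map_inv, hγg, hγx]
            have e2 := h.comm_W _ hw' q hqQ
            calc q * g * (w * x0) * (q * g)⁻¹ * (g * x0 * g⁻¹)⁻¹
                = (q * (g * w * g⁻¹)) * (g * x0 * g⁻¹) * q⁻¹ * (g * x0 * g⁻¹)⁻¹ := by group
              _ = ((g * w * g⁻¹) * q) * (g * x0 * g⁻¹) * q⁻¹ * (g * x0 * g⁻¹)⁻¹ := by rw [e2]
              _ = _ := by group
          rw [e]
          exact W.mul_mem hw' (h.zpowers_le (h.Q_comm q hqQ _ (h.Q_norm g _ h.x0_mem)))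
      | one => exact ⟨Q.one_mem, by rw [map_one]; simpa using W.one_mem⟩
      | mul x y _ _ hx hy =>
        refine ⟨Q.mul_mem hx.1 hy.1, ?_⟩
        have e : γ (x * y) * (x * y)⁻¹ = (γ x * x⁻¹) * (x * (γ y * y⁻¹) * x⁻¹) := by
          rw [map_mul]; group
        rw [e]
        exact W.mul_mem hx.2 (h.W_norm x _ hy.2)
      | inv x _ hx =>
        refine ⟨Q.inv_mem hx.1, ?_⟩
        have e : γ x⁻¹ * x⁻¹⁻¹ = x⁻¹ * (γ x * x⁻¹)⁻¹ * x⁻¹⁻¹ := by
          rw [map_inv]; group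
        rw [e]
        exact h.W_norm x⁻¹ _ (W.inv_mem hx.2)
    exact (hstep x hmem).2
  -- f is multiplicative on Q
  have hmul : ∀ x ∈ Q, ∀ y ∈ Q, γ (x * y) * (x * y)⁻¹ = (γ x * x⁻¹) * (γ y * y⁻¹) := by
    intro x hx y hy
    have e2 := h.comm_W _ (h4 y hy) x hx
    calc γ (x * y) * (x * y)⁻¹ = γ x * x⁻¹ * (x * (γ y * y⁻¹)) * x⁻¹ := by rw [map_mul]; group
      _ = γ x * x⁻¹ * ((γ y * y⁻¹) * x) * x⁻¹ := by rw [e2]
      _ = (γ x * x⁻¹) * (γ y * y⁻¹) := by group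
  -- (v)
  have h5 : ∀ g, ∀ x ∈ Q, ∃ c ∈ Subgroup.zpowers z,
      γ (g * x * g⁻¹) * (g * x * g⁻¹)⁻¹ = g * (γ x * x⁻¹) * g⁻¹ * c := by
    intro g x hx
    set q := γ g * g⁻¹ with hq
    have hqQ : q ∈ Q := h1 g
    have hγg : γ g = q * g := by rw [hq]; group
    set w := γ x * x⁻¹ with hw
    have hγx : γ x = w * x := by rw [hw]; group
    have hw' : g * w * g⁻¹ ∈ W := h.W_norm g w (h4 x hx)
    refine ⟨q * (g * x * g⁻¹) * q⁻¹ * (g * x * g⁻¹)⁻¹, h.Q_comm q hqQ _ (h.Q_norm g _ hx), ?_⟩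
    rw [map_mul, map_mul, map_inv, hγg, hγx]
    have e2 := h.comm_W _ hw' q hqQ
    calc q * g * (w * x) * (q * g)⁻¹ * (g * x * g⁻¹)⁻¹
        = (q * (g * w * g⁻¹)) * (g * x * g⁻¹) * q⁻¹ * (g * x * g⁻¹)⁻¹ := by group
      _ = ((g * w * g⁻¹) * q) * (g * x * g⁻¹) * q⁻¹ * (g * x * g⁻¹)⁻¹ := by rw [e2]
      _ = _ := by group
  -- elements fixing x0 mod W fix f x0 mod z
  have h6 : ∀ g, g * x0 * g⁻¹ * x0⁻¹ ∈ W →
      g * (γ x0 * x0⁻¹) * g⁻¹ * (γ x0 * x0⁻¹)⁻¹ ∈ Subgroup.zpowers z := by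
    intro g hg
    obtain ⟨c, hc, e⟩ := h5 g x0 h.x0_mem
    set w := g * x0 * g⁻¹ * x0⁻¹ with hw
    have e1 : g * x0 * g⁻¹ = w * x0 := by rw [hw]; group
    rw [e1, hmul w (h.W_le hg) x0 h.x0_mem, hW w hg, mul_inv_cancel, one_mul] at e
    set f0 := γ x0 * x0⁻¹ with hf0
    have e3 : g * f0 * g⁻¹ * f0⁻¹ = c⁻¹ := by
      have hcc := h.cent hc
      have e4 : f0 * c⁻¹ = g * f0 * g⁻¹ := by
        calc f0 * c⁻¹ = (g * f0 * g⁻¹ * c) * c⁻¹ := by rw [← e]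
          _ = g * f0 * g⁻¹ := by group
      rw [← e4]
      have hcc' := h.cent (Subgroup.inv_mem _ hc) f0
      rw [hcc']; group
    rw [e3]; exact Subgroup.inv_mem _ hc
  -- (vi)
  have h7 : γ x0 * x0⁻¹ ∈ Subgroup.zpowers z := by
    have h8 := h.top_W _ h3 fun u hu => h6 u (h.U_x0 u hu)
    rcases h8 with h8 | h8
    · exact h8
    · exfalso
      have h9 := h6 g0 h.g0_x0
      set f0 := γ x0 * x0⁻¹ with hf0
      set c := f0 * l0⁻¹ with hc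
      have e0 : f0 = c * l0 := by rw [hc]; group
      apply h.g0_l0
      have e1 : g0 * f0 * g0⁻¹ * f0⁻¹ = g0 * l0 * g0⁻¹ * l0⁻¹ := by
        rw [e0]
        have h10 := h.cent h8 g0
        calc g0 * (c * l0) * g0⁻¹ * (c * l0)⁻¹ = (g0 * c) * l0 * g0⁻¹ * l0⁻¹ * c⁻¹ := by group
          _ = (c * g0) * l0 * g0⁻¹ * l0⁻¹ * c⁻¹ := by rw [h10]
          _ = c * (g0 * l0 * g0⁻¹ * l0⁻¹) * c⁻¹ := by group
          _ = ((g0 * l0 * g0⁻¹ * l0⁻¹) * c) * c⁻¹ := by rw [h.cent h8]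
          _ = g0 * l0 * g0⁻¹ * l0⁻¹ := by group
      rwa [e1] at h9
  -- (vii)
  have h8 : ∀ x ∈ Q, γ x * x⁻¹ ∈ Subgroup.zpowers z := by
    intro x hx
    have hmem := h.gen_Q hx
    have hstep : ∀ x ∈ Subgroup.closure ((W : Set P) ∪ {x | ∃ g, x = g * x0 * g⁻¹}),
        x ∈ Q ∧ γ x * x⁻¹ ∈ Subgroup.zpowers z := by
      intro x hx
      induction hx using Subgroup.closure_induction with
      | mem x hx =>
        rcases hx with hx | ⟨g, rfl⟩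
        · refine ⟨h.W_le hx, ?_⟩
          rw [hW x hx, mul_inv_cancel]; exact Subgroup.one_mem _
        · refine ⟨h.Q_norm g _ h.x0_mem, ?_⟩
          obtain ⟨c, hc, e⟩ := h5 g x0 h.x0_mem
          rw [e, h.cent h7 g, mul_inv_cancel_right]
          exact Subgroup.mul_mem _ h7 hc
      | one => exact ⟨Q.one_mem, by rw [map_one]; simp⟩
      | mul x y _ _ hx hy =>
        refine ⟨Q.mul_mem hx.1 hy.1, ?_⟩
        rw [hmul x hx.1 y hy.1]
        exact Subgroup.mul_mem _ hx.2 hy.2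
      | inv x _ hx =>
        refine ⟨Q.inv_mem hx.1, ?_⟩
        have e : γ x⁻¹ * x⁻¹⁻¹ = x⁻¹ * (γ x * x⁻¹)⁻¹ * x⁻¹⁻¹ := by
          rw [map_inv]; group
        rw [e, h.cent (Subgroup.inv_mem _ hx.2), mul_inv_cancel_right]
        exact Subgroup.inv_mem _ hx.2
    exact (hstep x hmem).2
  -- (viii)
  obtain ⟨q0, hq0, hd⟩ := h.exists_dual (fun i => γ (xs i) * (xs i)⁻¹) fun i => h8 _ (h.xs_mem i)
  have h9 : ∀ x ∈ Q, γ x = q0 * x * q0⁻¹ := by
    intro x hx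
    have hstep : ∀ x ∈ Subgroup.closure ((W : Set P) ∪ Set.range xs), γ x = q0 * x * q0⁻¹ := by
      intro x hx
      induction hx using Subgroup.closure_induction with
      | mem x hx =>
        rcases hx with hx | ⟨i, rfl⟩
        · rw [hW x hx, h.comm_W x hx q0 hq0]; group
        · have e := hd i
          have e' : q0 * xs i * q0⁻¹ = (q0 * xs i * q0⁻¹ * (xs i)⁻¹) * xs i := by group
          rw [e', e]; group
      | one => simp
      | mul x y _ _ hx hy => rw [map_mul, hx, hy]; group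
      | inv x _ hx => rw [map_inv, hx]; group
    exact hstep x (h.gen_xs hx)
  refine ⟨q0, hq0, h9, fun g => ?_⟩
  -- last step
  have h10 : g⁻¹ * (q0⁻¹ * γ g * q0) ∈ W := by
    apply h.cent_Q
    intro q hq
    have e1 := h9 _ (h.Q_norm g q hq)
    rw [map_mul, map_mul, map_inv, h9 q hq] at e1
    calc g⁻¹ * (q0⁻¹ * γ g * q0) * q
        = g⁻¹ * q0⁻¹ * (γ g * (q0 * q * q0⁻¹) * (γ g)⁻¹) * γ g * q0 := by group
      _ = g⁻¹ * q0⁻¹ * (q0 * (g * q * g⁻¹) * q0⁻¹) * γ g * q0 := by rw [e1]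
      _ = q * (g⁻¹ * (q0⁻¹ * γ g * q0)) := by group
  have h11 := h.W_norm g _ h10
  have e : g * (g⁻¹ * (q0⁻¹ * γ g * q0)) * g⁻¹ = q0⁻¹ * γ g * q0 * g⁻¹ := by group
  rwa [e] at h11

/-- **Automorphism theorem, abstract part.** -/
theorem exists_inner [Finite ι] (α : MulAut P) (hQ : ∀ q ∈ Q, α q ∈ Q)
    (hW : ∃ p, ∀ w ∈ W, α w = p * w * p⁻¹) :
    ∃ p, (∀ q ∈ Q, α q = p * q * p⁻¹) ∧ ∀ g, p⁻¹ * α g * p * g⁻¹ ∈ W := by
  obtain ⟨p1, hp1⟩ := hW
  set γ : MulAut P := (MulAut.conj p1)⁻¹ * α with hγ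
  have hγa : ∀ g, γ g = p1⁻¹ * α g * p1 := by
    intro g
    rw [hγ, MulAut.mul_apply, MulAut.conj_inv_apply]
  obtain ⟨q0, hq0, h1, h2⟩ := h.exists_of_fix γ
    (fun q hq => by rw [hγa]; have := h.Q_norm p1⁻¹ _ (hQ q hq); rwa [inv_inv] at this)
    (fun w hw => by rw [hγa, hp1 w hw]; group)
  refine ⟨p1 * q0, fun q hq => ?_, fun g => ?_⟩
  · have e := h1 q hq
    rw [hγa] at e
    calc α q = p1 * (p1⁻¹ * α q * p1) * p1⁻¹ := by group
      _ = p1 * (q0 * q * q0⁻¹) * p1⁻¹ := by rw [e]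
      _ = p1 * q0 * q * (p1 * q0)⁻¹ := by group
  · have e := h2 g
    rw [hγa] at e
    have e' : (p1 * q0)⁻¹ * α g * (p1 * q0) * g⁻¹ = q0⁻¹ * (p1⁻¹ * α g * p1) * q0 * g⁻¹ := by group
    rw [e']; exact e

end Data

end Cfsg.Agent.F42.AutPar
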