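import Cfsg.Agent.F42.RedStd
import Cfsg.Agent.StandardComponent.CentCore

/-!
# The centralizer of the involution: `C_G(t) = ⟨t⟩ × A`, or this extended by a graph automorphism
-/

set_option autoImplicit false

namespace Cfsg.Agent.F42.Red

open Subgroup Cfsg.Agent.StdAlt.Conj Cfsg.Agent.StdAlt.Pairs Cfsg.Agent.StdAlt.First
open scoped Pointwise

variable {X G : Type*} [Group X] [Group G]

/-- a normal subgroup `K` of `C_G(t)` containing `t` with `4 ∤ |K|`, where `O(C_G(t)) = 1` -/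
theorem eq_one_or_eq [Finite G] {K : Subgroup G} {t : G} (ht : t ∈ K) (hto : orderOf t = 2)
    (hc : ∀ k ∈ K, k * t = t * k) (h4 : ¬ 4 ∣ Nat.card K) (hN : ∀ y, y * t = t * y → ∀ x ∈ K, y * x * y⁻¹ ∈ K)
    (hbal : Cfsg.centralizerPPrimeCore 2 t = ⊥) : ∀ k ∈ K, k = 1 ∨ k = t := by
  have htt : t * t = 1 := by rw [← sq, ← hto]; exact pow_orderOf_eq_one t
  set t' : K := ⟨t, ht⟩ with ht'
  have ho : orderOf t' = 2 := by rw [← hto, ← orderOf_coe]
  have h2 : 2 ∣ Nat.card K := ho ▸ orderOf_dvd_natCard t'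
  obtain ⟨m, hm⟩ := h2
  have hmo : Odd m := by
    rw [← Nat.not_even_iff_odd]
    rintro ⟨k, hk⟩
    exact h4 ⟨k, by rw [hm, hk]; ring⟩
  have hTc : ∀ x ∈ zpowers t', ∀ k : K, k * x = x * k := by
    rintro _ ⟨i, rfl⟩ k
    have h1 : Commute k t' := Subtype.ext (hc k k.2)
    exact (h1.zpow_right i).eq
  have hTn : (zpowers t').Normal := ⟨fun x hx k => by
    rw [hTc x hx k, mul_inv_cancel_right]; exact hx⟩
  have hTcard : Nat.card (zpowers t') = 2 := by rw [Nat.card_zpowers, ho]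
  have hidx : (zpowers t').index = m := by
    have := (zpowers t').card_mul_index
    rw [hTcard, hm] at this
    exact Nat.eq_of_mul_eq_mul_left (by norm_num) this
  obtain ⟨H, hH⟩ := exists_right_complement'_of_coprime (N := zpowers t') (by
    rw [hTcard, hidx]
    exact (Nat.coprime_two_left).2 hmo)
  have hHcard : Nat.card H = m := by rw [← hidx, hH.symm.index_eq_card]
  -- `H` is the set of elements with `k ^ m = 1`
  have hHm : ∀ x : K, x ∈ H ↔ x ^ m = 1 := by
    intro x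
    constructor
    · intro hx
      have := pow_card_eq_one' (x := (⟨x, hx⟩ : H))
      rw [hHcard] at this
      exact congrArg Subtype.val this
    · intro hx
      have h1 : x ∈ (zpowers t' ⊔ H : Subgroup K) := by rw [hH.sup_eq_top]; trivial
      have h3 : ((zpowers t' ⊔ H : Subgroup K) : Set K) = (zpowers t' : Set K) * (H : Set K) :=
        Subgroup.normal_mul _ _
      have h4 : x ∈ ((zpowers t' ⊔ H : Subgroup K) : Set K) := h1
      rw [h3] at h4
      obtain ⟨a, ha, b, hb, rfl⟩ := h4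
      have h5 : Commute a b := (hTc a ha b).symm
      have h6 : b ^ m = 1 := by
        have := pow_card_eq_one' (x := (⟨b, hb⟩ : H))
        rw [hHcard] at this
        exact congrArg Subtype.val this
      have h7 : a ^ 2 = 1 := by
        have := pow_card_eq_one' (x := (⟨a, ha⟩ : zpowers t'))
        rw [hTcard] at this
        exact congrArg Subtype.val this
      have h8 : a = 1 := by
        obtain ⟨n, hn⟩ := hmo
        have h9 := hx
        rw [h5.mul_pow, h6, mul_one, hn, pow_succ, pow_mul, h7, one_pow, one_mul] at h9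
        exact h9
      show a * b ∈ H
      rw [h8, one_mul]
      exact hb
  have hN1 : H.map K.subtype ≤ Cfsg.centralizerPPrimeCore 2 t := by
    apply Cfsg.Agent.StandardComponent.CentCore.le_core
    · rintro _ ⟨x, -, rfl⟩
      exact hc x x.2
    · rintro y hy _ ⟨x, hx, rfl⟩
      refine ⟨⟨y * x * y⁻¹, hN y hy x x.2⟩, ?_, rfl⟩
      have hx' := (hHm x).1 hx
      refine (hHm _).2 (Subtype.ext ?_)
      have h1 : (x : G) ^ m = 1 := congrArg Subtype.val hx'
      simp only [coe_pow, coe_one]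
      rw [conj_pow, h1, mul_one, mul_inv_cancel]
    · rw [card_map_of_injective K.subtype_injective, hHcard]
      exact hmo
  rw [hbal, le_bot_iff, map_eq_bot_iff_of_injective _ K.subtype_injective] at hN1
  have hm1 : m = 1 := by rw [← hHcard, hN1, card_bot]
  intro k hk
  have h1 : ((K : Set G)).ncard = 2 := by
    have : Nat.card K = ((K : Set G)).ncard := rfl
    rw [← this, hm, hm1]
  have ht1 : t ≠ 1 := by rintro rfl; rw [orderOf_one] at hto; exact absurd hto (by norm_num)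
  have h2 : ({1, t} : Set G) ⊆ (K : Set G) := by
    intro x hx
    rcases hx with rfl | rfl
    · exact one_mem K
    · exact ht
  have h3 := Set.eq_of_subset_of_ncard_le h2 (by rw [h1, Set.ncard_pair (Ne.symm ht1)]) (Set.toFinite _)
  have h4 : k ∈ ({1, t} : Set G) := by rw [h3]; exact hk
  simpa using h4

/-- a normalizing element can be changed by an element of `A` into one which normalizes `U` and either
centralizes `A` modulo `C(A)` or swaps -/
theorem inner_or_swap' [Finite X] (D : RedData X) (f : X →* G) (hf : Function.Injective f) {y : G}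
    (hy : y ∈ N f.range) :
    (∃ b : X, f b * y ∈ C f.range) ∨ ∃ a : X, (∀ u ∈ D.U, ∃ u' ∈ D.U, f a * y * f u * (f a * y)⁻¹ = f u') ∧
      f a * y * f D.s * (f a * y)⁻¹ = f D.l := by
  set ρ := act f hf ⟨y, hy⟩ with hρ
  have key : ∀ x, f (ρ x) = y * f x * y⁻¹ := f_act f hf ⟨y, hy⟩
  let US : Sylow 2 X := ⟨D.U, D.hU, fun {Q} hQ hUQ => D.max hQ hUQ⟩
  obtain ⟨g, hg⟩ := MulAction.exists_smul_eq X (ρ • US) US
  set α : MulAut X := MulAut.conj g * ρ with hα
  have hαx : ∀ x, α x = g * ρ x * g⁻¹ := fun x => by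
    rw [hα, MulAut.mul_apply, MulAut.conj_apply]
  have hαU : ∀ u ∈ D.U, α u ∈ D.U := by
    intro u hu
    have h1 : ρ u ∈ (ρ • US : Sylow 2 X) := ⟨u, hu, rfl⟩
    have h2 : g * ρ u * g⁻¹ ∈ (g • (ρ • US) : Sylow 2 X) := ⟨ρ u, h1, rfl⟩
    rw [hg] at h2
    rw [hαx]
    exact h2
  have key2 : ∀ x, f (α x) = f g * y * f x * (f g * y)⁻¹ := by
    intro x
    rw [hαx, map_mul, map_mul, map_inv, key]
    group
  rcases D.aut1 α hαU with h1 | h1
  · left
    obtain ⟨b, hb⟩ := D.aut2 α hαU h1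
    refine ⟨b⁻¹ * g, ?_⟩
    rw [mem_C]
    rintro _ ⟨x, rfl⟩
    have h3 := key2 x
    rw [hb, map_mul, map_mul, map_inv] at h3
    rw [map_mul, map_inv]
    calc (f b)⁻¹ * f g * y * f x = (f b)⁻¹ * (f g * y * f x * (f g * y)⁻¹) * (f g * y) := by group
      _ = f x * ((f b)⁻¹ * f g * y) := by rw [← h3]; group
  · right
    refine ⟨g, fun u hu => ⟨α u, hαU u hu, (key2 u).symm⟩, ?_⟩
    rw [← key2, h1]

/-- **The context**: `t` is an involution centralizing `A = f.range`, and either `C_G(t) = ⟨t⟩ × A`, or there is a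
2-element `y ∈ C_G(t)` normalizing `f(U)`, swapping `f(s)` and `f(l)`, with `C_G(t) = (⟨t⟩ × A) ∪ (⟨t⟩ × A) y`. -/
theorem exists_ctx [Finite G] [IsSimpleGroup G] [Finite X] [IsSimpleGroup X] (D : RedData X)
    (hbal : ∀ t : G, orderOf t = 2 → Cfsg.centralizerPPrimeCore 2 t = ⊥) (hcomm : CommHalf G)
    {A : Subgroup G} (hA : Cfsg.IsStandardSubgroup A) (f : X →* G)
    (hf : Function.Injective f) (hfA : f.range = A) :
    ∃ t : G, orderOf t = 2 ∧ t ∉ A ∧ (∀ a ∈ A, a * t = t * a) ∧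
      (∀ g, g * t = t * g → ∀ a ∈ A, g * a * g⁻¹ ∈ A) ∧
      ((∀ g, g * t = t * g → g ∈ A ∨ g * t ∈ A) ∨
        ∃ y, y * t = t * y ∧ (∃ n : ℕ, y ^ 2 ^ n = 1) ∧ (∀ u ∈ D.U, ∃ u' ∈ D.U, y * f u * y⁻¹ = f u') ∧
          y * f D.s * y⁻¹ = f D.l ∧ y * f D.l * y⁻¹ = f D.s ∧
          ∀ g, g * t = t * g → g ∈ A ∨ g * t ∈ A ∨ g * y⁻¹ ∈ A ∨ g * y⁻¹ * t ∈ A) := by
  have h4 := not_four_dvd D hA hcomm f hf hfA
  have hs : IsSimpleGroup A := by
    subst hfA
    exact (MulEquiv.isSimpleGroup_congr (MonoidHom.ofInjective hf)).1 inferInstance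
  have hTE : TE A := TE.of_standard hA hs
  obtain ⟨t0, ht0⟩ := exists_prime_orderOf_dvd_card' (G := ↥(C A)) 2 (even_iff_two_dvd.1 hA.2.1.1)
  set t : G := (t0 : G) with htdef
  have hto : orderOf t = 2 := by rw [htdef, orderOf_coe]; exact ht0
  have htC : t ∈ C A := t0.2
  have ht1 : t ≠ 1 := by
    intro h; rw [h, orderOf_one] at hto; exact absurd hto (by norm_num)
  have htt : t * t = 1 := by rw [← sq, ← hto]; exact pow_orderOf_eq_one t
  have hCN : ∀ g, g * t = t * g → g ∈ N A := fun g hg => hTE.nrm htC ht1 htt hg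
  have htA : t ∉ A := fun h => ht1 (hTE.disj t h htC)
  have hK : ∀ k, k ∈ C A → k * t = t * k → k = 1 ∨ k = t := by
    have h1 := eq_one_or_eq (K := C A ⊓ centralizer {t}) (t := t) ⟨htC, mem_cent.2 rfl⟩ hto
      (fun k hk => mem_cent.1 hk.2) (fun h => h4 (h.trans (card_dvd_of_le inf_le_left)))
      (fun y hy x hx => ⟨conj_mem_C (hCN y hy) hx.1, mem_cent.2 (by
        have e1 := mem_cent.1 hx.2
        have e2 : y⁻¹ * t = t * y⁻¹ := by
          rw [inv_mul_eq_iff_eq_mul, ← mul_assoc, hy, mul_inv_cancel_right]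
        calc y * x * y⁻¹ * t = y * x * (t * y⁻¹) := by rw [← e2]; group
          _ = y * (x * t) * y⁻¹ := by group
          _ = (y * t) * x * y⁻¹ := by rw [e1]; group
          _ = t * (y * x * y⁻¹) := by rw [hy]; group)⟩) (hbal t hto)
    exact fun k hk hkt => h1 k ⟨hk, mem_cent.2 hkt⟩
  have htA' : ∀ a ∈ A, a * t = t * a := fun a ha => (comm_of_C htC ha).symm
  refine ⟨t, hto, htA, htA', fun g hg a ha => conj_mem (hCN g hg) ha, ?_⟩
  -- inner elements of `C_G(t)`
  have hinn : ∀ g, g * t = t * g → (∃ b : X, f b * g ∈ C f.range) → g ∈ A ∨ g * t ∈ A := by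
    rintro g hg ⟨b, hb⟩
    rw [hfA] at hb
    have hbA : f b ∈ A := hfA ▸ ⟨b, rfl⟩
    have h1 : f b * g * t = t * (f b * g) := by
      rw [mul_assoc, hg, ← mul_assoc, htA' _ hbA, mul_assoc]
    rcases hK _ hb h1 with h2 | h2
    · left
      have : g = (f b)⁻¹ := (inv_eq_of_mul_eq_one_right h2).symm
      rw [this]; exact inv_mem hbA
    · right
      have : g * t = (f b)⁻¹ := by
        calc g * t = (f b)⁻¹ * (f b * g) * t := by group
          _ = (f b)⁻¹ * (t * t) := by rw [h2]; group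
          _ = (f b)⁻¹ := by rw [htt, mul_one]
      rw [this]; exact inv_mem hbA
  by_cases hall : ∀ g, g * t = t * g → ∃ b : X, f b * g ∈ C f.range
  · left
    exact fun g hg => hinn g hg (hall g hg)
  · right
    push Not at hall
    obtain ⟨y₀, hy₀, hy₀n⟩ := hall
    have hNf : ∀ g, g * t = t * g → g ∈ N f.range := fun g hg => by rw [hfA]; exact hCN g hg
    rcases inner_or_swap' D f hf (hNf y₀ hy₀) with ⟨b, hb⟩ | ⟨a, haU, has⟩
    · exact absurd hb (hy₀n b)
    -- the swapping element, made a 2-element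
    set y₁ := f a * y₀ with hy₁
    have haA : f a ∈ A := hfA ▸ ⟨a, rfl⟩
    have hy₁t : y₁ * t = t * y₁ := by
      rw [hy₁, mul_assoc, hy₀, ← mul_assoc, htA' _ haA, mul_assoc]
    -- two swaps differ by an inner element
    have hsw : ∀ g h, g * t = t * g → h * t = t * h →
        (∀ u ∈ D.U, ∃ u' ∈ D.U, g * f u * g⁻¹ = f u') → (∀ u ∈ D.U, ∃ u' ∈ D.U, h * f u * h⁻¹ = f u') →
        g * f D.s * g⁻¹ = f D.l → h * f D.s * h⁻¹ = f D.l → g * h⁻¹ ∈ A ∨ g * h⁻¹ * t ∈ A := by
      intro g h hg hh hgU hhU hgs hhs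
      have hgh : g * h⁻¹ * t = t * (g * h⁻¹) := by
        have e2 : h⁻¹ * t = t * h⁻¹ := by
          rw [inv_mul_eq_iff_eq_mul, ← mul_assoc, hh, mul_inv_cancel_right]
        rw [mul_assoc, e2, ← mul_assoc, hg, mul_assoc]
      apply hinn _ hgh
      have hN : g * h⁻¹ ∈ N f.range := hNf _ hgh
      have key : ∀ x, f (act f hf ⟨_, hN⟩ x) = g * h⁻¹ * f x * (g * h⁻¹)⁻¹ := f_act f hf ⟨_, hN⟩
      -- `h⁻¹` normalizes `f(U)`
      have hhU' : ∀ u ∈ D.U, ∃ u' ∈ D.U, h⁻¹ * f u * h = f u' := by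
        have hinj : Function.Injective (fun u : D.U => (⟨(hhU u u.2).choose, (hhU u u.2).choose_spec.1⟩ : D.U)) := by
          intro u v huv
          have e : (hhU u u.2).choose = (hhU v v.2).choose := congrArg Subtype.val huv
          have e1 := (hhU u u.2).choose_spec.2
          have e2 := (hhU v v.2).choose_spec.2
          rw [e, ← e2] at e1
          exact Subtype.ext (hf (mul_left_cancel (mul_right_cancel e1)))
        intro u hu
        obtain ⟨v, hv⟩ := (Finite.injective_iff_surjective.1 hinj) ⟨u, hu⟩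
        refine ⟨v, v.2, ?_⟩
        have e1 := (hhU v v.2).choose_spec.2
        have e2 : (hhU v v.2).choose = u := congrArg Subtype.val hv
        rw [e2] at e1
        rw [← e1]; group
      have hαU : ∀ u ∈ D.U, act f hf ⟨_, hN⟩ u ∈ D.U := by
        intro u hu
        obtain ⟨u', hu', e'⟩ := hhU' u hu
        obtain ⟨u'', hu'', e''⟩ := hgU u' hu'
        have : act f hf ⟨_, hN⟩ u = u'' := by
          apply hf
          rw [key, ← e'', ← e']; group
        rw [this]; exact hu''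
      have hαl : act f hf ⟨_, hN⟩ D.l = D.l := by
        apply hf
        rw [key]
        calc g * h⁻¹ * f D.l * (g * h⁻¹)⁻¹ = g * (h⁻¹ * f D.l * h) * g⁻¹ := by group
          _ = g * f D.s * g⁻¹ := by rw [← hhs]; group
          _ = f D.l := hgs
      have hαs : act f hf ⟨_, hN⟩ D.s = D.s := by
        rcases D.aut1 _ hαU with e | e
        · exact e
        · exfalso
          exact D.sl ((act f hf ⟨_, hN⟩).injective (e.trans hαl.symm))
      obtain ⟨b, hb⟩ := D.aut2 _ hαU hαs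
      refine ⟨b⁻¹, ?_⟩
      rw [mem_C]
      rintro _ ⟨x, rfl⟩
      have h3 := key x
      rw [hb, map_mul, map_mul, map_inv] at h3
      rw [map_inv]
      calc (f b)⁻¹ * (g * h⁻¹) * f x = (f b)⁻¹ * (g * h⁻¹ * f x * (g * h⁻¹)⁻¹) * (g * h⁻¹) := by group
        _ = f x * ((f b)⁻¹ * (g * h⁻¹)) := by rw [← h3]; group
    -- `y₁` maps `f l` to `f s`
    have hy₁l : y₁ * f D.l * y₁⁻¹ = f D.s := by
      have hN : y₁ ∈ N f.range := hNf _ hy₁t
      have key : ∀ x, f (act f hf ⟨_, hN⟩ x) = y₁ * f x * y₁⁻¹ := f_act f hf ⟨_, hN⟩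
      set α := act f hf ⟨_, hN⟩ with hα
      have hαU : ∀ u ∈ D.U, α u ∈ D.U := by
        intro u hu
        obtain ⟨u', hu', e'⟩ := haU u hu
        have : α u = u' := by
          apply hf
          rw [key, ← e']
        rw [this]; exact hu'
      have hαs : α D.s = D.l := hf (by rw [key]; exact has)
      have h1 : α D.l = D.s := by
        rcases D.aut1 (α * α) (fun u hu => hαU _ (hαU u hu)) with e | e
        · rw [MulAut.mul_apply, hαs] at e
          exact e
        · rw [MulAut.mul_apply, hαs] at e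
          exact absurd (α.injective (hαs.trans e.symm)) D.sl
      rw [← key, h1]
    have hpow : ∀ j : ℕ, (∀ u ∈ D.U, ∃ u' ∈ D.U, y₁ ^ (2 * j + 1) * f u * (y₁ ^ (2 * j + 1))⁻¹ = f u') ∧
        y₁ ^ (2 * j + 1) * f D.s * (y₁ ^ (2 * j + 1))⁻¹ = f D.l ∧
        y₁ ^ (2 * j + 1) * f D.l * (y₁ ^ (2 * j + 1))⁻¹ = f D.s := by
      intro j
      induction j with
      | zero => exact ⟨by simpa using haU, by simpa using has, by simpa using hy₁l⟩
      | succ j ih =>
        obtain ⟨i1, i2, i3⟩ := ih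
        have e : ∀ z : G, y₁ ^ (2 * (j + 1) + 1) * z * (y₁ ^ (2 * (j + 1) + 1))⁻¹ =
            y₁ * (y₁ * (y₁ ^ (2 * j + 1) * z * (y₁ ^ (2 * j + 1))⁻¹) * y₁⁻¹) * y₁⁻¹ := by
          intro z
          rw [show 2 * (j + 1) + 1 = 1 + (1 + (2 * j + 1)) by ring, pow_add, pow_add, pow_one]
          group
        refine ⟨fun u hu => ?_, ?_, ?_⟩
        · obtain ⟨u', hu', e'⟩ := i1 u hu
          obtain ⟨u'', hu'', e''⟩ := haU u' hu'
          obtain ⟨u3, hu3, e3⟩ := haU u'' hu''
          exact ⟨u3, hu3, by rw [e, e', e'', e3]⟩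
        · rw [e, i2, hy₁l, has]
        · rw [e, i3, has, hy₁l]
    -- the 2-part
    obtain ⟨k, m', hm', hord⟩ := Nat.exists_eq_two_pow_mul_odd (n := orderOf y₁) (orderOf_pos y₁).ne'
    obtain ⟨j, hj⟩ := hm'
    obtain ⟨p1, p2, p3⟩ := hpow j
    have hyt : y₁ ^ (2 * j + 1) * t = t * y₁ ^ (2 * j + 1) := by
      have : Commute y₁ t := hy₁t
      exact (this.pow_left _).eq
    refine ⟨y₁ ^ (2 * j + 1), hyt, ⟨k, ?_⟩, p1, p2, p3, ?_⟩
    · rw [← pow_mul, mul_comm, ← hj, ← hord, pow_orderOf_eq_one]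
    · intro g hg
      rcases inner_or_swap' D f hf (hNf g hg) with ⟨b, hb⟩ | ⟨b, hbU, hbs⟩
      · rcases hinn g hg ⟨b, hb⟩ with h | h
        · exact Or.inl h
        · exact Or.inr (Or.inl h)
      · have hbA : f b ∈ A := hfA ▸ ⟨b, rfl⟩
        have hbt : f b * g * t = t * (f b * g) := by
          rw [mul_assoc, hg, ← mul_assoc, htA' _ hbA, mul_assoc]
        rcases hsw (f b * g) (y₁ ^ (2 * j + 1)) hbt hyt hbU p1 hbs p2 with h | h
        · right; right; left
          have := mul_mem (inv_mem hbA) h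
          rwa [← mul_assoc, ← mul_assoc, inv_mul_cancel, one_mul] at this
        · right; right; right
          have := mul_mem (inv_mem hbA) h
          rwa [← mul_assoc, ← mul_assoc, ← mul_assoc, inv_mul_cancel, one_mul] at this

end Cfsg.Agent.F42.Red
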