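import Cfsg.Agent.F42.Std
import Cfsg.Agent.F42.RedCtx
import Cfsg.Agent.FourTwo.ClassSep
import Cfsg.Agent.FourTwo.Perf
import Cfsg.Agent.S1054

/-!
# From the context of the reduction to `Std`
-/

set_option autoImplicit false

namespace Cfsg.Agent.F42.Ctx

open Cfsg.Agent.FourTwo Cfsg.Agent.FourTwo.Base Cfsg.Agent.FourTwo.BN

theorem root_iv : ((List.range 48).all fun r => decide (ClassSep.iv [r] = (6, 10)) ||
    decide (ClassSep.iv [r] = (10, 6))) = true := by decide +kernel

/-- every root element is conjugate to `x 44` or to `x 47`. -/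
theorem root_class {r : ℕ} (hr : r < 48) : (∃ y : LL, y * x r * y⁻¹ = x 44) ∨ ∃ y : LL, y * x r * y⁻¹ = x 47 := by
  have h := root_iv
  rw [List.all_eq_true] at h
  have h1 := h r (List.mem_range.2 hr)
  simp only [Bool.or_eq_true, decide_eq_true_eq] at h1
  have h2 := ClassSep.conj_of_rk2 (x_mul_self r) (x_ne_one hr)
  have h3 : ClassSep.rk2 (x r) = ClassSep.iv [r] := by
    rw [← ClassSep.rk2_wd [r] (by simpa using hr), wd_one]
  rw [h3] at h2
  rcases h1 with h1 | h1
  · exact Or.inl (h2.1 h1)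
  · exact Or.inr (h2.2.1 h1)

theorem not_conj (y : LL) : y * x 44 * y⁻¹ ≠ x 47 := by
  intro h
  have h1 := ClassSep.rk2_conj y (x 44)
  rw [h, ClassSep.rk2_44, ClassSep.rk2_47] at h1
  exact absurd h1 (by decide)

theorem not_conj' (y : LL) : y * x 47 * y⁻¹ ≠ x 44 := by
  intro h
  have h1 := ClassSep.rk2_conj y (x 47)
  rw [h, ClassSep.rk2_44, ClassSep.rk2_47] at h1
  exact absurd h1 (by decide)

theorem center_trivial (b : LL) (h : ∀ u : LL, b * u = u * b) : b = 1 := by
  have hs : IsSimpleGroup LL := (Cfsg.Agent.S1054.result Cfsg.Lie.chevF4 (by simp)).1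
  have hc : Subgroup.center LL = ⊥ := by
    rcases (inferInstance : (Subgroup.center LL).Normal).eq_bot_or_eq_top with h1 | h1
    · exact h1
    · exfalso
      have h2 : x 44 ∈ Subgroup.center LL := h1 ▸ Subgroup.mem_top _
      have h3 : x 3 ∈ Subgroup.center LL := h1 ▸ Subgroup.mem_top _
      have h4 := Subgroup.mem_center_iff.1 h2 (n 0)
      have h5 := n_conj (i := 0) (r := 44) (by omega) (by omega)
      rw [h4, mul_inv_cancel_right] at h5
      have h6 := x_inj (r := 44) (s := ChevalleyStructure.TwF4.Rel.refl 0 44) (by omega) (by decide) h5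
      exact absurd h6 (by decide)
  have h7 : b ∈ Subgroup.center LL := Subgroup.mem_center_iff.2 fun g => (h g).symm
  rw [hc] at h7
  exact Subgroup.mem_bot.1 h7

/-- a graph-type element of `C_G(t)` -/
structure IsOuter {G : Type*} [Group G] (S : Std G) (y : G) : Prop where
  ct : y * S.t = S.t * y
  two : ∃ n : ℕ, y ^ 2 ^ n = 1
  nU : ∀ u ∈ U, ∃ u' ∈ U, y * S.φ u * y⁻¹ = S.φ u'
  s44 : y * S.φ (x 44) * y⁻¹ = S.φ (x 47)
  s47 : y * S.φ (x 47) * y⁻¹ = S.φ (x 44)
  cov : ∀ g, g * S.t = S.t * g → (∃ l, g = S.φ l ∨ g = S.t * S.φ l) ∨ ∃ l, g = S.φ l * y ∨ g = S.t * S.φ l * y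

/-- `C_G(t)` normalises `L`. -/
def Nrm {G : Type*} [Group G] (S : Std G) : Prop := ∀ g, g * S.t = S.t * g → ∀ l, ∃ l', g * S.φ l * g⁻¹ = S.φ l'

/-- `C_G(⟨t⟩ × L) = ⟨t⟩`. -/
def Cen {G : Type*} [Group G] (S : Std G) : Prop :=
  ∀ g, g * S.t = S.t * g → (∀ l, g * S.φ l = S.φ l * g) → g = 1 ∨ g = S.t

/-- no outer element centralises a root element. -/
theorem outer_root {G : Type*} [Group G] {φ : LL →* G} (hφ : Function.Injective φ) {y : G}
    (hn : ∀ l, ∃ l', y * φ l * y⁻¹ = φ l') (h44 : y * φ (x 44) * y⁻¹ = φ (x 47))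
    (h47 : y * φ (x 47) * y⁻¹ = φ (x 44)) (b : LL) {r : ℕ} (hr : r < 48)
    (h : φ b * y * φ (x r) = φ (x r) * (φ b * y)) : False := by
  have key : ∀ a c : ℕ, y * φ (x a) * y⁻¹ = φ (x c) → (∃ m : LL, m * x r * m⁻¹ = x a) →
      ∃ m' : LL, m' * x a * m'⁻¹ = x c := by
    rintro a c hac ⟨m, hm⟩
    obtain ⟨m', hm'⟩ := hn m
    refine ⟨m' * b⁻¹ * m⁻¹, ?_⟩
    apply hφ
    have e0 : x r = m⁻¹ * x a * m := by rw [← hm]; group
    have e1 : y * φ (x r) * y⁻¹ = φ (b⁻¹ * x r * b) := by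
      have h2 : φ b * (y * φ (x r) * y⁻¹) * (φ b)⁻¹ = φ (x r) := by
        calc φ b * (y * φ (x r) * y⁻¹) * (φ b)⁻¹ = φ b * y * φ (x r) * (φ b * y)⁻¹ := by group
          _ = φ (x r) * (φ b * y) * (φ b * y)⁻¹ := by rw [h]
          _ = φ (x r) := by group
      calc y * φ (x r) * y⁻¹ = (φ b)⁻¹ * (φ b * (y * φ (x r) * y⁻¹) * (φ b)⁻¹) * φ b := by group
        _ = (φ b)⁻¹ * φ (x r) * φ b := by rw [h2]
        _ = _ := by rw [map_mul, map_mul, map_inv]
    have e2 : φ (x c) = φ m' * φ (b⁻¹ * x r * b) * (φ m')⁻¹ := by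
      rw [← hac, ← e1, ← hm', ← hm, map_mul, map_mul, map_inv]
      group
    rw [e2, e0]
    simp only [map_mul, map_inv]
    group
  rcases root_class hr with h1 | h1
  · obtain ⟨m', hm'⟩ := key 44 47 h44 h1
    exact not_conj m' hm'
  · obtain ⟨m', hm'⟩ := key 47 44 h47 h1
    exact not_conj' m' hm'

/-- From the context of the reduction. -/
theorem exists_std {G : Type*} [Group G] [Finite G] [IsSimpleGroup G] (D : Red.RedData LL) (hU : D.U = U)
    (hs : D.s = x 44) (hl : D.l = x 47)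
    (hbal : ∀ t : G, orderOf t = 2 → Cfsg.centralizerPPrimeCore 2 t = ⊥) (hcomm : StdAlt.First.CommHalf G)
    {A : Subgroup G} (hA : Cfsg.IsStandardSubgroup A) (f : LL →* G) (hf : Function.Injective f) (hfA : f.range = A) :
    ∃ S : Std G, Nrm S ∧ Cen S ∧ (S.E1 ∨ ∃ y, IsOuter S y) := by
  have hsimple : IsSimpleGroup LL := (Cfsg.Agent.S1054.result Cfsg.Lie.chevF4 (by simp)).1
  obtain ⟨t, hto, htA, hcA, hnA, h⟩ := Red.exists_ctx D hbal hcomm hA f hf hfA
  have htt : t * t = 1 := by rw [← sq, ← hto]; exact pow_orderOf_eq_one t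
  have ht1 : t ≠ 1 := by
    rintro rfl
    rw [orderOf_one] at hto
    exact absurd hto (by norm_num)
  have hmem : ∀ g, g ∈ A ↔ ∃ l, f l = g := fun g => by rw [← hfA]; exact MonoidHom.mem_range
  have htc : ∀ l, t * f l = f l * t := fun l => (hcA (f l) ((hmem _).2 ⟨l, rfl⟩)).symm
  have htf : ∀ g, g * t ∈ A → ∃ l, g = t * f l := by
    intro g hg
    obtain ⟨l, hl⟩ := (hmem _).1 hg
    refine ⟨l, ?_⟩
    rw [htc, hl, mul_assoc, htt, mul_one]
  have hnorm : ∀ g, g * t = t * g → ∀ l, ∃ l', g * f l * g⁻¹ = f l' := by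
    intro g hg l
    obtain ⟨l', hl'⟩ := (hmem _).1 (hnA g hg (f l) ((hmem _).2 ⟨l, rfl⟩))
    exact ⟨l', hl'.symm⟩
  rcases h with h | ⟨y, hyt, hy2, hyU, hys, hyl, hcov⟩
  · have hE : ∀ g, g * t = t * g → ∃ l, g = f l ∨ g = t * f l := by
      intro g hg
      rcases h g hg with h1 | h1
      · obtain ⟨l, hl⟩ := (hmem _).1 h1
        exact ⟨l, Or.inl hl.symm⟩
      · obtain ⟨l, hl⟩ := htf g h1
        exact ⟨l, Or.inr hl⟩
    refine ⟨⟨f, hf, t, htt, htc, fun l hl => htA ((hmem _).2 ⟨l, hl.symm⟩), fun g hg _ _ _ => hE g hg⟩,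
      hnorm, ?_, Or.inl hE⟩
    intro g hg hgl
    obtain ⟨l, hl⟩ := hE g hg
    have h3 : l = 1 := by
      apply center_trivial
      intro u
      apply hf
      have h4 := hgl u
      change g * f u = f u * g at h4
      rcases hl with rfl | rfl
      · rw [map_mul, map_mul]
        exact h4
      · rw [← mul_assoc, ← htc, mul_assoc, mul_assoc] at h4
        rw [map_mul, map_mul]
        exact mul_left_cancel h4
    rw [h3, map_one, mul_one] at hl
    exact hl
  · rw [hs, hl] at hys hyl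
    have hcov' : ∀ g, g * t = t * g → (∃ l, g = f l ∨ g = t * f l) ∨ ∃ l, g = f l * y ∨ g = t * f l * y := by
      intro g hg
      rcases hcov g hg with h1 | h1 | h1 | h1
      · obtain ⟨l, hl⟩ := (hmem _).1 h1
        exact Or.inl ⟨l, Or.inl hl.symm⟩
      · obtain ⟨l, hl⟩ := htf g h1
        exact Or.inl ⟨l, Or.inr hl⟩
      · obtain ⟨l, hl⟩ := (hmem _).1 h1
        exact Or.inr ⟨l, Or.inl (by rw [hl, inv_mul_cancel_right])⟩
      · obtain ⟨l, hl⟩ := htf (g * y⁻¹) h1
        exact Or.inr ⟨l, Or.inr (by rw [← hl, inv_mul_cancel_right])⟩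
    have hroot : ∀ g, g * t = t * g → ∀ r < 48, g * f (x r) = f (x r) * g → ∃ l, g = f l ∨ g = t * f l := by
      intro g hg r hr hgr
      rcases hcov' g hg with h1 | ⟨l, h1 | h1⟩
      · exact h1
      · exfalso
        rw [h1] at hgr
        exact outer_root hf (hnorm y hyt) hys hyl l hr hgr
      · exfalso
        rw [h1] at hgr
        refine outer_root hf (hnorm y hyt) hys hyl l hr ?_
        have h2 : t * (f l * y * f (x r)) = t * (f (x r) * (f l * y)) := by
          calc t * (f l * y * f (x r)) = t * f l * y * f (x r) := by simp only [mul_assoc]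
            _ = f (x r) * (t * f l * y) := hgr
            _ = (f (x r) * t) * f l * y := by simp only [mul_assoc]
            _ = (t * f (x r)) * f l * y := by rw [htc]
            _ = _ := by simp only [mul_assoc]
        exact mul_left_cancel h2
    refine ⟨⟨f, hf, t, htt, htc, fun l hl => htA ((hmem _).2 ⟨l, hl.symm⟩), hroot⟩, hnorm, ?_,
      Or.inr ⟨y, hyt, hy2, ?_, hys, hyl, hcov'⟩⟩
    · intro g hg hgl
      change g * t = t * g at hg
      change ∀ l, g * f l = f l * g at hgl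
      obtain ⟨l, hl⟩ := hroot g hg 44 (by omega) (hgl _)
      have h3 : l = 1 := by
        apply center_trivial
        intro u
        apply hf
        have h4 := hgl u
        rcases hl with rfl | rfl
        · rw [map_mul, map_mul]
          exact h4
        · rw [← mul_assoc, ← htc, mul_assoc, mul_assoc] at h4
          rw [map_mul, map_mul]
          exact mul_left_cancel h4
      rw [h3, map_one, mul_one] at hl
      exact hl
    · intro u hu
      rw [hU] at hyU
      exact hyU u hu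

end Cfsg.Agent.F42.Ctx
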