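import Cfsg.Agent.F42.Std
import Cfsg.Agent.FourTwo.Facts2
import Cfsg.Agent.FourTwo.Perf

/-!
# `D ∩ L`

If `C_G(t)/L` is abelian, `t` is not conjugate to an involution `z` of `L` with `z ∈ [C_L(z), C_L(z)]`,
in particular not to `x 44`, `x 47`, `x 47 * x 44`.
-/

set_option autoImplicit false

namespace Cfsg.Agent.F42.DL

open Cfsg.Agent.FourTwo Cfsg.Agent.FourTwo.Base

variable {G : Type*} [Group G] (S : Std G)

/-- commutators of `C_G(t)` lie in `L` -/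
def Ab : Prop := ∀ a b, a * S.t = S.t * a → b * S.t = S.t * b → ∃ l, a * b * a⁻¹ * b⁻¹ = S.φ l

theorem ne_of_mem {S : Std G} (h : Ab S) {z : LL}
    (hz : z ∈ ⁅Subgroup.centralizer ({z} : Set LL), Subgroup.centralizer ({z} : Set LL)⁆) (g : G) :
    g * S.t * g⁻¹ ≠ S.φ z := by
  intro hg
  have key : ⁅Subgroup.centralizer ({z} : Set LL), Subgroup.centralizer ({z} : Set LL)⁆ ≤
      S.φ.range.comap ((MulAut.conj g⁻¹).toMonoidHom.comp S.φ) := by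
    rw [Subgroup.commutator_le]
    intro a ha b hb
    rw [Subgroup.mem_centralizer_singleton_iff] at ha hb
    have hM : ∀ c : LL, c * z = z * c → g⁻¹ * S.φ c * g * S.t = S.t * (g⁻¹ * S.φ c * g) := by
      intro c hc
      have e : S.φ c * S.φ z = S.φ z * S.φ c := by rw [← map_mul, hc, map_mul]
      rw [← hg] at e
      calc g⁻¹ * S.φ c * g * S.t = g⁻¹ * (S.φ c * (g * S.t * g⁻¹)) * g := by group
        _ = g⁻¹ * (g * S.t * g⁻¹ * S.φ c) * g := by rw [e]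
        _ = _ := by group
    obtain ⟨l, hl⟩ := h _ _ (hM a ha) (hM b hb)
    refine ⟨l, ?_⟩
    rw [← hl]
    change _ = g⁻¹ * S.φ (a * b * a⁻¹ * b⁻¹) * g⁻¹⁻¹
    rw [map_mul, map_mul, map_mul, map_inv, map_inv]
    group
  obtain ⟨l, hl⟩ := key hz
  apply S.tne l
  rw [hl]
  change S.t = g⁻¹ * S.φ z * g⁻¹⁻¹
  rw [← hg]
  group

theorem ne_44 {S : Std G} (h : Ab S) (g : G) : g * S.t * g⁻¹ ≠ S.φ (x 44) := by
  apply ne_of_mem h
  rw [Cent.cent_short, Perf.perfect_Ps]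
  exact Facts2.U_le_Ps (BN.x_mem_U (by norm_num) (by norm_num))

theorem ne_47 {S : Std G} (h : Ab S) (g : G) : g * S.t * g⁻¹ ≠ S.φ (x 47) := by
  apply ne_of_mem h
  rw [Cent.cent_long, Perf.perfect_Pl]
  exact Facts2.U_le_Pl (BN.x_mem_U (by norm_num) (by norm_num))

theorem ne_c' {S : Std G} (h : Ab S) (g : G) : g * S.t * g⁻¹ ≠ S.φ (x 44 * x 47) :=
  ne_of_mem h Facts2.mid_mem_commutator g

theorem comm_4744 : x 47 * x 44 = x 44 * x 47 :=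
  (Facts2.central44 (BN.x_mem_U (by norm_num) (by norm_num)))

theorem ne_c {S : Std G} (h : Ab S) (g : G) : g * S.t * g⁻¹ ≠ S.φ (x 47 * x 44) := by
  rw [comm_4744]
  exact ne_c' h g

/-- `E1` implies that `C_G(t)/L` is abelian -/
theorem ab_of_E1 {S : Std G} (h : S.E1) : Ab S := by
  intro a b ha hb
  obtain ⟨l, hl⟩ := h a ha
  obtain ⟨m, hm⟩ := h b hb
  have ht : ∀ c : LL, S.t * S.φ c * S.t⁻¹ = S.φ c := fun c => by rw [S.comm, mul_inv_cancel_right]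
  have key : ∀ a' b', (a' = S.φ l ∨ a' = S.t * S.φ l) → (b' = S.φ m ∨ b' = S.t * S.φ m) →
      a' * b' * a'⁻¹ * b'⁻¹ = S.φ (l * m * l⁻¹ * m⁻¹) := by
    have hc := S.comm
    have h1 : ∀ c, Commute S.t (S.φ c) := hc
    have e : S.φ (l * m * l⁻¹ * m⁻¹) = S.φ l * S.φ m * (S.φ l)⁻¹ * (S.φ m)⁻¹ := by
      rw [map_mul, map_mul, map_mul, map_inv, map_inv]
    rintro a' b' (rfl | rfl) (rfl | rfl)
    · exact e.symm
    · rw [e]
      calc S.φ l * (S.t * S.φ m) * (S.φ l)⁻¹ * (S.t * S.φ m)⁻¹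
          = (S.φ l * S.t) * (S.φ m * (S.φ l)⁻¹ * (S.φ m)⁻¹) * S.t⁻¹ := by group
        _ = S.t * (S.φ l * S.φ m * (S.φ l)⁻¹ * (S.φ m)⁻¹) * S.t⁻¹ := by rw [← hc]; group
        _ = _ := by rw [← e, ht]
    · rw [e]
      calc S.t * S.φ l * S.φ m * (S.t * S.φ l)⁻¹ * (S.φ m)⁻¹
          = S.t * (S.φ l * S.φ m * (S.φ l)⁻¹) * S.t⁻¹ * (S.φ m)⁻¹ := by group
        _ = S.t * S.φ (l * m * l⁻¹) * S.t⁻¹ * (S.φ m)⁻¹ := by rw [map_mul, map_mul, map_inv]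
        _ = S.φ (l * m * l⁻¹) * (S.φ m)⁻¹ := by rw [ht]
        _ = _ := by rw [map_mul, map_mul, map_inv]
    · rw [e]
      calc S.t * S.φ l * (S.t * S.φ m) * (S.t * S.φ l)⁻¹ * (S.t * S.φ m)⁻¹
          = S.t * (S.φ l * S.t) * (S.φ m * (S.φ l)⁻¹) * S.t⁻¹ * ((S.φ m)⁻¹ * S.t⁻¹) := by group
        _ = S.t * (S.t * (S.φ l * (S.φ m * (S.φ l)⁻¹)) * S.t⁻¹) * ((S.φ m)⁻¹ * S.t⁻¹) := by rw [← hc]; group
        _ = S.t * (S.t * S.φ (l * (m * l⁻¹)) * S.t⁻¹) * ((S.φ m)⁻¹ * S.t⁻¹) := by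
            rw [map_mul, map_mul, map_inv]
        _ = S.t * (S.φ (l * (m * l⁻¹)) * (S.φ m)⁻¹) * S.t⁻¹ := by rw [ht]; group
        _ = S.t * S.φ (l * (m * l⁻¹) * m⁻¹) * S.t⁻¹ := by rw [map_mul _ _ m⁻¹, map_inv]
        _ = S.φ (l * (m * l⁻¹) * m⁻¹) := ht _
        _ = _ := by rw [map_mul, map_mul, map_mul, map_inv, map_inv]; group
  exact ⟨_, key a b hl hm⟩

end Cfsg.Agent.F42.DL
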