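import Mathlib

/-!
# Extension of a subgroup by an element whose square lies in it
-/

set_option autoImplicit false

namespace Cfsg.Agent.F42.ExtTwo

open Subgroup

variable {G : Type*} [Group G]

/-- `K` together with `w`. -/
def ext (K : Subgroup G) (w : G) : Subgroup G := K ⊔ zpowers w

theorem le_ext (K : Subgroup G) (w : G) : K ≤ ext K w := le_sup_left

theorem self_mem_ext (K : Subgroup G) (w : G) : w ∈ ext K w :=
  (le_sup_right : zpowers w ≤ ext K w) (mem_zpowers w)

theorem ext_le {K M : Subgroup G} {w : G} (h : K ≤ M) (hw : w ∈ M) : ext K w ≤ M :=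
  sup_le h (zpowers_le.2 hw)

theorem inv_conj_mem {K : Subgroup G} {w : G} (hn : ∀ c ∈ K, w * c * w⁻¹ ∈ K) (hw : w * w ∈ K) {c : G}
    (hc : c ∈ K) : w⁻¹ * c * w ∈ K := by
  have e : w⁻¹ * c * w = (w * w)⁻¹ * (w * c * w⁻¹) * (w * w) := by group
  rw [e]
  exact mul_mem (mul_mem (inv_mem hw) (hn c hc)) hw

theorem mem_ext {K : Subgroup G} {w : G} (hn : ∀ c ∈ K, w * c * w⁻¹ ∈ K) (hw : w * w ∈ K) {c : G} :
    c ∈ ext K w ↔ c ∈ K ∨ w * c ∈ K := by
  constructor
  · let E : Subgroup G :=
      { carrier := {c | c ∈ K ∨ w * c ∈ K}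
        one_mem' := Or.inl (one_mem _)
        mul_mem' := by
          rintro a b (ha | ha) (hb | hb)
          · exact Or.inl (mul_mem ha hb)
          · refine Or.inr ?_
            have := mul_mem (hn a ha) hb
            have e : w * a * w⁻¹ * (w * b) = w * (a * b) := by group
            rwa [e] at this
          · refine Or.inr ?_
            rw [← mul_assoc]
            exact mul_mem ha hb
          · refine Or.inl ?_
            have h1 := inv_conj_mem hn hw ha
            have := mul_mem (mul_mem h1 (inv_mem hw)) hb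
            have e : w⁻¹ * (w * a) * w * (w * w)⁻¹ * (w * b) = a * b := by group
            rwa [e] at this
        inv_mem' := by
          rintro a (ha | ha)
          · exact Or.inl (inv_mem ha)
          · refine Or.inr ?_
            have := mul_mem (hn _ (inv_mem ha)) hw
            have e : w * (w * a)⁻¹ * w⁻¹ * (w * w) = w * a⁻¹ := by group
            rwa [e] at this }
    intro h
    have hle : ext K w ≤ E := ext_le (fun c hc => Or.inl hc) (Or.inr hw)
    exact hle h
  · rintro (h | h)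
    · exact le_ext K w h
    · have := mul_mem (inv_mem (self_mem_ext K w)) (le_ext K w h)
      rwa [inv_mul_cancel_left] at this

theorem relIndex_ext {K : Subgroup G} {w : G} (hn : ∀ c ∈ K, w * c * w⁻¹ ∈ K) (hw : w * w ∈ K)
    (hwK : w ∉ K) : K.relIndex (ext K w) = 2 := by
  rw [relIndex, index_eq_two_iff]
  refine ⟨⟨w⁻¹, inv_mem (self_mem_ext K w)⟩, fun b => ?_⟩
  rw [mem_subgroupOf, mem_subgroupOf]
  change Xor ((b : G) * w⁻¹ ∈ K) ((b : G) ∈ K)
  rcases (mem_ext hn hw).1 b.2 with h | h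
  · refine Or.inr ⟨h, fun h' => hwK ?_⟩
    have := mul_mem (inv_mem h') h
    have e : ((b : G) * w⁻¹)⁻¹ * b = w := by group
    rwa [e] at this
  · refine Or.inl ⟨?_, fun h' => hwK ?_⟩
    · have := mul_mem (inv_conj_mem hn hw h) (inv_mem hw)
      have e : w⁻¹ * (w * (b : G)) * w * (w * w)⁻¹ = b * w⁻¹ := by group
      rwa [e] at this
    · have := mul_mem h (inv_mem h')
      rwa [mul_inv_cancel_right] at this

theorem isPGroup_ext {K : Subgroup G} {w : G} (hn : ∀ c ∈ K, w * c * w⁻¹ ∈ K) (hw : w * w ∈ K)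
    (hK : IsPGroup 2 K) : IsPGroup 2 (ext K w) := by
  rintro ⟨c, hc⟩
  have h2 : c * c ∈ K := by
    rcases (mem_ext hn hw).1 hc with h | h
    · exact mul_mem h h
    · have := mul_mem (mul_mem (inv_conj_mem hn hw h) (inv_mem hw)) h
      have e : w⁻¹ * (w * c) * w * (w * w)⁻¹ * (w * c) = c * c := by group
      rwa [e] at this
  obtain ⟨k, hk⟩ := hK ⟨c * c, h2⟩
  refine ⟨k + 1, Subtype.ext ?_⟩
  have := congrArg Subtype.val hk
  change (c * c) ^ 2 ^ k = 1 at this
  change c ^ 2 ^ (k + 1) = 1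
  rw [pow_succ', pow_mul, pow_two, this]

/-- conjugation by an element commuting with `w` preserves `ext K w` -/
theorem ext_conj {K : Subgroup G} {w v : G} (hv : ∀ c ∈ K, v * c * v⁻¹ ∈ K) (hvw : v * w * v⁻¹ = w) :
    ∀ c ∈ ext K w, v * c * v⁻¹ ∈ ext K w := by
  have h : (ext K w).map (MulAut.conj v).toMonoidHom ≤ ext K w := by
    unfold ext
    rw [Subgroup.map_sup]
    refine sup_le ?_ ?_
    · rintro _ ⟨c, hc, rfl⟩
      exact le_ext K w (hv c hc)
    · rintro _ ⟨_, ⟨n, rfl⟩, rfl⟩
      refine (le_sup_right : zpowers w ≤ _) ⟨n, ?_⟩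
      change w ^ n = v * w ^ n * v⁻¹
      rw [← conj_zpow, hvw]
  intro c hc
  exact h ⟨c, hc, rfl⟩

end Cfsg.Agent.F42.ExtTwo
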