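import Cfsg.Agent.F42.InstOne
import Cfsg.Agent.F42.DL

/-!
# `F₄(2)` standard with `C_G(t) = ⟨t⟩ × L`: impossible
-/

set_option autoImplicit false

namespace Cfsg.Agent.F42.FalseOne

open Cfsg.Agent.FourTwo Cfsg.Agent.FourTwo.Base

/-- **No finite simple group has an involution `t` with `C_G(t) = ⟨t⟩ × F₄(2)`.** -/
theorem false_of_E1 {G : Type*} [Group G] [Finite G] [IsSimpleGroup G] (hG : ¬ ∀ a b : G, a * b = b * a)
    (S : Std G) (h1 : S.E1) : False := by
  refine InstOne.false_e1 hG (fun S h1 z hz g => ?_) S h1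
  rcases hz with rfl | rfl | rfl | rfl
  · intro h
    rw [map_one, mul_inv_eq_one] at h
    exact S.t_ne_one (mul_eq_left.1 h)
  · exact DL.ne_44 (DL.ab_of_E1 h1) g
  · exact DL.ne_47 (DL.ab_of_E1 h1) g
  · exact DL.ne_c (DL.ab_of_E1 h1) g

end Cfsg.Agent.F42.FalseOne
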