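import Cfsg.Agent.StdSpSix.TR

/-!
# A 2-group with a filtration on which an involution acts almost freely

`t` an involution, `x i`, `a i` (`i < n`) elements, `N k = ⟨x i, a i : i < k⟩`.  A step `i` is *free* if
`a i * t * (a i)⁻¹ = t * x i`; it is *trivial* if `a i = 1`.  If the commutators of step `i` and step
`j ≥ i` lie in `N i`, then `C_N(t) = ⟨x i⟩`, and every involution of `tN` is conjugate to `t * y`, `y` in
the group generated by the `x i`, `i` trivial.
-/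

set_option autoImplicit false

namespace Cfsg.Agent.F42.Filtered

open Subgroup

variable {G : Type*} [Group G]

/-- The data. -/
structure Chain (G : Type*) [Group G] where
  n : ℕ
  t : G
  x : ℕ → G
  a : ℕ → G
  free : ℕ → Prop
  tt : t * t = 1
  xx : ∀ i < n, x i * x i = 1
  xt : ∀ i < n, x i * t = t * x i
  at_free : ∀ i < n, free i → a i * t * (a i)⁻¹ = t * x i
  a_triv : ∀ i < n, ¬ free i → a i = 1
  aa : ∀ i < n, a i * a i ∈ closure {g | ∃ j < i, g = x j ∨ g = a j}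
  comm : ∀ i j, i ≤ j → j < n → ∀ g h, (g = x i ∨ g = a i) → (h = x j ∨ h = a j) →
    g * h * g⁻¹ * h⁻¹ ∈ closure {g | ∃ j < i, g = x j ∨ g = a j}

namespace Chain

variable (C : Chain G)

/-- The filtration. -/
def N (k : ℕ) : Subgroup G := closure {g | ∃ j < k, g = C.x j ∨ g = C.a j}

/-- The part centralised by `t`. -/
def U (k : ℕ) : Subgroup G := closure {g | ∃ j < k, g = C.x j}

/-- The trivial part. -/
def Y : Subgroup G := closure {g | ∃ j < C.n, ¬ C.free j ∧ g = C.x j}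

theorem N_mono {i j : ℕ} (h : i ≤ j) : C.N i ≤ C.N j :=
  closure_mono fun _ ⟨k, hk, hg⟩ => ⟨k, lt_of_lt_of_le hk h, hg⟩

theorem U_mono {i j : ℕ} (h : i ≤ j) : C.U i ≤ C.U j :=
  closure_mono fun _ ⟨k, hk, hg⟩ => ⟨k, lt_of_lt_of_le hk h, hg⟩

theorem N_zero : C.N 0 = ⊥ := by
  unfold N
  rw [closure_eq_bot_iff]
  rintro g ⟨j, hj, _⟩
  exact absurd hj (Nat.not_lt_zero j)

theorem x_mem {i k : ℕ} (h : i < k) : C.x i ∈ C.N k := subset_closure ⟨i, h, Or.inl rfl⟩

theorem a_mem {i k : ℕ} (h : i < k) : C.a i ∈ C.N k := subset_closure ⟨i, h, Or.inr rfl⟩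

theorem x_mem_U {i k : ℕ} (h : i < k) : C.x i ∈ C.U k := subset_closure ⟨i, h, rfl⟩

theorem U_le_N (k : ℕ) : C.U k ≤ C.N k :=
  closure_mono fun _ ⟨j, hj, hg⟩ => ⟨j, hj, Or.inl hg⟩

theorem Y_le_U : C.Y ≤ C.U C.n :=
  closure_mono fun _ ⟨j, hj, _, hg⟩ => ⟨j, hj, hg⟩

theorem Y_le_N : C.Y ≤ C.N C.n := C.Y_le_U.trans (C.U_le_N _)

theorem t_inv : C.t⁻¹ = C.t := inv_eq_of_mul_eq_one_right C.tt

theorem U_comm {k : ℕ} (hk : k ≤ C.n) {g : G} (hg : g ∈ C.U k) : g * C.t = C.t * g := by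
  have : C.U k ≤ centralizer ({C.t} : Set G) := by
    unfold U
    rw [closure_le]
    rintro g ⟨j, hj, rfl⟩
    exact mem_centralizer_singleton_iff.2 (C.xt j (lt_of_lt_of_le hj hk))
  exact mem_centralizer_singleton_iff.1 (this hg)

theorem Y_comm {g : G} (hg : g ∈ C.Y) : g * C.t = C.t * g := C.U_comm le_rfl (C.Y_le_U hg)

/-- commutators of `N n` with `N (k+1)` lie in `N k` -/
theorem comm_mem {k : ℕ} (hk : k < C.n) :
    ∀ g ∈ C.N C.n, ∀ h ∈ C.N (k + 1), g * h * g⁻¹ * h⁻¹ ∈ C.N k := by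
  induction k using Nat.strong_induction_on with
  | _ k ih =>
  -- `N k` is normalised by `N n`
  have hnorm : ∀ g ∈ C.N C.n, ∀ h ∈ C.N k, g * h * g⁻¹ ∈ C.N k := by
    intro g hg h hh
    rcases Nat.eq_zero_or_pos k with rfl | hpos
    · rw [C.N_zero, mem_bot] at hh
      rw [hh, mul_one, mul_inv_cancel]
      exact one_mem _
    · obtain ⟨m, rfl⟩ : ∃ m, k = m + 1 := ⟨k - 1, by omega⟩
      have := ih m (Nat.lt_succ_self m) (by omega) g hg h hh
      have e : g * h * g⁻¹ = g * h * g⁻¹ * h⁻¹ * h := by group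
      rw [e]
      exact mul_mem (C.N_mono (Nat.le_succ m) this) hh
  -- generators against generators
  have hgen : ∀ i < C.n, ∀ j < k + 1, ∀ g h, (g = C.x i ∨ g = C.a i) → (h = C.x j ∨ h = C.a j) →
      g * h * g⁻¹ * h⁻¹ ∈ C.N k := by
    intro i hi j hj g h hg hh
    rcases le_total i j with hij | hij
    · exact C.N_mono (by omega) (C.comm i j hij (by omega) g h hg hh)
    · have := C.comm j i hij hi h g hh hg
      have h2 : (h * g * h⁻¹ * g⁻¹)⁻¹ ∈ C.N j := inv_mem this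
      have e : (h * g * h⁻¹ * g⁻¹)⁻¹ = g * h * g⁻¹ * h⁻¹ := by group
      rw [e] at h2
      exact C.N_mono (by omega) h2
  -- a generator `g` against everything
  have h1 : ∀ i < C.n, ∀ g, (g = C.x i ∨ g = C.a i) → ∀ h ∈ C.N (k + 1), g * h * g⁻¹ * h⁻¹ ∈ C.N k := by
    intro i hi g hg h hh
    have hgN : g ∈ C.N C.n := subset_closure ⟨i, hi, hg⟩
    induction hh using closure_induction with
    | mem h hh => obtain ⟨j, hj, hh⟩ := hh; exact hgen i hi j hj g h hg hh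
    | one => simp only [mul_one, mul_inv_cancel, inv_one]; exact one_mem _
    | mul a b ha hb iha ihb =>
      have e : g * (a * b) * g⁻¹ * (a * b)⁻¹ = (g * a * g⁻¹ * a⁻¹) * (a * (g * b * g⁻¹ * b⁻¹) * a⁻¹) := by group
      rw [e]
      exact mul_mem iha (hnorm a (C.N_mono (by omega) ha) _ ihb)
    | inv a ha iha =>
      have e : g * a⁻¹ * g⁻¹ * a⁻¹⁻¹ = a⁻¹ * (g * a * g⁻¹ * a⁻¹)⁻¹ * a⁻¹⁻¹ := by group
      rw [e]
      exact hnorm _ (inv_mem (C.N_mono (by omega) ha)) _ (inv_mem iha)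
  intro g hg
  induction hg using closure_induction with
  | mem g hg => obtain ⟨i, hi, hg⟩ := hg; exact h1 i hi g hg
  | one => intro h hh; simp only [one_mul, inv_one, mul_one, mul_inv_cancel]; exact one_mem _
  | mul a b ha hb iha ihb =>
    intro h hh
    have e : (a * b) * h * (a * b)⁻¹ * h⁻¹ = a * (b * h * b⁻¹ * h⁻¹) * a⁻¹ * (a * h * a⁻¹ * h⁻¹) := by group
    rw [e]
    exact mul_mem (hnorm a ha _ (ihb h hh)) (iha h hh)
  | inv a ha iha =>
    intro h hh
    have e : a⁻¹ * h * a⁻¹⁻¹ * h⁻¹ = a⁻¹ * (a * h * a⁻¹ * h⁻¹)⁻¹ * a⁻¹⁻¹ := by group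
    rw [e]
    exact hnorm _ (inv_mem ha) _ (inv_mem (iha h hh))

theorem conj_mem {k : ℕ} (hk : k ≤ C.n) {g h : G} (hg : g ∈ C.N C.n) (hh : h ∈ C.N k) :
    g * h * g⁻¹ ∈ C.N k := by
  rcases Nat.eq_zero_or_pos k with rfl | hpos
  · rw [C.N_zero, mem_bot] at hh
    rw [hh, mul_one, mul_inv_cancel]
    exact one_mem _
  · obtain ⟨m, rfl⟩ : ∃ m, k = m + 1 := ⟨k - 1, by omega⟩
    have := C.comm_mem (by omega) g hg h hh
    have e : g * h * g⁻¹ = g * h * g⁻¹ * h⁻¹ * h := by group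
    rw [e]
    exact mul_mem (C.N_mono (Nat.le_succ m) this) hh

/-- `a * t = t * x * a` in a free step -/
theorem a_mul_t {i : ℕ} (hi : i < C.n) (hf : C.free i) : C.a i * C.t = C.t * C.x i * C.a i := by
  rw [← C.at_free i hi hf]; group

theorem t_a_t {i : ℕ} (hi : i < C.n) (hf : C.free i) : C.t * C.a i * C.t⁻¹ = C.x i * C.a i := by
  rw [C.t_inv, mul_assoc, C.a_mul_t hi hf, ← mul_assoc, ← mul_assoc, C.tt, one_mul]

theorem t_conj_mem {k : ℕ} (hk : k ≤ C.n) {h : G} (hh : h ∈ C.N k) : C.t * h * C.t⁻¹ ∈ C.N k := by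
  induction hh using closure_induction with
  | mem h hh =>
    obtain ⟨j, hj, rfl | rfl⟩ := hh
    · rw [← C.xt j (by omega), mul_inv_cancel_right]
      exact C.x_mem hj
    · by_cases hf : C.free j
      · rw [C.t_a_t (by omega) hf]
        exact mul_mem (C.x_mem hj) (C.a_mem hj)
      · rw [C.a_triv j (by omega) hf, mul_one, mul_inv_cancel]
        exact one_mem _
  | one => rw [mul_one, mul_inv_cancel]; exact one_mem _
  | mul a b _ _ iha ihb =>
    have e : C.t * (a * b) * C.t⁻¹ = (C.t * a * C.t⁻¹) * (C.t * b * C.t⁻¹) := by group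
    rw [e]; exact mul_mem iha ihb
  | inv a _ iha =>
    have e : C.t * a⁻¹ * C.t⁻¹ = (C.t * a * C.t⁻¹)⁻¹ := by group
    rw [e]; exact inv_mem iha

/-- The elements of `N (k+1)` modulo `N k`. -/
def Mod (k : ℕ) (g : G) : Prop :=
  ∃ m ∈ C.N k, g = m ∨ g = C.x k * m ∨ g = C.a k * m ∨ g = C.a k * (C.x k * m)

theorem mod_of_mem {k : ℕ} {d : G} (hd : d ∈ C.N k) : C.Mod k d := ⟨d, hd, Or.inl rfl⟩

theorem mod_N {k : ℕ} (hk : k < C.n) {d u : G} (hd : d ∈ C.N k) (hu : C.Mod k u) : C.Mod k (d * u) := by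
  have hxN : C.x k ∈ C.N C.n := C.x_mem hk
  have haN : C.a k ∈ C.N C.n := C.a_mem hk
  have hconj : ∀ {c d : G}, c ∈ C.N C.n → d ∈ C.N k → c⁻¹ * d * c ∈ C.N k := by
    intro c d hc hd
    have := C.conj_mem hk.le (inv_mem hc) hd
    rwa [inv_inv] at this
  obtain ⟨m, hm, rfl | rfl | rfl | rfl⟩ := hu
  · exact ⟨d * u, mul_mem hd hm, Or.inl rfl⟩
  · exact ⟨(C.x k)⁻¹ * d * C.x k * m, mul_mem (hconj hxN hd) hm, Or.inr (Or.inl (by group))⟩
  · exact ⟨(C.a k)⁻¹ * d * C.a k * m, mul_mem (hconj haN hd) hm, Or.inr (Or.inr (Or.inl (by group)))⟩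
  · exact ⟨(C.x k)⁻¹ * ((C.a k)⁻¹ * d * C.a k) * C.x k * m, mul_mem (hconj hxN (hconj haN hd)) hm,
      Or.inr (Or.inr (Or.inr (by group)))⟩

theorem mod_x {k : ℕ} (hk : k < C.n) {u : G} (hu : C.Mod k u) : C.Mod k (C.x k * u) := by
  have hxN : C.x k ∈ C.N C.n := C.x_mem hk
  have haN : C.a k ∈ C.N C.n := C.a_mem hk
  have hconj : ∀ {c d : G}, c ∈ C.N C.n → d ∈ C.N k → c⁻¹ * d * c ∈ C.N k := by
    intro c d hc hd
    have := C.conj_mem hk.le (inv_mem hc) hd
    rwa [inv_inv] at this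
  have hc : (C.x k)⁻¹ * (C.a k)⁻¹ * C.x k * C.a k ∈ C.N k := by
    have := C.comm_mem hk _ (inv_mem hxN) _ (inv_mem (C.a_mem (Nat.lt_succ_self k)))
    rwa [inv_inv, inv_inv] at this
  obtain ⟨m, hm, rfl | rfl | rfl | rfl⟩ := hu
  · exact ⟨u, hm, Or.inr (Or.inl rfl)⟩
  · exact ⟨m, hm, Or.inl (by rw [← mul_assoc, C.xx k hk, one_mul])⟩
  · exact ⟨_, mul_mem hc hm, Or.inr (Or.inr (Or.inr (by group)))⟩
  · refine ⟨_, mul_mem (hconj hxN hc) hm, Or.inr (Or.inr (Or.inl ?_))⟩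
    have e : C.x k * (C.a k * (C.x k * m)) = C.a k * ((C.x k * C.x k) *
      ((C.x k)⁻¹ * ((C.x k)⁻¹ * (C.a k)⁻¹ * C.x k * C.a k) * C.x k * m)) := by group
    rw [e, C.xx k hk, one_mul]

theorem mod_a {k : ℕ} (hk : k < C.n) {u : G} (hu : C.Mod k u) : C.Mod k (C.a k * u) := by
  have hxN : C.x k ∈ C.N C.n := C.x_mem hk
  have hconj : ∀ {c d : G}, c ∈ C.N C.n → d ∈ C.N k → c⁻¹ * d * c ∈ C.N k := by
    intro c d hc hd
    have := C.conj_mem hk.le (inv_mem hc) hd
    rwa [inv_inv] at this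
  have haa : C.a k * C.a k ∈ C.N k := C.aa k hk
  obtain ⟨m, hm, rfl | rfl | rfl | rfl⟩ := hu
  · exact ⟨u, hm, Or.inr (Or.inr (Or.inl rfl))⟩
  · exact ⟨m, hm, Or.inr (Or.inr (Or.inr rfl))⟩
  · exact ⟨_, mul_mem haa hm, Or.inl (by group)⟩
  · exact ⟨_, mul_mem (hconj hxN haa) hm, Or.inr (Or.inl (by group))⟩

theorem mod_one (k : ℕ) : C.Mod k 1 := C.mod_of_mem (one_mem _)

theorem mem_succ {k : ℕ} (hk : k < C.n) {g : G} (hg : g ∈ C.N (k + 1)) : C.Mod k g := by
  have hstep : ∀ v, (∃ j < k + 1, v = C.x j ∨ v = C.a j) → ∀ u, C.Mod k u → C.Mod k (v * u) ∧ C.Mod k (v⁻¹ * u) := by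
    intro v ⟨j, hj, hv⟩ u hu
    rcases Nat.lt_succ_iff_lt_or_eq.1 hj with hjk | hjk
    · have hgN : v ∈ C.N k := subset_closure ⟨j, hjk, hv⟩
      exact ⟨C.mod_N hk hgN hu, C.mod_N hk (inv_mem hgN) hu⟩
    · rw [hjk] at hv
      rcases hv with hv | hv
      · have e : (C.x k)⁻¹ = C.x k := inv_eq_of_mul_eq_one_right (C.xx k hk)
        rw [hv, e]
        exact ⟨C.mod_x hk hu, C.mod_x hk hu⟩
      · rw [hv]
        refine ⟨C.mod_a hk hu, ?_⟩
        have haa : C.a k * C.a k ∈ C.N k := C.aa k hk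
        have := C.mod_N hk (inv_mem haa) (C.mod_a hk hu)
        have e : (C.a k * C.a k)⁻¹ * (C.a k * u) = (C.a k)⁻¹ * u := by group
        rwa [e] at this
  unfold N at hg
  induction hg using closure_induction_left with
  | one => exact C.mod_one k
  | mul_left v hv u _ hu => exact (hstep v hv u hu).1
  | inv_mul_cancel v hv u _ hu => exact (hstep v hv u hu).2

/-- If an element `a k * m` commutes with `t`, then `x k ∈ N k`. -/
theorem x_mem_of_comm {k : ℕ} (hk : k < C.n) (hf : C.free k) {m : G} (hm : m ∈ C.N k)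
    (h : (C.a k * m) * C.t = C.t * (C.a k * m)) : C.x k ∈ C.N k := by
  set c : G := C.t * m * C.t⁻¹ * m⁻¹ with hc
  have hcN : c ∈ C.N k := mul_mem (C.t_conj_mem hk.le hm) (inv_mem hm)
  have h1 : m * C.t = c⁻¹ * C.t * m := by rw [hc]; group
  have h2 : C.a k * c⁻¹ * (C.a k)⁻¹ ∈ C.N k := C.conj_mem hk.le (C.a_mem hk) (inv_mem hcN)
  have h3 : (C.a k * c⁻¹ * (C.a k)⁻¹) * (C.t * C.x k * C.a k) * m = C.t * C.a k * m := by
    calc (C.a k * c⁻¹ * (C.a k)⁻¹) * (C.t * C.x k * C.a k) * m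
        = (C.a k * c⁻¹ * (C.a k)⁻¹) * (C.a k * C.t) * m := by rw [C.a_mul_t hk hf]
      _ = C.a k * (c⁻¹ * C.t * m) := by group
      _ = C.a k * m * C.t := by rw [← h1]; group
      _ = _ := by rw [h]; group
  have h4 : C.x k = C.t⁻¹ * (C.a k * c⁻¹ * (C.a k)⁻¹)⁻¹ * C.t := by
    have h5 := mul_right_cancel h3
    have h6 : (C.a k * c⁻¹ * (C.a k)⁻¹) * (C.t * C.x k) = C.t := by
      apply mul_right_cancel (b := C.a k)
      rw [mul_assoc, h5]
    calc C.x k = C.t⁻¹ * (C.a k * c⁻¹ * (C.a k)⁻¹)⁻¹ * ((C.a k * c⁻¹ * (C.a k)⁻¹) * (C.t * C.x k)) := by group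
      _ = _ := by rw [h6]
  rw [h4]
  have h5 := C.t_conj_mem hk.le (inv_mem h2)
  rw [C.t_inv] at h5 ⊢
  exact h5

/-- First main fact: the elements of `N k` commuting with `t`. -/
theorem comm_t_mem (hx : ∀ k < C.n, C.free k → C.x k ∉ C.U k) {k : ℕ} (hk : k ≤ C.n) :
    ∀ g ∈ C.N k, g * C.t = C.t * g → g ∈ C.U k := by
  induction k with
  | zero =>
    intro g hg _
    rw [C.N_zero, mem_bot] at hg
    rw [hg]; exact one_mem _
  | succ k ih =>
    have ih := ih (by omega)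
    have hkn : k < C.n := by omega
    intro g hg hgt
    have hxk := C.xt k hkn
    have hxinv : (C.x k)⁻¹ = C.x k := inv_eq_of_mul_eq_one_right (C.xx k hkn)
    have hx' : ∀ m, (C.x k * m) * C.t = C.t * (C.x k * m) → m * C.t = C.t * m := by
      intro m hm
      have : C.x k * (m * C.t) = C.x k * (C.t * m) := by
        rw [← mul_assoc, hm, ← mul_assoc, ← mul_assoc, hxk]
      exact mul_left_cancel this
    by_cases hf : C.free k
    · have hno : ∀ m ∈ C.N k, ¬ (C.a k * m) * C.t = C.t * (C.a k * m) := fun m hm h =>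
        hx k hkn hf (ih _ (C.x_mem_of_comm hkn hf hm h) hxk)
      obtain ⟨m, hm, rfl | rfl | rfl | rfl⟩ := C.mem_succ hkn hg
      · exact C.U_mono (Nat.le_succ k) (ih _ hm hgt)
      · exact mul_mem (C.x_mem_U (Nat.lt_succ_self k)) (C.U_mono (Nat.le_succ k) (ih _ hm (hx' m hgt)))
      · exact absurd hgt (hno m hm)
      · -- `a x m = a (x m x⁻¹) x`
        have hm' : C.x k * m * (C.x k)⁻¹ ∈ C.N k := C.conj_mem hkn.le (C.x_mem hkn) hm
        refine absurd ?_ (hno _ hm')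
        have e : C.a k * (C.x k * m) = C.a k * (C.x k * m * (C.x k)⁻¹) * C.x k := by group
        rw [e] at hgt
        apply mul_right_cancel (b := C.x k)
        calc C.a k * (C.x k * m * (C.x k)⁻¹) * C.t * C.x k
            = C.a k * (C.x k * m * (C.x k)⁻¹) * (C.x k * C.t) := by rw [hxk]; group
          _ = C.a k * (C.x k * m * (C.x k)⁻¹) * C.x k * C.t := by group
          _ = _ := by rw [hgt]; group
    · have ha : C.a k = 1 := C.a_triv k hkn hf
      obtain ⟨m, hm, rfl | rfl | rfl | rfl⟩ := C.mem_succ hkn hg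
      · exact C.U_mono (Nat.le_succ k) (ih _ hm hgt)
      · exact mul_mem (C.x_mem_U (Nat.lt_succ_self k)) (C.U_mono (Nat.le_succ k) (ih _ hm (hx' m hgt)))
      · rw [ha, one_mul] at hgt ⊢
        exact C.U_mono (Nat.le_succ k) (ih _ hm hgt)
      · rw [ha, one_mul] at hgt ⊢
        exact mul_mem (C.x_mem_U (Nat.lt_succ_self k)) (C.U_mono (Nat.le_succ k) (ih _ hm (hx' m hgt)))

/-- conjugation by `a k` of `t * y * m` -/
theorem conj_a {k : ℕ} (hk : k < C.n) (hf : C.free k) {y m : G} (hy : y ∈ C.Y) (hm : m ∈ C.N (k + 1)) :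
    ∃ c ∈ C.N k, C.a k * (C.t * y * m) * (C.a k)⁻¹ = C.t * y * (C.x k * m * c) := by
  have hyN : y ∈ C.N C.n := C.Y_le_N hy
  have hmN : m ∈ C.N C.n := C.N_mono (by omega) hm
  have hxN : C.x k ∈ C.N C.n := C.x_mem hk
  have hconj : ∀ {c d : G}, c ∈ C.N C.n → d ∈ C.N k → c⁻¹ * d * c ∈ C.N k := by
    intro c d hc hd
    have := C.conj_mem hk.le (inv_mem hc) hd
    rwa [inv_inv] at this
  have h1 : y⁻¹ * C.a k * y * (C.a k)⁻¹ ∈ C.N k := by
    have := C.comm_mem hk _ (inv_mem hyN) _ (C.a_mem (Nat.lt_succ_self k))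
    rwa [inv_inv] at this
  have h3 : y⁻¹ * C.x k * y * (C.x k)⁻¹ ∈ C.N k := by
    have := C.comm_mem hk _ (inv_mem hyN) _ (C.x_mem (Nat.lt_succ_self k))
    rwa [inv_inv] at this
  have h4 : m⁻¹ * C.a k * m * (C.a k)⁻¹ ∈ C.N k := by
    have := C.comm_mem hk _ (inv_mem hmN) _ (C.a_mem (Nat.lt_succ_self k))
    rwa [inv_inv] at this
  refine ⟨(C.x k * m)⁻¹ * (y⁻¹ * C.x k * y * (C.x k)⁻¹) * (C.x k * m) *
    (m⁻¹ * (y⁻¹ * C.a k * y * (C.a k)⁻¹) * m) * (m⁻¹ * C.a k * m * (C.a k)⁻¹),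
    mul_mem (mul_mem (hconj (mul_mem hxN hmN) h3) (hconj hmN h1)) h4, ?_⟩
  calc C.a k * (C.t * y * m) * (C.a k)⁻¹ = (C.a k * C.t) * (y * m * (C.a k)⁻¹) := by group
    _ = (C.t * C.x k * C.a k) * (y * m * (C.a k)⁻¹) := by rw [C.a_mul_t hk hf]
    _ = _ := by group

/-- no involution `t * y * (a k * m)` -/
theorem no_a (hY : ∀ k < C.n, C.free k → ∀ y ∈ C.Y, ∀ m ∈ C.U k, C.x k * m ≠ y)
    {k : ℕ} (hk : k < C.n) (hf : C.free k) {y m : G} (hy : y ∈ C.Y) (hm : m ∈ C.N k) :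
    (C.t * y * (C.a k * m)) * (C.t * y * (C.a k * m)) ≠ 1 := by
  intro h
  have hx : ∀ k < C.n, C.free k → C.x k ∉ C.U k := by
    intro k hk hf hxk
    apply hY k hk hf 1 (one_mem _) (C.x k)⁻¹ (inv_mem hxk)
    rw [mul_inv_cancel]
  have hyN : y ∈ C.N C.n := C.Y_le_N hy
  have hconj : ∀ {c d : G}, c ∈ C.N C.n → d ∈ C.N k → c⁻¹ * d * c ∈ C.N k := by
    intro c d hc hd
    have := C.conj_mem hk.le (inv_mem hc) hd
    rwa [inv_inv] at this
  have hyt := C.Y_comm hy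
  -- `m0`
  have h1 : y⁻¹ * C.a k * y * (C.a k)⁻¹ ∈ C.N k := by
    have := C.comm_mem hk _ (inv_mem hyN) _ (C.a_mem (Nat.lt_succ_self k))
    rwa [inv_inv] at this
  have h3 : (C.x k)⁻¹ * (y⁻¹ * C.x k * y * (C.x k)⁻¹) * C.x k ∈ C.N k := by
    have := C.comm_mem hk _ (inv_mem hyN) _ (C.x_mem (Nat.lt_succ_self k))
    rw [inv_inv] at this
    exact hconj (C.x_mem hk) this
  have hn : y⁻¹ * (C.t * m * C.t⁻¹) * y ∈ C.N k := hconj hyN (C.t_conj_mem hk.le hm)
  have hn2 : C.a k * (y⁻¹ * (C.t * m * C.t⁻¹) * y) * (C.a k)⁻¹ ∈ C.N k := C.conj_mem hk.le (C.a_mem hk) hn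
  have haa : C.a k * C.a k ∈ C.N k := C.aa k hk
  set m0 : G := ((C.x k)⁻¹ * (y⁻¹ * C.x k * y * (C.x k)⁻¹) * C.x k) * (y⁻¹ * C.a k * y * (C.a k)⁻¹) *
    (C.a k * (y⁻¹ * (C.t * m * C.t⁻¹) * y) * (C.a k)⁻¹) * (C.a k * C.a k) * m with hm0
  have hm0N : m0 ∈ C.N k := mul_mem (mul_mem (mul_mem (mul_mem h3 h1) hn2) haa) hm
  have e1 : (C.t * y * (C.a k * m)) * (C.t * y * (C.a k * m)) = y * y * (C.x k * m0) := by
    have e2 : C.t * y = y * C.t := hyt.symm
    have e3 : C.t * C.a k = C.x k * C.a k * C.t := by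
      rw [← C.t_a_t hk hf]; group
    calc (C.t * y * (C.a k * m)) * (C.t * y * (C.a k * m))
        = (C.t * y) * (C.a k * m) * (C.t * y) * (C.a k * m) := by group
      _ = (y * C.t) * (C.a k * m) * (C.t * y) * (C.a k * m) := by rw [e2]
      _ = y * (C.t * C.a k) * (m * C.t * y * C.a k * m) := by group
      _ = y * (C.x k * C.a k * C.t) * (m * C.t * y * C.a k * m) := by rw [e3]
      _ = y * (C.x k * C.a k) * ((C.t * m * C.t⁻¹) * (C.t * C.t) * y * C.a k * m) := by group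
      _ = y * (C.x k * C.a k) * ((C.t * m * C.t⁻¹) * y * C.a k * m) := by rw [C.tt, mul_one]
      _ = _ := by rw [hm0]; group
  rw [e1] at h
  clear_value m0
  have e4 : C.x k * m0 = (y * y)⁻¹ := eq_inv_of_mul_eq_one_right h
  have hyy : (y * y)⁻¹ ∈ C.Y := inv_mem (mul_mem hy hy)
  have hm0t : m0 * C.t = C.t * m0 := by
    have h5 := C.Y_comm hyy
    rw [← e4] at h5
    have : C.x k * (m0 * C.t) = C.x k * (C.t * m0) := by
      rw [← mul_assoc, h5, ← mul_assoc, ← C.xt k hk, mul_assoc]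
    exact mul_left_cancel this
  exact hY k hk hf _ hyy m0 (C.comm_t_mem hx hk.le m0 hm0N hm0t) e4

/-- Second main fact: involutions of `t N` are conjugate to `t y`, `y` in the trivial part. -/
theorem conj_of_invol (hY : ∀ k < C.n, C.free k → ∀ y ∈ C.Y, ∀ m ∈ C.U k, C.x k * m ≠ y)
    {u : G} (hu : u * u = 1) (huN : C.t⁻¹ * u ∈ C.N C.n) :
    ∃ g ∈ C.N C.n, ∃ y ∈ C.Y, g * u * g⁻¹ = C.t * y := by
  have key : ∀ j, j ≤ C.n → ∃ g ∈ C.N C.n, ∃ y ∈ C.Y, ∃ m ∈ C.N (C.n - j), g * u * g⁻¹ = C.t * y * m := by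
    intro j
    induction j with
    | zero => intro _; exact ⟨1, one_mem _, 1, one_mem _, C.t⁻¹ * u, huN, by group⟩
    | succ j ih =>
      intro hj
      obtain ⟨g, hg, y, hy, m, hm, he⟩ := ih (by omega)
      set k := C.n - (j + 1) with hkdef
      have hk : k < C.n := by omega
      have hk1 : C.n - j = k + 1 := by omega
      rw [hk1] at hm
      have hsq : (C.t * y * m) * (C.t * y * m) = 1 := by
        rw [← he]
        calc g * u * g⁻¹ * (g * u * g⁻¹) = g * (u * u) * g⁻¹ := by group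
          _ = 1 := by rw [hu]; group
      by_cases hf : C.free k
      · -- the conjugate by `a k`
        have hxN : C.x k ∈ C.N C.n := C.x_mem hk
        obtain ⟨m', hm', hcase⟩ := C.mem_succ hk hm
        have hconj : ∀ {c d : G}, c ∈ C.N C.n → d ∈ C.N k → c⁻¹ * d * c ∈ C.N k := by
          intro c d hc hd
          have := C.conj_mem hk.le (inv_mem hc) hd
          rwa [inv_inv] at this
        obtain ⟨c, hc, hca⟩ := C.conj_a hk hf hy hm
        rcases hcase with rfl | rfl | rfl | rfl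
        · exact ⟨g, hg, y, hy, m, hm', he⟩
        · refine ⟨C.a k * g, mul_mem (C.a_mem hk) hg, y, hy, m' * c, mul_mem hm' hc, ?_⟩
          have e : C.a k * g * u * (C.a k * g)⁻¹ = C.a k * (g * u * g⁻¹) * (C.a k)⁻¹ := by group
          rw [e, he, hca, ← mul_assoc (C.x k), C.xx k hk, one_mul]
        · exact absurd hsq (C.no_a hY hk hf hy hm')
        · exfalso
          -- conjugate by `a k`: `x (a x m') c = a (...)`
          have h1 : (C.x k)⁻¹ * (C.a k)⁻¹ * C.x k * C.a k ∈ C.N k := by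
            have := C.comm_mem hk _ (inv_mem hxN) _ (inv_mem (C.a_mem (Nat.lt_succ_self k)))
            rwa [inv_inv, inv_inv] at this
          have e : C.x k * (C.a k * (C.x k * m')) * c =
              C.a k * ((C.x k)⁻¹ * ((C.x k)⁻¹ * (C.a k)⁻¹ * C.x k * C.a k) * C.x k * m' * c) := by
            have e' : C.x k * (C.a k * (C.x k * m')) * c = C.a k * ((C.x k * C.x k) *
              ((C.x k)⁻¹ * ((C.x k)⁻¹ * (C.a k)⁻¹ * C.x k * C.a k) * C.x k * m' * c)) := by group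
            rw [e', C.xx k hk, one_mul]
          rw [e] at hca
          refine C.no_a hY hk hf hy (mul_mem (mul_mem (hconj hxN h1) hm') hc) ?_
          rw [← hca]
          calc _ = C.a k * ((C.t * y * (C.a k * (C.x k * m'))) * (C.t * y * (C.a k * (C.x k * m')))) *
              (C.a k)⁻¹ := by group
            _ = 1 := by rw [hsq]; group
      · have ha : C.a k = 1 := C.a_triv k hk hf
        have hxY : C.x k ∈ C.Y := subset_closure ⟨k, hk, hf, rfl⟩
        obtain ⟨m', hm', rfl | rfl | rfl | rfl⟩ := C.mem_succ hk hm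
        · exact ⟨g, hg, y, hy, m, hm', he⟩
        · exact ⟨g, hg, y * C.x k, mul_mem hy hxY, m', hm', by rw [he]; group⟩
        · exact ⟨g, hg, y, hy, m', hm', by rw [he, ha]; group⟩
        · exact ⟨g, hg, y * C.x k, mul_mem hy hxY, m', hm', by rw [he, ha]; group⟩
  obtain ⟨g, hg, y, hy, m, hm, he⟩ := key C.n le_rfl
  rw [Nat.sub_self, C.N_zero, mem_bot] at hm
  exact ⟨g, hg, y, hy, by rw [he, hm, mul_one]⟩

/-- `N ∪ tN`. -/
def H : Subgroup G where
  carrier := {g | g ∈ C.N C.n ∨ C.t * g ∈ C.N C.n}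
  one_mem' := Or.inl (one_mem _)
  mul_mem' := by
    have hc : ∀ g ∈ C.N C.n, C.t * g * C.t ∈ C.N C.n := by
      intro g hg
      have := C.t_conj_mem le_rfl hg
      rwa [C.t_inv] at this
    rintro a b (ha | ha) (hb | hb)
    · exact Or.inl (mul_mem ha hb)
    · refine Or.inr ?_
      have := mul_mem (hc a ha) hb
      have e : C.t * a * C.t * (C.t * b) = C.t * a * (C.t * C.t) * b := by group
      rw [e, C.tt, mul_one] at this
      rwa [← mul_assoc]
    · refine Or.inr ?_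
      rw [← mul_assoc]
      exact mul_mem ha hb
    · refine Or.inl ?_
      have := mul_mem (hc _ ha) hb
      have e : C.t * (C.t * a) * C.t * (C.t * b) = (C.t * C.t) * a * (C.t * C.t) * b := by group
      rwa [e, C.tt, mul_one, one_mul] at this
  inv_mem' := by
    have hc : ∀ g ∈ C.N C.n, C.t * g * C.t ∈ C.N C.n := by
      intro g hg
      have := C.t_conj_mem le_rfl hg
      rwa [C.t_inv] at this
    rintro a (ha | ha)
    · exact Or.inl (inv_mem ha)
    · refine Or.inr ?_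
      have h1 := hc _ (inv_mem ha)
      have e : C.t * (C.t * a)⁻¹ * C.t = C.t * a⁻¹ * (C.t⁻¹ * C.t) := by group
      rwa [e, inv_mul_cancel, mul_one] at h1

theorem mem_H {g : G} : g ∈ C.H ↔ g ∈ C.N C.n ∨ C.t * g ∈ C.N C.n := Iff.rfl

theorem t_mem_H : C.t ∈ C.H := Or.inr (by rw [C.tt]; exact one_mem _)

open Classical in
/-- The sign of `H`. -/
noncomputable def sign (ht : C.t ∉ C.N C.n) : C.H →* ℤˣ where
  toFun g := if (g : G) ∈ C.N C.n then 1 else -1
  map_one' := if_pos (one_mem _)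
  map_mul' := by
    have hc : ∀ g ∈ C.N C.n, C.t * g * C.t ∈ C.N C.n := by
      intro g hg
      have := C.t_conj_mem le_rfl hg
      rwa [C.t_inv] at this
    have hex : ∀ g : G, g ∈ C.N C.n → C.t * g ∉ C.N C.n := by
      intro g hg h
      apply ht
      have := mul_mem h (inv_mem hg)
      rwa [mul_inv_cancel_right] at this
    have hneg : ∀ g : G, C.t * g ∈ C.N C.n → g ∉ C.N C.n := fun g h h' => hex g h' h
    rintro ⟨a, ha | ha⟩ ⟨b, hb | hb⟩
    · change (if a * b ∈ C.N C.n then (1 : ℤˣ) else -1) = (if a ∈ C.N C.n then 1 else -1) * (if b ∈ C.N C.n then 1 else -1)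
      rw [if_pos ha, if_pos hb, if_pos (mul_mem ha hb), one_mul]
    · change (if a * b ∈ C.N C.n then (1 : ℤˣ) else -1) = (if a ∈ C.N C.n then 1 else -1) * (if b ∈ C.N C.n then 1 else -1)
      rw [if_pos ha, if_neg (hneg b hb), if_neg, one_mul]
      intro h
      apply hneg b hb
      have := mul_mem (inv_mem ha) h
      rwa [inv_mul_cancel_left] at this
    · change (if a * b ∈ C.N C.n then (1 : ℤˣ) else -1) = (if a ∈ C.N C.n then 1 else -1) * (if b ∈ C.N C.n then 1 else -1)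
      rw [if_neg (hneg a ha), if_pos hb, if_neg, mul_one]
      intro h
      apply hneg a ha
      have := mul_mem h (inv_mem hb)
      rwa [mul_inv_cancel_right] at this
    · change (if a * b ∈ C.N C.n then (1 : ℤˣ) else -1) = (if a ∈ C.N C.n then 1 else -1) * (if b ∈ C.N C.n then 1 else -1)
      rw [if_neg (hneg a ha), if_neg (hneg b hb), if_pos]
      · decide
      have := mul_mem (hc _ ha) hb
      have e : C.t * (C.t * a) * C.t * (C.t * b) = (C.t * C.t) * a * (C.t * C.t) * b := by group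
      rwa [e, C.tt, mul_one, one_mul] at this

/-- The endgame. -/
theorem exists_sign [Finite G] (L : Subgroup G) (htL : C.t ∉ L) (hxL : ∀ i < C.n, C.x i ∈ L)
    (hcent : ∀ g, g * C.t = C.t * g ↔ g ∈ L ∨ C.t * g ∈ L) (hodd : Odd ((C.U C.n).relIndex L))
    (hY : ∀ k < C.n, C.free k → ∀ y ∈ C.Y, ∀ m ∈ C.U k, C.x k * m ≠ y)
    (hD : ∀ y ∈ C.Y, ∀ g, g * C.t * g⁻¹ = C.t * y → y = 1) : ∃ m : G →* ℤˣ, m C.t = -1 := by
  classical
  have hx : ∀ k < C.n, C.free k → C.x k ∉ C.U k := by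
    intro k hk hf hxk
    apply hY k hk hf 1 (one_mem _) (C.x k)⁻¹ (inv_mem hxk)
    rw [mul_inv_cancel]
  have hUL : C.U C.n ≤ L := by
    unfold U
    rw [closure_le]
    rintro g ⟨j, hj, rfl⟩
    exact hxL j hj
  have htN : C.t ∉ C.N C.n := fun h => htL (hUL (C.comm_t_mem hx le_rfl _ h rfl))
  refine StdSpSix.TR.exists_hom_of_class (H := C.H) (C.sign htN) C.tt C.t_mem_H (if_neg htN) ?_ ?_
  · intro g h hl
    have hn : g⁻¹ * C.t * g ∉ C.N C.n := by
      intro h'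
      have : (C.sign htN) ⟨g⁻¹ * C.t * g, h⟩ = 1 := if_pos h'
      rw [this] at hl
      exact absurd hl (by decide)
    have h2 : C.t⁻¹ * (g⁻¹ * C.t * g) ∈ C.N C.n := by
      rw [C.t_inv]
      exact (C.mem_H.1 h).resolve_left hn
    have hsq : (g⁻¹ * C.t * g) * (g⁻¹ * C.t * g) = 1 := by
      calc (g⁻¹ * C.t * g) * (g⁻¹ * C.t * g) = g⁻¹ * (C.t * C.t) * g := by group
        _ = 1 := by rw [C.tt]; group
    obtain ⟨k, hk, y, hy, he⟩ := C.conj_of_invol hY hsq h2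
    have hy1 : y = 1 := by
      apply hD y hy (k * g⁻¹)
      rw [← he]; group
    rw [hy1, mul_one] at he
    refine ⟨k⁻¹, inv_mem (Or.inl hk), ?_⟩
    calc g⁻¹ * C.t * g = k⁻¹ * (k * (g⁻¹ * C.t * g) * k⁻¹) * k⁻¹⁻¹ := by group
      _ = _ := by rw [he]
  · -- index
    set Z : Subgroup G := centralizer ({C.t} : Set G) with hZ
    have hmem : ∀ g, g ∈ Z ↔ g ∈ L ∨ C.t * g ∈ L := fun g => by
      rw [← hcent]; exact mem_centralizer_singleton_iff
    have hLZ : L ≤ Z := fun g hg => (hmem g).2 (Or.inl hg)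
    have htZ : C.t ∈ Z := (hmem _).2 (Or.inr (by rw [C.tt]; exact one_mem _))
    have h1 : L.relIndex Z = 2 := by
      rw [relIndex, index_eq_two_iff]
      refine ⟨⟨C.t, htZ⟩, fun b => ?_⟩
      rw [mem_subgroupOf, mem_subgroupOf]
      change Xor ((b : G) * C.t ∈ L) ((b : G) ∈ L)
      have hb := b.2
      rw [(hcent _).2 ((hmem _).1 hb)]
      rcases (hmem _).1 hb with h | h
      · refine Or.inr ⟨h, fun h' => htL ?_⟩
        have := mul_mem h' (inv_mem h)
        rwa [mul_inv_cancel_right] at this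
      · refine Or.inl ⟨h, fun h' => htL ?_⟩
        have := mul_mem h (inv_mem h')
        rwa [mul_inv_cancel_right] at this
    have h2 : (C.U C.n).relIndex (C.H ⊓ Z) = 2 := by
      rw [relIndex, index_eq_two_iff]
      refine ⟨⟨C.t, C.t_mem_H, htZ⟩, fun b => ?_⟩
      rw [mem_subgroupOf, mem_subgroupOf]
      change Xor ((b : G) * C.t ∈ C.U C.n) ((b : G) ∈ C.U C.n)
      have hb := b.2
      have hbt : (b : G) * C.t = C.t * b := (hcent _).2 ((hmem _).1 hb.2)
      rw [hbt]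
      rcases C.mem_H.1 hb.1 with h | h
      · have h3 := C.comm_t_mem hx le_rfl _ h hbt
        refine Or.inr ⟨h3, fun h' => htL ?_⟩
        have := hUL (mul_mem h' (inv_mem h3))
        rwa [mul_inv_cancel_right] at this
      · have h3 := C.comm_t_mem hx le_rfl _ h (by rw [mul_assoc, hbt])
        refine Or.inl ⟨h3, fun h' => htL ?_⟩
        have := hUL (mul_mem h3 (inv_mem h'))
        rwa [mul_inv_cancel_right] at this
    have hUH : C.U C.n ≤ C.H ⊓ Z := fun g hg => ⟨Or.inl (C.U_le_N _ hg), hLZ (hUL hg)⟩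
    have h3 := relIndex_mul_relIndex (C.U C.n) L Z hUL hLZ
    have h4 := relIndex_mul_relIndex (C.U C.n) (C.H ⊓ Z) Z hUH inf_le_right
    rw [h1] at h3
    rw [h2, ← h3, inf_relIndex_right] at h4
    have h5 : C.H.relIndex Z = (C.U C.n).relIndex L := by omega
    rw [h5]
    exact hodd

end Chain

end Cfsg.Agent.F42.Filtered
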