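import Cfsg.Agent.F42.FinalZ
import Cfsg.Agent.TwoFusion.ClosedCommutator
import Cfsg.Agent.StandardComponent.FiRedGen

/-!
# No non-abelian simple group has a standard subgroup `F₄(2)`
-/

set_option autoImplicit false

namespace Cfsg.Agent.F42.Final

universe u v

theorem commHalf {G : Type u} [Group G] [Finite G] [IsSimpleGroup G] (h2 : 2 ∣ Nat.card G) :
    StdAlt.First.CommHalf G := by
  intro P S₁ S₂ _ hd h1 h2'
  rw [eq_bot_iff, ← StandardComponent.FiRedGen.oddCore_eq_bot (G := G) h2]
  exact TwoFusion.ClosedCommutator.commutator_le P S₁ S₂ hd h1 h2'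

/-- a locally balanced non-abelian finite simple group has no standard subgroup isomorphic to `F₄(2)` -/
theorem false_of_standard {G : Type u} [Group G] [Finite G] [IsSimpleGroup G] (hG : ¬ IsMulCommutative G)
    (hbal : ∀ t : G, orderOf t = 2 → Cfsg.centralizerPPrimeCore 2 t = ⊥)
    (L : Subgroup G) (hL : Cfsg.IsStandardSubgroup L)
    {F : Type v} [Field F] [Fintype F] (hF : Fintype.card F = 2)
    (e : Nonempty (↥L ≃* ↥(Cfsg.Lie.chevF4.group F))) : False :=
  FinalZ.false_of_standard hG (commHalf (FinalZ.two_dvd L hF e)) hbal L hL hF e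

end Cfsg.Agent.F42.Final
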