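import Cfsg.Agent.F42.RelNon

/-!
# `IsNon (44)` and `IsNon (47)` exclude each other

`ns`: `S.IsNon a` and `(S.dual α hα).IsNon b` are contradictory.
-/

set_option autoImplicit false

namespace Cfsg.Agent.F42.NonPair

open RelTab RelSys RelNon
open Cfsg.Agent.FourTwo.Base (LL x wd wd_cons wd_nil n n_eq_wd bar bar_lt bar_bar x_mul_self)
open Cfsg.Agent.FourTwo.BN (nw act act_lt nw_conj x_ne_one x_inj)
open Cfsg.Agent.FourTwo.PairRig (act_F act_inv act_reverse reverse_lt act_append x_comm)
open Cfsg.Agent.FourTwo.Comm (cmg comm_all)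

variable {G : Type*} [Group G] (S : Std G)

/-! ### Uniqueness -/

theorem not_comm_33_40 : ¬ Commute (x 33) (x 40) := by
  intro h
  have h1 := comm_all (r := 33) (s := 40) (by norm_num) (by norm_num) (by norm_num) (by norm_num)
  rw [show cmg 33 40 = [44] by decide +kernel, FourTwo.Base.wd_one] at h1
  have h2 : x 33 * x 40 = x 40 * x 33 := h
  rw [h2] at h1
  have h3 : x 33 = x 44 * x 33 := by
    rw [mul_assoc] at h1
    exact mul_left_cancel h1
  have h4 : x 44 = 1 := (mul_eq_right.mp h3.symm)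
  exact x_ne_one (by norm_num) h4

theorem φ_sq (r : ℕ) : S.φ (x r) * S.φ (x r) = 1 := by rw [← map_mul, x_mul_self, map_one]

theorem φ_ne {r : ℕ} (hr : r < 48) : S.φ (x r) ≠ 1 := fun h => x_ne_one hr (S.inj (h.trans (map_one _).symm))

theorem φ_comm {r s : ℕ} (hr : r < 48) (hs : s < 48) (h2 : r + s ≠ 47) (h : cmg r s = []) :
    Commute (S.φ (x r)) (S.φ (x s)) := by
  show _ * _ = _ * _
  rw [← map_mul, x_comm hr hs h2 h, map_mul]

theorem uniq {a a' : G} (aa : a * a = 1) (at_ : a * S.t * a⁻¹ = S.t * S.φ (x 44))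
    (hF : ∀ b, b < 48 → F 44 b = true → Commute a (S.φ (x b))) (aa' : a' * a' = 1)
    (at' : a' * S.t * a'⁻¹ = S.t * S.φ (x 44)) (hF' : ∀ b, b < 48 → F 44 b = true → Commute a' (S.φ (x b))) :
    a' = a ∨ a' = a * S.φ (x 44) := by
  have h1 : a * S.t = S.t * S.φ (x 44) * a := by rw [← at_, inv_mul_cancel_right]
  have h1' : a' * S.t = S.t * S.φ (x 44) * a' := by rw [← at', inv_mul_cancel_right]
  have h44 := hF 44 (by norm_num) (by decide +kernel)
  have h3344 : Commute (S.φ (x 44)) (S.φ (x 33)) := φ_comm S (by norm_num) (by norm_num) (by norm_num) (by decide +kernel)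
  have het : Commute (a * a') S.t := by
    show a * a' * S.t = S.t * (a * a')
    calc a * a' * S.t = a * (a' * S.t) := mul_assoc _ _ _
      _ = a * S.t * S.φ (x 44) * a' := by rw [h1']; group
      _ = S.t * S.φ (x 44) * (a * S.φ (x 44)) * a' := by rw [h1]; group
      _ = S.t * (S.φ (x 44) * S.φ (x 44)) * a * a' := by rw [h44.eq]; group
      _ = S.t * (a * a') := by rw [φ_sq]; group
  have hall : ∀ b, b < 48 → F 44 b = true → Commute (a * a') (S.φ (x b)) := fun b hb h => (hF b hb h).mul_left (hF' b hb h)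
  obtain ⟨p, q, r, hp, hq, hr, e⟩ := S.rig60 44 40 (by norm_num) (by norm_num) (by decide +kernel) (a * a') het
    fun b hb h _ => hall b hb h
  have hr1 : r = 1 := by
    rcases hr with hr | hr
    · exact hr
    exfalso
    have k1 := hall 33 (by norm_num) (by decide +kernel)
    have k2 : Commute (p * q) (S.φ (x 33)) := by
      refine Commute.mul_left ?_ ?_
      · rcases hp with rfl | rfl
        · exact Commute.one_left _
        · exact S.comm (x 33)
      · rcases hq with rfl | rfl
        · exact Commute.one_left _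
        · exact h3344
    have k3 : Commute r (S.φ (x 33)) := by
      have : r = (p * q)⁻¹ * (a * a') := by rw [e]; group
      rw [this]
      exact (k2.inv_left).mul_left k1
    rw [hr] at k3
    apply not_comm_33_40
    apply S.inj
    rw [map_mul, map_mul]
    exact k3.symm
  rw [hr1, mul_one] at e
  have ha' : a' = a * (p * q) := by rw [← e, ← mul_assoc, aa, one_mul]
  have hqa : Commute q a := by
    rcases hq with rfl | rfl
    · exact Commute.one_left _
    · exact h44.symm
  have hqt : Commute q S.t := by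
    rcases hq with rfl | rfl
    · exact Commute.one_left _
    · exact (S.comm (x 44)).symm
  have hqq : q * q = 1 := by
    rcases hq with rfl | rfl
    · exact mul_one _
    · exact φ_sq S 44
  rcases hp with rfl | rfl
  · rw [one_mul] at ha'
    rcases hq with rfl | rfl
    · left; rw [ha', mul_one]
    · right; exact ha'
  · exfalso
    have h2 : a' * a' = S.φ (x 44) := by
      rw [ha']
      calc a * (S.t * q) * (a * (S.t * q)) = a * S.t * (q * a) * S.t * q := by group
        _ = a * S.t * (a * q) * S.t * q := by rw [hqa.eq]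
        _ = a * S.t * a * (q * S.t) * q := by group
        _ = a * S.t * a * (S.t * q) * q := by rw [hqt.eq]
        _ = a * S.t * a * S.t * (q * q) := by group
        _ = S.t * S.φ (x 44) * (a * a) * S.t := by rw [hqq, h1]; group
        _ = S.t * (S.φ (x 44) * S.t) := by rw [aa]; group
        _ = S.φ (x 44) := by rw [← S.comm, ← mul_assoc, S.tt, one_mul]
    rw [aa'] at h2
    exact φ_ne S (by norm_num) h2.symm

theorem isNon_F {a : G} (H : S.IsNon a) (b : ℕ) (hb : b < 48) (h : F 44 b = true) : Commute a (S.φ (x b)) := by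
  obtain ⟨e1, e2⟩ := F44 hb h
  exact H.fix b e1 hb e2

/-- Weyl elements fixing `44` -/
theorem word_conj {a : G} (H : S.IsNon a) {w : List ℕ} (hw : ∀ i ∈ w, i < 4) (h44 : act w 44 = 44) :
    S.φ (nw w) * a * (S.φ (nw w))⁻¹ = a ∨ S.φ (nw w) * a * (S.φ (nw w))⁻¹ = a * S.φ (x 44) := by
  refine uniq S H.aa H.at_ (isNon_F S H) ?_ ?_ ?_
  · calc _ = S.φ (nw w) * (a * a) * (S.φ (nw w))⁻¹ := by group
      _ = 1 := by rw [H.aa, mul_one, mul_inv_cancel]
  · have h1 : (S.φ (nw w))⁻¹ * S.t = S.t * (S.φ (nw w))⁻¹ := by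
      rw [← map_inv, S.comm]
    have h2 : S.φ (nw w) * S.φ (x 44) * (S.φ (nw w))⁻¹ = S.φ (x 44) := by
      rw [← map_conj S hw (by norm_num), h44]
    calc _ = S.φ (nw w) * a * ((S.φ (nw w))⁻¹ * S.t) * S.φ (nw w) * a⁻¹ * (S.φ (nw w))⁻¹ := by group
      _ = S.φ (nw w) * (a * S.t * a⁻¹) * (S.φ (nw w))⁻¹ := by rw [h1]; group
      _ = S.φ (nw w) * S.t * S.φ (x 44) * (S.φ (nw w))⁻¹ := by rw [H.at_]; group
      _ = S.t * (S.φ (nw w) * S.φ (x 44) * (S.φ (nw w))⁻¹) := by rw [S.comm']; group
      _ = _ := by rw [h2]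
  · intro b hb hF
    have hb' := act_lt (reverse_lt hw) hb
    have hF' : F 44 (act w.reverse b) = true := by
      have := act_F hw (by norm_num : 44 < 48) hb'
      rw [h44, act_reverse hw hb, hF] at this
      exact this.symm
    have h := isNon_F S H _ hb' hF'
    rw [map_conj' S hw hb]
    exact h.conj _

/-! ### The graph automorphism on words -/

section Alpha

variable {α : LL ≃* LL} (hα : ∀ r < 48, α (x r) = x (bar r))

include hα in
theorem α_wd {l : List ℕ} (hl : ∀ r ∈ l, r < 48) : α (wd l) = wd (l.map bar) := by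
  induction l with
  | nil => rw [List.map_nil, wd_nil, map_one]
  | cons r l ih =>
    rw [List.map_cons, wd_cons, wd_cons, map_mul, hα r (hl r List.mem_cons_self),
      ih fun s hs => hl s (List.mem_cons_of_mem _ hs)]

theorem nL_tab : ∀ i < 4, (∀ r ∈ [Cfsg.Agent.ChevalleyStructure.TwF4.Rel.sp i, 47 - Cfsg.Agent.ChevalleyStructure.TwF4.Rel.sp i,
    Cfsg.Agent.ChevalleyStructure.TwF4.Rel.sp i], r < 48) ∧
    [Cfsg.Agent.ChevalleyStructure.TwF4.Rel.sp i, 47 - Cfsg.Agent.ChevalleyStructure.TwF4.Rel.sp i,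
    Cfsg.Agent.ChevalleyStructure.TwF4.Rel.sp i].map bar = [Cfsg.Agent.ChevalleyStructure.TwF4.Rel.sp (3 - i),
      47 - Cfsg.Agent.ChevalleyStructure.TwF4.Rel.sp (3 - i), Cfsg.Agent.ChevalleyStructure.TwF4.Rel.sp (3 - i)] := by
  decide +kernel

include hα in
theorem α_n {i : ℕ} (hi : i < 4) : α (n i) = n (3 - i) := by
  rw [n_eq_wd, n_eq_wd, α_wd hα (nL_tab i hi).1, (nL_tab i hi).2]

include hα in
theorem α_nw {w : List ℕ} (hw : ∀ i ∈ w, i < 4) : α (nw w) = nw (w.map fun i => 3 - i) := by
  induction w with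
  | nil => exact map_one _
  | cons i w ih =>
    have e : ∀ (i : ℕ) (w : List ℕ), nw (i :: w) = n i * nw w := fun i w => by simp [nw]
    rw [List.map_cons, e, e, map_mul, α_n hα (hw i List.mem_cons_self), ih fun j hj => hw j (List.mem_cons_of_mem _ hj)]

variable {b : G} (Hb : (S.dual α hα).IsNon b)

include Hb in
theorem b_comm {q : ℕ} (hq : q < 48) (h1 : 15 ≤ bar q) (h2 : bar q ∉ [18, 19, 20, 27, 28, 29]) :
    Commute b (S.φ (x q)) := by
  have h := Hb.fix (bar q) h1 (bar_lt hq) h2
  have e : (S.dual α hα).φ (x (bar q)) = S.φ (x q) := by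
    rw [Std.dual_φ, hα _ (bar_lt hq), bar_bar hq]
  rw [e] at h
  exact h

include Hb in
theorem b_mv {c d : ℕ} (hc : c < 48) (hd : d < 48) (h : (bar c, bar d) ∈ Std.nsPairs) :
    b * S.φ (x c) * b⁻¹ = S.φ (x c) * S.φ (x d) := by
  have h1 := Hb.mv _ h
  have e : ∀ q, q < 48 → (S.dual α hα).φ (x (bar q)) = S.φ (x q) := by
    intro q hq
    rw [Std.dual_φ, hα _ (bar_lt hq), bar_bar hq]
  rw [map_mul] at h1
  have h2 : b * (S.dual α hα).φ (x (bar c)) * b⁻¹ = (S.dual α hα).φ (x (bar c)) * (S.dual α hα).φ (x (bar d)) := h1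
  rw [e c hc, e d hd] at h2
  exact h2

include Hb in
theorem b_word {w w' : List ℕ} (hw : ∀ i ∈ w, i < 4) (h44 : act w 44 = 44) (e : w' = w.map fun i => 3 - i) :
    S.φ (nw w') * b * (S.φ (nw w'))⁻¹ = b ∨ S.φ (nw w') * b * (S.φ (nw w'))⁻¹ = b * S.φ (x 47) := by
  have h := word_conj (S.dual α hα) Hb hw h44
  rw [Std.dual_φ, Std.dual_φ, α_nw hα hw, ← e, Std.α44 α hα] at h
  exact h

include Hb in
theorem b_t : b * S.t * b⁻¹ = S.t * S.φ (x 47) := by
  have h := Hb.at_
  rw [Std.dual_φ, Std.α44 α hα] at h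
  exact h

end Alpha

/-! ### The commutator of `a` and `b` -/

section General

theorem kcomm1 {a b y z : G} (bb : b * b = 1) (zz : z * z = 1) (ay : Commute a y) (az : Commute a z)
    (bz : Commute b z) (by_ : b * y * b⁻¹ = y * z) : Commute (b * a * b * a) y := by
  have hb : b⁻¹ = b := inv_eq_of_mul_eq_one_left bb
  have h1 : b * y = y * z * b := by rw [← by_, inv_mul_cancel_right]
  show b * a * b * a * y = y * (b * a * b * a)
  calc b * a * b * a * y = b * a * b * (a * y) := by group
    _ = b * a * (b * y) * a := by rw [ay.eq]; group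
    _ = b * (a * y) * z * b * a := by rw [h1]; group
    _ = (b * y) * (a * z) * b * a := by rw [ay.eq]; group
    _ = y * z * (b * z) * a * b * a := by rw [h1, az.eq]; group
    _ = y * (z * z) * b * a * b * a := by rw [bz.eq]; group
    _ = y * (b * a * b * a) := by rw [zz]; group

theorem kcomm2 {a b y z : G} (zz : z * z = 1) (b_y : Commute b y) (az : Commute a z)
    (bz : Commute b z) (ay : a * y * a⁻¹ = y * z) : Commute (b * a * b * a) y := by
  have h1 : a * y = y * z * a := by rw [← ay, inv_mul_cancel_right]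
  show b * a * b * a * y = y * (b * a * b * a)
  calc b * a * b * a * y = b * a * b * (a * y) := by group
    _ = b * a * (b * y) * z * a := by rw [h1]; group
    _ = b * (a * y) * (b * z) * a := by rw [b_y.eq]; group
    _ = b * y * z * (a * z) * b * a := by rw [h1, bz.eq]; group
    _ = (b * y) * (z * z) * a * b * a := by rw [az.eq]; group
    _ = y * (b * a * b * a) := by rw [zz, b_y.eq]; group

theorem kcomm0 {a b y : G} (ay : Commute a y) (b_y : Commute b y) : Commute (b * a * b * a) y :=
  ((b_y.mul_left ay).mul_left b_y).mul_left ay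

end General

theorem k_eq {α : LL ≃* LL} (hα : ∀ r < 48, α (x r) = x (bar r)) {a b : G} (Ha : S.IsNon a)
    (Hb : (S.dual α hα).IsNon b) :
    ∃ p q : LL, (p = 1 ∨ p = x 44) ∧ (q = 1 ∨ q = x 47) ∧ b * a * b * a = S.φ p * S.φ q := by
  have a44 : Commute a (S.φ (x 44)) := Ha.fix 44 (by norm_num) (by norm_num) (by decide)
  have a47 : Commute a (S.φ (x 47)) := Ha.fix 47 (by norm_num) (by norm_num) (by decide)
  have b44 : Commute b (S.φ (x 44)) := b_comm S hα Hb (by norm_num) (by decide) (by decide)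
  have b47 : Commute b (S.φ (x 47)) := b_comm S hα Hb (by norm_num) (by decide) (by decide)
  have x4447 : Commute (S.φ (x 44)) (S.φ (x 47)) := φ_comm S (by norm_num) (by norm_num) (by norm_num) (by decide +kernel)
  have ht : Commute (b * a * b * a) S.t := by
    have h1 : a * S.t = S.t * S.φ (x 44) * a := by rw [← Ha.at_, inv_mul_cancel_right]
    have h2 : b * S.t = S.t * S.φ (x 47) * b := by rw [← b_t S hα Hb, inv_mul_cancel_right]
    show b * a * b * a * S.t = S.t * (b * a * b * a)
    generalize S.φ (x 44) = u at *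
    generalize hz : S.φ (x 47) = z at *
    have uu : u * u = 1 := by
      have := h1
      have h3 : S.t = a * (a * S.t) := by rw [← mul_assoc, Ha.aa, one_mul]
      rw [h1] at h3
      have h4 : a * (S.t * u * a) = S.t * u * u * (a * a) := by
        calc a * (S.t * u * a) = (a * S.t) * (u * a) := by group
          _ = S.t * u * (a * u) * a := by rw [h1]; group
          _ = S.t * u * u * (a * a) := by rw [a44.eq]; group
      rw [h4, Ha.aa, mul_one, mul_assoc] at h3
      exact (mul_eq_left.mp h3.symm)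
    have zz : z * z = 1 := by rw [← hz]; exact φ_sq S 47
    calc b * a * b * a * S.t = b * a * b * (a * S.t) := by group
      _ = b * a * (b * S.t) * u * a := by rw [h1]; group
      _ = b * (a * S.t) * z * (b * u) * a := by rw [h2]; group
      _ = (b * S.t) * u * a * z * u * b * a := by rw [h1, b44.eq]; group
      _ = S.t * z * (b * u) * (a * z) * u * b * a := by rw [h2]; group
      _ = S.t * z * u * (b * z) * (a * u) * b * a := by rw [b44.eq, a47.eq]; group
      _ = S.t * z * (u * z) * (b * u) * a * b * a := by rw [b47.eq, a44.eq]; group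
      _ = S.t * (z * z) * (u * u) * b * a * b * a := by rw [x4447.eq, b44.eq]; group
      _ = _ := by rw [uu, zz]; group
  have hlist : ∀ q ∈ [24, 25, 27, 33, 34, 35, 36, 37, 38, 39, 40], Commute (b * a * b * a) (S.φ (x q)) := by
    have h0 : ∀ q, q < 48 → 15 ≤ q → q ∉ [18, 19, 20, 27, 28, 29] → 15 ≤ bar q → bar q ∉ [18, 19, 20, 27, 28, 29] →
        Commute (b * a * b * a) (S.φ (x q)) := fun q h1 h2 h3 h4 h5 =>
      kcomm0 (Ha.fix q h2 h1 h3) (b_comm S hα Hb h1 h4 h5)
    intro q hq
    simp only [List.mem_cons, List.not_mem_nil, or_false] at hq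
    rcases hq with rfl | rfl | rfl | rfl | rfl | rfl | rfl | rfl | rfl | rfl | rfl
    · exact h0 24 (by norm_num) (by norm_num) (by decide) (by decide) (by decide)
    · exact kcomm1 Hb.aa (φ_sq S 39) (Ha.fix 25 (by norm_num) (by norm_num) (by decide))
        (Ha.fix 39 (by norm_num) (by norm_num) (by decide)) (b_comm S hα Hb (by norm_num) (by decide) (by decide))
        (b_mv S hα Hb (by norm_num) (by norm_num) (by decide))
    · exact kcomm2 (φ_sq S 45) (b_comm S hα Hb (by norm_num) (by decide) (by decide))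
        (Ha.fix 45 (by norm_num) (by norm_num) (by decide)) (b_comm S hα Hb (by norm_num) (by decide) (by decide))
        (by rw [← map_mul]; exact Ha.mv (27, 45) (by decide))
    · exact h0 33 (by norm_num) (by norm_num) (by decide) (by decide) (by decide)
    · exact h0 34 (by norm_num) (by norm_num) (by decide) (by decide) (by decide)
    · exact h0 35 (by norm_num) (by norm_num) (by decide) (by decide) (by decide)
    · exact h0 36 (by norm_num) (by norm_num) (by decide) (by decide) (by decide)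
    · exact h0 37 (by norm_num) (by norm_num) (by decide) (by decide) (by decide)
    · exact h0 38 (by norm_num) (by norm_num) (by decide) (by decide) (by decide)
    · exact h0 39 (by norm_num) (by norm_num) (by decide) (by decide) (by decide)
    · exact h0 40 (by norm_num) (by norm_num) (by decide) (by decide) (by decide)
  have key : ∀ l : LL, (∀ q ∈ [24, 25, 27, 33, 34, 35, 36, 37, 38, 39, 40], Commute (S.φ l) (S.φ (x q))) →
      ∃ p q : LL, (p = 1 ∨ p = x 44) ∧ (q = 1 ∨ q = x 47) ∧ l = p * q := by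
    intro l hl
    refine FourTwo.CentP.cent45 fun q hq => ?_
    apply S.inj
    rw [map_mul, map_mul]
    exact hl q hq
  obtain ⟨l, hl | hl⟩ := S.root _ ht 44 (by norm_num) (kcomm0 a44 b44)
  · obtain ⟨p, q, hp, hq, e⟩ := key l fun q hq => by rw [← hl]; exact hlist q hq
    exact ⟨p, q, hp, hq, by rw [hl, e, map_mul]⟩
  · exfalso
    obtain ⟨p, q, hp, hq, e⟩ := key l fun q hq => by
      have h0 : Commute S.t (S.φ (x q)) := S.comm (x q)
      have h1 := h0.mul_left (hlist q hq)
      rw [hl, ← mul_assoc, S.tt, one_mul] at h1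
      exact h1
    have ap : Commute a (S.φ l) := by
      rw [e, map_mul]
      refine Commute.mul_right ?_ ?_
      · rcases hp with rfl | rfl
        · rw [map_one]; exact Commute.one_right _
        · exact a44
      · rcases hq with rfl | rfl
        · rw [map_one]; exact Commute.one_right _
        · exact a47
    have ll : S.φ l * S.φ l = 1 := by
      have c1 : Commute (S.φ p) (S.φ q) := by
        rcases hp with rfl | rfl <;> rcases hq with rfl | rfl
        · exact Commute.refl _
        · rw [map_one]; exact Commute.one_left _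
        · rw [map_one]; exact Commute.one_right _
        · exact x4447
      have pp : S.φ p * S.φ p = 1 := by
        rcases hp with rfl | rfl
        · rw [map_one, mul_one]
        · exact φ_sq S 44
      have qq : S.φ q * S.φ q = 1 := by
        rcases hq with rfl | rfl
        · rw [map_one, mul_one]
        · exact φ_sq S 47
      rw [e, map_mul]
      calc S.φ p * S.φ q * (S.φ p * S.φ q) = S.φ p * (S.φ q * S.φ p) * S.φ q := by group
        _ = (S.φ p * S.φ p) * (S.φ q * S.φ q) := by rw [c1.symm.eq]; group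
        _ = 1 := by rw [pp, qq, mul_one]
    have h1 : a * (b * a * b * a) * a⁻¹ * (b * a * b * a) = 1 := by
      calc a * (b * a * b * a) * a⁻¹ * (b * a * b * a) = a * b * a * (b * b) * a * b * a := by group
        _ = a * b * (a * a) * b * a := by rw [Hb.aa]; group
        _ = a * (b * b) * a := by rw [Ha.aa]; group
        _ = 1 := by rw [Hb.aa, mul_one, Ha.aa]
    have h2 : a * (b * a * b * a) * a⁻¹ * (b * a * b * a) = S.φ (x 44) := by
      rw [hl]
      calc a * (S.t * S.φ l) * a⁻¹ * (S.t * S.φ l) = (a * S.t * a⁻¹) * (a * S.φ l) * a⁻¹ * (S.t * S.φ l) := by group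
        _ = (a * S.t * a⁻¹) * (S.φ l * S.t) * S.φ l := by rw [ap.eq]; group
        _ = S.t * S.φ (x 44) * S.t * (S.φ l * S.φ l) := by rw [Ha.at_, S.comm']; group
        _ = S.φ (x 44) := by rw [ll, mul_one, S.comm, mul_assoc, S.tt, mul_one]
    rw [h1] at h2
    exact φ_ne S (by norm_num) h2.symm

/-! ### The two relations -/

section General2

theorem end60 {b X33 A40 A44 c Q P40 P44 : G} (t6 : X33 * A40 * X33 = A40 * A44 * c)
    (h1 : b * X33 * b⁻¹ = X33) (h2 : b * A40 * b⁻¹ = P40 * Q * A40) (h3 : b * A44 * b⁻¹ = P44 * Q * A44)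
    (h4 : b * c * b⁻¹ = c) (hP : X33 * P40 = P40 * P44 * X33) (q1 : Commute Q X33) (q2 : Commute Q A40)
    (q4 : Commute Q P44) (p1 : Commute P44 A40) : Q = 1 := by
  have e : (b * X33 * b⁻¹) * (b * A40 * b⁻¹) * (b * X33 * b⁻¹) = (b * A40 * b⁻¹) * (b * A44 * b⁻¹) * (b * c * b⁻¹) := by
    calc _ = b * (X33 * A40 * X33) * b⁻¹ := by group
      _ = _ := by rw [t6]; group
  rw [h1, h2, h3, h4] at e
  have l1 : X33 * (P40 * Q * A40) * X33 = P40 * P44 * Q * (A40 * A44 * c) := by
    calc _ = (X33 * P40) * Q * A40 * X33 := by group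
      _ = P40 * P44 * (X33 * Q) * A40 * X33 := by rw [hP]; group
      _ = P40 * P44 * Q * (X33 * A40 * X33) := by rw [← q1.eq]; group
      _ = _ := by rw [t6]
  have l2 : P40 * Q * A40 * (P44 * Q * A44) * c = P40 * P44 * Q * Q * (A40 * A44 * c) := by
    calc _ = P40 * Q * (A40 * P44) * Q * A44 * c := by group
      _ = P40 * (Q * P44) * (A40 * Q) * A44 * c := by rw [← p1.eq]; group
      _ = P40 * P44 * Q * Q * A40 * A44 * c := by rw [q4.eq, ← q2.eq]; group
      _ = _ := by group
  rw [l1, l2] at e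
  have e2 := mul_right_cancel e
  exact (mul_eq_left.mp e2.symm)

theorem end135 {b X41 A29 A44 X44 z c d P29 P44 Pz : G} (t3 : X41 * A29 * X41 = A29 * A44 * c * d)
    (h1 : b * X41 * b⁻¹ = X41 * X44) (h2 : b * A29 * b⁻¹ = P29 * A29) (h3 : b * A44 * b⁻¹ = P44 * A44)
    (h4 : b * c * b⁻¹ = c) (h5 : b * d * b⁻¹ = d) (k1 : Commute X41 X44) (k2 : A29 * X44 = X44 * z * A29)
    (k3 : X41 * P29 = P29 * P44 * Pz * X41) (k4 : A29 * P44 = P44 * Pz * A29) (k5 : Commute X44 P29)
    (k6 : X44 * X44 = 1) (k7 : Commute z P29) (k9 : Commute z X41) : z = 1 := by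
  have e : (b * X41 * b⁻¹) * (b * A29 * b⁻¹) * (b * X41 * b⁻¹) =
      (b * A29 * b⁻¹) * (b * A44 * b⁻¹) * (b * c * b⁻¹) * (b * d * b⁻¹) := by
    calc _ = b * (X41 * A29 * X41) * b⁻¹ := by group
      _ = _ := by rw [t3]; group
  rw [h1, h2, h3, h4, h5] at e
  have l1 : X41 * X44 * (P29 * A29) * (X41 * X44) = z * (P29 * P44 * Pz * (A29 * A44 * c * d)) := by
    calc _ = X41 * (X44 * P29) * A29 * (X41 * X44) := by group
      _ = X41 * P29 * X44 * (A29 * X44) * X41 := by rw [k5.eq, k1.eq]; group
      _ = X41 * P29 * (X44 * X44) * z * A29 * X41 := by rw [k2]; group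
      _ = X41 * (P29 * z) * A29 * X41 := by rw [k6]; group
      _ = (X41 * z) * P29 * A29 * X41 := by rw [← k7.eq]; group
      _ = z * (X41 * P29) * A29 * X41 := by rw [← k9.eq]; group
      _ = z * (P29 * P44 * Pz * (X41 * A29 * X41)) := by rw [k3]; group
      _ = _ := by rw [t3]
  have l2 : P29 * A29 * (P44 * A44) * c * d = P29 * P44 * Pz * (A29 * A44 * c * d) := by
    calc _ = P29 * (A29 * P44) * A44 * c * d := by group
      _ = _ := by rw [k4]; group
  rw [l1, l2] at e
  exact mul_eq_right.mp e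

end General2

/-- conjugation by `b` of the new elements -/
theorem conj_A {a b g P Q z : G} (hk : b * a * b * a = P * Q) (aa : a * a = 1) (bb : b * b = 1)
    (hg : g * b * g⁻¹ = b ∨ g * b * g⁻¹ = b * z) (gz : Commute g z) (az : Commute a z) (gQ : Commute g Q) :
    b * (g * a * g⁻¹) * b⁻¹ = (g * P * g⁻¹) * Q * (g * a * g⁻¹) := by
  have hb : b⁻¹ = b := inv_eq_of_mul_eq_one_left bb
  have h1 : b * a * b⁻¹ = P * Q * a := by
    rw [hb, ← hk]
    calc b * a * b = b * a * b * (a * a) := by rw [aa, mul_one]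
      _ = _ := by group
  have h2 : b * (g * a * g⁻¹) * b⁻¹ = g * (b * a * b⁻¹) * g⁻¹ := by
    rcases hg with hg | hg
    · have h3 : b * g = g * b := by
        calc b * g = (g * b * g⁻¹) * g := by rw [hg]
          _ = _ := by group
      calc b * (g * a * g⁻¹) * b⁻¹ = (b * g) * a * (b * g)⁻¹ := by group
        _ = _ := by rw [h3]; group
    · have h3 : b * g = g * b * z⁻¹ := by
        calc b * g = (b * z) * (z⁻¹ * g) := by group
          _ = g * b * g⁻¹ * (g * z⁻¹) := by rw [← hg, gz.inv_right.eq]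
          _ = _ := by group
      calc b * (g * a * g⁻¹) * b⁻¹ = (b * g) * a * (b * g)⁻¹ := by group
        _ = g * b * (z⁻¹ * a) * z * b⁻¹ * g⁻¹ := by rw [h3]; group
        _ = _ := by rw [az.symm.inv_left.eq]; group
  rw [h2, h1]
  have h4 : g * Q = Q * g := gQ
  calc g * (P * Q * a) * g⁻¹ = g * P * g⁻¹ * (g * Q) * a * g⁻¹ := by group
    _ = _ := by rw [h4]; group

theorem conj_aS {α : LL ≃* LL} (hα : ∀ r < 48, α (x r) = x (bar r)) {a b : G} (Ha : S.IsNon a)
    (Hb : (S.dual α hα).IsNon b) {p q : LL} (hq : q = 1 ∨ q = x 47) (hk : b * a * b * a = S.φ p * S.φ q)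
    {s : ℕ} (hs : s < 48) (hl : lg s = false) {w : List ℕ} (hw : ∀ i ∈ w, i < 4) (h44 : act w 44 = 44)
    (hw' : wS s = w.map fun i => 3 - i) (h47 : act (wS s) 47 = 47) :
    b * aS S a s * b⁻¹ = (S.φ (nw (wS s)) * S.φ p * (S.φ (nw (wS s)))⁻¹) * S.φ q * aS S a s := by
  rw [aS_short S hl]
  have gz : Commute (S.φ (nw (wS s))) (S.φ (x 47)) := by
    have h := map_conj S (wS_spec hs hl).1 (r := 47) (by norm_num)
    rw [h47] at h
    show _ * _ = _ * _
    rw [eq_mul_inv_iff_mul_eq] at h
    exact h.symm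
  have a47 : Commute a (S.φ (x 47)) := Ha.fix 47 (by norm_num) (by norm_num) (by decide)
  refine conj_A (z := S.φ (x 47)) hk Ha.aa Hb.aa (b_word S hα Hb hw h44 hw') gz a47 ?_
  rcases hq with rfl | rfl
  · rw [map_one]; exact Commute.one_right _
  · exact gz

theorem gPg {s : ℕ} (hs : s < 48) (hl : lg s = false) {p : LL} (hp : p = 1 ∨ p = x 44) :
    (p = 1 → S.φ (nw (wS s)) * S.φ p * (S.φ (nw (wS s)))⁻¹ = 1) ∧
    (p = x 44 → S.φ (nw (wS s)) * S.φ p * (S.φ (nw (wS s)))⁻¹ = S.φ (x s)) := by
  refine ⟨?_, ?_⟩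
  · rintro rfl
    rw [map_one, mul_one, mul_inv_cancel]
  · rintro rfl
    rw [← map_conj S (wS_spec hs hl).1 (by norm_num), (wS_spec hs hl).2]

/-- **(NS)** -/
theorem ns {α : LL ≃* LL} (hα : ∀ r < 48, α (x r) = x (bar r)) {a b : G} (Ha : S.IsNon a)
    (Hb : (S.dual α hα).IsNon b) : False := by
  obtain ⟨p, q, hp, hq, hk⟩ := k_eq S hα Ha Hb
  have Sy := sysN S Ha
  have c44 := conj_aS S hα Ha Hb hq hk (s := 44) (by norm_num) (by decide +kernel) (w := []) (by simp) rfl
    (by decide +kernel) (by decide +kernel)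
  have c40 := conj_aS S hα Ha Hb hq hk (s := 40) (by norm_num) (by decide +kernel) (w := [3]) (by decide)
    (by decide +kernel) (by decide +kernel) (by decide +kernel)
  have c29 := conj_aS S hα Ha Hb hq hk (s := 29) (by norm_num) (by decide +kernel) (w := [3, 2, 1, 2, 3]) (by decide)
    (by decide +kernel) (by decide +kernel) (by decide +kernel)
  have bx : ∀ r, r < 48 → 15 ≤ bar r → bar r ∉ [18, 19, 20, 27, 28, 29] → b * S.φ (x r) * b⁻¹ = S.φ (x r) := by
    intro r hr h1 h2
    rw [(b_comm S hα Hb hr h1 h2).eq, mul_inv_cancel_right]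
  have xc : ∀ r s, r < 48 → s < 48 → r + s ≠ 47 → cmg r s = [] → Commute (S.φ (x r)) (S.φ (x s)) :=
    fun r s hr hs h2 h => φ_comm S hr hs h2 h
  have x4447 := xc 44 47 (by norm_num) (by norm_num) (by norm_num) (by decide +kernel)
  have qc : ∀ g : G, Commute (S.φ (x 47)) g → Commute (S.φ q) g := by
    intro g hg
    rcases hq with rfl | rfl
    · rw [map_one]; exact Commute.one_left _
    · exact hg
  have x4744 := xc 47 44 (by norm_num) (by norm_num) (by norm_num) (by decide +kernel)
  obtain ⟨c, hc, t6⟩ := Sy.t6 (s := 40) (q := 33) (by norm_num) (by norm_num) (by decide +kernel)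
  rw [show sm 40 33 = 44 by decide +kernel] at hc t6
  obtain ⟨c', d, hc', hd, t3⟩ := Sy.t3 (s := 29) (l := 41) (by norm_num) (by norm_num) (by decide +kernel)
  rw [show sm 29 41 = 44 by decide +kernel] at hc' t3
  rw [show sm 29 (sm 29 41) = 47 by decide +kernel] at hd
  have b44 := bx 44 (by norm_num) (by decide) (by decide)
  have b47 := bx 47 (by norm_num) (by decide) (by decide)
  have bc : ∀ c r, b * S.φ (x r) * b⁻¹ = S.φ (x r) → (c = 1 ∨ c = S.φ (x r)) → b * c * b⁻¹ = c := by
    intro c r h1 h2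
    rcases h2 with rfl | rfl
    · rw [mul_one, mul_inv_cancel]
    · exact h1
  -- the commutator relations of `L`
  have r1 : S.φ (x 33) * S.φ (x 40) = S.φ (x 40) * S.φ (x 44) * S.φ (x 33) := by
    have h := comm_all (r := 33) (s := 40) (by norm_num) (by norm_num) (by norm_num) (by norm_num)
    rw [show cmg 33 40 = [44] by decide +kernel, FourTwo.Base.wd_one] at h
    rw [← map_mul, h, map_mul, map_mul]
  have r2 : S.φ (x 41) * S.φ (x 29) = S.φ (x 29) * S.φ (x 44) * S.φ (x 47) * S.φ (x 41) := by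
    have h := comm_all (r := 41) (s := 29) (by norm_num) (by norm_num) (by norm_num) (by norm_num)
    rw [show cmg 41 29 = [44, 47] by decide +kernel, wd_cons, FourTwo.Base.wd_one] at h
    rw [← map_mul, h, map_mul, map_mul, map_mul]
    simp only [mul_assoc]
  have k2 : aS S a 29 * S.φ (x 44) = S.φ (x 44) * S.φ (x 47) * aS S a 29 := by
    have h := Sy.t5 29 44 (by norm_num) (by norm_num) (by decide +kernel)
    rw [show sm 29 44 = 47 by decide +kernel] at h
    have h2 := Sy.aa 29 (by norm_num) (by decide +kernel)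
    have h3 : aS S a 29 * S.φ (x 44) * aS S a 29 = S.φ (x 44) * S.φ (x 47) := h
    rw [← h3, mul_assoc (aS S a 29 * S.φ (x 44)), h2, mul_one]
  have a40_47 : Commute (aS S a 40) (S.φ (x 47)) :=
    Sy.aF 40 (by norm_num) (by decide +kernel) 47 (by norm_num) (by decide +kernel)
  have a40_44 : Commute (aS S a 40) (S.φ (x 44)) :=
    Sy.aF 40 (by norm_num) (by decide +kernel) 44 (by norm_num) (by decide +kernel)
  have b33 := bx 33 (by norm_num) (by decide) (by decide)
  have b41 : b * S.φ (x 41) * b⁻¹ = S.φ (x 41) * S.φ (x 44) := b_mv S hα Hb (by norm_num) (by norm_num) (by decide)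
  have z1 : S.φ (x 47) = 1 := by
    rcases hp with rfl | rfl
    · -- `p = 1`
      rw [(gPg S (by norm_num) (by decide +kernel) (Or.inl rfl)).1 rfl] at c44 c40 c29
      have hQ : S.φ q = 1 := end60 t6 b33 c40 c44 (bc c 44 b44 hc) (by simp) (qc _ (xc 47 33 (by norm_num) (by norm_num)
        (by norm_num) (by decide +kernel))) (qc _ a40_47.symm) (Commute.one_right _) (Commute.one_left _)
      rw [hQ, one_mul] at c44 c29
      exact end135 (X44 := S.φ (x 44)) (z := S.φ (x 47)) (Pz := 1) t3 b41 c29 c44 (bc c' 44 b44 hc') (bc d 47 b47 hd)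
        (xc 41 44 (by norm_num) (by norm_num) (by norm_num) (by decide +kernel)) k2 (by simp) (by simp)
        (Commute.one_right _) (φ_sq S 44) (Commute.one_right _)
        (xc 47 41 (by norm_num) (by norm_num) (by norm_num) (by decide +kernel))
    · -- `p = x 44`
      rw [(gPg S (by norm_num) (by decide +kernel) (Or.inr rfl)).2 rfl] at c44 c40 c29
      have hQ : S.φ q = 1 := end60 t6 b33 c40 c44 (bc c 44 b44 hc) r1 (qc _ (xc 47 33 (by norm_num) (by norm_num)
        (by norm_num) (by decide +kernel))) (qc _ a40_47.symm) (qc _ x4744) a40_44.symm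
      rw [hQ, mul_one] at c44 c29
      exact end135 (X44 := S.φ (x 44)) (z := S.φ (x 47)) t3 b41 c29 c44 (bc c' 44 b44 hc') (bc d 47 b47 hd)
        (xc 41 44 (by norm_num) (by norm_num) (by norm_num) (by decide +kernel)) k2 r2 k2
        (xc 44 29 (by norm_num) (by norm_num) (by norm_num) (by decide +kernel)) (φ_sq S 44)
        (xc 47 29 (by norm_num) (by norm_num) (by norm_num) (by decide +kernel))
        (xc 47 41 (by norm_num) (by norm_num) (by norm_num) (by decide +kernel))
  exact φ_ne S (by norm_num) z1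

end Cfsg.Agent.F42.NonPair
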