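import Cfsg.Agent.FourTwo.Perf
import Cfsg.Agent.FourTwo.RankInv

/-!
# `F₄(2)` standard: the pattern of type `Z₄` does not occur

`G` a group, `φ : F₄(2) →* G` injective, `t` an involution with `C_G(t) = ⟨t⟩ × φ(F₄(2))`; there is no `n ∈ G` with
`n t n⁻¹ = t φ(x 44)` and `n φ(x 47) n⁻¹ = φ(x 44)`, provided every automorphism of the parabolic
subgroup `Ps = C(x 44)` moves `x 40` to a `Ps`-conjugate (hypothesis `H` of `no_Z4`).

Proof ("type flip").  We may compare two ways from `t` to `t φ(y)`, `y = p (x 44 · x 40) p⁻¹` a short root element: one step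
(by a conjugate of `n`), in which `y` comes from a long root element, and two steps (`t → t φ(x 44) → t φ(y)`),
in which `y` comes from a short root element.
-/

set_option autoImplicit false

namespace Cfsg.Agent.F42.PatZ4

open Cfsg.Lie Cfsg.Agent.ChevalleyStructure.TwF4.Rel Cfsg.Agent.ChevalleyStructure.TwF4.Tables
open Cfsg.Agent.FourTwo.Base Cfsg.Agent.FourTwo.BN Cfsg.Agent.FourTwo.Cent Cfsg.Agent.FourTwo.Par
open scoped commutatorElement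

/-! ### facts on `F₄(2)` -/

/-- `x 44 · x 40` is a short root element. -/
theorem exists_conj_4440 : ∃ u : LL, u * x 44 * u⁻¹ = x 44 * x 40 := by
  refine ⟨x 33 * n 0, ?_⟩
  have h1 : n 0 * x 44 * (n 0)⁻¹ = x (refl 0 44) := n_conj (by decide) (by decide)
  have h2 : refl 0 44 = 40 := by decide +kernel
  rw [h2] at h1
  have h3 : x 33 * x 40 = x 44 * x 40 * x 33 := by
    have := wd_eq [33, 40] [44, 40, 33] (by decide +kernel)
    simpa [wd_cons, mul_assoc] using this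
  calc x 33 * n 0 * x 44 * (x 33 * n 0)⁻¹ = x 33 * (n 0 * x 44 * (n 0)⁻¹) * (x 33)⁻¹ := by group
    _ = x 33 * x 40 * (x 33)⁻¹ := by rw [h1]
    _ = x 44 * x 40 := by rw [h3, mul_inv_cancel_right]

/-- a reflection interchanging `x 47` and `x 46` -/
theorem exists_swap_4746 : ∃ v : LL, v * x 47 * v⁻¹ = x 46 ∧ v * x 46 * v⁻¹ = x 47 := by
  refine ⟨n 3, ?_, ?_⟩
  · rw [n_conj (by decide) (by decide)]
    rw [show refl 3 47 = 46 by decide +kernel]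
  · rw [n_conj (by decide) (by decide)]
    rw [show refl 3 46 = 47 by decide +kernel]

theorem comm_4440 : x 44 * x 40 = x 40 * x 44 := by
  have := wd_eq [44, 40] [40, 44] (by decide +kernel)
  simpa [wd_cons] using this

theorem comm_4746 : x 47 * x 46 = x 46 * x 47 := by
  have := wd_eq [47, 46] [46, 47] (by decide +kernel)
  simpa [wd_cons] using this

theorem x_pres (r : ℕ) : (X r (1 : ZMod 2)) ∈ Cfsg.Agent.FourTwo.RankInv.pres (ZMod 2) :=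
  Cfsg.Agent.FourTwo.RankInv.group_le_pres (X_mem r)

/-- the long and the short root elements are not conjugate -/
theorem not_conj (g : LL) : g * x 47 * g⁻¹ ≠ x 44 := by
  intro h
  have h1 : ((g * x 47 * g⁻¹ : LL) : GL chevF4.Idx (ZMod 2)) = ((x 44 : LL) : GL chevF4.Idx (ZMod 2)) := by rw [h]
  rw [Subgroup.coe_mul, Subgroup.coe_mul, Subgroup.coe_inv, coe_x, coe_x] at h1
  have h2 := Cfsg.Agent.FourTwo.RankInv.rJ_conj (K := ZMod 2)
    (Cfsg.Agent.FourTwo.RankInv.group_le_pres g.2) (x_pres 47)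
  rw [h1] at h2
  have h3 : ∀ r < 48, Cfsg.Agent.FourTwo.RankInv.rJ (X r (1 : ZMod 2)) =
      Cfsg.Agent.FourTwo.RankInv.rkM Cfsg.Agent.FourTwo.RankInv.maskJ (Cfsg.Agent.FourTwo.RankInv.wordM [r]) := by
    intro r hr
    have h4 := Cfsg.Agent.FourTwo.RankInv.rJ_wX (K := ZMod 2) [r] (by
      intro s hs
      rw [List.mem_singleton] at hs
      rw [hs]; exact hr)
    rw [← h4]
    simp [Cfsg.Agent.FourTwo.RankInv.wX]
  rw [h3 44 (by decide), h3 47 (by decide)] at h2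
  revert h2
  decide +kernel

/-! ### the two ways -/

variable {G : Type*} [Group G]

/-- The contradiction, once `n` is known on `x 46`. -/
theorem two_ways {φ : LL →* G} (hφ : Function.Injective φ) {t : G} (hc : ∀ l, t * φ l = φ l * t)
    (e1 : ∀ g, g * t = t * g → ∃ l, g = φ l ∨ g = t * φ l) {n : G} (h1 : n * t * n⁻¹ = t * φ (x 44))
    (h3 : n * φ (x 47) * n⁻¹ = φ (x 44)) {p : LL} (hp : p * x 44 * p⁻¹ = x 44)
    (h4 : n * φ (x 46) * n⁻¹ = φ (p * x 40 * p⁻¹)) : False := by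
  obtain ⟨u, hu⟩ := exists_conj_4440
  obtain ⟨v, hv, hv'⟩ := exists_swap_4746
  -- conjugation by elements of `φ(L)` fixes `t`
  have ht : ∀ l, φ l * t * (φ l)⁻¹ = t := fun l => by rw [← hc l, mul_inv_cancel_right]
  -- the short root element
  obtain ⟨y, hy⟩ : ∃ y : LL, y = p * (x 44 * x 40) * p⁻¹ := ⟨_, rfl⟩
  have hy1 : y = x 44 * (p * x 40 * p⁻¹) := by
    rw [hy]
    calc p * (x 44 * x 40) * p⁻¹ = (p * x 44 * p⁻¹) * (p * x 40 * p⁻¹) := by group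
      _ = x 44 * (p * x 40 * p⁻¹) := by rw [hp]
  obtain ⟨w, hu'⟩ : ∃ w : LL, w * x 44 * w⁻¹ = y := ⟨p * u, by
    calc (p * u) * x 44 * (p * u)⁻¹ = p * (u * x 44 * u⁻¹) * p⁻¹ := by group
      _ = y := by rw [hu, hy]⟩
  -- `n⁻¹ t n = t φ(x 47)`
  have h5 : n⁻¹ * t * n = t * φ (x 47) := by
    have e : n⁻¹ * φ (x 44) * n = φ (x 47) := by rw [← h3]; group
    have e2 : t = n⁻¹ * (t * φ (x 44)) * n := by rw [← h1]; group
    have e3 : t = n⁻¹ * t * n * φ (x 47) := by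
      calc t = n⁻¹ * (t * φ (x 44)) * n := e2
        _ = n⁻¹ * t * n * (n⁻¹ * φ (x 44) * n) := by group
        _ = n⁻¹ * t * n * φ (x 47) := by rw [e]
    have e4 : φ (x 47) * φ (x 47) = 1 := by rw [← map_mul, x_mul_self, map_one]
    calc n⁻¹ * t * n = n⁻¹ * t * n * (φ (x 47) * φ (x 47)) := by rw [e4, mul_one]
      _ = (n⁻¹ * t * n * φ (x 47)) * φ (x 47) := by group
      _ = t * φ (x 47) := by rw [← e3]
  -- one step
  set g1 : G := φ w * n * (φ w)⁻¹ with hg1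
  have hA : g1 * t * g1⁻¹ = t * φ y := by
    calc g1 * t * g1⁻¹ = φ w * (n * ((φ w)⁻¹ * t * (φ w)⁻¹⁻¹) * n⁻¹) * (φ w)⁻¹ := by
          rw [hg1]; group
      _ = φ w * (n * t * n⁻¹) * (φ w)⁻¹ := by rw [← map_inv, ht]
      _ = φ w * (t * φ (x 44)) * (φ w)⁻¹ := by rw [h1]
      _ = (φ w * t * (φ w)⁻¹) * (φ w * φ (x 44) * (φ w)⁻¹) := by group
      _ = t * φ y := by rw [ht, ← map_mul, ← map_inv, ← map_mul, hu']
  have hB : g1⁻¹ * φ y * g1 = φ (w * x 47 * w⁻¹) := by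
    have e : (φ w)⁻¹ * φ y * φ w = φ (x 44) := by
      have e0 : φ y = φ w * φ (x 44) * (φ w)⁻¹ := by rw [← hu', map_mul, map_mul, map_inv]
      rw [e0]; group
    have e' : n⁻¹ * φ (x 44) * n = φ (x 47) := by rw [← h3]; group
    calc g1⁻¹ * φ y * g1 = φ w * (n⁻¹ * ((φ w)⁻¹ * φ y * φ w) * n) * (φ w)⁻¹ := by
          rw [hg1]; group
      _ = φ w * φ (x 47) * (φ w)⁻¹ := by rw [e, e']
      _ = _ := by rw [map_mul, map_mul, map_inv]
  -- two steps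
  set g2 : G := n * (φ v * n⁻¹ * (φ v)⁻¹) with hg2
  have hC : g2 * t * g2⁻¹ = t * φ y := by
    calc g2 * t * g2⁻¹ = n * (φ v * (n⁻¹ * ((φ v)⁻¹ * t * (φ v)⁻¹⁻¹) * n) * (φ v)⁻¹) * n⁻¹ := by
          rw [hg2]; group
      _ = n * (φ v * (n⁻¹ * t * n) * (φ v)⁻¹) * n⁻¹ := by rw [← map_inv, ht]
      _ = n * (φ v * (t * φ (x 47)) * (φ v)⁻¹) * n⁻¹ := by rw [h5]
      _ = n * ((φ v * t * (φ v)⁻¹) * (φ v * φ (x 47) * (φ v)⁻¹)) * n⁻¹ := by group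
      _ = n * (t * φ (x 46)) * n⁻¹ := by rw [ht, ← map_mul, ← map_inv, ← map_mul, hv]
      _ = (n * t * n⁻¹) * (n * φ (x 46) * n⁻¹) := by group
      _ = t * φ (x 44) * φ (p * x 40 * p⁻¹) := by rw [h1, h4]
      _ = t * φ y := by rw [mul_assoc, ← map_mul, ← hy1]
  have hD : g2⁻¹ * φ y * g2 = φ (v * y * v⁻¹) := by
    have e0 : φ y = (n * φ (x 47) * n⁻¹) * (n * φ (x 46) * n⁻¹) := by rw [h3, h4, ← map_mul, ← hy1]
    have e1 : n⁻¹ * φ y * n = φ (x 47 * x 46) := by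
      rw [e0, map_mul]; group
    have e2 : (φ v)⁻¹ * φ (x 47 * x 46) * φ v = φ (x 47 * x 46) := by
      have e3 : v * (x 47 * x 46) * v⁻¹ = x 47 * x 46 := by
        calc v * (x 47 * x 46) * v⁻¹ = (v * x 47 * v⁻¹) * (v * x 46 * v⁻¹) := by group
          _ = x 47 * x 46 := by rw [hv, hv', ← comm_4746]
      have e4 : φ v * φ (x 47 * x 46) * (φ v)⁻¹ = φ (x 47 * x 46) := by
        rw [← map_inv, ← map_mul, ← map_mul, e3]
      calc (φ v)⁻¹ * φ (x 47 * x 46) * φ v = (φ v)⁻¹ * (φ v * φ (x 47 * x 46) * (φ v)⁻¹) * φ v := by rw [e4]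
        _ = φ (x 47 * x 46) := by group
    have e5 : n * φ (x 47 * x 46) * n⁻¹ = φ y := by rw [e0, map_mul]; group
    calc g2⁻¹ * φ y * g2 = φ v * (n * ((φ v)⁻¹ * (n⁻¹ * φ y * n) * φ v) * n⁻¹) * (φ v)⁻¹ := by
          rw [hg2]; group
      _ = φ v * φ y * (φ v)⁻¹ := by rw [e1, e2, e5]
      _ = _ := by rw [map_mul, map_mul, map_inv]
  -- comparison
  have hE : (g2⁻¹ * g1) * t = t * (g2⁻¹ * g1) := by
    have e : g2⁻¹ * (g1 * t * g1⁻¹) * g2 = t := by rw [hA, ← hC]; group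
    calc (g2⁻¹ * g1) * t = (g2⁻¹ * (g1 * t * g1⁻¹) * g2) * (g2⁻¹ * g1) := by group
      _ = t * (g2⁻¹ * g1) := by rw [e]
  obtain ⟨l, hl⟩ := e1 _ hE
  have hF : (g2⁻¹ * g1) * (g1⁻¹ * φ y * g1) * (g2⁻¹ * g1)⁻¹ = g2⁻¹ * φ y * g2 := by group
  have hG : φ (l * (w * x 47 * w⁻¹) * l⁻¹) = φ (v * y * v⁻¹) := by
    rw [← hD, ← hF, hB]
    rcases hl with hl | hl
    · rw [hl, map_mul, map_mul, map_inv]
    · rw [hl]
      obtain ⟨z, hz⟩ : ∃ z : LL, z = w * x 47 * w⁻¹ := ⟨_, rfl⟩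
      rw [← hz]
      calc φ (l * z * l⁻¹) = t * φ (l * z * l⁻¹) * t⁻¹ := by rw [hc, mul_inv_cancel_right]
        _ = t * φ l * φ z * (t * φ l)⁻¹ := by rw [map_mul, map_mul, map_inv]; group
  have hH := hφ hG
  have e : w⁻¹ * v⁻¹ * (l * w) * x 47 * (w⁻¹ * v⁻¹ * (l * w))⁻¹ =
      w⁻¹ * (v⁻¹ * (l * (w * x 47 * w⁻¹) * l⁻¹) * v) * w := by group
  have e' : w⁻¹ * (v⁻¹ * (v * y * v⁻¹) * v) * w = w⁻¹ * y * w := by group
  have e'' : w⁻¹ * y * w = x 44 := by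
    have e0 : y = w * x 44 * w⁻¹ := hu'.symm
    rw [e0]; group
  exact not_conj (w⁻¹ * v⁻¹ * (l * w)) (by rw [e, hH, e', e''])

/-! ### the isomorphism `Pl → Ps` -/

theorem mem_Ps {g : LL} : g ∈ Ps ↔ g * x 44 = x 44 * g := by
  rw [← cent_short, Subgroup.mem_centralizer_singleton_iff]

theorem mem_Pl {g : LL} : g ∈ Pl ↔ g * x 47 = x 47 * g := by
  rw [← cent_long, Subgroup.mem_centralizer_singleton_iff]

/-- If `A ≤ L` is perfect and `n φ(A) n⁻¹` centralises `t` and `φ z`, then `n φ(A) n⁻¹ ≤ φ(C(z))`. -/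
theorem conj_mem {φ : LL →* G} {t : G} (hc : ∀ l, t * φ l = φ l * t)
    (e1 : ∀ g, g * t = t * g → ∃ l, g = φ l ∨ g = t * φ l) {z : LL} (hφ : Function.Injective φ)
    {A : Subgroup LL} (hA : ⁅A, A⁆ = A) {m : G}
    (h1 : ∀ a ∈ A, (m * φ a * m⁻¹) * t = t * (m * φ a * m⁻¹))
    (h2 : ∀ a ∈ A, (m * φ a * m⁻¹) * φ z = φ z * (m * φ a * m⁻¹)) :
    ∀ a ∈ A, ∃ b : LL, b * z = z * b ∧ m * φ a * m⁻¹ = φ b := by
  have key : ∀ a ∈ A, ∃ b : LL, b * z = z * b ∧ (m * φ a * m⁻¹ = φ b ∨ m * φ a * m⁻¹ = t * φ b) := by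
    intro a ha
    obtain ⟨l, hl⟩ := e1 _ (h1 a ha)
    refine ⟨l, ?_, hl⟩
    have h3 := h2 a ha
    apply hφ
    rw [map_mul, map_mul]
    rcases hl with hl | hl
    · rw [hl] at h3; exact h3
    · rw [hl] at h3
      have h4 : t * (φ l * φ z) = t * (φ z * φ l) := by
        calc t * (φ l * φ z) = t * φ l * φ z := by group
          _ = φ z * (t * φ l) := h3
          _ = (φ z * t) * φ l := by group
          _ = t * (φ z * φ l) := by rw [← hc]; group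
      exact mul_left_cancel h4
  let S : Subgroup LL :=
    { carrier := {a | ∃ b : LL, b * z = z * b ∧ m * φ a * m⁻¹ = φ b}
      one_mem' := ⟨1, by simp, by simp⟩
      mul_mem' := by
        rintro a a' ⟨b, hb, hb'⟩ ⟨c, hc, hc'⟩
        refine ⟨b * c, by rw [mul_assoc, hc, ← mul_assoc, hb, mul_assoc], ?_⟩
        rw [map_mul, map_mul, ← hb', ← hc']; group
      inv_mem' := by
        rintro a ⟨b, hb, hb'⟩
        refine ⟨b⁻¹, ?_, ?_⟩
        · have : b⁻¹ * (b * z) * b⁻¹ = b⁻¹ * (z * b) * b⁻¹ := by rw [hb]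
          calc b⁻¹ * z = b⁻¹ * (z * b) * b⁻¹ := by group
            _ = b⁻¹ * (b * z) * b⁻¹ := by rw [hb]
            _ = z * b⁻¹ := by group
        · rw [map_inv, map_inv, ← hb']; group }
  have hle : ⁅A, A⁆ ≤ S := by
    rw [Subgroup.commutator_le]
    intro a ha a' ha'
    obtain ⟨b, hb, hb'⟩ := key a ha
    obtain ⟨c, hc1, hc'⟩ := key a' ha'
    obtain ⟨ai, hai, hai'⟩ := key a⁻¹ (A.inv_mem ha)
    refine ⟨b * c * b⁻¹ * c⁻¹, ?_, ?_⟩
    · have e3 : ∀ {d : LL}, d * z = z * d → d⁻¹ * z = z * d⁻¹ := by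
        intro d hd
        calc d⁻¹ * z = d⁻¹ * (z * d) * d⁻¹ := by group
          _ = d⁻¹ * (d * z) * d⁻¹ := by rw [hd]
          _ = z * d⁻¹ := by group
      calc b * c * b⁻¹ * c⁻¹ * z = b * c * b⁻¹ * (c⁻¹ * z) := by group
        _ = b * c * b⁻¹ * (z * c⁻¹) := by rw [e3 hc1]
        _ = b * c * (b⁻¹ * z) * c⁻¹ := by group
        _ = b * c * (z * b⁻¹) * c⁻¹ := by rw [e3 hb]
        _ = b * (c * z) * b⁻¹ * c⁻¹ := by group
        _ = b * (z * c) * b⁻¹ * c⁻¹ := by rw [hc1]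
        _ = (b * z) * c * b⁻¹ * c⁻¹ := by group
        _ = (z * b) * c * b⁻¹ * c⁻¹ := by rw [hb]
        _ = z * (b * c * b⁻¹ * c⁻¹) := by group
    · have e4 : m * φ (⁅a, a'⁆) * m⁻¹ = (m * φ a * m⁻¹) * (m * φ a' * m⁻¹) * (m * φ a * m⁻¹)⁻¹ *
          (m * φ a' * m⁻¹)⁻¹ := by
        rw [commutatorElement_def, map_mul, map_mul, map_mul, map_inv, map_inv]; group
      rw [e4, map_mul, map_mul, map_mul, map_inv, map_inv]
      have tb : ∀ l, t * φ l = φ l * t := hc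
      have cc : ∀ X Y : G, (t * X = X * t) → (t * Y = Y * t) →
          (t * X) * Y * (t * X)⁻¹ * Y⁻¹ = X * Y * X⁻¹ * Y⁻¹ := by
        intro X Y hX hY
        calc (t * X) * Y * (t * X)⁻¹ * Y⁻¹ = t * (X * Y * X⁻¹) * t⁻¹ * Y⁻¹ := by group
          _ = (t * X * t⁻¹) * (t * Y * t⁻¹) * (t * X * t⁻¹)⁻¹ * Y⁻¹ := by group
          _ = X * Y * X⁻¹ * Y⁻¹ := by
            rw [hX, hY, mul_inv_cancel_right, mul_inv_cancel_right]
      have cd : ∀ X Y : G, (t * X = X * t) → (t * Y = Y * t) →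
          X * (t * Y) * X⁻¹ * (t * Y)⁻¹ = X * Y * X⁻¹ * Y⁻¹ := by
        intro X Y hX hY
        calc X * (t * Y) * X⁻¹ * (t * Y)⁻¹ = (X * t) * Y * X⁻¹ * Y⁻¹ * t⁻¹ := by group
          _ = (t * X) * Y * X⁻¹ * Y⁻¹ * t⁻¹ := by rw [hX]
          _ = (t * X * t⁻¹) * (t * Y * t⁻¹) * (t * X * t⁻¹)⁻¹ * (t * Y * t⁻¹)⁻¹ := by group
          _ = X * Y * X⁻¹ * Y⁻¹ := by
            rw [hX, hY, mul_inv_cancel_right, mul_inv_cancel_right]
      rcases hb' with hb' | hb' <;> rcases hc' with hc' | hc' <;> rw [hb', hc']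
      · exact cd _ _ (tb _) (tb _)
      · exact cc _ _ (tb _) (tb _)
      · have h6 : t * (t * φ c) = t * φ c * t := by rw [mul_assoc, ← tb c]
        rw [cc (φ b) (t * φ c) (tb _) h6]
        exact cd _ _ (tb _) (tb _)
  intro a ha
  rw [← hA] at ha
  exact hle ha

theorem exists_equiv {L : Type*} [Group L] (P : Subgroup L) (F : ↥P → ↥P)
    (hmul : ∀ q q' : ↥P, ((F (q * q') : ↥P) : L) = (F q : L) * (F q' : L))
    (hinj : Function.Injective F) (hsurj : Function.Surjective F) : ∃ δ : ↥P ≃* ↥P, ∀ q, δ q = F q :=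
  ⟨MulEquiv.ofBijective (MonoidHom.mk' F fun q q' => Subtype.ext (hmul q q')) ⟨hinj, hsurj⟩, fun _ => rfl⟩

theorem x40_mem : x 40 ∈ Ps := by
  rw [mem_Ps]; exact comm_4440.symm

/-- **No pattern of type `Z₄`.** -/
theorem no_Z4 {φ : LL →* G} (hφ : Function.Injective φ) {t : G} (hc : ∀ l, t * φ l = φ l * t)
    (e1 : ∀ g, g * t = t * g → ∃ l, g = φ l ∨ g = t * φ l)
    (H : ∀ δ : ↥Ps ≃* ↥Ps, ∃ p : ↥Ps, ((δ ⟨x 40, x40_mem⟩ : ↥Ps) : LL) = p * x 40 * (p : LL)⁻¹)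
    {n : G} (h1 : n * t * n⁻¹ = t * φ (x 44)) (h3 : n * φ (x 47) * n⁻¹ = φ (x 44)) : False := by
  obtain ⟨γ, hγ⟩ := exists_graph
  have g44 : γ (x 44) = x 47 := by rw [hγ 44 (by decide)]; rfl
  have g47 : γ (x 47) = x 44 := by rw [hγ 47 (by decide)]; rfl
  have g40 : γ (x 40) = x 46 := by rw [hγ 40 (by decide)]; rfl
  have hPsl : ∀ q ∈ Ps, γ q ∈ Pl := by
    intro q hq
    rw [mem_Ps] at hq
    rw [mem_Pl, ← g44, ← map_mul, ← map_mul, hq]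
  have hPls : ∀ q ∈ Pl, γ.symm q ∈ Ps := by
    intro q hq
    rw [mem_Pl] at hq
    rw [mem_Ps]
    apply γ.injective
    rw [map_mul, map_mul, γ.apply_symm_apply, g44, hq]
  have x44s : φ (x 44) * φ (x 44) = 1 := by rw [← map_mul, x_mul_self, map_one]
  have x47s : φ (x 47) * φ (x 47) = 1 := by rw [← map_mul, x_mul_self, map_one]
  -- from `Pl` to `Ps`
  have hA : ∀ a ∈ Pl, ∃ b : LL, b * x 44 = x 44 * b ∧ n * φ a * n⁻¹ = φ b := by
    have hz : ∀ a ∈ Pl, (n * φ a * n⁻¹) * φ (x 44) = φ (x 44) * (n * φ a * n⁻¹) := by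
      intro a ha
      rw [mem_Pl] at ha
      have e : φ a * φ (x 47) = φ (x 47) * φ a := by rw [← map_mul, ha, map_mul]
      rw [← h3]
      calc n * φ a * n⁻¹ * (n * φ (x 47) * n⁻¹) = n * (φ a * φ (x 47)) * n⁻¹ := by group
        _ = n * (φ (x 47) * φ a) * n⁻¹ := by rw [e]
        _ = n * φ (x 47) * n⁻¹ * (n * φ a * n⁻¹) := by group
    refine conj_mem hc e1 hφ Cfsg.Agent.FourTwo.Perf.perfect_Pl ?_ hz
    intro a ha
    have e : φ a * t = t * φ a := (hc a).symm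
    have e2 : (n * φ a * n⁻¹) * (t * φ (x 44)) = (t * φ (x 44)) * (n * φ a * n⁻¹) := by
      rw [← h1]
      calc n * φ a * n⁻¹ * (n * t * n⁻¹) = n * (φ a * t) * n⁻¹ := by group
        _ = n * (t * φ a) * n⁻¹ := by rw [e]
        _ = n * t * n⁻¹ * (n * φ a * n⁻¹) := by group
    have e3 : t = (t * φ (x 44)) * φ (x 44) := by rw [mul_assoc, x44s, mul_one]
    calc n * φ a * n⁻¹ * t = (n * φ a * n⁻¹ * (t * φ (x 44))) * φ (x 44) := by
          rw [mul_assoc _ (t * φ (x 44)), ← e3]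
      _ = (t * φ (x 44)) * ((n * φ a * n⁻¹) * φ (x 44)) := by rw [e2, mul_assoc]
      _ = (t * φ (x 44)) * φ (x 44) * (n * φ a * n⁻¹) := by rw [hz a ha, ← mul_assoc]
      _ = t * (n * φ a * n⁻¹) := by rw [← e3]
  -- from `Ps` to `Pl`
  have h1' : n⁻¹ * t * n⁻¹⁻¹ = t * φ (x 47) := by
    have e : n⁻¹ * φ (x 44) * n = φ (x 47) := by rw [← h3]; group
    have e3 : t = n⁻¹ * t * n * φ (x 47) := by
      calc t = n⁻¹ * (n * t * n⁻¹) * n := by group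
        _ = n⁻¹ * (t * φ (x 44)) * n := by rw [h1]
        _ = n⁻¹ * t * n * (n⁻¹ * φ (x 44) * n) := by group
        _ = n⁻¹ * t * n * φ (x 47) := by rw [e]
    calc n⁻¹ * t * n⁻¹⁻¹ = n⁻¹ * t * n := by rw [inv_inv]
      _ = n⁻¹ * t * n * (φ (x 47) * φ (x 47)) := by rw [x47s, mul_one]
      _ = (n⁻¹ * t * n * φ (x 47)) * φ (x 47) := by group
      _ = t * φ (x 47) := by rw [← e3]
  have h3' : n⁻¹ * φ (x 44) * n⁻¹⁻¹ = φ (x 47) := by rw [← h3]; group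
  have hB : ∀ a ∈ Ps, ∃ b : LL, b * x 47 = x 47 * b ∧ n⁻¹ * φ a * n⁻¹⁻¹ = φ b := by
    have hz : ∀ a ∈ Ps, (n⁻¹ * φ a * n⁻¹⁻¹) * φ (x 47) = φ (x 47) * (n⁻¹ * φ a * n⁻¹⁻¹) := by
      intro a ha
      rw [mem_Ps] at ha
      have e : φ a * φ (x 44) = φ (x 44) * φ a := by rw [← map_mul, ha, map_mul]
      rw [← h3']
      calc n⁻¹ * φ a * n⁻¹⁻¹ * (n⁻¹ * φ (x 44) * n⁻¹⁻¹) = n⁻¹ * (φ a * φ (x 44)) * n⁻¹⁻¹ := by group
        _ = n⁻¹ * (φ (x 44) * φ a) * n⁻¹⁻¹ := by rw [e]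
        _ = n⁻¹ * φ (x 44) * n⁻¹⁻¹ * (n⁻¹ * φ a * n⁻¹⁻¹) := by group
    refine conj_mem hc e1 hφ Cfsg.Agent.FourTwo.Perf.perfect_Ps ?_ hz
    intro a ha
    have e : φ a * t = t * φ a := (hc a).symm
    have e2 : (n⁻¹ * φ a * n⁻¹⁻¹) * (t * φ (x 47)) = (t * φ (x 47)) * (n⁻¹ * φ a * n⁻¹⁻¹) := by
      rw [← h1']
      calc n⁻¹ * φ a * n⁻¹⁻¹ * (n⁻¹ * t * n⁻¹⁻¹) = n⁻¹ * (φ a * t) * n⁻¹⁻¹ := by group
        _ = n⁻¹ * (t * φ a) * n⁻¹⁻¹ := by rw [e]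
        _ = n⁻¹ * t * n⁻¹⁻¹ * (n⁻¹ * φ a * n⁻¹⁻¹) := by group
    have e3 : t = (t * φ (x 47)) * φ (x 47) := by rw [mul_assoc, x47s, mul_one]
    calc n⁻¹ * φ a * n⁻¹⁻¹ * t = (n⁻¹ * φ a * n⁻¹⁻¹ * (t * φ (x 47))) * φ (x 47) := by
          rw [mul_assoc _ (t * φ (x 47)), ← e3]
      _ = (t * φ (x 47)) * ((n⁻¹ * φ a * n⁻¹⁻¹) * φ (x 47)) := by rw [e2, mul_assoc]
      _ = (t * φ (x 47)) * φ (x 47) * (n⁻¹ * φ a * n⁻¹⁻¹) := by rw [hz a ha, ← mul_assoc]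
      _ = t * (n⁻¹ * φ a * n⁻¹⁻¹) := by rw [← e3]
  -- the automorphism of `Ps`
  have hF : ∀ q : ↥Ps, ∃ b : ↥Ps, φ (b : LL) = n * φ (γ q) * n⁻¹ := by
    intro q
    obtain ⟨b, hb, hb'⟩ := hA (γ q) (hPsl q q.2)
    exact ⟨⟨b, mem_Ps.2 hb⟩, hb'.symm⟩
  choose F hF using hF
  have hmul : ∀ q q' : ↥Ps, ((F (q * q') : ↥Ps) : LL) = (F q : LL) * (F q' : LL) := by
    intro q q'
    apply hφ
    rw [hF, Subgroup.coe_mul, map_mul, map_mul, map_mul, hF, hF]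
    group
  have hinj : Function.Injective F := by
    intro q q' hqq
    have e : n * φ (γ q) * n⁻¹ = n * φ (γ q') * n⁻¹ := by rw [← hF, ← hF, hqq]
    have e2 := mul_left_cancel (mul_right_cancel e)
    exact Subtype.ext (γ.injective (hφ e2))
  have hsurj : Function.Surjective F := by
    intro b
    obtain ⟨a, ha, ha'⟩ := hB b b.2
    refine ⟨⟨γ.symm a, hPls a (mem_Pl.2 ha)⟩, ?_⟩
    apply Subtype.ext
    apply hφ
    rw [hF]
    show n * φ (γ (γ.symm a)) * n⁻¹ = φ b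
    rw [γ.apply_symm_apply, ← ha']
    group
  obtain ⟨δ, hδ⟩ := exists_equiv Ps F hmul hinj hsurj
  obtain ⟨p, hp⟩ := H δ
  have hp' : ((F ⟨x 40, x40_mem⟩ : ↥Ps) : LL) = p * x 40 * (p : LL)⁻¹ := by
    rw [hδ] at hp
    exact hp
  have h4 : n * φ (x 46) * n⁻¹ = φ (p * x 40 * (p : LL)⁻¹) := by
    rw [← hp', hF]
    dsimp only
    rw [g40]
  have hpp : (p : LL) * x 44 * (p : LL)⁻¹ = x 44 := by
    rw [mem_Ps.1 p.2, mul_inv_cancel_right]
  exact two_ways hφ hc e1 h1 h3 hpp h4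

end Cfsg.Agent.F42.PatZ4
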