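import Cfsg.Agent.F42.Norm
import Cfsg.Agent.FourTwo.Perf
import Cfsg.Agent.FourTwo.CentP

/-!
# From a swap to an element of type `Norm.Pre`

`ParFact` is the automorphism theorem for the parabolic `P_s = C_L(x_s)`.
-/

set_option autoImplicit false

namespace Cfsg.Agent.F42.SwapEl

open scoped commutatorElement

/-! ### abstract part -/

section Abs

variable {L G : Type*} [Group L] [Group G]

theorem comm_of_mul {a b c : L} (h : (a * b) * c = c * (a * b)) (hb : b * c = c * b) : a * c = c * a := by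
  have e : a * c * b = c * a * b := by
    calc a * c * b = a * (c * b) := by group
      _ = a * (b * c) := by rw [hb]
      _ = (a * b) * c := by group
      _ = c * (a * b) := h
      _ = c * a * b := by group
  exact mul_right_cancel e

/-- conjugation by `n` as an automorphism of a subgroup -/
theorem exists_aut {P : Subgroup L} [Finite P] {φ : L →* G} (hφ : Function.Injective φ) {n : G}
    (h : ∀ g ∈ P, ∃ l ∈ P, n * φ g * n⁻¹ = φ l) :
    ∃ α : MulAut P, ∀ g : P, n * φ (g : L) * n⁻¹ = φ ((α g : P) : L) := by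
  classical
  choose! f hf hf' using h
  have hval : ∀ g : P, n * φ (g : L) * n⁻¹ = φ (f g) := fun g => hf' g g.2
  let F : P →* P :=
    { toFun := fun g => ⟨f g, hf g g.2⟩
      map_one' := by
        apply Subtype.ext
        apply hφ
        show φ (f ((1 : P) : L)) = φ 1
        rw [← hval, Subgroup.coe_one, map_one, mul_one, mul_inv_cancel]
      map_mul' := fun a b => by
        apply Subtype.ext
        apply hφ
        show φ (f ((a * b : P) : L)) = φ (f a * f b)
        rw [← hval, map_mul, ← hval, ← hval, Subgroup.coe_mul, map_mul]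
        group }
  have hF : ∀ g : P, n * φ (g : L) * n⁻¹ = φ ((F g : P) : L) := hval
  have hinj : Function.Injective F := by
    intro a b hab
    have h1 := hF a
    rw [hab, ← hF b] at h1
    have h2 : φ (a : L) = φ (b : L) := by
      have := mul_right_cancel h1
      exact mul_left_cancel this
    exact Subtype.ext (hφ h2)
  exact ⟨MulEquiv.ofBijective F ((Finite.injective_iff_bijective).1 hinj), fun g => hF g⟩

/-- `n` normalises `φ P` if `P` is perfect and it normalises `⟨t⟩ × φ P`. -/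
theorem norm_of_perfect {P : Subgroup L} (hP : ⁅P, P⁆ = P) {φ : L →* G} {t n : G} (tt : t * t = 1)
    (comm : ∀ l, t * φ l = φ l * t)
    (h : ∀ g ∈ P, ∃ l ∈ P, n * φ g * n⁻¹ = φ l ∨ n * φ g * n⁻¹ = t * φ l) :
    ∀ g ∈ P, ∃ l ∈ P, n * φ g * n⁻¹ = φ l := by
  have tinv : t⁻¹ = t := inv_eq_of_mul_eq_one_right tt
  intro g hg
  rw [← hP, Subgroup.commutator_def] at hg
  induction hg using Subgroup.closure_induction with
  | mem g hg =>
    obtain ⟨a, ha, b, hb, rfl⟩ := hg
    obtain ⟨la, hla, ea⟩ := h a ha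
    obtain ⟨lb, hlb, eb⟩ := h b hb
    refine ⟨⁅la, lb⁆, ?_, ?_⟩
    · rw [commutatorElement_def]
      exact P.mul_mem (P.mul_mem (P.mul_mem hla hlb) (P.inv_mem hla)) (P.inv_mem hlb)
    · have e : n * φ ⁅a, b⁆ * n⁻¹ = ⁅n * φ a * n⁻¹, n * φ b * n⁻¹⁆ := by
        rw [map_commutatorElement, commutatorElement_def, commutatorElement_def]; group
      rw [e, map_commutatorElement]
      have key : ∀ u v : G, (∀ k, t * k = k * t → True) → u * t = t * u → v * t = t * v →
          ⁅t * u, v⁆ = ⁅u, v⁆ ∧ ⁅u, t * v⁆ = ⁅u, v⁆ := by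
        intro u v _ hu hv
        constructor
        · rw [commutatorElement_def, commutatorElement_def, mul_inv_rev, tinv]
          calc t * u * v * (u⁻¹ * t) * v⁻¹ = t * (u * v * u⁻¹) * (t * v⁻¹) := by group
            _ = (t * (u * v * u⁻¹)) * (t * v⁻¹) := rfl
            _ = ((u * v * u⁻¹) * t) * (t * v⁻¹) := by
                rw [show t * (u * v * u⁻¹) = (u * v * u⁻¹) * t from by
                  have h1 : Commute t u := hu.symm
                  have h2 : Commute t v := hv.symm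
                  exact ((h1.mul_right h2).mul_right h1.inv_right).eq]
            _ = (u * v * u⁻¹) * (t * t) * v⁻¹ := by group
            _ = u * v * u⁻¹ * v⁻¹ := by rw [tt, mul_one]
        · rw [commutatorElement_def, commutatorElement_def, mul_inv_rev, tinv]
          calc u * (t * v) * u⁻¹ * (v⁻¹ * t) = (u * t) * v * u⁻¹ * v⁻¹ * t := by group
            _ = t * (u * v * u⁻¹ * v⁻¹) * t := by rw [hu]; group
            _ = (u * v * u⁻¹ * v⁻¹) * t * t := by
                rw [show t * (u * v * u⁻¹ * v⁻¹) = (u * v * u⁻¹ * v⁻¹) * t from by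
                  have h1 : Commute t u := hu.symm
                  have h2 : Commute t v := hv.symm
                  exact (((h1.mul_right h2).mul_right h1.inv_right).mul_right h2.inv_right).eq]
            _ = u * v * u⁻¹ * v⁻¹ := by rw [mul_assoc, tt, mul_one]
      have hla' : φ la * t = t * φ la := (comm la).symm
      have hlb' : φ lb * t = t * φ lb := (comm lb).symm
      have htb : t * φ lb * t = t * (t * φ lb) := by rw [mul_assoc, hlb']
      rcases ea with ea | ea <;> rcases eb with eb | eb <;> rw [ea, eb]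
      · exact (key _ _ (fun _ _ => trivial) hla' hlb').2
      · exact (key _ _ (fun _ _ => trivial) hla' hlb').1
      · rw [(key _ _ (fun _ _ => trivial) hla' htb).1, (key _ _ (fun _ _ => trivial) hla' hlb').2]
  | one => exact ⟨1, P.one_mem, by simp⟩
  | mul a b _ _ ha hb =>
    obtain ⟨la, hla, ea⟩ := ha
    obtain ⟨lb, hlb, eb⟩ := hb
    refine ⟨la * lb, P.mul_mem hla hlb, ?_⟩
    rw [map_mul, map_mul, ← ea, ← eb]; group
  | inv a _ ha =>
    obtain ⟨la, hla, ea⟩ := ha
    refine ⟨la⁻¹, P.inv_mem hla, ?_⟩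
    rw [map_inv, map_inv, ← ea]; group

end Abs

open Cfsg.Agent.FourTwo.Base hiding bar bar_lt
open Cfsg.Agent.FourTwo.Comm Cfsg.Agent.FourTwo.Par Cfsg.Agent.FourTwo.Cent
open Cfsg.Agent.F42.NormCert

/-- the indicator of `Q_s` -/
def qsP (r : ℕ) : Bool := decide (33 ≤ r)

theorem x44_mem : x 44 ∈ Ps := x_mem_RG (by norm_num) (by decide)

/-- The automorphism theorem for `P_s`. -/
def ParFact : Prop := ∀ α : MulAut Ps, α ⟨x 44, x44_mem⟩ = ⟨x 44, x44_mem⟩ →
  ∃ p : Ps, (∀ q : Ps, (q : LL) ∈ RG qsP → α q = p * q * p⁻¹) ∧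
    ∀ g : Ps, ((p⁻¹ * α g * p * g⁻¹ : Ps) : LL) ∈ RG wsP

instance : Finite (Ps : Subgroup LL) := inferInstance

theorem comm_of_mem {g : LL} (hg : g ∈ Ps) : g * x 44 = x 44 * g := by
  rw [← cent_short, Subgroup.mem_centralizer_iff] at hg
  exact (hg _ rfl).symm

theorem mem_of_comm {g : LL} (hg : g * x 44 = x 44 * g) : g ∈ Ps := by
  rw [← cent_short, Subgroup.mem_centralizer_iff]
  intro y hy
  rw [Set.mem_singleton_iff] at hy
  rw [hy]
  exact hg.symm

variable {G : Type*} [Group G]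

/-- `n` normalises `⟨t⟩ × φ(P_s)` -/
theorem swap_conj (S : Std G) {n : G} (h1 : n * S.t * n⁻¹ = S.t * S.φ (x 44))
    (h2 : n * S.φ (x 44) * n⁻¹ = S.φ (x 44)) :
    ∀ g ∈ Ps, ∃ l ∈ Ps, n * S.φ g * n⁻¹ = S.φ l ∨ n * S.φ g * n⁻¹ = S.t * S.φ l := by
  intro g hg
  have c1 : (n * S.φ g * n⁻¹) * S.φ (x 44) = S.φ (x 44) * (n * S.φ g * n⁻¹) := by
    have e : S.φ g * S.φ (x 44) = S.φ (x 44) * S.φ g := by rw [← map_mul, comm_of_mem hg, map_mul]
    calc (n * S.φ g * n⁻¹) * S.φ (x 44) = (n * S.φ g * n⁻¹) * (n * S.φ (x 44) * n⁻¹) := by rw [h2]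
      _ = n * (S.φ g * S.φ (x 44)) * n⁻¹ := by group
      _ = n * (S.φ (x 44) * S.φ g) * n⁻¹ := by rw [e]
      _ = (n * S.φ (x 44) * n⁻¹) * (n * S.φ g * n⁻¹) := by group
      _ = S.φ (x 44) * (n * S.φ g * n⁻¹) := by rw [h2]
  have c2 : (n * S.φ g * n⁻¹) * (S.t * S.φ (x 44)) = (S.t * S.φ (x 44)) * (n * S.φ g * n⁻¹) := by
    rw [← h1]
    calc (n * S.φ g * n⁻¹) * (n * S.t * n⁻¹) = n * (S.φ g * S.t) * n⁻¹ := by group
      _ = n * (S.t * S.φ g) * n⁻¹ := by rw [S.comm']
      _ = (n * S.t * n⁻¹) * (n * S.φ g * n⁻¹) := by group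
  have c3 : (n * S.φ g * n⁻¹) * S.t = S.t * (n * S.φ g * n⁻¹) := by
    have e : S.t = (S.t * S.φ (x 44)) * (S.φ (x 44))⁻¹ := by group
    have a1 : Commute (n * S.φ g * n⁻¹) (S.t * S.φ (x 44)) := c2
    have a2 : Commute (n * S.φ g * n⁻¹) (S.φ (x 44)) := c1
    have a3 := a1.mul_right a2.inv_right
    rw [← e] at a3
    exact a3
  obtain ⟨l, hl⟩ := S.root _ c3 44 (by norm_num) c1
  refine ⟨l, mem_of_comm ?_, hl⟩
  apply S.inj
  rw [map_mul, map_mul]
  rcases hl with hl | hl
  · rw [← hl]; exact c1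
  · rw [hl] at c1
    have e : S.t * (S.φ l * S.φ (x 44)) = S.t * (S.φ (x 44) * S.φ l) := by
      calc S.t * (S.φ l * S.φ (x 44)) = S.t * S.φ l * S.φ (x 44) := by group
        _ = S.φ (x 44) * (S.t * S.φ l) := c1
        _ = (S.φ (x 44) * S.t) * S.φ l := by group
        _ = (S.t * S.φ (x 44)) * S.φ l := by rw [S.comm']
        _ = _ := by group
    exact mul_left_cancel e

theorem swap_aut (S : Std G) {n : G} (h1 : n * S.t * n⁻¹ = S.t * S.φ (x 44))
    (h2 : n * S.φ (x 44) * n⁻¹ = S.φ (x 44)) :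
    ∃ α : MulAut Ps, (∀ g : Ps, n * S.φ (g : LL) * n⁻¹ = S.φ ((α g : Ps) : LL)) ∧
      α ⟨x 44, x44_mem⟩ = ⟨x 44, x44_mem⟩ := by
  obtain ⟨α, hα⟩ := exists_aut (P := Ps) S.inj (norm_of_perfect FourTwo.Perf.perfect_Ps S.tt S.comm
    (swap_conj S h1 h2))
  refine ⟨α, hα, ?_⟩
  apply Subtype.ext
  apply S.inj
  have h3 := hα ⟨x 44, x44_mem⟩
  rw [← h3]
  exact h2

/-- the group structure -/
abbrev gi : Group LL := inferInstance

/-- `Z(P_s) = ⟨x_s⟩` -/
theorem center_Ps {l : LL} (h : ∀ r, 15 ≤ r → r < 48 → l * x r = x r * l) : l = 1 ∨ l = x 44 := by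
  obtain ⟨a, b, ha, hb, e⟩ := FourTwo.CentP.cent60s (g := l) (by
    intro q hq
    have hq' : ∀ q ∈ [22, 23, 24, 25, 26, 30, 41, 42, 43, 44, 45, 46, 47], 15 ≤ q ∧ q < 48 := by decide
    exact h q (hq' q hq).1 (hq' q hq).2)
  rcases ha with ha | ha
  · rw [ha, one_mul] at e
    rw [e]; exact hb
  · exfalso
    have hb33 : b * x 33 = x 33 * b := by
      rcases hb with hb | hb
      · rw [hb, one_mul, mul_one]
      · rw [hb]
        exact comm_one (by norm_num) (by norm_num) (by norm_num) (by decide)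
    have ha33 : x 40 * x 33 = x 33 * x 40 := by
      rw [ha] at e
      have h33 := h 33 (by norm_num) (by norm_num)
      rw [e] at h33
      exact @comm_of_mul LL gi (x 40) b (x 33) h33 hb33
    have h1 := comm_all (r := 40) (s := 33) (by norm_num) (by norm_num) (by norm_num) (by norm_num)
    have h2 : cmg 40 33 = [44] := by decide
    rw [h2, wd_one] at h1
    rw [ha33] at h1
    have h3 : x 33 * x 40 = x 33 * (x 44 * x 40) := by rw [h1, mul_assoc]
    have h4 : x 44 = 1 := by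
      have := mul_left_cancel h3
      have h5 : (1 : LL) * x 40 = x 44 * x 40 := by rw [one_mul]; exact this
      exact (mul_right_cancel h5).symm
    exact FourTwo.BN.x_ne_one (by norm_num) h4

/-- **A swap gives an element of type `Norm.Pre`.** -/
theorem exists_pre (hpar : ParFact) (S : Std G) (hs : S.Swap (x 44)) : ∃ a, Norm.Pre S a := by
  obtain ⟨n, h1, h2⟩ := hs
  obtain ⟨α, hα, hα44⟩ := swap_aut S h1 h2
  obtain ⟨p, hp1, hp2⟩ := hpar α hα44
  set a := (S.φ (p : LL))⁻¹ * n with ha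
  have hpz : (p : LL) * x 44 = x 44 * (p : LL) := comm_of_mem p.2
  have hat : a * S.t * a⁻¹ = S.t * S.φ (x 44) := by
    calc a * S.t * a⁻¹ = (S.φ (p : LL))⁻¹ * (n * S.t * n⁻¹) * S.φ (p : LL) := by rw [ha]; group
      _ = (S.φ (p : LL))⁻¹ * (S.t * S.φ (x 44)) * S.φ (p : LL) := by rw [h1]
      _ = (S.φ (p : LL))⁻¹ * S.t * (S.φ (x 44 * (p : LL))) := by rw [map_mul]; group
      _ = (S.φ (p : LL))⁻¹ * (S.t * S.φ (p : LL)) * S.φ (x 44) := by rw [← hpz, map_mul]; group
      _ = (S.φ (p : LL))⁻¹ * (S.φ (p : LL) * S.t) * S.φ (x 44) := by rw [S.comm']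
      _ = _ := by group
  have hconj : ∀ g : Ps, a * S.φ (g : LL) * a⁻¹ = S.φ (((p⁻¹ * α g * p : Ps)) : LL) := by
    intro g
    calc a * S.φ (g : LL) * a⁻¹ = (S.φ (p : LL))⁻¹ * (n * S.φ (g : LL) * n⁻¹) * S.φ (p : LL) := by rw [ha]; group
      _ = (S.φ (p : LL))⁻¹ * S.φ ((α g : Ps) : LL) * S.φ (p : LL) := by rw [hα g]
      _ = _ := by
        rw [← map_inv, ← map_mul, ← map_mul]
        exact congrArg S.φ rfl
  have hfix : ∀ q : LL, q ∈ RG qsP → q ∈ Ps → a * S.φ q * a⁻¹ = S.φ q := by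
    intro q hq hq'
    have h3 := hconj ⟨q, hq'⟩
    rw [hp1 ⟨q, hq'⟩ hq] at h3
    have e : p⁻¹ * (p * (⟨q, hq'⟩ : Ps) * p⁻¹) * p = ⟨q, hq'⟩ := by group
    rw [e] at h3
    exact h3
  have hqle : RG qsP ≤ Ps := RG_mono fun r _ h => by
    unfold qsP at h; unfold psP
    have := of_decide_eq_true h
    exact decide_eq_true (by omega)
  have hwle : RG wsP ≤ RG qsP := RG_mono fun r _ h => by
    unfold wsP at h; unfold qsP
    have := of_decide_eq_true h
    exact decide_eq_true (by omega)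
  have hmv : ∀ g ∈ Ps, ∃ w ∈ RG wsP, a * S.φ g * a⁻¹ = S.φ (w * g) := by
    intro g hg
    refine ⟨_, hp2 ⟨g, hg⟩, ?_⟩
    rw [hconj ⟨g, hg⟩]
    have e : (p⁻¹ * α ⟨g, hg⟩ * p : Ps) = (p⁻¹ * α ⟨g, hg⟩ * p * (⟨g, hg⟩ : Ps)⁻¹) * ⟨g, hg⟩ := by group
    have e' := congrArg (fun y : Ps => S.φ (y : LL)) e
    exact e'
  have hsqW : ∀ w ∈ RG wsP, w * w = 1 := by
    intro w hw
    obtain ⟨c, -, rfl⟩ := exists_code hw
    exact ew_mul_self c
  -- `a²`
  have hat2 : (a * a) * S.t = S.t * (a * a) := by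
    have h3 : a * S.φ (x 44) * a⁻¹ = S.φ (x 44) :=
      hfix _ (x_mem_RG (by norm_num) (by decide)) x44_mem
    have h4 : (a * a) * S.t * (a * a)⁻¹ = S.t := by
      calc (a * a) * S.t * (a * a)⁻¹ = a * (a * S.t * a⁻¹) * a⁻¹ := by group
        _ = a * (S.t * S.φ (x 44)) * a⁻¹ := by rw [hat]
        _ = (a * S.t * a⁻¹) * (a * S.φ (x 44) * a⁻¹) := by group
        _ = S.t * S.φ (x 44) * S.φ (x 44) := by rw [h3, hat]
        _ = S.t := by rw [mul_assoc, ← map_mul, x_mul_self, map_one, mul_one]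
    calc (a * a) * S.t = ((a * a) * S.t * (a * a)⁻¹) * (a * a) := by group
      _ = S.t * (a * a) := by rw [h4]
  have hcen : ∀ g ∈ Ps, (a * a) * S.φ g = S.φ g * (a * a) := by
    intro g hg
    obtain ⟨w, hw, h3⟩ := hmv g hg
    have h4 : a * S.φ w * a⁻¹ = S.φ w := hfix w (hwle hw) (hqle (hwle hw))
    have h5 : (a * a) * S.φ g * (a * a)⁻¹ = S.φ g := by
      calc (a * a) * S.φ g * (a * a)⁻¹ = a * (a * S.φ g * a⁻¹) * a⁻¹ := by group
        _ = a * S.φ (w * g) * a⁻¹ := by rw [h3]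
        _ = (a * S.φ w * a⁻¹) * (a * S.φ g * a⁻¹) := by rw [map_mul]; group
        _ = S.φ (w * w * g) := by rw [h4, h3, ← map_mul, mul_assoc]
        _ = S.φ g := by rw [hsqW w hw, one_mul]
    calc (a * a) * S.φ g = ((a * a) * S.φ g * (a * a)⁻¹) * (a * a) := by group
      _ = S.φ g * (a * a) := by rw [h5]
  have hxP : ∀ r, 15 ≤ r → r < 48 → x r ∈ Ps := fun r hr hr' => x_mem_RG hr' (decide_eq_true hr)
  have hsq : a * a = 1 ∨ a * a = S.φ (x 44) := by
    obtain ⟨l, hl⟩ := S.root (a * a) hat2 44 (by norm_num) (hcen _ x44_mem)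
    have hl' : l = 1 ∨ l = x 44 := by
      apply center_Ps
      intro r hr hr'
      have h3 := hcen _ (hxP r hr hr')
      apply S.inj
      rw [map_mul, map_mul]
      rcases hl with hl | hl
      · rw [← hl]; exact h3
      · rw [hl] at h3
        have e : S.t * (S.φ l * S.φ (x r)) = S.t * (S.φ (x r) * S.φ l) := by
          calc S.t * (S.φ l * S.φ (x r)) = S.t * S.φ l * S.φ (x r) := by group
            _ = S.φ (x r) * (S.t * S.φ l) := h3
            _ = (S.φ (x r) * S.t) * S.φ l := by group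
            _ = (S.t * S.φ (x r)) * S.φ l := by rw [S.comm']
            _ = _ := by group
        exact mul_left_cancel e
    have hne : ∀ y : LL, y * x 44 = x 44 * y → a * a ≠ S.t * S.φ y ∨ ¬ (y = 1 ∨ y = x 44) := by
      intro y _
      by_cases hy : y = 1 ∨ y = x 44
      · left
        intro h3
        -- `a` commutes with `a * a`
        have h4 : a * (S.t * S.φ y) * a⁻¹ = S.t * S.φ y := by rw [← h3]; group
        have h5 : a * S.φ y * a⁻¹ = S.φ y := by
          rcases hy with hy | hy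
          · rw [hy, map_one, mul_one, mul_inv_cancel]
          · rw [hy]
            exact hfix _ (x_mem_RG (by norm_num) (by decide)) x44_mem
        have h6 : a * (S.t * S.φ y) * a⁻¹ = S.t * S.φ (x 44) * S.φ y := by
          calc a * (S.t * S.φ y) * a⁻¹ = (a * S.t * a⁻¹) * (a * S.φ y * a⁻¹) := by group
            _ = _ := by rw [hat, h5]
        rw [h6, mul_assoc] at h4
        have h7 := mul_left_cancel h4
        have h8 : S.φ (x 44) = 1 := by
          have h9 : S.φ (x 44) * S.φ y = 1 * S.φ y := by rw [one_mul]; exact h7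
          exact mul_right_cancel h9
        have h9 : x 44 = 1 := by apply S.inj; rw [h8, map_one]
        exact FourTwo.BN.x_ne_one (by norm_num) h9
      · right; exact hy
    rcases hl with hl | hl
    · rcases hl' with h3 | h3
      · left; rw [hl, h3, map_one]
      · right; rw [hl, h3]
    · exfalso
      have hcm : l * x 44 = x 44 * l := by
        rcases hl' with h3 | h3
        · rw [h3, one_mul, mul_one]
        · rw [h3]
      rcases hne l hcm with h3 | h3
      · exact h3 hl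
      · exact h3 hl'
  rcases hsq with hsq | hsq
  · exact ⟨a, hsq, hat, fun r hr hr' => by
      have h3 := hfix (x r) (x_mem_RG hr' (decide_eq_true hr)) (hxP r (by omega) hr')
      calc a * S.φ (x r) = (a * S.φ (x r) * a⁻¹) * a := by group
        _ = _ := by rw [h3], hmv⟩
  · -- replace `a` by `a t`
    have ht : ∀ g : LL, (a * S.t) * S.φ g * (a * S.t)⁻¹ = a * S.φ g * a⁻¹ := by
      intro g
      calc (a * S.t) * S.φ g * (a * S.t)⁻¹ = a * (S.t * S.φ g * S.t⁻¹) * a⁻¹ := by group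
        _ = _ := by rw [S.comm, mul_inv_cancel_right]
    refine ⟨a * S.t, ?_, ?_, ?_, ?_⟩
    · calc a * S.t * (a * S.t) = (a * S.t * a⁻¹) * (a * a) * S.t := by group
        _ = (S.t * S.φ (x 44)) * S.φ (x 44) * S.t := by rw [hat, hsq]
        _ = S.t * (S.φ (x 44) * S.φ (x 44)) * S.t := by group
        _ = 1 := by rw [← map_mul, x_mul_self, map_one, mul_one, S.tt]
    · calc a * S.t * S.t * (a * S.t)⁻¹ = a * (S.t * S.t) * S.t⁻¹ * a⁻¹ := by group
        _ = a * S.t * a⁻¹ := by rw [S.tt, mul_one, S.t_inv]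
        _ = _ := hat
    · intro r hr hr'
      have h3 := hfix (x r) (x_mem_RG hr' (decide_eq_true hr)) (hxP r (by omega) hr')
      rw [← ht] at h3
      calc a * S.t * S.φ (x r) = (a * S.t * S.φ (x r) * (a * S.t)⁻¹) * (a * S.t) := by group
        _ = _ := by rw [h3]
    · intro g hg
      obtain ⟨w, hw, h3⟩ := hmv g hg
      exact ⟨w, hw, by rw [ht]; exact h3⟩

end Cfsg.Agent.F42.SwapEl
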