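import Cfsg.Agent.F42.ParAut
import Cfsg.Agent.F42.SwapEl
import Cfsg.Agent.F42.PatZ4

/-!
# The automorphism theorem for `P_s` in the forms used elsewhere
-/

set_option autoImplicit false

namespace Cfsg.Agent.F42.ParInst

open Cfsg.Agent.FourTwo.Base Cfsg.Agent.FourTwo.Par Cfsg.Agent.FourTwo.Cent
open ParFacts ParAut

theorem Qs_eq : Qs = RG SwapEl.qsP := RG_congr fun _ _ => rfl

theorem Ws_eq : Ws = RG NormCert.wsP := RG_congr fun _ _ => rfl

/-- the form of `SwapEl` -/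
theorem parFact : SwapEl.ParFact := by
  intro α _
  obtain ⟨p, h1, h2⟩ := ParAut.exists_inner α
  refine ⟨p, fun q hq => ?_, fun g => ?_⟩
  · rw [← Qs_eq] at hq
    exact h1 q (mem_QP.2 hq)
  · rw [← Ws_eq]
    exact mem_WP.1 (h2 g)

variable {G : Type*} [Group G]

/-- **A swap gives an element of type `Norm.Pre`.** -/
theorem exists_pre (S : Std G) (h : S.Swap (x 44)) : ∃ a, Norm.Pre S a := SwapEl.exists_pre parFact S h

/-- the form of `PatZ4` -/
theorem x40_form (δ : ↥Ps ≃* ↥Ps) :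
    ∃ p : ↥Ps, ((δ ⟨x 40, PatZ4.x40_mem⟩ : ↥Ps) : LL) = p * x 40 * (p : LL)⁻¹ := by
  obtain ⟨p, h1, -⟩ := ParAut.exists_inner δ
  have h2 : (⟨x 40, PatZ4.x40_mem⟩ : ↥Ps) ∈ QP := mem_QP.2 (ParData.x_mem_Qs (by norm_num) (by norm_num))
  have h3 := h1 _ h2
  have h4 := congrArg (fun g : PP => (g : LL)) h3
  simp only [val_mul, val_inv] at h4
  exact ⟨p, h4⟩

/-- **No pattern of type `Z₄`.** -/
theorem no_Z4 {φ : LL →* G} (hφ : Function.Injective φ) {t : G} (hc : ∀ l, t * φ l = φ l * t)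
    (e1 : ∀ g, g * t = t * g → ∃ l, g = φ l ∨ g = t * φ l)
    {n : G} (h1 : n * t * n⁻¹ = t * φ (x 44)) (h3 : n * φ (x 47) * n⁻¹ = φ (x 44)) : False :=
  PatZ4.no_Z4 hφ hc e1 x40_form h1 h3

end Cfsg.Agent.F42.ParInst
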