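import Cfsg.Agent.F42.OuterSwap2
import Cfsg.Agent.F42.AllRoot
import Cfsg.Agent.F42.NonPair
import Cfsg.Agent.F42.ParInst
import Cfsg.Agent.F42.Ctx
import Cfsg.Agent.FourTwo.AutF4

/-!
# A graph automorphism in `C_G(t)`: the contradiction

`false_of_out`: no simple group has a graph-type element in `C_G(t)`; `false_outer`: the same from the context of
`Ctx.exists_std`.
-/

set_option autoImplicit false

namespace Cfsg.Agent.F42.Outer

open Cfsg.Agent.FourTwo Cfsg.Agent.FourTwo.Base Cfsg.Agent.FourTwo.AutF4 Cfsg.Agent.F42.GraphRoots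
  Cfsg.Agent.F42.OuterSwap Cfsg.Agent.F42.AllInst

variable {G : Type*} [Group G] {S : Std G} {g : G}

/-! ### the element `g` -/

/-- the normalised outer element -/
theorem exists_out {y : G} (hN : Ctx.Nrm S) (hC : Ctx.Cen S) (hy : Ctx.IsOuter S y) : ∃ g, Out S gam g := by
  have hr : ∀ l, y * S.φ l * y⁻¹ ∈ S.φ.range := by
    intro l
    obtain ⟨l', hl'⟩ := hN y hy.ct l
    exact ⟨l', hl'.symm⟩
  obtain ⟨l, hl | hl⟩ := exists_of_norm S.φ S.inj y hr
  · exfalso
    have h1 := hl (x 44)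
    rw [hy.s44] at h1
    exact Ctx.not_conj l (S.inj h1).symm
  have hgφ : ∀ z, (S.φ l)⁻¹ * y * S.φ z * ((S.φ l)⁻¹ * y)⁻¹ = S.φ (gam z) := by
    intro z
    calc (S.φ l)⁻¹ * y * S.φ z * ((S.φ l)⁻¹ * y)⁻¹ = (S.φ l)⁻¹ * (y * S.φ z * y⁻¹) * S.φ l := by group
      _ = (S.φ l)⁻¹ * S.φ (l * gam z * l⁻¹) * S.φ l := by rw [hl]
      _ = S.φ (gam z) := by rw [map_mul, map_mul, map_inv]; group
  set g : G := (S.φ l)⁻¹ * y with hg
  have hyg : y = S.φ l * g := by rw [hg, mul_inv_cancel_left]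
  have hgt : g * S.t = S.t * g := by
    have h1 : (S.φ l)⁻¹ * S.t = S.t * (S.φ l)⁻¹ := by rw [← map_inv, S.comm']
    rw [hg, mul_assoc, hy.ct, ← mul_assoc, h1, mul_assoc]
  have hgg : ∀ z, g * g * S.φ z = S.φ z * (g * g) := by
    intro z
    have h1 : g * g * S.φ z * (g * g)⁻¹ = S.φ z := by
      calc g * g * S.φ z * (g * g)⁻¹ = g * (g * S.φ z * g⁻¹) * g⁻¹ := by group
        _ = S.φ z := by rw [hgφ, hgφ, gam_gam]
    calc g * g * S.φ z = (g * g * S.φ z * (g * g)⁻¹) * (g * g) := by group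
      _ = _ := by rw [h1]
  have hggt : g * g * S.t = S.t * (g * g) := by
    rw [mul_assoc, hgt, ← mul_assoc, hgt, mul_assoc]
  have hinn : ∀ l', ¬ ∀ z, S.φ l' * S.φ z * (S.φ l')⁻¹ = S.φ (gam z) := by
    intro l' h
    apply gam_not_inner
    refine ⟨l', fun z => ?_⟩
    apply S.inj
    rw [← h z, map_mul, map_mul, map_inv]
  have hmove : ∀ m, S.φ m * g = g * S.φ (gam m) := by
    intro m
    have h1 := hgφ (gam m)
    rw [gam_gam] at h1
    rw [← h1, inv_mul_cancel_right]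
  refine ⟨g, ⟨⟨fun r hr => gam_x hr, hgt, hC _ hggt hgg, hgφ, ?_⟩, ?_, ?_⟩⟩
  · intro c hc
    rcases hy.cov c hc with ⟨m, h1 | h1⟩ | ⟨m, h1 | h1⟩
    · exact ⟨m, Or.inl h1⟩
    · exact ⟨m, Or.inr (Or.inl h1)⟩
    · refine ⟨gam (m * l), Or.inr (Or.inr (Or.inl ?_))⟩
      rw [h1, hyg, ← mul_assoc, ← map_mul, hmove]
    · refine ⟨gam (m * l), Or.inr (Or.inr (Or.inr ?_))⟩
      rw [h1, hyg, mul_assoc, mul_assoc, ← mul_assoc (S.φ m), ← map_mul, hmove]
  · intro l' h
    apply hinn l'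
    intro z
    rw [← h, hgφ]
  · intro l' h
    apply hinn l'
    intro z
    rw [← h]
    calc S.t * g * S.φ z * (S.t * g)⁻¹ = S.t * (g * S.φ z * g⁻¹) * S.t⁻¹ := by group
      _ = S.t * S.φ (gam z) * S.t⁻¹ := by rw [hgφ]
      _ = _ := by rw [S.comm, mul_inv_cancel_right]

/-! ### transport of the new elements by `g` -/

section Transport

variable {hα : ∀ r < 48, gam (x r) = x (bar r)} {b : G}

theorem conj_fix (h : GraphEl S gam g) {r : ℕ} (hb : b * (S.dual gam hα).φ (x r) = (S.dual gam hα).φ (x r) * b) :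
    g * b * g⁻¹ * S.φ (x r) = S.φ (x r) * (g * b * g⁻¹) := by
  rw [Std.dual_φ] at hb
  have h1 := h.gφ (gam (x r))
  rw [gam_gam] at h1
  rw [← h1]
  calc g * b * g⁻¹ * (g * S.φ (gam (x r)) * g⁻¹) = g * (b * S.φ (gam (x r))) * g⁻¹ := by group
    _ = g * (S.φ (gam (x r)) * b) * g⁻¹ := by rw [hb]
    _ = _ := by group

theorem conj_at (h : GraphEl S gam g)
    (hb : b * (S.dual gam hα).t * b⁻¹ = (S.dual gam hα).t * (S.dual gam hα).φ (x 44)) :
    g * b * g⁻¹ * S.t * (g * b * g⁻¹)⁻¹ = S.t * S.φ (x 44) := by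
  rw [Std.dual_φ, Std.dual_t] at hb
  have h1 := h.gφ (gam (x 44))
  rw [gam_gam] at h1
  have h2 : g⁻¹ * S.t = S.t * g⁻¹ := by
    calc g⁻¹ * S.t = g⁻¹ * (S.t * g) * g⁻¹ := by group
      _ = g⁻¹ * (g * S.t) * g⁻¹ := by rw [h.gt]
      _ = _ := by group
  calc g * b * g⁻¹ * S.t * (g * b * g⁻¹)⁻¹ = g * b * (g⁻¹ * S.t) * g * b⁻¹ * g⁻¹ := by group
    _ = g * (b * S.t * b⁻¹) * g⁻¹ := by rw [h2]; group
    _ = (g * S.t) * S.φ (gam (x 44)) * g⁻¹ := by rw [hb]; group
    _ = S.t * (g * S.φ (gam (x 44)) * g⁻¹) := by rw [h.gt]; group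
    _ = _ := by rw [h1]

theorem conj_sq (hb : b * b = 1) : g * b * g⁻¹ * (g * b * g⁻¹) = 1 := by
  calc g * b * g⁻¹ * (g * b * g⁻¹) = g * (b * b) * g⁻¹ := by group
    _ = 1 := by rw [hb]; group

theorem conj_split (h : GraphEl S gam g) (hb : (S.dual gam hα).IsSplit b) : S.IsSplit (g * b * g⁻¹) :=
  ⟨conj_sq hb.aa, conj_at h hb.at_, fun r h1 h2 => conj_fix h (hb.fix r h1 h2)⟩

theorem conj_non (h : GraphEl S gam g) (hb : (S.dual gam hα).IsNon b) : S.IsNon (g * b * g⁻¹) := by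
  refine ⟨conj_sq hb.aa, conj_at h hb.at_, fun r h1 h2 h3 => conj_fix h (hb.fix r h1 h2 h3), fun p hp => ?_⟩
  have h0 := hb.mv p hp
  rw [Std.dual_φ, Std.dual_φ] at h0
  have h1 := h.gφ (gam (x p.1))
  rw [gam_gam] at h1
  have h2 := h.gφ (gam (x p.1 * x p.2))
  rw [gam_gam] at h2
  rw [← h1, ← h2, ← h0]
  group

end Transport

/-! ### the four-groups -/

theorem cmr_eq_tab : ((List.range 48).all fun r => (List.range 48).all fun s =>
    !(decide (24 ≤ r) && decide (24 ≤ s) && decide (r ≠ s)) || (Comm.cmg r s).all fun q =>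
      (cmr r s).contains q) = true := by
  decide +kernel

theorem mem_cmr {r s q : ℕ} (h1 : 24 ≤ r) (h2 : r < 48) (h3 : 24 ≤ s) (h4 : s < 48) (h5 : r ≠ s)
    (hq : q ∈ Comm.cmg r s) : q ∈ cmr r s := by
  have h := cmr_eq_tab
  rw [List.all_eq_true] at h
  have h6 := h r (List.mem_range.2 h2)
  rw [List.all_eq_true] at h6
  have h7 := h6 s (List.mem_range.2 h4)
  have h8 : (decide (24 ≤ r) && decide (24 ≤ s) && decide (r ≠ s)) = true := by
    rw [decide_eq_true h1, decide_eq_true h3, decide_eq_true h5]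
    rfl
  rw [h8, Bool.not_true, Bool.false_or, List.all_eq_true] at h7
  exact List.contains_iff_mem.1 (h7 q hq)

/-- the four-groups `⟨φ (x r), V (x r)⟩` -/
theorem four {a b : G} (T : Two S a b) : Four S fun r => (sys T).V (x r) where
  vv r _ hr := (sys T).Vsq _ (sys_Rt T hr)
  vx r _ hr := by
    have h := (sys T).commφV (sys_Rt T hr) (rfl : x r * x r = x r * x r)
    exact h.eq.symm
  vt r _ hr := by
    have h := (sys T).Vt _ (sys_Rt T hr)
    change (sys T).V (x r) * S.t = S.t * S.φ (x r) * (sys T).V (x r) at h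
    change (sys T).V (x r) * S.t * ((sys T).V (x r))⁻¹ = _
    rw [h, mul_inv_cancel_right]
  cm r s hr hr' hs hs' hne y z hy hz := by
    have h1 := cm_all T (r := r) (s := s) hr' hs' hne (by omega) y z hy hz
    refine (sys T).Nc_le ?_ h1
    intro c hc
    obtain ⟨q, hq, rfl⟩ := List.mem_map.1 hc
    have hq' := mem_cmr hr hr' hs hs' hne hq
    exact ⟨Subgroup.subset_closure ⟨q, hq', Or.inl rfl⟩, Subgroup.subset_closure ⟨q, hq', Or.inr rfl⟩⟩

theorem longs_iv : (longs.all fun r => decide (r < 48) && decide (ClassSep.iv [r] = (10, 6))) = true := by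
  decide +kernel

/-- a long root element is conjugate to `x 47` -/
theorem long_conj {r : ℕ} (hr : r ∈ longs) : r < 48 ∧ ∃ l : LL, l * x 47 * l⁻¹ = x r := by
  have h := longs_iv
  rw [List.all_eq_true] at h
  have h1 := h r hr
  rw [Bool.and_eq_true, decide_eq_true_eq, decide_eq_true_eq] at h1
  refine ⟨h1.1, ?_⟩
  have h2 := ClassSep.conj_of_rk2 (x_mul_self r) (BN.x_ne_one h1.1)
  have h3 : ClassSep.rk2 (x r) = ClassSep.iv [r] := by
    rw [← ClassSep.rk2_wd [r] (by simpa using h1.1), Cfsg.Agent.FourTwo.Base.wd_one]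
  rw [h3] at h2
  obtain ⟨k, hk⟩ := h2.2.1 h1.2
  refine ⟨k⁻¹, ?_⟩
  rw [← hk]
  group

theorem sys_V {a b : G} (T : Two S a b) (z : LL) : (sys T).V z = V S a b z := by
  unfold sys
  with_reducible rfl

/-- `g` permutes the four-groups -/
theorem g_V {b : G} (h : GraphEl S gam g) (T : Two S (g * b * g⁻¹) b) {r : ℕ} (hr : r ∈ longs) :
    g * (sys T).V (x r) * g⁻¹ = (sys T).V (x (bar r)) := by
  obtain ⟨hr', l, hl⟩ := long_conj hr
  have e1 : (sys T).V (x r) = S.φ l * b * (S.φ l)⁻¹ := by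
    rw [sys_V, ← hl, V_long T]
  have e2 : gam l * x 44 * (gam l)⁻¹ = x (bar r) := by
    rw [← gam_x hr', ← hl, map_mul, map_mul, map_inv, gam_47]
  have e3 : (sys T).V (x (bar r)) = S.φ (gam l) * (g * b * g⁻¹) * (S.φ (gam l))⁻¹ := by
    rw [sys_V, ← e2, V_short T]
  rw [e1, e3, ← h.gφ l]
  group

/-! ### the contradiction -/

/-- **No graph-type element.** -/
theorem false_of_out [Finite G] [IsSimpleGroup G] (hG : ¬ ∀ a b : G, a * b = b * a) (h : Out S gam g) : False := by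
  have hα : ∀ r < 48, gam (x r) = x (bar r) := h.hα
  have hsw : (S.dual gam hα).Swap (x 44) := by
    rw [S.dual_swap gam hα, gam_44]
    exact h.swap_47 hG
  obtain ⟨b0, hb0⟩ := ParInst.exists_pre (S.dual gam hα) hsw
  obtain ⟨w, -, hb | hb⟩ := hb0.split_or_non
  · have T := two_of S gam hα (conj_split h.toGraphEl hb) hb
    exact false_of_four hG h.toGraphEl h.gL h.tgL (four T) fun r hr => g_V h.toGraphEl T hr
  · exact NonPair.ns S hα (conj_non h.toGraphEl hb) hb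

/-- **No outer element**, from the context of the reduction. -/
theorem false_outer [Finite G] [IsSimpleGroup G] (hG : ¬ ∀ a b : G, a * b = b * a) {y : G} (hN : Ctx.Nrm S)
    (hC : Ctx.Cen S) (hy : Ctx.IsOuter S y) : False := by
  obtain ⟨g, hg⟩ := exists_out hN hC hy
  exact false_of_out hG hg

end Cfsg.Agent.F42.Outer
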