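import Cfsg.Agent.FourTwo.AutF4

/-!
The fields of `Red.RedData` about the Sylow subgroup `U` and the automorphisms of `F₄(2)`.
-/

set_option autoImplicit false

namespace Cfsg.Agent.F42.RedAut

open Cfsg.Lie
open Cfsg.Agent.FourTwo.Base Cfsg.Agent.FourTwo.BN Cfsg.Agent.FourTwo.Par Cfsg.Agent.FourTwo.Cent
open Cfsg.Agent.FourTwo.AutF4

section general

variable {G : Type*} [Group G] (H : Subgroup G)

/-- statements about all automorphisms `H ≃* H` are statements about `MulAut H` -/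
theorem mulAut_of {p : (H → H) → Prop} (h : ∀ α : H ≃* H, p (fun x => α x)) (α : MulAut H) : p (fun x => α x) :=
  h α

end general

theorem hU : IsPGroup 2 U := isPGroup_U

theorem nU (b : LL) (h : ∀ u ∈ U, b * u * b⁻¹ ∈ U) : b ∈ U := by
  have h1 : U.map (cj b).toMonoidHom ≤ U := by
    rintro _ ⟨u, hu, rfl⟩
    exact h u hu
  have h2 : U.map (cj b).toMonoidHom = U := by
    apply Subgroup.eq_of_le_of_card_ge h1
    rw [card_map]
  have h3 : b ∈ Subgroup.normalizer (U : Set LL) := by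
    rw [Subgroup.mem_normalizer_iff]
    intro g
    refine ⟨h g, fun hg => ?_⟩
    nth_rw 1 [← h2] at hg
    have h4 : cj b g ∈ U.map (cj b).toMonoidHom := hg
    rw [apply_mem_map] at h4
    exact h4
  rw [normalizer_U] at h3
  exact h3

theorem hZ (b : LL) (h : ∀ y, b * y = y * b) : b = 1 := by
  have h1 : b ∈ U := nU b fun u hu => by rw [h, mul_inv_cancel_right]; exact hu
  refine U_inf_Vo h1 ⟨b, h1, ?_⟩
  show w0 * b * w0⁻¹ = b
  rw [← h, mul_inv_cancel_right]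

theorem mem_iff_of {α : LL ≃* LL} (h : ∀ u ∈ U, α u ∈ U) (g : LL) : α g ∈ U ↔ g ∈ U := by
  have h1 : U.map α.toMonoidHom ≤ U := by
    rintro _ ⟨u, hu, rfl⟩
    exact h u hu
  have h2 : U.map α.toMonoidHom = U := by
    apply Subgroup.eq_of_le_of_card_ge h1
    rw [card_map]
  nth_rw 1 [← h2]
  exact apply_mem_map

theorem aut1' (α : LL ≃* LL) (h : ∀ u ∈ U, α u ∈ U) : α (x 44) = x 44 ∨ α (x 44) = x 47 := by
  rcases apply_center (mem_iff_of h) with h1 | h1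
  · exact Or.inl h1.1
  · exact Or.inr h1.1

theorem aut2' (α : LL ≃* LL) (h : ∀ u ∈ U, α u ∈ U) (h1 : α (x 44) = x 44) :
    ∃ b : LL, ∀ y, α y = b * y * b⁻¹ := by
  obtain ⟨u, -, h2⟩ := inner_of_fix (mem_iff_of h) h1
  exact ⟨u, h2⟩

theorem norm_tab : normB posP (fun r => decide (33 ≤ r)) = true := by decide +kernel

theorem closed_tab : closedB (fun r => decide (33 ≤ r)) = true := by decide +kernel

theorem aut3' (α : LL ≃* LL) (h : ∀ u ∈ U, α u ∈ U) (h1 : α (x 44) = x 47) :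
    ∃ u ∈ U, α u * u⁻¹ ≠ 1 ∧ α u * u⁻¹ ≠ x 44 * x 47 := by
  obtain ⟨v, hv, h2 | h2⟩ := aut_gam_U (mem_iff_of h)
  · exfalso
    rw [h2, comm_44 hv, mul_inv_cancel_right] at h1
    exact x44_ne_x47 h1
  · refine ⟨x 24, x_mem_U (by omega) (by omega), ?_⟩
    have h3 : α (x 24) ∈ RG (fun r => decide (33 ≤ r)) := by
      rw [h2, gam_x (by omega)]
      rw [U_eq] at hv
      exact conj_mem norm_tab hv (x_mem_RG (by decide) (by decide))
    have h4 : ∀ z ∈ RG (fun r => decide (33 ≤ r)), α (x 24) * (x 24)⁻¹ ≠ z := by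
      intro z hz e
      have h5 : x 24 ∈ RG (fun r => decide (33 ≤ r)) := by
        have e1 : x 24 = z⁻¹ * α (x 24) := by
          rw [← e]
          group
        rw [e1]
        exact mul_mem (inv_mem hz) h3
      rw [x_mem_RG_iff closed_tab (by omega)] at h5
      exact absurd h5 (by decide)
    exact ⟨h4 1 (one_mem _), h4 _ (mul_mem (x_mem_RG (by omega) (by decide)) (x_mem_RG (by omega) (by decide)))⟩

theorem aut1 (α : MulAut LL) (h : ∀ u ∈ U, α u ∈ U) : α (x 44) = x 44 ∨ α (x 44) = x 47 :=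
  mulAut_of (chevF4.group (ZMod 2)) (p := fun f => (∀ u ∈ U, f u ∈ U) → f (x 44) = x 44 ∨ f (x 44) = x 47)
    aut1' α h

theorem aut2 (α : MulAut LL) (h : ∀ u ∈ U, α u ∈ U) (h1 : α (x 44) = x 44) : ∃ b : LL, ∀ y, α y = b * y * b⁻¹ :=
  mulAut_of (chevF4.group (ZMod 2)) (p := fun f => (∀ u ∈ U, f u ∈ U) → f (x 44) = x 44 →
    ∃ b : LL, ∀ y, f y = b * y * b⁻¹) aut2' α h h1

theorem aut3 (α : MulAut LL) (h : ∀ u ∈ U, α u ∈ U) (h1 : α (x 44) = x 47) :
    ∃ u ∈ U, α u * u⁻¹ ≠ 1 ∧ α u * u⁻¹ ≠ x 44 * x 47 :=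
  mulAut_of (chevF4.group (ZMod 2)) (p := fun f => (∀ u ∈ U, f u ∈ U) → f (x 44) = x 47 →
    ∃ u ∈ U, f u * u⁻¹ ≠ 1 ∧ f u * u⁻¹ ≠ x 44 * x 47) aut3' α h h1

end Cfsg.Agent.F42.RedAut
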