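import Cfsg.Agent.FourTwo.WClass
import Cfsg.Agent.FourTwo.CentAll
import Cfsg.Agent.FourTwo.CentC

/-!
The fields of `Red.RedData` about `Q = ⟨x 33, …, x 47⟩`, `W = ⟨x 41, …, x 47⟩` and the two elements `x 44`, `x 47`.
-/

set_option autoImplicit false

namespace Cfsg.Agent.F42.RedFields

open Cfsg.Agent.FourTwo
open Cfsg.Lie Cfsg.Agent.ChevalleyStructure.TwF4.Rel Cfsg.Agent.ChevalleyStructure.TwF4.Tables
open Cfsg.Agent.ChevalleyStructure.TwF4.Torus (all_of)
open Cfsg.Agent.ChevalleyStructure.F4TwU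
open Cfsg.Agent.FourTwo.Base hiding bar bar_lt x_mul_self
open Cfsg.Agent.FourTwo.Comm Cfsg.Agent.FourTwo.BN Cfsg.Agent.FourTwo.Par Cfsg.Agent.FourTwo.Cent
open Cfsg.Agent.FourTwo.WClass Cfsg.Agent.FourTwo.Facts2

theorem closed_qs : closedB qsP = true := by decide +kernel

theorem norm_ws : normB psP wsP = true := by decide +kernel

/-! ### `Q` and `W` -/

theorem qs {q : LL} (hq : q ∈ RG qsP) : q * x 44 = x 44 * q := central44 (RG_le_U closed_qs hq)

theorem rg_comm {P Q : ℕ → Bool}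
    (h : ((List.range 48).all fun a => !P a || (List.range 48).all fun b => !Q b || a == b ||
      (a + b != 47 && cmg a b == [])) = true) {g k : LL} (hg : g ∈ RG P) (hk : k ∈ RG Q) : g * k = k * g := by
  have h1 : RG P ≤ Subgroup.centralizer (RG Q : Set LL) := RG_le fun a ha hPa => by
    have h2 : RG Q ≤ Subgroup.centralizer {x a} := RG_le fun b hb hQb => by
      rw [Subgroup.mem_centralizer_singleton_iff]
      have h3 := all_of h ha
      rw [hPa, Bool.not_true, Bool.false_or] at h3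
      have h4 := all_of h3 hb
      rw [hQb, Bool.not_true, Bool.false_or, Bool.or_eq_true, beq_iff_eq] at h4
      rcases h4 with rfl | h4
      · rfl
      · simp only [Bool.and_eq_true, bne_iff_ne, ne_eq, beq_iff_eq] at h4
        exact (comm_one ha hb h4.1 h4.2).symm
    rw [Subgroup.mem_centralizer_iff]
    intro y hy
    have h5 := h2 hy
    rw [Subgroup.mem_centralizer_singleton_iff] at h5
    exact h5
  exact (Subgroup.mem_centralizer_iff.1 (h1 hg) k hk).symm

theorem wq {w q : LL} (hw : w ∈ RG wsP) (hq : q ∈ RG qsP) : w * q = q * w :=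
  rg_comm (by decide +kernel) hw hq

theorem mem_Ps {g : LL} (h : g * x 44 = x 44 * g) : g ∈ RG psP := by
  have : g ∈ Subgroup.centralizer {x 44} := by
    rw [Subgroup.mem_centralizer_singleton_iff]
    exact h
  rwa [cent_short] at this

theorem wn {g w : LL} (h : g * x 44 = x 44 * g) (hw : w ∈ RG wsP) : g * w * g⁻¹ ∈ RG wsP :=
  conj_mem norm_ws (mem_Ps h) hw

/-- commutators of generators of `Q` -/
theorem qq_tab : ((List.range 48).all fun a => !qsP a || (List.range 48).all fun b => !qsP b || a == b ||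
    cmg a b == [] || cmg a b == [44]) = true := by decide +kernel

/-- `g c g⁻¹ c⁻¹ ∈ {1, s}` for `g` in the closure -/
theorem comm_aux {s c : LL} {S : Set LL} (hss : s * s = 1) (hs : ∀ g ∈ S, g * s = s * g)
    (h : ∀ g ∈ S, g * c * g⁻¹ * c⁻¹ = 1 ∨ g * c * g⁻¹ * c⁻¹ = s) {g : LL} (hg : g ∈ Subgroup.closure S) :
    g * s = s * g ∧ (g * c * g⁻¹ * c⁻¹ = 1 ∨ g * c * g⁻¹ * c⁻¹ = s) := by
  have hsi : s⁻¹ = s := inv_eq_of_mul_eq_one_left hss
  induction hg using Subgroup.closure_induction with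
  | mem g hg => exact ⟨hs g hg, h g hg⟩
  | one => exact ⟨by rw [one_mul, mul_one], Or.inl (by group)⟩
  | mul a b _ _ ha hb =>
    refine ⟨by rw [mul_assoc, hb.1, ← mul_assoc, ha.1, mul_assoc], ?_⟩
    have e : a * b * c * (a * b)⁻¹ * c⁻¹ = a * (b * c * b⁻¹ * c⁻¹) * a⁻¹ * (a * c * a⁻¹ * c⁻¹) := by group
    rw [e]
    rcases hb.2 with h1 | h1
    · rw [h1, mul_one, mul_inv_cancel, one_mul]
      exact ha.2
    · rw [h1, ha.1, mul_inv_cancel_right]
      rcases ha.2 with h2 | h2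
      · rw [h2, mul_one]; exact Or.inr rfl
      · rw [h2]; exact Or.inl hss
  | inv a _ ha =>
    have hc : a⁻¹ * s = s * a⁻¹ := by
      rw [inv_mul_eq_iff_eq_mul, ← mul_assoc, ha.1, mul_inv_cancel_right]
    refine ⟨hc, ?_⟩
    have e : a⁻¹ * c * a⁻¹⁻¹ * c⁻¹ = a⁻¹ * (a * c * a⁻¹ * c⁻¹)⁻¹ * a := by group
    rw [e]
    rcases ha.2 with h1 | h1
    · rw [h1]; exact Or.inl (by group)
    · rw [h1, hsi, hc, inv_mul_cancel_right]; exact Or.inr rfl

theorem qq {q q' : LL} (hq : q ∈ RG qsP) (hq' : q' ∈ RG qsP) :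
    q * q' * q⁻¹ * q'⁻¹ = 1 ∨ q * q' * q⁻¹ * q'⁻¹ = x 44 := by
  have hgen : ∀ a < 48, qsP a = true → ∀ b < 48, qsP b = true →
      x a * x b * (x a)⁻¹ * (x b)⁻¹ = 1 ∨ x a * x b * (x a)⁻¹ * (x b)⁻¹ = x 44 := by
    intro a ha hPa b hb hPb
    by_cases hab : a = b
    · left; rw [hab]; group
    have ha' : 33 ≤ a := by simpa [qsP] using hPa
    have hb' : 33 ≤ b := by simpa [qsP] using hPb
    have h1 := comm_all ha hb hab (by omega)
    have h2 : x a * x b * (x a)⁻¹ * (x b)⁻¹ = x b * wd (cmg a b) * (x b)⁻¹ := by rw [h1]; group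
    rw [h2]
    have h3 := all_of qq_tab ha
    rw [hPa, Bool.not_true, Bool.false_or] at h3
    have h4 := all_of h3 hb
    rw [hPb, Bool.not_true, Bool.false_or, Bool.or_eq_true, Bool.or_eq_true, beq_iff_eq, beq_iff_eq,
      beq_iff_eq] at h4
    rcases h4 with (h4 | h4) | h4
    · exact absurd h4 hab
    · left; rw [h4, wd_nil, mul_one, mul_inv_cancel]
    · right
      rw [h4, wd_one, qs (x_mem_RG hb hPb), mul_inv_cancel_right]
  have hss : x 44 * x 44 = (1 : LL) := Base.x_mul_self 44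
  have hs : ∀ g ∈ {g : LL | ∃ r < 48, qsP r = true ∧ g = x r}, g * x 44 = x 44 * g := by
    rintro _ ⟨r, hr, hp, rfl⟩
    exact qs (x_mem_RG hr hp)
  have step1 : ∀ b < 48, qsP b = true → q * x b * q⁻¹ * (x b)⁻¹ = 1 ∨ q * x b * q⁻¹ * (x b)⁻¹ = x 44 := by
    intro b hb hPb
    refine (comm_aux hss hs ?_ hq).2
    rintro _ ⟨r, hr, hp, rfl⟩
    exact hgen r hr hp b hb hPb
  have step2 : q' * q * q'⁻¹ * q⁻¹ = 1 ∨ q' * q * q'⁻¹ * q⁻¹ = x 44 := by
    refine (comm_aux hss hs ?_ hq').2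
    rintro _ ⟨r, hr, hp, rfl⟩
    have e : x r * q * (x r)⁻¹ * q⁻¹ = (q * x r * q⁻¹ * (x r)⁻¹)⁻¹ := by group
    rw [e]
    rcases step1 r hr hp with h | h
    · rw [h, inv_one]; exact Or.inl rfl
    · rw [h, Base.x_inv]; exact Or.inr rfl
  have e : q * q' * q⁻¹ * q'⁻¹ = (q' * q * q'⁻¹ * q⁻¹)⁻¹ := by group
  rw [e]
  rcases step2 with h | h
  · rw [h, inv_one]; exact Or.inl rfl
  · rw [h, Base.x_inv]; exact Or.inr rfl

/-! ### centralizers -/

theorem el_mem (H : Subgroup LL) (j : ℕ) (hH : ∀ r, 24 + j ≤ r → r < 48 → x r ∈ H) {g : LL}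
    (hg : (g : GL chevF4.Idx (ZMod 2)) ∈ CentW.NN j) : g ∈ H := by
  have h1 : CentW.NN j ≤ H.map (chevF4.group (ZMod 2)).subtype := by
    unfold CentW.NN
    rw [Subgroup.closure_le]
    rintro _ ⟨k, hk, hk', rfl⟩
    exact ⟨x (24 + k), hH _ (by omega) (by omega), rfl⟩
  obtain ⟨y, hy, hyg⟩ := h1 hg
  have : y = g := Subtype.ext hyg
  rwa [← this]

theorem cW {g : LL} (h : ∀ w ∈ RG wsP, g * w = w * g) : g ∈ RG qsP := by
  obtain ⟨a, -, ha⟩ := CentC.centW (g := (g : GL chevF4.Idx (ZMod 2))) g.2 fun k hk => by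
    have h1 := h (x (41 + k)) (x_mem_RG (by omega) (by simp [wsP]))
    have h2 := congrArg Subtype.val h1
    rw [Subgroup.coe_mul, Subgroup.coe_mul, coe_x] at h2
    exact h2
  refine el_mem (RG qsP) 9 (fun r h1 h2 => x_mem_RG h2 (by simpa [qsP] using h1)) ?_
  rw [ha]
  exact CentW.E_mem_NN a 9

theorem cQ {g : LL} (h : ∀ q ∈ RG qsP, g * q = q * g) : g ∈ RG wsP := by
  obtain ⟨a, -, ha⟩ := CentC.centC (g := (g : GL chevF4.Idx (ZMod 2))) g.2 fun k hk => by
    have h1 := h (x (33 + k)) (x_mem_RG (by omega) (by simp [qsP]))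
    have h2 := congrArg Subtype.val h1
    rw [Subgroup.coe_mul, Subgroup.coe_mul, coe_x] at h2
    exact h2
  refine el_mem (RG wsP) 17 (fun r h1 h2 => x_mem_RG h2 (by simpa [wsP] using h1)) ?_
  rw [ha]
  exact CentW.E_mem_NN a 17

theorem wc {w : LL} (hw : w ∈ RG wsP) : w = 1 ∨
    (w * w = 1 ∧ ∃ h : LL, ∀ u ∈ U, w * (h * u * h⁻¹) = (h * u * h⁻¹) * w) := by
  by_cases h1 : w = 1
  · exact Or.inl h1
  · obtain ⟨h2, y, hy⟩ := class_ws hw h1
    refine Or.inr ⟨h2, y⁻¹, fun u hu => ?_⟩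
    have hc : u * (y * w * y⁻¹) = (y * w * y⁻¹) * u := by
      rcases hy with hy | hy | hy
      · rw [hy, central44 hu]
      · rw [hy, central47 hu]
      · rw [hy, ← mul_assoc, central44 hu, mul_assoc, central47 hu, mul_assoc]
    rw [inv_inv]
    calc w * (y⁻¹ * u * y) = y⁻¹ * ((y * w * y⁻¹) * u) * y := by group
      _ = y⁻¹ * (u * (y * w * y⁻¹)) * y := by rw [hc]
      _ = y⁻¹ * u * y * w := by group

/-! ### the element `n 3` -/

theorem move : ∃ g : LL, g * x 44 = x 44 * g ∧ g * x 47 * g⁻¹ ∈ U ∧ g * x 47 * g⁻¹ ≠ x 47 ∧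
    g * x 47 * g⁻¹ ≠ x 44 := by
  refine ⟨n 3, ?_, ?_⟩
  · rw [n_mul_x (by omega) (by omega)]
    rfl
  · have h : n 3 * x 47 * (n 3)⁻¹ = x 46 := by
      rw [n_conj (by omega) (by omega)]
      rfl
    rw [h]
    refine ⟨x_mem_U (by omega) (by omega), fun e => ?_, fun e => ?_⟩
    · exact absurd (x_inj (by omega) (by omega) e) (by omega)
    · exact absurd (x_inj (by omega) (by omega) e) (by omega)

/-! ### the two steps -/

section step

variable {C : Subgroup LL} {J : Subgroup LL} (hJ : ∀ g ∈ C, ∀ j ∈ J, g * j * g⁻¹ ∈ J)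
include hJ

theorem cj_mem {g p : List ℕ} (hg : wd g ∈ C) (hp : wd p ∈ J) : wd (g ++ p ++ g.reverse) ∈ J := by
  rw [wd_append, wd_append, wd_reverse]
  exact hJ _ hg _ hp

omit hJ in
theorem cm_mem {g t : List ℕ} {w : LL} (h : ∀ g ∈ C, g * w * g⁻¹ * w⁻¹ ∈ J) (hw : w = wd t) (hg : wd g ∈ C) :
    wd (g ++ t ++ g.reverse ++ t.reverse) ∈ J := by
  rw [wd_append, wd_append, wd_append, wd_reverse, wd_reverse, ← hw]
  exact h _ hg

/-- the step, for `x z` -/
theorem step_aux {w : LL} (h : ∀ g ∈ C, g * w * g⁻¹ * w⁻¹ ∈ J) {z : ℕ} {t g₁ g₂ : List ℕ} {p : List ℕ}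
    (hw : w = wd t) (m1 : wd g₁ ∈ C) (m2 : wd g₂ ∈ C) (c1 : chk p (g₁ ++ t ++ g₁.reverse ++ t.reverse) = true)
    {g₃ : List ℕ} (m3 : wd g₃ ∈ C)
    (c2 : chk [z] ((g₂ ++ p ++ g₂.reverse) ++ p ++ (g₃ ++ p ++ g₃.reverse)) = true ∨
      chk [z] ((g₂ ++ p ++ g₂.reverse) ++ p) = true) : x z ∈ J := by
  have h1 : wd p ∈ J := by
    rw [wd_eq _ _ c1]
    exact cm_mem h hw m1
  have h2 := cj_mem hJ m2 h1
  have h3 := cj_mem hJ m3 h1
  rw [← wd_one]
  rcases c2 with c2 | c2
  · rw [wd_eq _ _ c2, wd_append, wd_append]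
    exact mul_mem (mul_mem h2 h1) h3
  · rw [wd_eq _ _ c2, wd_append]
    exact mul_mem h2 h1

end step

/-- the elements of `⟨x a, x 44, x 47⟩` -/
theorem eight {a : ℕ} (c1 : chk [a, 44] [44, a] = true) (c2 : chk [a, 47] [47, a] = true) {w : LL}
    (hw : w ∈ Subgroup.closure ({x a, x 44, x 47} : Set LL)) :
    w = 1 ∨ w = wd [44] ∨ w = wd [47] ∨ w = wd [44, 47] ∨ w = wd [a] ∨ w = wd [a, 44] ∨ w = wd [a, 47] ∨
      w = wd [a, 44, 47] := by
  have e1 : x a * x 44 = x 44 * x a := by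
    have := wd_eq _ _ c1
    rwa [wd_cons, wd_one, wd_cons, wd_one] at this
  have e2 : x a * x 47 = x 47 * x a := by
    have := wd_eq _ _ c2
    rwa [wd_cons, wd_one, wd_cons, wd_one] at this
  have e3 : (x 44 : LL) * x 47 = x 47 * x 44 := central47 (x_mem_U (by omega) (by omega))
  have key : ∃ i j k : Bool, w = (if i then x a else 1) * (if j then x 44 else 1) * (if k then x 47 else 1) := by
    have step : ∀ g : LL, g ∈ ({x a, x 44, x 47} : Set LL) → ∀ y : LL,
        (∃ i j k : Bool, y = (if i then x a else 1) * (if j then x 44 else 1) * (if k then x 47 else 1)) →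
          ∃ i j k : Bool, g * y = (if i then x a else 1) * (if j then x 44 else 1) * (if k then x 47 else 1) := by
      rintro g hg y ⟨i, j, k, rfl⟩
      have c : ∀ (b : Bool) (u v : LL), u * v = v * u → v * (if b then u else 1) = (if b then u else 1) * v := by
        intro b u v h
        cases b
        · rw [if_neg (by decide), mul_one, one_mul]
        · rw [if_pos rfl, h]
      have d : ∀ (b : Bool) (v : LL), v * v = 1 → v * (if b then v else 1) = (if !b then v else 1) := by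
        intro b v h
        cases b
        · rw [if_neg (by decide), mul_one]; rfl
        · rw [if_pos rfl, h]; rfl
      rcases hg with rfl | rfl | rfl
      · refine ⟨!i, j, k, ?_⟩
        rw [← d i (x a) (Base.x_mul_self a)]
        simp only [mul_assoc]
      · refine ⟨i, !j, k, ?_⟩
        rw [← d j (x 44) (Base.x_mul_self 44), ← mul_assoc, ← mul_assoc, c i (x a) (x 44) e1]
        simp only [mul_assoc]
      · refine ⟨i, j, !k, ?_⟩
        rw [← d k (x 47) (Base.x_mul_self 47), ← mul_assoc, ← mul_assoc, c i (x a) (x 47) e2, mul_assoc _ (x 47),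
          c j (x 44) (x 47) e3]
        simp only [mul_assoc]
    refine Subgroup.closure_induction_left (p := fun w _ => ∃ i j k : Bool,
      w = (if i then x a else 1) * (if j then x 44 else 1) * (if k then x 47 else 1)) ?_ ?_ ?_ hw
    · exact ⟨false, false, false, by simp⟩
    · intro g hg y _ hy
      exact step g hg y hy
    · intro g hg y _ hy
      have : g⁻¹ = g := by
        rcases hg with rfl | rfl | rfl <;> exact Base.x_inv _
      rw [this]
      exact step g hg y hy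
  obtain ⟨i, j, k, rfl⟩ := key
  cases i <;> cases j <;> cases k <;> simp [wd_cons, mul_assoc]

theorem mem_Pl {g : LL} (h : g * x 47 = x 47 * g) : g ∈ Pl := by
  rw [← cent_long, Subgroup.mem_centralizer_singleton_iff]
  exact h

theorem of_mem_Ps {g : LL} (h : g ∈ Ps) : g * x 44 = x 44 * g := by
  rw [← cent_short, Subgroup.mem_centralizer_singleton_iff] at h
  exact h

theorem of_mem_Pl {g : LL} (h : g ∈ Pl) : g * x 47 = x 47 * g := by
  rw [← cent_long, Subgroup.mem_centralizer_singleton_iff] at h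
  exact h

theorem wd_Ps {w : List ℕ} (h : (w.all fun r => decide (r < 48) && psP r) = true) : wd w ∈ Ps :=
  wd_mem_RG fun r hr => by
    rw [List.all_eq_true] at h
    have := h r hr
    rw [Bool.and_eq_true, decide_eq_true_eq] at this
    exact this

theorem wd_Pl {w : List ℕ} (h : (w.all fun r => decide (r < 48) && plP r) = true) : wd w ∈ Pl :=
  wd_mem_RG fun r hr => by
    rw [List.all_eq_true] at h
    have := h r hr
    rw [Bool.and_eq_true, decide_eq_true_eq] at this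
    exact this

/-- the condition on `w` in terms of `x r` -/
theorem flip_comm {w z : LL} (hz : z⁻¹ = z) {u : LL} (h : w * u * w⁻¹ * u⁻¹ = 1 ∨ w * u * w⁻¹ * u⁻¹ = z) :
    u * w * u⁻¹ * w⁻¹ = 1 ∨ u * w * u⁻¹ * w⁻¹ = z := by
  have e : u * w * u⁻¹ * w⁻¹ = (w * u * w⁻¹ * u⁻¹)⁻¹ := by group
  rw [e]
  rcases h with h | h
  · rw [h, inv_one]; exact Or.inl rfl
  · rw [h, hz]; exact Or.inr rfl

theorem stepS (J : Subgroup LL) (hJ : ∀ g, g * x 44 = x 44 * g → ∀ j ∈ J, g * j * g⁻¹ ∈ J) (w : LL) (hw : w ∈ U)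
    (h1 : w ≠ 1) (hs : w ≠ x 44) (hc : ∀ u ∈ U, w * u * w⁻¹ * u⁻¹ = 1 ∨ w * u * w⁻¹ * u⁻¹ = x 44)
    (h : ∀ g, g * x 44 = x 44 * g → g * w * g⁻¹ * w⁻¹ ∈ J) : x 47 ∈ J := by
  have hJ' : ∀ g ∈ Ps, ∀ j ∈ J, g * j * g⁻¹ ∈ J := fun g hg => hJ g (of_mem_Ps hg)
  have h' : ∀ g ∈ Ps, g * w * g⁻¹ * w⁻¹ ∈ J := fun g hg => h g (of_mem_Ps hg)
  have hm := Cfsg.Agent.FourTwo.Facts.mod_short hw fun r hr => by
    have hr' : 24 ≤ r ∧ r < 48 := by
      simp only [List.mem_cons, List.not_mem_nil, or_false] at hr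
      omega
    exact flip_comm (Base.x_inv 44) (hc (x r) (x_mem_U hr'.1 hr'.2))
  have A : ∀ t : List ℕ, w = wd t → chk [46, 47] ([24, 23, 24] ++ t ++ [24, 23, 24].reverse ++ t.reverse) = true →
      x 47 ∈ J := fun t ht c => step_aux hJ' h' ht (wd_Ps (by decide)) (g₂ := [24])
        (wd_Ps (by decide)) c (g₃ := []) (wd_Ps (by decide)) (Or.inr (by decide +kernel))
  have B : ∀ t : List ℕ, w = wd t → chk [39] ([20] ++ t ++ [20].reverse ++ t.reverse) = true →
      x 47 ∈ J := fun t ht c => step_aux hJ' h' ht (wd_Ps (by decide)) (g₂ := [22])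
        (wd_Ps (by decide)) c (g₃ := [25, 22, 25]) (wd_Ps (by decide)) (Or.inl (by decide +kernel))
  rcases eight (a := 40) (by decide +kernel) (by decide +kernel) hm with e | e | e | e | e | e | e | e
  · exact absurd e h1
  · rw [wd_one] at e
    exact absurd e hs
  · exact A _ e (by decide +kernel)
  · exact A _ e (by decide +kernel)
  · exact B _ e (by decide +kernel)
  · exact B _ e (by decide +kernel)
  · exact B _ e (by decide +kernel)
  · exact B _ e (by decide +kernel)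

theorem stepL (J : Subgroup LL) (hJ : ∀ g, g * x 47 = x 47 * g → ∀ j ∈ J, g * j * g⁻¹ ∈ J) (w : LL) (hw : w ∈ U)
    (h1 : w ≠ 1) (hs : w ≠ x 47) (hc : ∀ u ∈ U, w * u * w⁻¹ * u⁻¹ = 1 ∨ w * u * w⁻¹ * u⁻¹ = x 47)
    (h : ∀ g, g * x 47 = x 47 * g → g * w * g⁻¹ * w⁻¹ ∈ J) : x 44 ∈ J := by
  have hJ' : ∀ g ∈ Pl, ∀ j ∈ J, g * j * g⁻¹ ∈ J := fun g hg => hJ g (of_mem_Pl hg)
  have h' : ∀ g ∈ Pl, g * w * g⁻¹ * w⁻¹ ∈ J := fun g hg => h g (of_mem_Pl hg)
  have hm := Cfsg.Agent.FourTwo.Facts.mod_long hw fun r hr => by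
    have hr' : 24 ≤ r ∧ r < 48 := by
      simp only [List.mem_cons, List.not_mem_nil, or_false] at hr
      omega
    exact flip_comm (Base.x_inv 47) (hc (x r) (x_mem_U hr'.1 hr'.2))
  have A : ∀ t : List ℕ, w = wd t → chk [40, 44] ([33, 14, 33] ++ t ++ [33, 14, 33].reverse ++ t.reverse) = true →
      x 44 ∈ J := fun t ht c => step_aux hJ' h' ht (wd_Pl (by decide)) (g₂ := [33])
        (wd_Pl (by decide)) c (g₃ := []) (wd_Pl (by decide)) (Or.inr (by decide +kernel))
  have B : ∀ t : List ℕ, w = wd t → chk [45] ([22] ++ t ++ [22].reverse ++ t.reverse) = true →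
      x 44 ∈ J := fun t ht c => step_aux hJ' h' ht (wd_Pl (by decide)) (g₂ := [20])
        (wd_Pl (by decide)) c (g₃ := [27, 20, 27]) (wd_Pl (by decide)) (Or.inl (by decide +kernel))
  rcases eight (a := 46) (by decide +kernel) (by decide +kernel) hm with e | e | e | e | e | e | e | e
  · exact absurd e h1
  · exact A _ e (by decide +kernel)
  · rw [wd_one] at e
    exact absurd e hs
  · exact A _ e (by decide +kernel)
  · exact B _ e (by decide +kernel)
  · exact B _ e (by decide +kernel)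
  · exact B _ e (by decide +kernel)
  · exact B _ e (by decide +kernel)

end Cfsg.Agent.F42.RedFields
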