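import Cfsg.Agent.F42.Red
import Cfsg.Agent.F42.RedFields
import Cfsg.Agent.F42.RedAut

/-!
The structure `Red.RedData` for the group `F₄(2)`.
-/

set_option autoImplicit false

namespace Cfsg.Agent.F42.RedInst

open Cfsg.Lie
open Cfsg.Agent.FourTwo
open Cfsg.Agent.FourTwo.Base Cfsg.Agent.FourTwo.BN Cfsg.Agent.FourTwo.Par Cfsg.Agent.FourTwo.Cent
open Cfsg.Agent.FourTwo.WClass Cfsg.Agent.FourTwo.Facts2

theorem fund_mem {r : ℕ} (hr : r ∈ [24, 25, 27, 33]) : x r ∈ U := by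
  have hr' : 24 ≤ r ∧ r < 48 := by
    simp only [List.mem_cons, List.not_mem_nil, or_false] at hr
    omega
  exact x_mem_U hr'.1 hr'.2

theorem cU (z : LL) (hz : z ∈ U) (h : ∀ u ∈ U, z * u = u * z) : z = 1 ∨ z = x 44 ∨ z = x 47 ∨ z = x 44 * x 47 :=
  Facts.cent_U hz fun _ hr => (h _ (fund_mem hr)).symm

theorem inv_mid : (x 44 * x 47 : LL)⁻¹ = x 44 * x 47 := by
  rw [mul_inv_rev, x_inv, x_inv]
  exact central44 (x_mem_U (by omega) (by omega))

theorem stepC (w : LL) (hw : w ∈ U) (h : ∀ u ∈ U, w * u * w⁻¹ * u⁻¹ = 1 ∨ w * u * w⁻¹ * u⁻¹ = x 44 * x 47) :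
    ∀ u ∈ U, w * u = u * w := by
  intro u hu
  rcases Facts.mod_mid hw fun r hr => RedFields.flip_comm inv_mid (h (x r) (fund_mem hr)) with rfl | rfl | rfl | rfl
  · rw [one_mul, mul_one]
  · exact (central44 hu).symm
  · exact (central47 hu).symm
  · rw [mul_assoc, ← central47 hu, ← mul_assoc, ← central44 hu, mul_assoc]

theorem gen (M : Subgroup LL) (h1 : ∀ g, g * x 44 = x 44 * g → g ∈ M) (h2 : ∀ g, g * x 47 = x 47 * g → g ∈ M) :
    M = ⊤ :=
  closure_Ps_Pl (fun g hg => h1 g (RedFields.of_mem_Ps hg)) (fun g hg => h2 g (RedFields.of_mem_Pl hg))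

theorem inv (b : LL) (h : b * b = 1) : ∃ h : LL, h * b * h⁻¹ ∈ RG qsP := exists_conj_Qs h

theorem conj_comm {z : LL} (hz : ∀ u ∈ U, u * z = z * u) {k w : LL} (e : k = w * z * w⁻¹) :
    ∃ h : LL, ∀ u ∈ U, k * (h * u * h⁻¹) = (h * u * h⁻¹) * k := by
  refine ⟨w, fun u hu => ?_⟩
  rw [e]
  calc w * z * w⁻¹ * (w * u * w⁻¹) = w * (z * u) * w⁻¹ := by group
    _ = w * (u * z) * w⁻¹ := by rw [hz u hu]
    _ = w * u * w⁻¹ * (w * z * w⁻¹) := by group

theorem x44_ne_one : (x 44 : LL) ≠ 1 := BN.x_ne_one (by omega)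
theorem x47_ne_one : (x 47 : LL) ≠ 1 := BN.x_ne_one (by omega)
theorem x44_ne_x47 : (x 44 : LL) ≠ x 47 := fun h => absurd (x_inj (by omega) (by omega) h) (by omega)

theorem mid_ne_one : (x 44 * x 47 : LL) ≠ 1 := by
  intro h
  apply x44_ne_x47
  rw [mul_eq_one_iff_eq_inv, x_inv] at h
  exact h

theorem conj_inv {z k w : LL} (hz : z * z = 1) (h1 : z ≠ 1) (e : k = w * z * w⁻¹) : k ≠ 1 ∧ k * k = 1 := by
  constructor
  · intro h
    apply h1
    rw [h] at e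
    calc z = w⁻¹ * (w * z * w⁻¹) * w := by group
      _ = 1 := by rw [← e]; group
  · rw [e]
    calc w * z * w⁻¹ * (w * z * w⁻¹) = w * (z * z) * w⁻¹ := by group
      _ = 1 := by rw [hz]; group

theorem pair (g : LL) (hne : g * x 44 * g⁻¹ ≠ x 44) (n : ℕ) (hn : (x 44 * (g * x 44 * g⁻¹)) ^ 2 ^ n = 1) :
    ∃ m : ℕ, (x 44 * (g * x 44 * g⁻¹)) ^ m ≠ 1 ∧
      (x 44 * (g * x 44 * g⁻¹)) ^ m * (x 44 * (g * x 44 * g⁻¹)) ^ m = 1 ∧
      ∃ h : LL, ∀ u ∈ U, (x 44 * (g * x 44 * g⁻¹)) ^ m * (h * u * h⁻¹) =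
        (h * u * h⁻¹) * (x 44 * (g * x 44 * g⁻¹)) ^ m := by
  obtain ⟨k, -, w, h | h⟩ := exists_pow hne hn
  · have h1 := conj_inv (x_mul_self 44) x44_ne_one h
    exact ⟨k, h1.1, h1.2, conj_comm (fun u hu => central44 hu) h⟩
  · have hz : (x 44 * x 47 : LL) * (x 44 * x 47) = 1 := by
      nth_rw 1 [← inv_mid]
      rw [inv_mul_cancel]
    have h1 := conj_inv hz mid_ne_one h
    refine ⟨k, h1.1, h1.2, conj_comm (fun u hu => ?_) h⟩
    rw [← mul_assoc, central44 hu, mul_assoc, central47 hu, mul_assoc]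

/-- **The facts on `F₄(2)`.** -/
def redLL : Red.RedData LL where
  U := U
  Q := RG qsP
  W := RG wsP
  s := x 44
  l := x 47
  hU := RedAut.hU
  hZ := RedAut.hZ
  nU := RedAut.nU
  sU := x_mem_U (by omega) (by omega)
  lU := x_mem_U (by omega) (by omega)
  s1 := x44_ne_one
  l1 := x47_ne_one
  sl := x44_ne_x47
  ss := x_mul_self 44
  ll := x_mul_self 47
  sc := fun _ hu => central44 hu
  lc := fun _ hu => central47 hu
  cU := cU
  aut1 := RedAut.aut1
  aut2 := RedAut.aut2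
  aut3 := RedAut.aut3
  stepS := RedFields.stepS
  stepL := RedFields.stepL
  stepC := stepC
  move := RedFields.move
  gen := gen
  qs := fun _ hq => RedFields.qs hq
  qq := fun _ hq _ hq' => RedFields.qq hq hq'
  wq := fun _ hw _ hq => RedFields.wq hw hq
  wn := fun _ h _ hw => RedFields.wn h hw
  cW := fun _ _ h => RedFields.cW h
  cQ := fun _ _ h => RedFields.cQ h
  wc := fun _ hw => RedFields.wc hw
  inv := fun b _ h => inv b h
  pair := pair

/-- the same under a second name -/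
abbrev inst : Red.RedData LL := redLL

end Cfsg.Agent.F42.RedInst
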