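import Cfsg.Agent.F42.FalseOne
import Cfsg.Agent.F42.Outer
import Cfsg.Agent.F42.RedInst
import Cfsg.Agent.ChevalleyStructure.FieldIso

/-!
# No non-abelian simple group has a standard subgroup `F₄(2)`
-/

set_option autoImplicit false

namespace Cfsg.Agent.F42.FinalZ

open Cfsg.Agent.FourTwo Cfsg.Agent.FourTwo.Base Cfsg.Agent.FourTwo.ZTwo

universe u v

theorem two_dvd {G : Type u} [Group G] [Finite G] (L : Subgroup G)
    {F : Type v} [Field F] [Fintype F] (hF : Fintype.card F = 2)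
    (e : Nonempty (↥L ≃* ↥(Cfsg.Lie.chevF4.group F))) : 2 ∣ Nat.card G := by
  obtain ⟨e⟩ := e
  let r : ZMod 2 ≃+* F := ZMod.ringEquivOfPrime F Nat.prime_two hF
  let g : LL ≃* ↥(Cfsg.Lie.chevF4.group F) := ChevalleyStructure.FieldIso.groupEquiv Cfsg.Lie.chevF4 r
  have h1 : Nat.card LL ∣ Nat.card G := by
    rw [Nat.card_congr (g.trans e.symm).toEquiv]
    exact Subgroup.card_subgroup_dvd_card L
  exact dvd_trans (by rw [Classes.card_LL]; norm_num) h1

theorem false_of_std {G : Type u} [Group G] [Finite G] [IsSimpleGroup G] (D : Red.RedData LL) (hU : D.U = BN.U)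
    (hs : D.s = x 44) (hl : D.l = x 47)
    (he1 : ∀ S : Std G, S.E1 → False)
    (he2 : ∀ S : Std G, Ctx.Nrm S → Ctx.Cen S → (∃ y, Ctx.IsOuter S y) → False)
    (hcomm : StdAlt.First.CommHalf G) (hbal : ∀ t : G, orderOf t = 2 → Cfsg.centralizerPPrimeCore 2 t = ⊥)
    (L : Subgroup G) (hL : Cfsg.IsStandardSubgroup L)
    {F : Type v} [Field F] [Fintype F] (hF : Fintype.card F = 2)
    (e : Nonempty (↥L ≃* ↥(Cfsg.Lie.chevF4.group F))) : False := by
  obtain ⟨e⟩ := e
  let r : ZMod 2 ≃+* F := ZMod.ringEquivOfPrime F Nat.prime_two hF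
  let g : LL ≃* ↥(Cfsg.Lie.chevF4.group F) := ChevalleyStructure.FieldIso.groupEquiv Cfsg.Lie.chevF4 r
  let f : LL →* G := L.subtype.comp ((g.trans e.symm).toMonoidHom)
  have hf : Function.Injective f := L.subtype_injective.comp (g.trans e.symm).injective
  have hfL : f.range = L := by
    ext y
    constructor
    · rintro ⟨a, rfl⟩
      exact ((g.trans e.symm) a).2
    · intro hy
      refine ⟨(g.trans e.symm).symm ⟨y, hy⟩, ?_⟩
      change (((g.trans e.symm) ((g.trans e.symm).symm ⟨y, hy⟩) : L) : G) = y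
      rw [MulEquiv.apply_symm_apply]
  obtain ⟨S, hn, hc, h | h⟩ := Ctx.exists_std D hU hs hl hbal hcomm hL f hf hfL
  · exact he1 S h
  · exact he2 S hn hc h

/-- a locally balanced non-abelian finite simple group has no standard subgroup isomorphic to `F₄(2)` -/
theorem false_of_standard {G : Type u} [Group G] [Finite G] [IsSimpleGroup G] (hG : ¬ IsMulCommutative G)
    (hcomm : StdAlt.First.CommHalf G) (hbal : ∀ t : G, orderOf t = 2 → Cfsg.centralizerPPrimeCore 2 t = ⊥)
    (L : Subgroup G) (hL : Cfsg.IsStandardSubgroup L)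
    {F : Type v} [Field F] [Fintype F] (hF : Fintype.card F = 2)
    (e : Nonempty (↥L ≃* ↥(Cfsg.Lie.chevF4.group F))) : False := by
  have hG' : ¬ ∀ a b : G, a * b = b * a := fun h => hG ⟨⟨h⟩⟩
  exact false_of_std RedInst.redLL rfl rfl rfl
    (fun S h => FalseOne.false_of_E1 hG' S h)
    (fun S hn hc ⟨y, hy⟩ => Outer.false_outer hG' hn hc hy) hcomm hbal L hL hF e

end Cfsg.Agent.F42.FinalZ
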