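import Cfsg.Agent.GTwoFour.TransferTL

set_option autoImplicit false

/-!
# Parity of the conjugates of `t` in the centre of a Sylow subgroup of `C_G(t)`

`G` finite, `t` an involution, `P` a Sylow `2`-subgroup of `M = C_G(t)`, `φ : M →* A` abelian.
The transfer of `φ` is at `t` the product over the conjugates of `t` which centralise `P`.
-/

namespace Cfsg.Agent.F42.Parity

open MulAction Cfsg.Agent.StdL3.OneParity

variable {G : Type*} [Group G]

/-- Two `2`-subgroups of odd index in `M` are conjugate in `M`. -/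
theorem exists_conj [Finite G] {M P R : Subgroup G} (hPM : P ≤ M) (hRM : R ≤ M)
    (hP : IsPGroup 2 P) (hR : IsPGroup 2 R) (hPo : Odd (P.relIndex M)) (hRo : Odd (R.relIndex M)) :
    ∃ m ∈ M, ∀ x : G, x ∈ R ↔ m * x * m⁻¹ ∈ P := by
  have hP' : IsPGroup 2 (P.subgroupOf M) := hP.comap_of_injective M.subtype M.subtype_injective
  have hR' : IsPGroup 2 (R.subgroupOf M) := hR.comap_of_injective M.subtype M.subtype_injective
  have h2 : ∀ Q : Subgroup G, Odd (Q.relIndex M) → ¬ 2 ∣ (Q.subgroupOf M).index := by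
    intro Q hQ h
    have h1 : Odd (Q.subgroupOf M).index := hQ
    exact (Nat.not_even_iff_odd.2 h1) (even_iff_two_dvd.2 h)
  have : Fact (Nat.Prime 2) := ⟨Nat.prime_two⟩
  let SP : Sylow 2 M := hP'.toSylow (h2 P hPo)
  let SR : Sylow 2 M := hR'.toSylow (h2 R hRo)
  obtain ⟨m, hm⟩ := MulAction.exists_smul_eq M SR SP
  refine ⟨m, m.2, fun x => ?_⟩
  have key : ∀ y : M, y ∈ R.subgroupOf M ↔ m * y * m⁻¹ ∈ P.subgroupOf M := by
    intro y
    have e1 : (P.subgroupOf M : Subgroup M) = ((m • SR : Sylow 2 M) : Subgroup M) := by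
      rw [hm]; rfl
    rw [e1, Sylow.coe_subgroup_smul, Subgroup.mem_pointwise_smul_iff_inv_smul_mem]
    have e2 : (MulAut.conj m)⁻¹ • (m * y * m⁻¹) = y := by
      rw [← map_inv, MulAut.smul_def, MulAut.conj_apply]
      group
    rw [e2]
    rfl
  constructor
  · intro hx
    exact (key ⟨x, hRM hx⟩).1 (Subgroup.mem_subgroupOf.2 hx)
  · intro hx
    have hxM : x ∈ M := by
      have h1 := M.mul_mem (M.mul_mem (M.inv_mem m.2) (hPM hx)) m.2
      have e : (m : G)⁻¹ * (m * x * (m : G)⁻¹) * m = x := by group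
      rwa [e] at h1
    exact Subgroup.mem_subgroupOf.1 ((key ⟨x, hxM⟩).2 (Subgroup.mem_subgroupOf.2 hx))

/-- The conjugates of `t` which centralise `P`. -/
def Cen (t : G) (P : Subgroup G) : Set G := {s | IsConj t s ∧ ∀ p ∈ P, p * s = s * p}

/-- powers of an element of order two. -/
theorem pow_eq_of_modEq {A : Type*} [CommGroup A] {c : A} (hc : c ^ 2 = 1) {m n : ℕ}
    (h : m ≡ n [MOD 2]) : c ^ m = c ^ n := by
  have key : ∀ k : ℕ, c ^ k = c ^ (k % 2) := by
    intro k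
    conv_lhs => rw [← Nat.div_add_mod k 2]
    rw [pow_add, pow_mul, hc, one_pow, one_mul]
  rw [key m, key n, h]

theorem relIndex_mul_card' [Finite G] {P M : Subgroup G} (h : P ≤ M) :
    P.relIndex M * Nat.card P = Nat.card M := by
  rw [← Subgroup.index_mul_card (P.subgroupOf M),
    Nat.card_congr (Subgroup.subgroupOfEquivOfLe h).toEquiv]
  rfl

/-- A central involution lies in the Sylow subgroup. -/
theorem mem_of_central' [Finite G] {P M : Subgroup G} {t : G} (hP : IsPGroup 2 P)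
    (htM : t ∈ M) (hc : ∀ m ∈ M, m * t = t * m) (hodd : Odd (P.relIndex M)) (ht : t * t = 1) : t ∈ P := by
  have : Fact (Nat.Prime 2) := ⟨Nat.prime_two⟩
  have hZ : IsPGroup 2 (Subgroup.zpowers (⟨t, htM⟩ : M)) := by
    rintro ⟨x, hx⟩
    obtain ⟨k, rfl⟩ := hx
    refine ⟨1, Subtype.ext (Subtype.ext ?_)⟩
    change (t ^ k) ^ (2 ^ 1) = 1
    rw [pow_one, ← zpow_natCast, ← zpow_mul, mul_comm, zpow_mul]
    have : t ^ ((2 : ℕ) : ℤ) = 1 := by rw [zpow_natCast, pow_two, ht]
    rw [this, one_zpow]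
  obtain ⟨Q, hQ⟩ := hZ.exists_le_sylow
  have hP' : IsPGroup 2 (P.subgroupOf M) := hP.comap_of_injective M.subtype M.subtype_injective
  have h2 : ¬ 2 ∣ (P.subgroupOf M).index := fun h =>
    (Nat.not_even_iff_odd.2 hodd) (even_iff_two_dvd.2 h)
  let SP : Sylow 2 M := hP'.toSylow h2
  obtain ⟨m, hm⟩ := MulAction.exists_smul_eq M Q SP
  have h3 : (⟨t, htM⟩ : M) ∈ Q := hQ (Subgroup.mem_zpowers _)
  have h4 : (⟨t, htM⟩ : M) ∈ ((m • Q : Sylow 2 M) : Subgroup M) := by
    rw [Sylow.coe_subgroup_smul, Subgroup.mem_pointwise_smul_iff_inv_smul_mem]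
    have e : (MulAut.conj m)⁻¹ • (⟨t, htM⟩ : M) = ⟨t, htM⟩ := by
      rw [← map_inv, MulAut.smul_def, MulAut.conj_apply, inv_inv]
      apply Subtype.ext
      have h5 : (m : G) * t = t * m := hc m m.2
      change (m : G)⁻¹ * t * m = t
      rw [mul_assoc, ← h5, inv_mul_cancel_left]
    rw [e]
    exact h3
  rw [hm] at h4
  exact Subgroup.mem_subgroupOf.1 h4

/-- An involution commuting with a Sylow subgroup lies in it. -/
theorem mem_of_commute [Finite G] {P M : Subgroup G} {u : G} (hP : IsPGroup 2 P) (hPM : P ≤ M)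
    (huM : u ∈ M) (hc : ∀ p ∈ P, p * u = u * p) (hodd : Odd (P.relIndex M)) (hu : u * u = 1) : u ∈ P := by
  have hPN : P ≤ M ⊓ Subgroup.centralizer {u} := le_inf hPM (fun p hp =>
    Subgroup.mem_centralizer_singleton_iff.2 (hc p hp))
  refine mem_of_central' (M := M ⊓ Subgroup.centralizer {u}) hP
    (Subgroup.mem_inf.2 ⟨huM, Subgroup.mem_centralizer_singleton_iff.2 rfl⟩)
    (fun m hm => Subgroup.mem_centralizer_singleton_iff.1 (Subgroup.mem_inf.1 hm).2) ?_ hu
  have h1 := Subgroup.relIndex_mul_relIndex P (M ⊓ Subgroup.centralizer {u}) M hPN inf_le_left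
  rw [← h1] at hodd
  exact (Nat.odd_mul.1 hodd).1

theorem mem_of_central [Finite G] {P : Subgroup G} {t : G} (hP : IsPGroup 2 P)
    (hodd : Odd (P.relIndex (Subgroup.centralizer ({t} : Set G)))) (ht : t * t = 1) : t ∈ P :=
  mem_of_central' hP (Subgroup.mem_centralizer_singleton_iff.2 rfl)
    (fun _ hm => Subgroup.mem_centralizer_singleton_iff.1 hm) hodd ht

section

variable [Finite G] {A : Type*} [CommGroup A] {t : G} (ht : t * t = 1) {M : Subgroup G}
  (hM : M = Subgroup.centralizer ({t} : Set G)) (φ : M →* A) (htM : t ∈ M)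
  {P : Subgroup G} (hP : IsPGroup 2 P) (hPt : P ≤ M) (hodd : Odd (P.relIndex M))

omit [Finite G] in
include hM in
theorem coset_eq_iff (g k : G) :
    ((g : G) : G ⧸ M) = (k : G ⧸ M) ↔ g * t * g⁻¹ = k * t * k⁻¹ := by
  rw [QuotientGroup.eq, hM, Subgroup.mem_centralizer_singleton_iff]
  constructor
  · intro h
    calc g * t * g⁻¹ = g * (t * (g⁻¹ * k)) * k⁻¹ := by group
      _ = g * (g⁻¹ * k * t) * k⁻¹ := by rw [h]
      _ = k * t * k⁻¹ := by group
  · intro h
    calc g⁻¹ * k * t = g⁻¹ * (k * t * k⁻¹) * k := by group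
      _ = g⁻¹ * (g * t * g⁻¹) * k := by rw [h]
      _ = t * (g⁻¹ * k) := by group

include ht hM hP hPt hodd in
/-- The transfer at `t`. -/
theorem transfer_eq
    (hv : ∀ g : G, ∀ hg : g⁻¹ * t * g ∈ M,
      (∀ p ∈ P, p * (g⁻¹ * t * g) = (g⁻¹ * t * g) * p) → φ ⟨g⁻¹ * t * g, hg⟩ = φ ⟨t, htM⟩) :
    MonoidHom.transfer φ t = φ ⟨t, htM⟩ ^ (Cen t P).ncard := by
  classical
  have : Fact (Nat.Prime 2) := ⟨Nat.prime_two⟩
  have hti : t⁻¹ = t := inv_eq_of_mul_eq_one_right ht
  have := Fintype.ofFinite (G ⧸ M)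
  obtain ⟨f, hf, hprod⟩ := transfer_eq_prod_fixed M φ t ht
  set a : A := φ ⟨t, htM⟩ with ha
  have hfix : ∀ g : G, t • ((g : G) : G ⧸ M) = (g : G ⧸ M) ↔ g⁻¹ * t * g ∈ M := by
    intro g
    rw [MulAction.Quotient.smul_mk, smul_eq_mul, QuotientGroup.eq]
    have : (t * g)⁻¹ * g = g⁻¹ * t * g := by rw [mul_inv_rev, hti]
    rw [this]
  have hcommM : ∀ p ∈ M, p * t = t * p := fun p hp => by
    rw [hM] at hp
    exact Subgroup.mem_centralizer_singleton_iff.1 hp
  have hcomm : ∀ p ∈ P, p * t = t * p := fun p hp => hcommM p (hPt hp)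
  -- `P` acts
  have hPf : ∀ p ∈ P, ∀ q : G ⧸ M, t • q = q → t • (p • q) = p • q ∧ f (p • q) = f q := by
    intro p hp q hq
    obtain ⟨g, rfl⟩ := QuotientGroup.mk_surjective q
    have hg := (hfix g).1 hq
    have hc := hcomm p hp
    have h1 : (p * g)⁻¹ * t * (p * g) = g⁻¹ * t * g := by
      calc (p * g)⁻¹ * t * (p * g) = g⁻¹ * (p⁻¹ * (t * p)) * g := by group
        _ = g⁻¹ * (p⁻¹ * (p * t)) * g := by rw [hc]
        _ = g⁻¹ * t * g := by group
    have h2 : (p * g)⁻¹ * t * (p * g) ∈ M := by rw [h1]; exact hg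
    rw [MulAction.Quotient.smul_mk, smul_eq_mul]
    refine ⟨(hfix _).2 h2, ?_⟩
    rw [hf _ (p * g) rfl h2, hf _ g rfl hg]
    congr 1
    exact Subtype.ext h1
  have hsq : ∀ q : G ⧸ M, t • q = q → f q ^ 2 = 1 := by
    intro q hq
    obtain ⟨g, rfl⟩ := QuotientGroup.mk_surjective q
    have hg := (hfix g).1 hq
    rw [hf _ g rfl hg, ← map_pow]
    have : (⟨g⁻¹ * t * g, hg⟩ : M) ^ 2 = 1 := by
      apply Subtype.ext
      rw [Subgroup.coe_pow, Subgroup.coe_one, pow_two]
      calc g⁻¹ * t * g * (g⁻¹ * t * g) = g⁻¹ * (t * t) * g := by group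
        _ = 1 := by rw [ht]; group
    rw [this, map_one]
  set F := Finset.univ.filter (fun q : G ⧸ M => t • q = q) with hF
  set FP := Finset.univ.filter (fun q : G ⧸ M => ∀ p ∈ P, p • q = q) with hFP
  -- level sets
  have hlev : ∀ c : A, (∃ q ∈ F, f q = c) →
      c ^ (F.filter (fun q => f q = c)).card = c ^ ((F.filter (fun q => ∀ p ∈ P, p • q = q)).filter
        (fun q => f q = c)).card := by
    intro c hc
    obtain ⟨q0, hq0, hq0c⟩ := hc
    have hc2 : c ^ 2 = 1 := by rw [← hq0c]; exact hsq q0 (Finset.mem_filter.1 hq0).2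
    let Ω : SubMulAction P (G ⧸ M) :=
      { carrier := {q | t • q = q ∧ f q = c}
        smul_mem' := by
          rintro ⟨p, hp⟩ q ⟨h1, h2⟩
          have h3 := hPf p hp q h1
          exact ⟨h3.1, h3.2.trans h2⟩ }
    have h1 := hP.card_modEq_card_fixedPoints Ω
    have e1 : Nat.card Ω = (F.filter (fun q => f q = c)).card := by
      apply Nat.subtype_card
      intro q
      rw [Finset.mem_filter, hF, Finset.mem_filter]
      exact ⟨fun h => ⟨h.1.2, h.2⟩, fun h => ⟨⟨Finset.mem_univ _, h.1⟩, h.2⟩⟩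
    have e2 : Nat.card (MulAction.fixedPoints P Ω) =
        ((F.filter (fun q => ∀ p ∈ P, p • q = q)).filter (fun q => f q = c)).card := by
      have e3 : Nat.card (MulAction.fixedPoints P Ω) =
          Nat.card {q : G ⧸ M // (t • q = q ∧ f q = c) ∧ ∀ p ∈ P, p • q = q} := by
        refine Nat.card_congr
          { toFun := fun x => ⟨x.1.1, x.1.2, fun p hp => congrArg Subtype.val (x.2 ⟨p, hp⟩)⟩
            invFun := fun y => ⟨⟨y.1, y.2.1⟩, fun p => Subtype.ext (y.2.2 p.1 p.2)⟩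
            left_inv := fun x => rfl
            right_inv := fun y => rfl }
      rw [e3]
      apply Nat.subtype_card
      intro q
      rw [Finset.mem_filter, Finset.mem_filter, hF, Finset.mem_filter]
      exact ⟨fun h => ⟨⟨h.1.1.2, h.2⟩, h.1.2⟩, fun h => ⟨⟨⟨Finset.mem_univ _, h.1.1⟩, h.2⟩, h.1.2⟩⟩
    rw [e1, e2] at h1
    exact pow_eq_of_modEq hc2 h1
  rw [hprod, ← Finset.prod_fiberwise_of_maps_to (s := F) (t := F.image f)
    (fun q hq => Finset.mem_image_of_mem f hq) f]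
  have h3 : ∀ c ∈ F.image f, ∏ q ∈ F.filter (fun q => f q = c), f q =
      ∏ q ∈ (F.filter (fun q => ∀ p ∈ P, p • q = q)).filter (fun q => f q = c), f q := by
    intro c hc
    rw [Finset.prod_congr rfl (g := fun _ => c) (fun q hq => (Finset.mem_filter.1 hq).2),
      Finset.prod_const, hlev c (by simpa using hc),
      Finset.prod_congr rfl (g := fun _ => c) (fun q hq => (Finset.mem_filter.1 hq).2),
      Finset.prod_const]
  rw [Finset.prod_congr rfl h3, Finset.prod_fiberwise_of_maps_to (s := F.filter (fun q => ∀ p ∈ P, p • q = q))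
    (t := F.image f) (fun q hq => Finset.mem_image_of_mem f (Finset.mem_filter.1 hq).1) f]
  -- the fixed cosets of `P`
  have htP : t ∈ P := mem_of_central hP (hM ▸ hodd) ht
  have hval : ∀ q ∈ F.filter (fun q => ∀ p ∈ P, p • q = q), f q = a := by
    intro q hq
    obtain ⟨hq1, hq2⟩ := Finset.mem_filter.1 hq
    obtain ⟨g, rfl⟩ := QuotientGroup.mk_surjective q
    set R : Subgroup G := P.map (MulAut.conj g⁻¹).toMonoidHom with hR
    have hRmem : ∀ x, x ∈ R ↔ g * x * g⁻¹ ∈ P := by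
      intro x
      rw [hR, Subgroup.mem_map_equiv, MulAut.conj_symm_apply, inv_inv]
    have hRM : R ≤ M := by
      intro x hx
      rw [hRmem] at hx
      have h5 := hq2 _ hx
      rw [MulAction.Quotient.smul_mk, smul_eq_mul, eq_comm, QuotientGroup.eq] at h5
      have e : g⁻¹ * (g * x * g⁻¹ * g) = x := by group
      rwa [e] at h5
    have hR2 : IsPGroup 2 R := hP.map _
    have hcardR : Nat.card R = Nat.card P :=
      Nat.card_congr (P.equivMapOfInjective _ (MulAut.conj g⁻¹).injective).symm.toEquiv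
    have hRo : Odd (R.relIndex M) := by
      have h6 := relIndex_mul_card' hRM
      have h7 := relIndex_mul_card' hPt
      rw [hcardR, ← h7] at h6
      rw [Nat.eq_of_mul_eq_mul_right Nat.card_pos h6]
      exact hodd
    obtain ⟨m, hm, hmR⟩ := exists_conj hPt hRM hP hR2 hodd hRo
    -- k = g * m⁻¹ normalises P
    have hk : ((g * m⁻¹ : G) : G ⧸ M) = ((g : G) : G ⧸ M) := by
      rw [QuotientGroup.eq]
      have e : (g * m⁻¹)⁻¹ * g = m := by group
      rw [e]; exact hm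
    have hkP : ∀ p ∈ P, p * ((g * m⁻¹)⁻¹ * t * (g * m⁻¹)) = ((g * m⁻¹)⁻¹ * t * (g * m⁻¹)) * p := by
      intro p hp
      have h8 : m⁻¹ * p * m ∈ R := by
        rw [hmR]
        have e : m * (m⁻¹ * p * m) * m⁻¹ = p := by group
        rw [e]; exact hp
      rw [hRmem] at h8
      have h9 := hcomm _ h8
      calc p * ((g * m⁻¹)⁻¹ * t * (g * m⁻¹))
          = m * g⁻¹ * (g * (m⁻¹ * p * m) * g⁻¹ * t) * g * m⁻¹ := by group
        _ = m * g⁻¹ * (t * (g * (m⁻¹ * p * m) * g⁻¹)) * g * m⁻¹ := by rw [h9]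
        _ = ((g * m⁻¹)⁻¹ * t * (g * m⁻¹)) * p := by group
    have hkM : (g * m⁻¹)⁻¹ * t * (g * m⁻¹) ∈ M := by
      rw [hM, Subgroup.mem_centralizer_singleton_iff]
      exact (hkP t htP).symm
    rw [hf _ (g * m⁻¹) hk hkM]
    exact hv _ hkM hkP
  rw [Finset.prod_congr rfl hval, Finset.prod_const]
  congr 1
  -- count
  rw [← Set.ncard_coe_finset]
  refine Set.ncard_congr (fun q _ => (q.out : G) * t * (q.out)⁻¹) ?_ ?_ ?_
  · intro q hq
    rw [Finset.mem_coe, Finset.mem_filter] at hq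
    refine ⟨isConj_iff.2 ⟨q.out, rfl⟩, fun p hp => ?_⟩
    have h5 := hq.2 p hp
    have h6 : ((p * q.out : G) : G ⧸ M) = ((q.out : G) : G ⧸ M) := by
      rw [← smul_eq_mul, ← MulAction.Quotient.smul_mk, QuotientGroup.out_eq']
      exact h5
    rw [coset_eq_iff hM] at h6
    calc p * (q.out * t * (q.out)⁻¹) = (p * q.out * t * (p * q.out)⁻¹) * p := by group
      _ = q.out * t * (q.out)⁻¹ * p := by rw [h6]
  · intro q q' _ _ h
    have := (coset_eq_iff hM q.out q'.out).2 h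
    rwa [QuotientGroup.out_eq', QuotientGroup.out_eq'] at this
  · rintro s ⟨hs, hsP⟩
    obtain ⟨g, rfl⟩ := isConj_iff.1 hs
    refine ⟨((g : G) : G ⧸ M), ?_, ?_⟩
    · rw [Finset.mem_coe, Finset.mem_filter, hF, Finset.mem_filter]
      have h7 : ∀ p ∈ P, p • ((g : G) : G ⧸ M) = ((g : G) : G ⧸ M) := by
        intro p hp
        rw [MulAction.Quotient.smul_mk, smul_eq_mul, coset_eq_iff hM]
        calc p * g * t * (p * g)⁻¹ = (p * (g * t * g⁻¹)) * p⁻¹ := by group
          _ = g * t * g⁻¹ := by rw [hsP p hp]; group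
      exact ⟨⟨Finset.mem_univ _, h7 t htP⟩, h7⟩
    · rw [← coset_eq_iff hM, QuotientGroup.out_eq']


include ht hM hP hPt hodd in
/-- **(P1)**: if all abelian images of `G` kill `t` (`G` simple), the number of conjugates of `t` which
centralise `P` is even. -/
theorem even_cen [IsSimpleGroup G] (hG : ¬ ∀ a b : G, a * b = b * a) (h1 : φ ⟨t, htM⟩ ≠ 1)
    (hv : ∀ g : G, ∀ hg : g⁻¹ * t * g ∈ M,
      (∀ p ∈ P, p * (g⁻¹ * t * g) = (g⁻¹ * t * g) * p) → φ ⟨g⁻¹ * t * g, hg⟩ = φ ⟨t, htM⟩) :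
    Even (Cen t P).ncard := by
  have h2 := transfer_eq ht hM φ htM hP hPt hodd hv
  rw [GTwoFour.TransferTL.map_eq_one_of_simple hG] at h2
  by_contra h
  rw [Nat.not_even_iff_odd] at h
  apply h1
  have h3 : φ ⟨t, htM⟩ ^ 2 = 1 := by
    rw [← map_pow]
    have : (⟨t, htM⟩ : M) ^ 2 = 1 := Subtype.ext (by simp [pow_two, ht])
    rw [this, map_one]
  rw [pow_eq_of_modEq h3 (n := 1) (by rw [Nat.ModEq]; exact Nat.odd_iff.1 h), pow_one] at h2
  exact h2.symm

end

/-- **(P1)**, form with a subgroup `L` such that `M/L` is abelian. -/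
theorem even_cen_of_comm [Finite G] [IsSimpleGroup G] (hG : ¬ ∀ a b : G, a * b = b * a)
    {t : G} (ht : t * t = 1) {M L : Subgroup G} (hM : M = Subgroup.centralizer ({t} : Set G))
    (hab : ∀ a ∈ M, ∀ b ∈ M, a * b * a⁻¹ * b⁻¹ ∈ L) (htL : t ∉ L)
    {P : Subgroup G} (hP : IsPGroup 2 P) (hPt : P ≤ M) (hodd : Odd (P.relIndex M))
    (hv : ∀ u : G, IsConj t u → u ∈ P → (∀ p ∈ P, p * u = u * p) → u * t ∈ L) :
    Even (Cen t P).ncard := by
  have htM : t ∈ M := by rw [hM]; exact Subgroup.mem_centralizer_singleton_iff.2 rfl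
  have hN : (L.subgroupOf M).Normal := by
    refine ⟨fun l hl m => ?_⟩
    rw [Subgroup.mem_subgroupOf] at hl ⊢
    have := L.mul_mem (hab m m.2 l l.2) hl
    simpa [mul_assoc] using this
  let _ : CommGroup (M ⧸ L.subgroupOf M) :=
    { (inferInstance : Group (M ⧸ L.subgroupOf M)) with
      mul_comm := by
        intro x y
        obtain ⟨a, rfl⟩ := QuotientGroup.mk_surjective x
        obtain ⟨b, rfl⟩ := QuotientGroup.mk_surjective y
        rw [← QuotientGroup.mk_mul, ← QuotientGroup.mk_mul, QuotientGroup.eq, Subgroup.mem_subgroupOf]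
        have := hab (b : G)⁻¹ (M.inv_mem b.2) (a : G)⁻¹ (M.inv_mem a.2)
        simpa [mul_assoc] using this }
  refine even_cen ht hM (QuotientGroup.mk' (L.subgroupOf M)) htM hP hPt hodd hG ?_ ?_
  · intro h
    rw [QuotientGroup.mk'_apply, QuotientGroup.eq_one_iff, Subgroup.mem_subgroupOf] at h
    exact htL h
  · intro g hg hgP
    rw [QuotientGroup.mk'_apply, QuotientGroup.mk'_apply, QuotientGroup.eq, Subgroup.mem_subgroupOf]
    have h2 : (g⁻¹ * t * g) * (g⁻¹ * t * g) = 1 := by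
      calc g⁻¹ * t * g * (g⁻¹ * t * g) = g⁻¹ * (t * t) * g := by group
        _ = 1 := by rw [ht]; group
    have hu : g⁻¹ * t * g ∈ P := mem_of_commute hP hPt hg hgP hodd h2
    have h1 := hv _ (isConj_iff.2 ⟨g⁻¹, by group⟩) hu hgP
    have h3 : (g⁻¹ * t * g)⁻¹ = g⁻¹ * t * g := inv_eq_of_mul_eq_one_right h2
    change (g⁻¹ * t * g)⁻¹ * t ∈ L
    rw [h3]
    exact h1

end Cfsg.Agent.F42.Parity
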