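import Cfsg.Agent.F42.PairChain
import Cfsg.Agent.F42.Parity

/-!
# The endgame when a graph automorphism is induced in `C_G(t)`

`C : PairChain G`, `C_G(t) = ⟨t, g⟩ L`, `g * g = 1`: no simple group.
-/

set_option autoImplicit false

namespace Cfsg.Agent.F42.Pairs

open Subgroup Filtered ExtTwo

variable {G : Type*} [Group G]

/-- extension by two commuting elements -/
theorem mem_ext_ext {K : Subgroup G} {w t : G} (hw : ∀ c ∈ K, w * c * w⁻¹ ∈ K) (hww : w * w = 1)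
    (ht : ∀ c ∈ K, t * c * t⁻¹ ∈ K) (htt : t * t = 1) (htw : t * w = w * t) {c : G} :
    c ∈ ext (ext K w) t ↔ (c ∈ K ∨ w * c ∈ K) ∨ (t * c ∈ K ∨ w * (t * c) ∈ K) := by
  have h1 : w * w ∈ K := by rw [hww]; exact one_mem _
  have h2 : t * t ∈ ext K w := by rw [htt]; exact one_mem _
  have h3 : ∀ c ∈ ext K w, t * c * t⁻¹ ∈ ext K w := ext_conj ht (by rw [htw, mul_inv_cancel_right])
  rw [mem_ext h3 h2, mem_ext hw h1, mem_ext hw h1]

theorem relIndex_ext_ext {K : Subgroup G} {w t : G} (hw : ∀ c ∈ K, w * c * w⁻¹ ∈ K) (hww : w * w = 1)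
    (ht : ∀ c ∈ K, t * c * t⁻¹ ∈ K) (htt : t * t = 1) (htw : t * w = w * t) (hwK : w ∉ K) (htK : t ∉ K)
    (hwtK : w * t ∉ K) : K.relIndex (ext (ext K w) t) = 4 := by
  have h1 : w * w ∈ K := by rw [hww]; exact one_mem _
  have h2 : t * t ∈ ext K w := by rw [htt]; exact one_mem _
  have h3 : ∀ c ∈ ext K w, t * c * t⁻¹ ∈ ext K w := ext_conj ht (by rw [htw, mul_inv_cancel_right])
  have h4 : t ∉ ext K w := by
    rw [mem_ext hw h1]
    rintro (h | h)
    · exact htK h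
    · exact hwtK h
  have := relIndex_mul_relIndex K (ext K w) (ext (ext K w) t) (le_ext _ _) (le_ext _ _)
  rw [relIndex_ext hw h1 hwK, relIndex_ext h3 h2 h4] at this
  exact this.symm

theorem map_centralizer (u s : G) : (centralizer ({u} : Set G)).map (MulAut.conj s).toMonoidHom =
    centralizer {s * u * s⁻¹} := by
  ext x
  rw [mem_map_equiv, mem_centralizer_singleton_iff, mem_centralizer_singleton_iff, MulAut.conj_symm_apply]
  constructor
  · intro h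
    calc x * (s * u * s⁻¹) = s * (s⁻¹ * x * s * u) * s⁻¹ := by group
      _ = s * (u * (s⁻¹ * x * s)) * s⁻¹ := by rw [h]
      _ = _ := by group
  · intro h
    calc s⁻¹ * x * s * u = s⁻¹ * (x * (s * u * s⁻¹)) * s := by group
      _ = s⁻¹ * (s * u * s⁻¹ * x) * s := by rw [h]
      _ = _ := by group

theorem map_conj_self {H : Subgroup G} {s : G} (hs : s ∈ H) : H.map (MulAut.conj s).toMonoidHom = H := by
  ext x
  rw [mem_map_equiv, MulAut.conj_symm_apply]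
  constructor
  · intro h
    have := mul_mem (mul_mem hs h) (inv_mem hs)
    have e : s * (s⁻¹ * x * s) * s⁻¹ = x := by group
    rwa [e] at this
  · intro h
    exact mul_mem (mul_mem (inv_mem hs) h) hs

theorem relIndex_map_conj (H D : Subgroup G) (s : G) :
    (H.map (MulAut.conj s).toMonoidHom).relIndex (D.map (MulAut.conj s).toMonoidHom) = H.relIndex D :=
  relIndex_map_map_of_injective _ _ (MulAut.conj s).injective

/-- Two `2`-subgroups of odd index in the centralisers of `t`, `h = q t q⁻¹` are conjugate; if the first is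
generated by its involutions, so is the second. -/
theorem mem_of_invol [Finite G] {t h q : G} (hq : q * t * q⁻¹ = h) {P R T : Subgroup G}
    (hP : IsPGroup 2 P) (hR : IsPGroup 2 R) (hPt : P ≤ centralizer {t}) (hRh : R ≤ centralizer {h})
    (hPo : Odd (P.relIndex (centralizer {t}))) (hRo : Odd (R.relIndex (centralizer {h})))
    (hPI : P ≤ closure {c | c ∈ P ∧ c * c = 1}) (hT : ∀ c ∈ R, c * c = 1 → c ∈ T) : R ≤ T := by
  have hP2 : IsPGroup 2 (P.map (MulAut.conj q).toMonoidHom) := hP.map _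
  have hPM : P.map (MulAut.conj q).toMonoidHom ≤ centralizer {h} := by
    rw [← hq, ← map_centralizer]
    exact map_mono hPt
  have hPo2 : Odd ((P.map (MulAut.conj q).toMonoidHom).relIndex (centralizer {h})) := by
    rw [← hq, ← map_centralizer, relIndex_map_conj]
    exact hPo
  obtain ⟨m, _, hm2⟩ := Parity.exists_conj hPM hRh hP2 hR hPo2 hRo
  have key : ∀ x, x ∈ R ↔ (q⁻¹ * m) * x * (q⁻¹ * m)⁻¹ ∈ P := by
    intro x
    rw [hm2 x, mem_map_equiv, MulAut.conj_symm_apply]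
    have e : q⁻¹ * (m * x * m⁻¹) * q = q⁻¹ * m * x * (q⁻¹ * m)⁻¹ := by group
    rw [e]
  generalize q⁻¹ * m = v at key
  have hPT : P ≤ T.comap (MulAut.conj v⁻¹).toMonoidHom := by
    refine hPI.trans ?_
    rw [closure_le]
    rintro c ⟨hc, hcc⟩
    have h1 : v⁻¹ * c * v ∈ R := by
      rw [key]
      have e : v * (v⁻¹ * c * v) * v⁻¹ = c := by group
      rwa [e]
    have h2 := hT _ h1 (by
      calc v⁻¹ * c * v * (v⁻¹ * c * v) = v⁻¹ * (c * c) * v := by group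
        _ = 1 := by rw [hcc]; group)
    change v⁻¹ * c * v⁻¹⁻¹ ∈ T
    rwa [inv_inv]
  intro x hx
  have h3 := hPT ((key x).1 hx)
  change v⁻¹ * (v * x * v⁻¹) * v⁻¹⁻¹ ∈ T at h3
  have e : v⁻¹ * (v * x * v⁻¹) * v⁻¹⁻¹ = x := by group
  rwa [e] at h3

/-- the transfer lemma for a subgroup `S` with abelian `H/S` -/
theorem exists_extremal_comm [Finite G] [IsSimpleGroup G] (hG : ¬ ∀ a b : G, a * b = b * a)
    {t : G} (ht : t * t = 1) {H S : Subgroup G}
    (hab : ∀ a ∈ H, ∀ b ∈ H, a * b * a⁻¹ * b⁻¹ ∈ S) (htH : t ∈ H) (htS : t ∉ S)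
    (hodd : Odd (H.relIndex (centralizer ({t} : Set G)))) :
    ∃ k : G, k⁻¹ * t * k ∈ H ∧ k⁻¹ * t * k ∉ S ∧
      Odd (H.relIndex (centralizer ({k⁻¹ * t * k} : Set G))) ∧ ∀ x ∈ H, k⁻¹ * t * k ≠ x⁻¹ * t * x := by
  have hN : (S.subgroupOf H).Normal := by
    refine ⟨fun l hl m => ?_⟩
    rw [Subgroup.mem_subgroupOf] at hl ⊢
    have := S.mul_mem (hab m m.2 l l.2) hl
    simpa [mul_assoc] using this
  let _ : CommGroup (H ⧸ S.subgroupOf H) :=
    { (inferInstance : Group (H ⧸ S.subgroupOf H)) with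
      mul_comm := by
        intro x y
        obtain ⟨a, rfl⟩ := QuotientGroup.mk_surjective x
        obtain ⟨b, rfl⟩ := QuotientGroup.mk_surjective y
        rw [← QuotientGroup.mk_mul, ← QuotientGroup.mk_mul, QuotientGroup.eq, Subgroup.mem_subgroupOf]
        have := hab (b : G)⁻¹ (H.inv_mem b.2) (a : G)⁻¹ (H.inv_mem a.2)
        simpa [mul_assoc] using this }
  have key : ∀ c : G, ∀ hc : c ∈ H, QuotientGroup.mk' (S.subgroupOf H) ⟨c, hc⟩ ≠ 1 ↔ c ∉ S := by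
    intro c hc
    rw [QuotientGroup.mk'_apply, Ne, QuotientGroup.eq_one_iff, Subgroup.mem_subgroupOf]
  obtain ⟨k, hk, h1, h2, h3⟩ := GTwoFour.TransferTL.exists_extremal H (QuotientGroup.mk' (S.subgroupOf H)) t
    (fun f => GTwoFour.TransferTL.map_eq_one_of_simple hG f t) ht htH ((key t htH).2 htS) hodd
  exact ⟨k, hk, (key _ hk).1 h1, h2, h3⟩

namespace PairChain

variable (C : PairChain G)

theorem sq_mem {i : ℕ} (hi : i < 2 * C.m) {c : G} (hc : c ∈ C.N (i + 1)) : c * c ∈ C.N i := by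
  obtain ⟨y, hy, n, hn, rfl⟩ := C.exists_mul hi hc
  have hyy : y * y = 1 := by
    have hx := C.xx i hi
    have ha := C.aa i hi
    have hax := C.ax i hi
    rcases (C.mem_X hi).1 hy with rfl | rfl | rfl | rfl
    · exact one_mul _
    · exact hx
    · exact ha
    · calc C.x i * C.a i * (C.x i * C.a i) = C.x i * (C.a i * C.x i) * C.a i := by group
        _ = (C.x i * C.x i) * (C.a i * C.a i) := by rw [hax]; group
        _ = 1 := by rw [hx, ha, one_mul]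
  have e : y * n * (y * n) = (y * y) * (y⁻¹ * n * y) * n := by group
  rw [e, hyy, one_mul]
  exact mul_mem (C.conj_mem' hi.le (C.X_le hi hy) hn) hn

theorem X_sq {i : ℕ} (hi : i < 2 * C.m) {y : G} (hy : y ∈ C.X i) : y * y = 1 := by
  have hx := C.xx i hi
  have ha := C.aa i hi
  have hax := C.ax i hi
  rcases (C.mem_X hi).1 hy with rfl | rfl | rfl | rfl
  · exact one_mul _
  · exact hx
  · exact ha
  · calc C.x i * C.a i * (C.x i * C.a i) = C.x i * (C.a i * C.x i) * C.a i := by group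
      _ = (C.x i * C.x i) * (C.a i * C.a i) := by rw [hax]; group
      _ = 1 := by rw [hx, ha, one_mul]

theorem pow_eq_one {k : ℕ} (hk : k ≤ 2 * C.m) : ∀ c ∈ C.N k, c ^ 2 ^ k = 1 := by
  induction k with
  | zero =>
    intro c hc
    have hc' : c ∈ C.ch.N 0 := hc
    rw [C.ch.N_zero, mem_bot] at hc'
    rw [hc', one_pow]
  | succ k ih =>
    intro c hc
    have := ih (by omega) _ (C.sq_mem (by omega) hc)
    rw [pow_succ', pow_mul, pow_two, this]

theorem isPGroup : IsPGroup 2 (C.N (2 * C.m)) := by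
  rintro ⟨c, hc⟩
  exact ⟨2 * C.m, Subtype.ext (C.pow_eq_one le_rfl c hc)⟩

theorem t_conj_N {k : ℕ} (hk : k ≤ 2 * C.m) : ∀ c ∈ C.N k, C.t * c * C.t⁻¹ ∈ C.N k :=
  fun _ hc => C.ch.t_conj_mem hk hc

/-- squares -/
theorem sq_pair {k : ℕ} (hk : k < C.m) {z y n : G} (hz : z ∈ C.X (2 * k + 1)) (hy : y ∈ C.X (2 * k))
    (_hn : n ∈ C.N (2 * k)) :
    z * y * n * (z * y * n) = z * y * z⁻¹ * y⁻¹ * ((z * y)⁻¹ * n * (z * y) * n) := by
  have hz2 := C.X_sq (by omega) hz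
  have hy2 := C.X_sq (by omega) hy
  have hz3 : z⁻¹ = z := inv_eq_of_mul_eq_one_right hz2
  have hy3 : y⁻¹ = y := inv_eq_of_mul_eq_one_right hy2
  calc z * y * n * (z * y * n) = z * y * z * y * ((z * y)⁻¹ * n * (z * y) * n) := by group
    _ = _ := by rw [hz3, hy3]

theorem sq_pair_mem {k : ℕ} (hk : k < C.m) {c : G} (hc : c ∈ C.N (2 * (k + 1))) : c * c ∈ C.N (2 * k) := by
  obtain ⟨z, hz, y, hy, n, hn, rfl⟩ := C.exists_pair hk hc
  have hzN : z ∈ C.N (2 * C.m) := C.X_le (by omega) hz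
  have hyN : y ∈ C.N (2 * C.m) := C.X_le (by omega) hy
  rw [C.sq_pair hk hz hy hn]
  exact mul_mem (C.comm_mem hk _ hzN _ (C.X_le (by omega) hy))
    (mul_mem (C.conj_mem' (by omega) (mul_mem hzN hyN) hn) hn)

/-! ### The group `T` -/

/-- The elements centralising `t` modulo `N k`. -/
def T (k : ℕ) : Subgroup G where
  carrier := {c | (∀ n ∈ C.N k, c * n * c⁻¹ ∈ C.N k) ∧ (∀ n ∈ C.N k, c⁻¹ * n * c ∈ C.N k) ∧
    C.t * c * C.t⁻¹ * c⁻¹ ∈ C.N k}
  one_mem' := by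
    refine ⟨fun n hn => ?_, fun n hn => ?_, ?_⟩
    · rwa [one_mul, inv_one, mul_one]
    · rwa [inv_one, one_mul, mul_one]
    · rw [mul_one, mul_inv_cancel, inv_one, mul_one]; exact one_mem _
  mul_mem' := by
    rintro a b ⟨ha1, ha2, ha3⟩ ⟨hb1, hb2, hb3⟩
    refine ⟨fun n hn => ?_, fun n hn => ?_, ?_⟩
    · have := ha1 _ (hb1 n hn)
      have e : a * (b * n * b⁻¹) * a⁻¹ = a * b * n * (a * b)⁻¹ := by group
      rwa [e] at this
    · have := hb2 _ (ha2 n hn)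
      have e : b⁻¹ * (a⁻¹ * n * a) * b = (a * b)⁻¹ * n * (a * b) := by group
      rwa [e] at this
    · have := mul_mem ha3 (ha1 _ hb3)
      have e : C.t * a * C.t⁻¹ * a⁻¹ * (a * (C.t * b * C.t⁻¹ * b⁻¹) * a⁻¹) =
        C.t * (a * b) * C.t⁻¹ * (a * b)⁻¹ := by group
      rwa [e] at this
  inv_mem' := by
    rintro a ⟨ha1, ha2, ha3⟩
    refine ⟨fun n hn => ?_, fun n hn => ?_, ?_⟩
    · rw [inv_inv]; exact ha2 n hn
    · rw [inv_inv]; exact ha1 n hn
    · have := ha2 _ (inv_mem ha3)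
      have e : a⁻¹ * (C.t * a * C.t⁻¹ * a⁻¹)⁻¹ * a = C.t * a⁻¹ * C.t⁻¹ * a⁻¹⁻¹ := by group
      rwa [e] at this

theorem mem_T {k : ℕ} (hk : k ≤ 2 * C.m) {c : G} (hc : c ∈ C.N (2 * C.m))
    (h : C.t * c * C.t⁻¹ * c⁻¹ ∈ C.N k) : c ∈ C.T k :=
  ⟨fun _ hn => C.conj_mem hk hc hn, fun _ hn => C.conj_mem' hk hc hn, h⟩

theorem t_mem_T {k : ℕ} (hk : k ≤ 2 * C.m) : C.t ∈ C.T k := by
  refine ⟨C.t_conj_N hk, fun n hn => ?_, ?_⟩
  · have := C.t_conj_N hk n hn
    rw [C.t_inv] at this ⊢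
    exact this
  · have e : C.t * C.t * C.t⁻¹ * C.t⁻¹ = 1 := by group
    rw [e]; exact one_mem _

theorem Swap.mem_T {C : PairChain G} {h : G} (H : C.Swap h) {k : ℕ} (hk : k ≤ C.m) : h ∈ C.T (2 * k) := by
  refine ⟨H.conj_N hk, fun n hn => ?_, ?_⟩
  · have := H.conj_N hk n hn
    rw [H.inv] at this ⊢
    exact this
  · have e : C.t * h * C.t⁻¹ * h⁻¹ = 1 := by
      rw [← H.ht, mul_inv_cancel_right, mul_inv_cancel]
    rw [e]; exact one_mem _

theorem mem_T_of_t {k : ℕ} (hk : k < C.m) {s : G} (hs : s ∈ C.N (2 * (k + 1)))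
    (h : C.t * s * (C.t * s) = 1) : C.t * s * C.t⁻¹ * s⁻¹ ∈ C.N (2 * k) := by
  have h1 : C.t * s * C.t = s⁻¹ := by
    rw [eq_inv_iff_mul_eq_one, ← h]; group
  rw [C.t_inv, h1]
  have := inv_mem (C.sq_pair_mem hk hs)
  rwa [mul_inv_rev] at this

/-- (A): an involution of `N (2 m)` commuting with `h` centralises `t` modulo `N (2 (p + 1))` -/
theorem Swap.mem_T_of_invol {C : PairChain G} {h : G} (H : C.Swap h) {p : ℕ} (hp : C.m = p + 2)
    (hnc : C.a (2 * (p + 1)) * (h * C.a (2 * (p + 1)) * h⁻¹) * (C.a (2 * (p + 1)))⁻¹ *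
      (h * C.a (2 * (p + 1)) * h⁻¹)⁻¹ ∉ C.N (2 * p))
    {s : G} (hs : s ∈ C.N (2 * C.m)) (hsh : h * s * h⁻¹ = s) (hss : s * s = 1) :
    C.t * s * C.t⁻¹ * s⁻¹ ∈ C.N (2 * (p + 1)) := by
  have hk : p + 1 < C.m := by omega
  have hs' : s ∈ C.N (2 * (p + 1 + 1)) := by rw [hp] at hs; exact hs
  obtain ⟨z, hz, y, hy, n, hn, rfl⟩ := C.exists_pair hk hs'
  have hzN : z ∈ C.N (2 * C.m) := C.X_le (by omega) hz
  have hyN : y ∈ C.N (2 * C.m) := C.X_le (by omega) hy
  have hz'X := H.h1 _ hk z hz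
  have hy'X := H.h0 _ hk y hy
  have hn'N := H.conj_N hk.le n hn
  have hz'N : h * z * h⁻¹ ∈ C.N (2 * C.m) := C.X_le (by omega) hz'X
  -- `z = h y h⁻¹`
  have h1 : z⁻¹ * (h * y * h⁻¹) * (h * z * h⁻¹ * y⁻¹) ∈ C.N (2 * (p + 1)) := by
    have hc := C.comm_mem hk _ (inv_mem hz'N) _ (C.X_le (k := 2 * (p + 1 + 1)) (by omega) (inv_mem hy'X))
    have e : z⁻¹ * (h * y * h⁻¹) * (h * z * h⁻¹ * y⁻¹) =
        y * n * (h * n * h⁻¹)⁻¹ * ((h * z * h⁻¹)⁻¹ * (h * y * h⁻¹)⁻¹ * (h * z * h⁻¹)⁻¹⁻¹ *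
          (h * y * h⁻¹)⁻¹⁻¹)⁻¹ * y⁻¹ := by
      have e2 : h * (z * y * n) * h⁻¹ = (h * z * h⁻¹) * (h * y * h⁻¹) * (h * n * h⁻¹) := by group
      rw [e2] at hsh
      have e3 : z⁻¹ * (h * z * h⁻¹ * (h * y * h⁻¹) * (h * n * h⁻¹)) = y * n := by rw [hsh]; group
      rw [← e3]
      group
    rw [e]
    have e4 : y * n * (h * n * h⁻¹)⁻¹ * ((h * z * h⁻¹)⁻¹ * (h * y * h⁻¹)⁻¹ * (h * z * h⁻¹)⁻¹⁻¹ *
          (h * y * h⁻¹)⁻¹⁻¹)⁻¹ * y⁻¹ =
        y * (n * (h * n * h⁻¹)⁻¹ * ((h * z * h⁻¹)⁻¹ * (h * y * h⁻¹)⁻¹ * (h * z * h⁻¹)⁻¹⁻¹ *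
          (h * y * h⁻¹)⁻¹⁻¹)⁻¹) * y⁻¹ := by group
    rw [e4]
    exact C.conj_mem (by omega) hyN (mul_mem (mul_mem hn (inv_mem hn'N)) (inv_mem hc))
  have h2 := C.pair_eq_one hk (mul_mem hz'X (inv_mem hy)) (mul_mem (inv_mem hz) hy'X) h1
  have hzy : z = h * y * h⁻¹ := (inv_mul_eq_one.1 h2.2)
  -- the square
  have h3 : z * y * z⁻¹ * y⁻¹ ∈ C.N (2 * p) := by
    rw [C.sq_pair hk hz hy hn] at hss
    have hc := C.comm_mem (k := p) (by omega) _ (inv_mem (mul_mem hzN hyN)) _ hn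
    have hnn := C.sq_pair_mem (k := p) (by omega) hn
    have h4 := mul_mem hc hnn
    have e : (z * y)⁻¹ * n * (z * y)⁻¹⁻¹ * n⁻¹ * (n * n) = (z * y)⁻¹ * n * (z * y) * n := by group
    rw [e] at h4
    rw [eq_inv_of_mul_eq_one_left hss]
    exact inv_mem h4
  have hta := C.t_conj_a (i := 2 * (p + 1)) (by omega)
  have htx := C.t_conj_x (i := 2 * (p + 1)) (by omega)
  have hht : h * C.t = C.t * h := H.ht
  have hno : C.t * y * C.t⁻¹ = y := by
    have hbad : z * y * z⁻¹ * y⁻¹ ∈ C.N (2 * p) → y = C.a (2 * (p + 1)) → False := by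
      intro h4 hya
      apply hnc
      have := inv_mem h4
      rw [hzy, hya] at this
      have e : (h * C.a (2 * (p + 1)) * h⁻¹ * C.a (2 * (p + 1)) * (h * C.a (2 * (p + 1)) * h⁻¹)⁻¹ *
        (C.a (2 * (p + 1)))⁻¹)⁻¹ = C.a (2 * (p + 1)) * (h * C.a (2 * (p + 1)) * h⁻¹) * (C.a (2 * (p + 1)))⁻¹ *
          (h * C.a (2 * (p + 1)) * h⁻¹)⁻¹ := by group
      rwa [e] at this
    rcases (C.mem_X (by omega)).1 hy with h4 | h4 | h4 | h4
    · rw [h4]; group
    · rw [h4, htx]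
    · exact (hbad h3 h4).elim
    · exfalso
      apply hnc
      have h5 := C.t_conj_N (k := 2 * p) (by omega) _ (inv_mem h3)
      have hy' : C.t * y * C.t⁻¹ = C.a (2 * (p + 1)) := by
        rw [h4, ← hta]
        calc C.t * (C.t * C.a (2 * (p + 1)) * C.t⁻¹) * C.t⁻¹ =
            (C.t * C.t) * C.a (2 * (p + 1)) * (C.t * C.t)⁻¹ := by group
          _ = _ := by rw [C.tt]; group
      have e1 : C.t * (z * y * z⁻¹ * y⁻¹)⁻¹ * C.t⁻¹ = (C.t * y * C.t⁻¹) * (C.t * z * C.t⁻¹) *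
          (C.t * y * C.t⁻¹)⁻¹ * (C.t * z * C.t⁻¹)⁻¹ := by group
      have e2 : C.t * z * C.t⁻¹ = h * (C.t * y * C.t⁻¹) * h⁻¹ := by
        rw [hzy]
        calc C.t * (h * y * h⁻¹) * C.t⁻¹ = (C.t * h) * y * (C.t * h)⁻¹ := by group
          _ = (h * C.t) * y * (h * C.t)⁻¹ := by rw [hht]
          _ = _ := by group
      rw [e1, e2, hy'] at h5
      exact h5
  have hnoz : C.t * z * C.t⁻¹ = z := by
    rw [hzy]
    calc C.t * (h * y * h⁻¹) * C.t⁻¹ = (C.t * h) * y * (C.t * h)⁻¹ := by group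
      _ = (h * C.t) * y * (h * C.t)⁻¹ := by rw [hht]
      _ = h * (C.t * y * C.t⁻¹) * h⁻¹ := by group
      _ = _ := by rw [hno]
  have e : C.t * (z * y * n) * C.t⁻¹ * (z * y * n)⁻¹ =
      (z * y) * ((C.t * n * C.t⁻¹) * n⁻¹) * (z * y)⁻¹ := by
    calc C.t * (z * y * n) * C.t⁻¹ * (z * y * n)⁻¹ = (C.t * z * C.t⁻¹) * (C.t * y * C.t⁻¹) *
        ((C.t * n * C.t⁻¹) * n⁻¹) * (z * y)⁻¹ := by group
      _ = _ := by rw [hno, hnoz]
  rw [e]
  exact C.conj_mem (by omega) (mul_mem hzN hyN) (mul_mem (C.t_conj_N (by omega) n hn) (inv_mem hn))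

/-- (B): an element of `N (2 m)` commuting with `h` which does not centralise `t` modulo `N (2 (p + 1))` -/
theorem Swap.exists_not_mem {C : PairChain G} {h : G} (H : C.Swap h) {p : ℕ} (hp : C.m = p + 2) :
    ∃ s ∈ C.N (2 * C.m), h * s = s * h ∧ C.t * s * C.t⁻¹ * s⁻¹ ∉ C.N (2 * (p + 1)) := by
  have hk : p + 1 < C.m := by omega
  set b := C.a (2 * (p + 1)) with hb
  set x := C.x (2 * (p + 1)) with hx
  have hbX : b ∈ C.X (2 * (p + 1)) := C.a_mem_X _
  have hzX := H.h0 _ hk b hbX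
  set z := h * b * h⁻¹ with hz
  have hbN : b ∈ C.N (2 * C.m) := C.X_le (by omega) hbX
  have hzN : z ∈ C.N (2 * C.m) := C.X_le (by omega) hzX
  have hi := H.inv
  have hh := H.hh
  obtain ⟨s, hs, hs2⟩ := H.conj_of_invol hk.le ((b * z) * h * (b * z)⁻¹) (by
    calc (b * z) * h * (b * z)⁻¹ * ((b * z) * h * (b * z)⁻¹) = (b * z) * (h * h) * (b * z)⁻¹ := by group
      _ = 1 := by rw [hh]; group) (by
    have := C.comm_mem hk z hzN b (C.X_le (by omega) hbX)
    have e : h⁻¹ * (b * z * h * (b * z)⁻¹) = z * b * z⁻¹ * b⁻¹ := by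
      rw [hz]
      calc h⁻¹ * (b * (h * b * h⁻¹) * h * (b * (h * b * h⁻¹))⁻¹) =
          h⁻¹ * b * h * b * (h * b⁻¹ * h⁻¹) * b⁻¹ := by group
        _ = h * b * h⁻¹⁻¹ * b * (h * b⁻¹ * h⁻¹) * b⁻¹ := by rw [inv_inv, hi]
        _ = h * b * h⁻¹ * b * (h * b⁻¹ * h⁻¹) * b⁻¹ := by rw [inv_inv, hi]
        _ = _ := by group
    rw [e]
    exact this)
  have hsN : s ∈ C.N (2 * C.m) := C.N_mono (by omega) hs
  refine ⟨s * (b * z), mul_mem hsN (mul_mem hbN hzN), ?_, ?_⟩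
  · have e : s * (b * z * h * (b * z)⁻¹) * s⁻¹ * (s * (b * z)) = s * (b * z) * h := by group
    rw [← e, hs2]
  · intro hT
    have h1 := mul_mem (mul_mem (inv_mem (C.t_conj_N (by omega) s hs)) hT) hs
    have e : (C.t * s * C.t⁻¹)⁻¹ * (C.t * (s * (b * z)) * C.t⁻¹ * (s * (b * z))⁻¹) * s =
        (C.t * b * C.t⁻¹) * (C.t * z * C.t⁻¹) * z⁻¹ * b⁻¹ := by group
    rw [e] at h1
    have htb : C.t * b * C.t⁻¹ = x * b := C.t_conj_a (by omega)
    have htz : C.t * z * C.t⁻¹ = (h * x * h⁻¹) * z := by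
      rw [hz]
      calc C.t * (h * b * h⁻¹) * C.t⁻¹ = (C.t * h) * b * (C.t * h)⁻¹ := by group
        _ = (h * C.t) * b * (h * C.t)⁻¹ := by rw [H.ht]
        _ = h * (C.t * b * C.t⁻¹) * h⁻¹ := by group
        _ = _ := by rw [htb]; group
    rw [htb, htz] at h1
    have hxX : x ∈ C.X (2 * (p + 1)) := C.x_mem_X _
    have hx'X := H.h0 _ hk x hxX
    have hxN : x ∈ C.N (2 * C.m) := C.X_le (by omega) hxX
    have hx'N : h * x * h⁻¹ ∈ C.N (2 * C.m) := C.X_le (by omega) hx'X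
    have h2 := C.comm_mem hk _ (inv_mem hx'N) b (C.X_le (by omega) hbX)
    have h3 := C.conj_mem' (by omega) hxN (mul_mem h1 (inv_mem h2))
    have e3 : x⁻¹ * (x * b * (h * x * h⁻¹ * z) * z⁻¹ * b⁻¹ *
        ((h * x * h⁻¹)⁻¹ * b * (h * x * h⁻¹)⁻¹⁻¹ * b⁻¹)⁻¹) * x = (h * x * h⁻¹) * x := by group
    rw [e3] at h3
    have h4 := (C.pair_eq_one hk hxX hx'X h3).1
    apply C.xU (2 * (p + 1)) (by omega)
    rw [← hx, h4]
    exact one_mem _

/-- one of `g`, `t g` satisfies the condition of (A) -/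
theorem exists_swap (hgg : C.g * C.g = 1) {p : ℕ} (hp : C.m = p + 2)
    (hnc : C.x (2 * (p + 1)) * C.x (2 * (p + 1) + 1) * (C.x (2 * (p + 1)))⁻¹ * (C.x (2 * (p + 1) + 1))⁻¹ ∉
      C.U (2 * p)) :
    ∃ h, C.Swap h ∧ (h = C.g ∨ h = C.t * C.g) ∧
      C.a (2 * (p + 1)) * (h * C.a (2 * (p + 1)) * h⁻¹) * (C.a (2 * (p + 1)))⁻¹ *
      (h * C.a (2 * (p + 1)) * h⁻¹)⁻¹ ∉ C.N (2 * p) := by
  have hk : p + 1 < C.m := by omega
  have hga := C.ga _ hk
  have hta := C.t_conj_a (i := 2 * (p + 1)) (by omega)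
  have hta' := C.t_conj_a (i := 2 * (p + 1) + 1) (by omega)
  have htx := C.t_conj_x (i := 2 * (p + 1)) (by omega)
  have htx' := C.t_conj_x (i := 2 * (p + 1) + 1) (by omega)
  have hxt := C.xt (2 * (p + 1)) (by omega)
  have hxt' := C.xt (2 * (p + 1) + 1) (by omega)
  have hxN : C.x (2 * (p + 1)) ∈ C.N (2 * C.m) := C.X_le (by omega) (C.x_mem_X _)
  have hxN' : C.x (2 * (p + 1) + 1) ∈ C.N (2 * C.m) := C.X_le (by omega) (C.x_mem_X _)
  have htg : C.t * C.g * C.a (2 * (p + 1)) * (C.t * C.g)⁻¹ =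
      C.x (2 * (p + 1) + 1) * C.a (2 * (p + 1) + 1) := by
    rw [C.t_comp_conj, hga, hta']
  generalize C.a (2 * (p + 1)) = a at *
  generalize C.a (2 * (p + 1) + 1) = a' at *
  generalize C.x (2 * (p + 1)) = x at *
  generalize C.x (2 * (p + 1) + 1) = x' at *
  by_contra hcon
  push Not at hcon
  have h1 := hcon C.g (C.swap_g hgg) (Or.inl rfl)
  have h2 := hcon (C.t * C.g) (C.swap_g hgg).t_mul (Or.inr rfl)
  rw [hga] at h1
  rw [htg] at h2
  -- `[a, x'] ∈ N`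
  have h3 : a * x' * a⁻¹ * x'⁻¹ ∈ C.N (2 * p) := by
    have := mul_mem h2 (C.conj_mem (by omega) hxN' (inv_mem h1))
    have e : a * (x' * a') * a⁻¹ * (x' * a')⁻¹ * (x' * (a * a' * a⁻¹ * a'⁻¹)⁻¹ * x'⁻¹) =
      a * x' * a⁻¹ * x'⁻¹ := by group
    rwa [e] at this
  have h4 := C.t_conj_N (by omega) _ h3
  have e1 : C.t * (a * x' * a⁻¹ * x'⁻¹) * C.t⁻¹ = (C.t * a * C.t⁻¹) * (C.t * x' * C.t⁻¹) *
      (C.t * a * C.t⁻¹)⁻¹ * (C.t * x' * C.t⁻¹)⁻¹ := by group
  rw [e1, hta, htx'] at h4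
  have h5 := mul_mem (C.conj_mem (by omega) hxN (inv_mem h3)) h4
  have e2 : x * (a * x' * a⁻¹ * x'⁻¹)⁻¹ * x⁻¹ * (x * a * x' * (x * a)⁻¹ * x'⁻¹) =
    x * x' * x⁻¹ * x'⁻¹ := by group
  rw [e2] at h5
  apply hnc
  apply C.comm_t_mem (by omega) h5
  have hc : x ∈ centralizer ({C.t} : Set G) := mem_centralizer_singleton_iff.2 hxt
  have hc' : x' ∈ centralizer ({C.t} : Set G) := mem_centralizer_singleton_iff.2 hxt'
  exact mem_centralizer_singleton_iff.1 (mul_mem (mul_mem (mul_mem hc hc') (inv_mem hc)) (inv_mem hc'))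

theorem Y_eq_one {y : G} (hy : y ∈ C.ch.Y) : y = 1 := by
  have : C.ch.Y = ⊥ := by
    unfold Chain.Y
    rw [closure_eq_bot_iff]
    rintro g ⟨j, _, hj, _⟩
    exact absurd trivial hj
  rwa [this, mem_bot] at hy

theorem hY : ∀ k < C.ch.n, C.ch.free k → ∀ y ∈ C.ch.Y, ∀ m ∈ C.ch.U k, C.ch.x k * m ≠ y := by
  intro k hk _ y hy m hm he
  rw [C.Y_eq_one hy] at he
  apply C.hx k hk trivial
  rw [eq_inv_of_mul_eq_one_left he]
  exact inv_mem hm

/-- **The endgame**: main step. -/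
theorem Swap.false [Finite G] {C : PairChain G} {h : G} (H : C.Swap h) (hG : ∀ f : G →* ℤˣ, f C.t = 1)
    {p : ℕ} (hp : C.m = p + 2)
    (hnc : C.a (2 * (p + 1)) * (h * C.a (2 * (p + 1)) * h⁻¹) * (C.a (2 * (p + 1)))⁻¹ *
      (h * C.a (2 * (p + 1)) * h⁻¹)⁻¹ ∉ C.N (2 * p))
    (L : Subgroup G) (hxL : ∀ i < 2 * C.m, C.x i ∈ L) (hLt : ∀ c ∈ L, c * C.t = C.t * c)
    (hhL : ∀ c ∈ L, h * c * h⁻¹ ∈ L) (htL : C.t ∉ L) (h1 : h ∉ L) (h2 : C.t * h ∉ L)
    (hcent : ∀ c, c * C.t = C.t * c → c ∈ L ∨ C.t * c ∈ L ∨ h * c ∈ L ∨ C.t * h * c ∈ L)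
    (hodd : Odd ((C.U (2 * C.m)).relIndex L)) : False := by
  have HW := H.t_mul
  set t := C.t with ht
  set w := t * h with hw
  set S := C.N (2 * C.m) with hS
  set U := C.U (2 * C.m) with hU
  have htt : t * t = 1 := C.tt
  have hht : h * t = t * h := H.ht
  have htw : t * w = w * t := HW.ht.symm
  have hww : w * w = 1 := HW.hh
  have hwt : w * t = h := by rw [hw, ← hht, mul_assoc, htt, mul_one]
  have hUL : U ≤ L := by
    rw [hU]
    change C.ch.U (2 * C.m) ≤ L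
    unfold Chain.U
    rw [closure_le]
    rintro c ⟨i, hi, rfl⟩
    exact hxL i hi
  have hUS : U ≤ S := C.ch.U_le_N _
  have hSt : ∀ c ∈ S, c * t = t * c → c ∈ U := fun c hc h => C.comm_t_mem le_rfl hc h
  set M : Subgroup G := centralizer {t} with hM
  have memM : ∀ c, c ∈ M ↔ c * t = t * c := fun c => mem_centralizer_singleton_iff
  have hLM : L ≤ M := fun c hc => (memM c).2 (hLt c hc)
  have htM : t ∈ M := (memM t).2 rfl
  have hhM : h ∈ M := (memM h).2 hht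
  have hwM : w ∈ M := (memM w).2 HW.ht
  -- actions
  have tS : ∀ c ∈ S, t * c * t⁻¹ ∈ S := C.t_conj_N le_rfl
  have wS : ∀ c ∈ S, w * c * w⁻¹ ∈ S := HW.conj_N le_rfl
  have tL : ∀ c ∈ L, t * c * t⁻¹ ∈ L := fun c hc => by
    rw [← hLt c hc, mul_inv_cancel_right]; exact hc
  have wL : ∀ c ∈ L, w * c * w⁻¹ ∈ L := fun c hc => by
    have e : w * c * w⁻¹ = t * (h * c * h⁻¹) * t⁻¹ := by rw [hw]; group
    rw [e]
    exact tL _ (hhL c hc)
  have tU : ∀ c ∈ U, t * c * t⁻¹ ∈ U := fun c hc => by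
    rw [← hLt c (hUL hc), mul_inv_cancel_right]; exact hc
  have wU : ∀ c ∈ U, w * c * w⁻¹ ∈ U := fun c hc =>
    hSt _ (wS c (hUS hc)) (hLt _ (wL c (hUL hc)))
  have htS : t ∉ S := fun h' => htL (hUL (hSt t h' rfl))
  have hhS : h ∉ S := fun h' => h1 (hUL (hSt h h' hht))
  have hwS : w ∉ S := fun h' => h2 (hUL (hSt w h' HW.ht))
  have htU : t ∉ U := fun h' => htL (hUL h')
  have hhU : h ∉ U := fun h' => h1 (hUL h')
  have hwU : w ∉ U := fun h' => h2 (hUL h')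
  -- index
  have iL : L.relIndex (ext (ext L w) t) = 4 :=
    relIndex_ext_ext wL hww tL htt htw h2 htL (by rw [hwt]; exact h1)
  have iU : U.relIndex (ext (ext U w) t) = 4 :=
    relIndex_ext_ext wU hww tU htt htw hwU htU (by rw [hwt]; exact hhU)
  have memH : ∀ c, c ∈ ext (ext S w) t ↔ (c ∈ S ∨ w * c ∈ S) ∨ (t * c ∈ S ∨ h * c ∈ S) := fun c => by
    rw [mem_ext_ext wS hww tS htt htw, ← mul_assoc w t c, hwt]
  have hMe : M = ext (ext L w) t := by
    ext c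
    rw [mem_ext_ext wL hww tL htt htw, ← mul_assoc w t c, hwt]
    constructor
    · intro hc
      rcases hcent c ((memM c).1 hc) with h' | h' | h' | h'
      · exact Or.inl (Or.inl h')
      · exact Or.inr (Or.inl h')
      · exact Or.inr (Or.inr h')
      · exact Or.inl (Or.inr h')
    · rintro ((h' | h') | (h' | h'))
      · exact hLM h'
      · exact (M.mul_mem_cancel_left hwM).1 (hLM h')
      · exact (M.mul_mem_cancel_left htM).1 (hLM h')
      · exact (M.mul_mem_cancel_left hhM).1 (hLM h')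
  have hSM : ∀ c ∈ S, c ∈ M → c ∈ U := fun c hc hcM => hSt c hc ((memM c).1 hcM)
  have hPe : ext (ext S w) t ⊓ M = ext (ext U w) t := by
    ext c
    rw [mem_inf, memH, mem_ext_ext wU hww tU htt htw, ← mul_assoc w t c, hwt]
    constructor
    · rintro ⟨(h' | h') | (h' | h'), hc⟩
      · exact Or.inl (Or.inl (hSM _ h' hc))
      · exact Or.inl (Or.inr (hSM _ h' (mul_mem hwM hc)))
      · exact Or.inr (Or.inl (hSM _ h' (mul_mem htM hc)))
      · exact Or.inr (Or.inr (hSM _ h' (mul_mem hhM hc)))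
    · rintro ((h' | h') | (h' | h'))
      · exact ⟨Or.inl (Or.inl (hUS h')), hLM (hUL h')⟩
      · exact ⟨Or.inl (Or.inr (hUS h')), (M.mul_mem_cancel_left hwM).1 (hLM (hUL h'))⟩
      · exact ⟨Or.inr (Or.inl (hUS h')), (M.mul_mem_cancel_left htM).1 (hLM (hUL h'))⟩
      · exact ⟨Or.inr (Or.inr (hUS h')), (M.mul_mem_cancel_left hhM).1 (hLM (hUL h'))⟩
  have iPM : (ext (ext S w) t ⊓ M).relIndex M = U.relIndex L := by
    have e1 := relIndex_mul_relIndex U L M hUL hLM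
    have e2 := relIndex_mul_relIndex U (ext (ext S w) t ⊓ M) M
      (hPe ▸ ((le_ext U w).trans (le_ext _ t))) inf_le_right
    rw [show L.relIndex M = 4 by rw [hMe]; exact iL] at e1
    rw [show U.relIndex (ext (ext S w) t ⊓ M) = 4 by rw [hPe]; exact iU] at e2
    omega
  have hoddH : Odd ((ext (ext S w) t).relIndex M) := by
    rw [← inf_relIndex_right, iPM]
    exact hodd
  -- transfer
  have hwwS : w * w ∈ S := by rw [hww]; exact one_mem _
  have tS₁ : ∀ c ∈ ext S w, t * c * t⁻¹ ∈ ext S w := ext_conj tS (by rw [htw, mul_inv_cancel_right])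
  have httS₁ : t * t ∈ ext S w := by rw [htt]; exact one_mem _
  have htS₁ : t ∉ ext S w := by
    rw [mem_ext wS hwwS, hwt]
    rintro (h' | h')
    · exact htS h'
    · exact hhS h'
  obtain ⟨k, hk1, hk2, hk3, hk4⟩ := GTwoFour.TransferTL.exists_extremal_two (ext (ext S w) t) (ext S w)
    (relIndex_ext tS₁ httS₁ htS₁) t hG htt (self_mem_ext _ _) htS₁ hoddH
  set u := k⁻¹ * t * k with hu
  have huu : u * u = 1 := by
    rw [hu]
    calc k⁻¹ * t * k * (k⁻¹ * t * k) = k⁻¹ * (t * t) * k := by group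
      _ = 1 := by rw [htt]; group
  have huh : h⁻¹ * u ∈ S := by
    rw [mem_ext wS hwwS] at hk2
    rcases (memH u).1 hk1 with h' | h' | h'
    · exact absurd h' hk2
    · exfalso
      have h'' : C.ch.t⁻¹ * u ∈ C.ch.N C.ch.n := by
        rw [C.ch.t_inv]; exact h'
      obtain ⟨s, hs, y, hy, he⟩ := C.ch.conj_of_invol C.hY huu h''
      rw [C.Y_eq_one hy, mul_one] at he
      refine hk4 s ((le_ext _ _) ((le_ext _ _) hs)) ?_
      change s * u * s⁻¹ = t at he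
      rw [← he]; group
    · rw [H.inv]; exact h'
  obtain ⟨s, hs, hse⟩ := H.conj_of_invol le_rfl u huu huh
  have hsH : s ∈ ext (ext S w) t := (le_ext _ _) ((le_ext _ _) hs)
  have hq : (s * k⁻¹) * t * (s * k⁻¹)⁻¹ = h := by
    rw [← hse, hu]; group
  have hRo : Odd ((ext (ext S w) t).relIndex (centralizer {h})) := by
    have e := relIndex_map_conj (ext (ext S w) t) (centralizer {u}) s
    rw [map_conj_self hsH, map_centralizer, hse] at e
    rw [e]
    exact hk3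
  -- `2`-groups
  have hH2 : IsPGroup 2 (ext (ext S w) t) :=
    isPGroup_ext tS₁ httS₁ (isPGroup_ext wS hwwS C.isPGroup)
  have hPI : ext (ext S w) t ⊓ M ≤ closure {c | c ∈ ext (ext S w) t ⊓ M ∧ c * c = 1} := by
    conv_lhs => rw [hPe]
    refine ext_le (ext_le ?_ ?_) ?_
    · change C.ch.U (2 * C.m) ≤ _
      unfold Chain.U
      rw [closure_le]
      rintro c ⟨i, hi, rfl⟩
      refine subset_closure ⟨?_, C.xx i hi⟩
      have hcU : C.x i ∈ U := subset_closure ⟨i, hi, rfl⟩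
      rw [hPe]
      exact (le_ext _ _) ((le_ext _ _) hcU)
    · refine subset_closure ⟨?_, hww⟩
      rw [hPe]
      exact (le_ext _ _) (self_mem_ext _ _)
    · refine subset_closure ⟨?_, htt⟩
      rw [hPe]
      exact self_mem_ext _ _
  have hp1 : 2 * (p + 1) ≤ 2 * C.m := by omega
  have htT : t ∈ C.T (2 * (p + 1)) := C.t_mem_T hp1
  have hhT : h ∈ C.T (2 * (p + 1)) := H.mem_T (by omega)
  have hwT : w ∈ C.T (2 * (p + 1)) := HW.mem_T (by omega)
  have hRT : ext (ext S w) t ⊓ centralizer {h} ≤ C.T (2 * (p + 1)) := by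
    refine mem_of_invol hq (hH2.to_le inf_le_left) (hH2.to_le inf_le_left) inf_le_right inf_le_right
      (by rw [inf_relIndex_right]; exact hoddH) (by rw [inf_relIndex_right]; exact hRo) hPI ?_
    rintro c ⟨hcH, hch⟩ hcc
    have hch' : h * c = c * h := (mem_centralizer_singleton_iff.1 hch).symm
    have hhc : h * c * (h * c) = 1 := by
      calc h * c * (h * c) = h * (c * h) * c := by group
        _ = (h * h) * (c * c) := by rw [← hch']; group
        _ = 1 := by rw [H.hh, hcc, one_mul]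
    rcases (memH c).1 hcH with (h' | h') | (h' | h')
    · refine C.mem_T hp1 h' (H.mem_T_of_invol hp hnc h' ?_ hcc)
      rw [hch', mul_inv_cancel_right]
    · refine ((C.T _).mul_mem_cancel_left hwT).1 (C.mem_T hp1 h' ?_)
      refine C.mem_T_of_t (by omega) (by rw [hS, hp] at h'; exact h') ?_
      have e : C.t * (w * c) = h * c := by
        rw [hw, ← mul_assoc, ← mul_assoc, htt, one_mul]
      rw [e]; exact hhc
    · refine ((C.T _).mul_mem_cancel_left htT).1 (C.mem_T hp1 h' ?_)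
      refine C.mem_T_of_t (by omega) (by rw [hS, hp] at h'; exact h') ?_
      have e : C.t * (t * c) = c := by
        rw [← mul_assoc, htt, one_mul]
      rw [e]; exact hcc
    · refine ((C.T _).mul_mem_cancel_left hhT).1 (C.mem_T hp1 h' (H.mem_T_of_invol hp hnc h' ?_ hhc))
      calc h * (h * c) * h⁻¹ = h * (c * h) * h⁻¹ := by rw [hch']
        _ = h * c := by group
  obtain ⟨v, hv, hvh, hvT⟩ := H.exists_not_mem hp
  apply hvT
  exact (hRT ⟨(le_ext _ _) ((le_ext _ _) hv), mem_centralizer_singleton_iff.2 hvh.symm⟩).2.2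

/-- **The endgame**, `g * g = 1`. -/
theorem false_of_sq_one [Finite G] (hG : ∀ f : G →* ℤˣ, f C.t = 1) (hgg : C.g * C.g = 1)
    {p : ℕ} (hp : C.m = p + 2)
    (hnc : C.x (2 * (p + 1)) * C.x (2 * (p + 1) + 1) * (C.x (2 * (p + 1)))⁻¹ * (C.x (2 * (p + 1) + 1))⁻¹ ∉
      C.U (2 * p))
    (L : Subgroup G) (hxL : ∀ i < 2 * C.m, C.x i ∈ L) (hLt : ∀ c ∈ L, c * C.t = C.t * c)
    (hgL : ∀ c ∈ L, C.g * c * C.g⁻¹ ∈ L) (htL : C.t ∉ L) (h1 : C.g ∉ L) (h2 : C.t * C.g ∉ L)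
    (hcent : ∀ c, c * C.t = C.t * c → c ∈ L ∨ C.t * c ∈ L ∨ C.g * c ∈ L ∨ C.t * C.g * c ∈ L)
    (hodd : Odd ((C.U (2 * C.m)).relIndex L)) : False := by
  obtain ⟨h, H, hh, hnc'⟩ := C.exists_swap hgg hp hnc
  rcases hh with rfl | rfl
  · exact H.false hG hp hnc' L hxL hLt hgL htL h1 h2 hcent hodd
  · have e : C.t * (C.t * C.g) = C.g := by rw [← mul_assoc, C.tt, one_mul]
    refine H.false hG hp hnc' L hxL hLt ?_ htL h2 (by rw [e]; exact h1) ?_ hodd
    · intro c hc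
      rw [C.t_comp_conj, ← hLt _ (hgL c hc), mul_inv_cancel_right]
      exact hgL c hc
    · intro c hc
      rw [e]
      rcases hcent c hc with h' | h' | h' | h'
      · exact Or.inl h'
      · exact Or.inr (Or.inl h')
      · exact Or.inr (Or.inr (Or.inr h'))
      · exact Or.inr (Or.inr (Or.inl h'))

/-- **The endgame**, `g * g = t`. -/
theorem false_of_sq_t [Finite G] [IsSimpleGroup G] (hG : ¬ ∀ a b : G, a * b = b * a) (hgg : C.g * C.g = C.t)
    (L : Subgroup G) (hxL : ∀ i < 2 * C.m, C.x i ∈ L) (hLt : ∀ c ∈ L, c * C.t = C.t * c)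
    (hgL : ∀ c ∈ L, C.g * c * C.g⁻¹ ∈ L) (htL : C.t ∉ L) (h1 : C.g ∉ L) (h2 : C.t * C.g ∉ L)
    (hcent : ∀ c, c * C.t = C.t * c → c ∈ L ∨ C.t * c ∈ L ∨ C.g * c ∈ L ∨ C.t * C.g * c ∈ L)
    (hodd : Odd ((C.U (2 * C.m)).relIndex L)) : False := by
  set t := C.t with ht
  set g := C.g with hg
  set S := C.N (2 * C.m) with hS
  set U := C.U (2 * C.m) with hU
  have htt : t * t = 1 := C.tt
  have hgt : g * t = t * g := C.gt
  have hUL : U ≤ L := by
    change C.ch.U (2 * C.m) ≤ L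
    unfold Chain.U
    rw [closure_le]
    rintro c ⟨i, hi, rfl⟩
    exact hxL i hi
  have hUS : U ≤ S := C.ch.U_le_N _
  have hSt : ∀ c ∈ S, c * t = t * c → c ∈ U := fun c hc h => C.comm_t_mem le_rfl hc h
  set M : Subgroup G := centralizer {t} with hM
  have memM : ∀ c, c ∈ M ↔ c * t = t * c := fun c => mem_centralizer_singleton_iff
  have hLM : L ≤ M := fun c hc => (memM c).2 (hLt c hc)
  have htM : t ∈ M := (memM t).2 rfl
  have hgM : g ∈ M := (memM g).2 hgt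
  have htgM : t * g ∈ M := mul_mem htM hgM
  have tS : ∀ c ∈ S, t * c * t⁻¹ ∈ S := C.t_conj_N le_rfl
  have gS : ∀ c ∈ S, g * c * g⁻¹ ∈ S := C.conj_N_of C.g_h0 C.g_h1 le_rfl
  have tL : ∀ c ∈ L, t * c * t⁻¹ ∈ L := fun c hc => by
    rw [← hLt c hc, mul_inv_cancel_right]; exact hc
  have tU : ∀ c ∈ U, t * c * t⁻¹ ∈ U := fun c hc => by
    rw [← hLt c (hUL hc), mul_inv_cancel_right]; exact hc
  have gU : ∀ c ∈ U, g * c * g⁻¹ ∈ U := fun c hc =>
    hSt _ (gS c (hUS hc)) (hLt _ (hgL c (hUL hc)))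
  have htS : t ∉ S := fun h' => htL (hUL (hSt t h' rfl))
  -- general facts on the double extension
  have mem4 : ∀ K : Subgroup G, (∀ c ∈ K, t * c * t⁻¹ ∈ K) → (∀ c ∈ K, g * c * g⁻¹ ∈ K) → ∀ c,
      c ∈ ext (ext K t) g ↔ (c ∈ K ∨ t * c ∈ K) ∨ (g * c ∈ K ∨ t * g * c ∈ K) := by
    intro K hKt hKg c
    have a1 : t * t ∈ K := by rw [htt]; exact one_mem _
    have a2 : g * g ∈ ext K t := by rw [hgg]; exact self_mem_ext _ _
    rw [mem_ext (ext_conj hKg (by rw [hgt, mul_inv_cancel_right])) a2, mem_ext hKt a1, mem_ext hKt a1,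
      ← mul_assoc t g c]
  have ind4 : ∀ K : Subgroup G, (∀ c ∈ K, t * c * t⁻¹ ∈ K) → (∀ c ∈ K, g * c * g⁻¹ ∈ K) → t ∉ K → g ∉ K →
      t * g ∉ K → K.relIndex (ext (ext K t) g) = 4 := by
    intro K hKt hKg b1 b2 b3
    have a1 : t * t ∈ K := by rw [htt]; exact one_mem _
    have a2 : g * g ∈ ext K t := by rw [hgg]; exact self_mem_ext _ _
    have b4 : g ∉ ext K t := by
      rw [mem_ext hKt a1]
      rintro (h | h)
      · exact b2 h
      · exact b3 h
    have := relIndex_mul_relIndex K (ext K t) (ext (ext K t) g) (le_ext _ _) (le_ext _ _)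
    rw [relIndex_ext hKt a1 b1, relIndex_ext (ext_conj hKg (by rw [hgt, mul_inv_cancel_right])) a2 b4] at this
    exact this.symm
  have hMe : M = ext (ext L t) g := by
    ext c
    rw [mem4 L tL hgL]
    constructor
    · intro hc
      rcases hcent c ((memM c).1 hc) with h' | h' | h' | h'
      · exact Or.inl (Or.inl h')
      · exact Or.inl (Or.inr h')
      · exact Or.inr (Or.inl h')
      · exact Or.inr (Or.inr h')
    · rintro ((h' | h') | (h' | h'))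
      · exact hLM h'
      · exact (M.mul_mem_cancel_left htM).1 (hLM h')
      · exact (M.mul_mem_cancel_left hgM).1 (hLM h')
      · exact (M.mul_mem_cancel_left htgM).1 (hLM h')
  have hSM : ∀ c ∈ S, c ∈ M → c ∈ U := fun c hc hcM => hSt c hc ((memM c).1 hcM)
  have hPe : ext (ext S t) g ⊓ M = ext (ext U t) g := by
    ext c
    rw [mem_inf, mem4 S tS gS, mem4 U tU gU]
    constructor
    · rintro ⟨(h' | h') | (h' | h'), hc⟩
      · exact Or.inl (Or.inl (hSM _ h' hc))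
      · exact Or.inl (Or.inr (hSM _ h' (mul_mem htM hc)))
      · exact Or.inr (Or.inl (hSM _ h' (mul_mem hgM hc)))
      · exact Or.inr (Or.inr (hSM _ h' (mul_mem htgM hc)))
    · rintro ((h' | h') | (h' | h'))
      · exact ⟨Or.inl (Or.inl (hUS h')), hLM (hUL h')⟩
      · exact ⟨Or.inl (Or.inr (hUS h')), (M.mul_mem_cancel_left htM).1 (hLM (hUL h'))⟩
      · exact ⟨Or.inr (Or.inl (hUS h')), (M.mul_mem_cancel_left hgM).1 (hLM (hUL h'))⟩
      · exact ⟨Or.inr (Or.inr (hUS h')), (M.mul_mem_cancel_left htgM).1 (hLM (hUL h'))⟩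
  have iPM : (ext (ext S t) g ⊓ M).relIndex M = U.relIndex L := by
    have e1 := relIndex_mul_relIndex U L M hUL hLM
    have e2 := relIndex_mul_relIndex U (ext (ext S t) g ⊓ M) M
      (hPe ▸ ((le_ext U t).trans (le_ext _ g))) inf_le_right
    rw [show L.relIndex M = 4 by rw [hMe]; exact ind4 L tL hgL htL h1 h2] at e1
    rw [show U.relIndex (ext (ext S t) g ⊓ M) = 4 by
      rw [hPe]
      exact ind4 U tU gU (fun h => htL (hUL h)) (fun h => h1 (hUL h)) (fun h => h2 (hUL h))] at e2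
    omega
  have hoddH : Odd ((ext (ext S t) g).relIndex M) := by
    rw [← inf_relIndex_right, iPM]
    exact hodd
  have hgT : g ∈ C.T (2 * C.m) := by
    refine ⟨gS, fun n hn => ?_, ?_⟩
    · have e : g⁻¹ = t * g := by
        rw [inv_eq_iff_mul_eq_one, ← mul_assoc, hgt, mul_assoc, hgg, htt]
      have h' := tS _ (gS n hn)
      have e2 : g⁻¹ * n * g = t * (g * n * g⁻¹) * t⁻¹ := by
        calc g⁻¹ * n * g = g⁻¹ * n * g⁻¹⁻¹ := by rw [inv_inv]
          _ = t * g * n * (t * g)⁻¹ := by rw [e]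
          _ = _ := by group
      rw [e2]; exact h'
    · change t * g * t⁻¹ * g⁻¹ ∈ S
      rw [← hgt, mul_inv_cancel_right, mul_inv_cancel]
      exact one_mem _
  have hST : S ≤ C.T (2 * C.m) := fun c hc => C.mem_T le_rfl hc (mul_mem (tS c hc) (inv_mem hc))
  have hHT : ext (ext S t) g ≤ C.T (2 * C.m) := ext_le (ext_le hST (C.t_mem_T le_rfl)) hgT
  have hab : ∀ a ∈ ext (ext S t) g, ∀ b ∈ ext (ext S t) g, a * b * a⁻¹ * b⁻¹ ∈ S := by
    have hX : closure ((S : Set G) ∪ {g}) ≤ ext (ext S t) g := by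
      rw [closure_le]
      rintro c (hc | hc)
      · exact (le_ext _ _) ((le_ext _ _) hc)
      · rw [Set.mem_singleton_iff] at hc
        rw [hc]
        exact self_mem_ext _ _
    have hgX : g ∈ closure ((S : Set G) ∪ {g}) := subset_closure (Or.inr rfl)
    have hX2 : ext (ext S t) g ≤ closure ((S : Set G) ∪ {g}) :=
      ext_le (ext_le (fun c hc => subset_closure (Or.inl hc)) (by rw [← hgg]; exact mul_mem hgX hgX)) hgX
    have := comm_closure (S := ext (ext S t) g) (K := S) (X := (S : Set G) ∪ {g}) (Y := (S : Set G) ∪ {g})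
      (fun s hs n hn => (hHT hs).1 n hn) hX hX (by
        rintro y (hy | hy) z (hz | hz)
        · exact mul_mem (mul_mem (mul_mem hy hz) (inv_mem hy)) (inv_mem hz)
        · rw [Set.mem_singleton_iff] at hz
          rw [hz]
          have := mul_mem hy (gS _ (inv_mem hy))
          have e : y * (g * y⁻¹ * g⁻¹) = y * g * y⁻¹ * g⁻¹ := by group
          rwa [e] at this
        · rw [Set.mem_singleton_iff] at hy
          rw [hy]
          exact mul_mem (gS _ hz) (inv_mem hz)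
        · rw [Set.mem_singleton_iff] at hy hz
          rw [hy, hz, mul_inv_cancel_right, mul_inv_cancel]
          exact one_mem _)
    intro a ha b hb
    exact this a (hX2 ha) b (hX2 hb)
  obtain ⟨k, hk1, hk2, _, hk4⟩ := exists_extremal_comm hG htt hab
    ((le_ext _ _) (self_mem_ext _ _)) htS hoddH
  set u := k⁻¹ * t * k with hu
  have huu : u * u = 1 := by
    rw [hu]
    calc k⁻¹ * t * k * (k⁻¹ * t * k) = k⁻¹ * (t * t) * k := by group
      _ = 1 := by rw [htt]; group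
  rcases (mem4 S tS gS u).1 hk1 with (h' | h') | (h' | h')
  · exact hk2 h'
  · have h'' : C.ch.t⁻¹ * u ∈ C.ch.N C.ch.n := by
      rw [C.ch.t_inv]; exact h'
    obtain ⟨s, hs, y, hy, he⟩ := C.ch.conj_of_invol C.hY huu h''
    rw [C.Y_eq_one hy, mul_one] at he
    refine hk4 s ((le_ext _ _) ((le_ext _ _) hs)) ?_
    change s * u * s⁻¹ = t at he
    rw [← he]; group
  · apply htS
    have := mul_mem (gS _ h') h'
    have e : g * (g * u) * g⁻¹ * (g * u) = g * g * (u * u) := by group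
    rwa [e, huu, hgg, mul_one] at this
  · apply htS
    have := mul_mem (tS _ (gS _ h')) h'
    have e : t * (g * (t * g * u) * g⁻¹) * t⁻¹ * (t * g * u) = (t * g) * (t * g) * (u * u) := by group
    have e2 : t * g * (t * g) = t := by
      calc t * g * (t * g) = t * (g * t) * g := by group
        _ = (t * t) * (g * g) := by rw [hgt]; group
        _ = t := by rw [htt, hgg, one_mul]
    rwa [e, huu, e2, mul_one] at this

/-- **The endgame** with a graph automorphism: there is no simple group. -/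
theorem false_of_simple [Finite G] [IsSimpleGroup G] (hG : ¬ ∀ a b : G, a * b = b * a)
    {p : ℕ} (hp : C.m = p + 2)
    (hnc : C.x (2 * (p + 1)) * C.x (2 * (p + 1) + 1) * (C.x (2 * (p + 1)))⁻¹ * (C.x (2 * (p + 1) + 1))⁻¹ ∉
      C.U (2 * p))
    (L : Subgroup G) (hxL : ∀ i < 2 * C.m, C.x i ∈ L) (hLt : ∀ c ∈ L, c * C.t = C.t * c)
    (hgL : ∀ c ∈ L, C.g * c * C.g⁻¹ ∈ L) (htL : C.t ∉ L) (h1 : C.g ∉ L) (h2 : C.t * C.g ∉ L)
    (hcent : ∀ c, c * C.t = C.t * c → c ∈ L ∨ C.t * c ∈ L ∨ C.g * c ∈ L ∨ C.t * C.g * c ∈ L)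
    (hodd : Odd ((C.U (2 * C.m)).relIndex L)) : False := by
  rcases C.gg with h | h
  · exact C.false_of_sq_one (fun f => GTwoFour.TransferTL.map_eq_one_of_simple hG f C.t) h hp hnc L hxL hLt hgL
      htL h1 h2 hcent hodd
  · exact C.false_of_sq_t hG h L hxL hLt hgL htL h1 h2 hcent hodd

end PairChain

end Cfsg.Agent.F42.Pairs
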