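import Cfsg.Agent.F42.Std
import Cfsg.Agent.F42.GraphEnd
import Cfsg.Agent.FourTwo.Perf

/-!
# The endgame with a graph automorphism, in terms of the roots of `F₄`
-/

set_option autoImplicit false

namespace Cfsg.Agent.F42.GraphRoots

open Cfsg.Agent.FourTwo Cfsg.Agent.FourTwo.Base

/-- The order of the positive roots: 12 pairs (long, short). -/
def ord (i : ℕ) : ℕ :=
  [47, 44, 46, 40, 45, 39, 43, 38, 42, 36, 32, 37, 41, 29, 31, 35, 26, 34, 24, 33, 30, 28, 25, 27].getD i 0

theorem ord_tab : ((List.range 24).all fun i => decide (24 ≤ ord i) && decide (ord i < 48)) = true := by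
  decide +kernel

theorem ord_ge {i : ℕ} (hi : i < 24) : 24 ≤ ord i := by
  have h := ord_tab
  rw [List.all_eq_true] at h
  have h1 := h i (List.mem_range.2 hi)
  simp only [Bool.and_eq_true, decide_eq_true_eq] at h1
  exact h1.1

theorem ord_lt {i : ℕ} (hi : i < 24) : ord i < 48 := by
  have h := ord_tab
  rw [List.all_eq_true] at h
  have h1 := h i (List.mem_range.2 hi)
  simp only [Bool.and_eq_true, decide_eq_true_eq] at h1
  exact h1.2

theorem bar_ord_tab : ((List.range 12).all fun k => decide (bar (ord (2 * k)) = ord (2 * k + 1))) = true := by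
  decide +kernel

theorem bar_ord {k : ℕ} (hk : k < 12) : bar (ord (2 * k)) = ord (2 * k + 1) := by
  have h := bar_ord_tab
  rw [List.all_eq_true] at h
  exact of_decide_eq_true (h k (List.mem_range.2 hk))

/-- the positive long roots -/
def longs : List ℕ := [47, 46, 45, 43, 42, 32, 41, 31, 26, 24, 30, 25]

theorem ord_long_tab : ((List.range 12).all fun k => longs.contains (ord (2 * k))) = true := by
  decide +kernel

theorem ord_long {k : ℕ} (hk : k < 12) : ord (2 * k) ∈ longs := by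
  have h := ord_long_tab
  rw [List.all_eq_true] at h
  exact List.contains_iff_mem.1 (h k (List.mem_range.2 hk))

theorem ord_surj_tab : ((List.range' 24 24).all fun r => (List.range 24).any fun i => ord i == r) = true := by
  decide +kernel

theorem ord_surj {r : ℕ} (h1 : 24 ≤ r) (h2 : r < 48) : ∃ i < 24, ord i = r := by
  have h := ord_surj_tab
  rw [List.all_eq_true] at h
  have h3 := h r (List.mem_range'_1.2 ⟨h1, by omega⟩)
  rw [List.any_eq_true] at h3
  obtain ⟨i, hi, he⟩ := h3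
  exact ⟨i, List.mem_range.1 hi, beq_iff_eq.1 he⟩

theorem ord_ne_tab : ((List.range 24).all fun i => (List.range 24).all fun j =>
    decide (i = j) || !decide (ord i = ord j)) = true := by
  decide +kernel

theorem ord_inj {i j : ℕ} (hi : i < 24) (hj : j < 24) (h : ord i = ord j) : i = j := by
  have h1 := ord_ne_tab
  rw [List.all_eq_true] at h1
  have h2 := h1 i (List.mem_range.2 hi)
  rw [List.all_eq_true] at h2
  have h3 := h2 j (List.mem_range.2 hj)
  rw [Bool.or_eq_true, decide_eq_true_eq, Bool.not_eq_true', decide_eq_false_iff_not] at h3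
  exact h3.resolve_right (fun h' => h' h)

/-- the main property of the order -/
theorem cm_tab : ((List.range 24).all fun i => (List.range 24).all fun j =>
    !decide (i < j) || (cmr (ord i) (ord j)).all fun q => (List.range (2 * (i / 2))).any fun l => ord l == q) = true := by
  decide +kernel

theorem cm_ord {i j : ℕ} (hij : i < j) (hj : j < 24) {q : ℕ} (hq : q ∈ cmr (ord i) (ord j)) :
    ∃ l < 2 * (i / 2), ord l = q := by
  have h1 := cm_tab
  rw [List.all_eq_true] at h1
  have h2 := h1 i (List.mem_range.2 (by omega))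
  rw [List.all_eq_true] at h2
  have h3 := h2 j (List.mem_range.2 hj)
  rw [Bool.or_eq_true, Bool.not_eq_true', decide_eq_false_iff_not] at h3
  have h4 := h3.resolve_left (fun h' => h' hij)
  rw [List.all_eq_true] at h4
  have h5 := h4 q hq
  rw [List.any_eq_true] at h5
  obtain ⟨l, hl, he⟩ := h5
  exact ⟨l, List.mem_range.1 hl, beq_iff_eq.1 he⟩

/-- the first `k` roots -/
def P (k r : ℕ) : Bool := (List.range k).any fun i => ord i == r

theorem closedB_tab : ((List.range 25).all fun k => Par.closedB (P k)) = true := by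
  decide +kernel

theorem closedB_P {k : ℕ} (hk : k ≤ 24) : Par.closedB (P k) = true := by
  have h := closedB_tab
  rw [List.all_eq_true] at h
  exact h k (List.mem_range.2 (by omega))

theorem P_iff {k r : ℕ} : P k r = true ↔ ∃ i < k, ord i = r := by
  unfold P
  rw [List.any_eq_true]
  constructor
  · rintro ⟨i, hi, he⟩
    exact ⟨i, List.mem_range.1 hi, beq_iff_eq.1 he⟩
  · rintro ⟨i, hi, he⟩
    exact ⟨i, List.mem_range.2 hi, beq_iff_eq.2 he⟩

/-- the group generated by the first `k` root elements -/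
theorem closure_eq {k : ℕ} (hk : k ≤ 24) :
    Subgroup.closure {g : LL | ∃ i < k, g = x (ord i)} = Par.RG (P k) := by
  apply le_antisymm
  · rw [Subgroup.closure_le]
    rintro g ⟨i, hi, rfl⟩
    exact Par.x_mem_RG (ord_lt (by omega)) (P_iff.2 ⟨i, hi, rfl⟩)
  · apply Par.RG_le
    intro r _ hr
    obtain ⟨i, hi, rfl⟩ := P_iff.1 hr
    exact Subgroup.subset_closure ⟨i, hi, rfl⟩

theorem x_not_mem {k : ℕ} (hk : k < 24) : x (ord k) ∉ Subgroup.closure {g : LL | ∃ i < k, g = x (ord i)} := by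
  rw [closure_eq hk.le]
  intro h
  have h1 := (Par.x_mem_RG_iff (closedB_P hk.le) (ord_lt hk)).1 h
  obtain ⟨i, hi, he⟩ := P_iff.1 h1
  have := ord_inj (by omega) hk he
  omega

theorem closure_24 : Subgroup.closure {g : LL | ∃ i < 24, g = x (ord i)} = BN.U := by
  rw [BN.U_eq_closure]
  congr 1
  ext g
  constructor
  · rintro ⟨i, hi, rfl⟩
    exact ⟨ord i, ord_ge hi, ord_lt hi, rfl⟩
  · rintro ⟨r, h1, h2, rfl⟩
    obtain ⟨i, hi, rfl⟩ := ord_surj h1 h2
    exact ⟨i, hi, rfl⟩

theorem comm_2527 : x 25 * x 27 * (x 25)⁻¹ * (x 27)⁻¹ = x 28 * x 30 := by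
  have h := wd_eq [25, 27, 25, 27] [28, 30] (by decide +kernel)
  rw [wd_cons, wd_cons, wd_cons, wd_one, wd_cons, wd_one] at h
  rw [x_inv, x_inv, mul_assoc, mul_assoc]
  exact h

theorem comm_not_mem : x 25 * x 27 * (x 25)⁻¹ * (x 27)⁻¹ ∉
    Subgroup.closure {g : LL | ∃ i < 20, g = x (ord i)} := by
  rw [closure_eq (by norm_num), comm_2527]
  intro h
  have h1 := (Par.mul_not_mem_RG (closedB_P (k := 20) (by norm_num)) (a := 28) (b := 30) (by norm_num) (by norm_num)
    (by norm_num) h).1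
  revert h1
  decide

variable {G : Type*} [Group G] (S : Std G)

/-- An element inducing the graph automorphism. -/
structure GraphEl (α : LL ≃* LL) (g : G) : Prop where
  hα : ∀ r < 48, α (x r) = x (bar r)
  gt : g * S.t = S.t * g
  gg : g * g = 1 ∨ g * g = S.t
  gφ : ∀ l, g * S.φ l * g⁻¹ = S.φ (α l)
  cent : ∀ c, c * S.t = S.t * c → ∃ l, c = S.φ l ∨ c = S.t * S.φ l ∨ c = g * S.φ l ∨ c = S.t * g * S.φ l

/-- The four-groups `⟨φ (x r), v r⟩`, `r` positive, with their commutators. -/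
structure Four (v : ℕ → G) : Prop where
  vv : ∀ r, 24 ≤ r → r < 48 → v r * v r = 1
  vx : ∀ r, 24 ≤ r → r < 48 → v r * S.φ (x r) = S.φ (x r) * v r
  vt : ∀ r, 24 ≤ r → r < 48 → v r * S.t * (v r)⁻¹ = S.t * S.φ (x r)
  cm : ∀ r s, 24 ≤ r → r < 48 → 24 ≤ s → s < 48 → r ≠ s → ∀ y z, (y = S.φ (x r) ∨ y = v r) →
    (z = S.φ (x s) ∨ z = v s) →
    y * z * y⁻¹ * z⁻¹ ∈ Subgroup.closure {w | ∃ q ∈ cmr r s, w = S.φ (x q) ∨ w = v q}

variable {S} {α : LL ≃* LL} {g : G} {v : ℕ → G}

/-- the chain of 12 pairs -/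
def chain (hg : GraphEl S α g) (hv : Four S v) (hgv : ∀ r ∈ longs, g * v r * g⁻¹ = v (bar r)) :
    Pairs.PairChain G where
  m := 12
  t := S.t
  g := g
  x i := S.φ (x (ord i))
  a i := v (ord i)
  tt := S.tt
  gt := hg.gt
  gg := hg.gg
  xx i _ := by rw [← map_mul, x_mul_self, map_one]
  aa i hi := hv.vv _ (ord_ge hi) (ord_lt hi)
  ax i hi := hv.vx _ (ord_ge hi) (ord_lt hi)
  xt i _ := S.comm' _
  aat i hi := hv.vt _ (ord_ge hi) (ord_lt hi)
  gx k hk := by rw [hg.gφ, hg.hα _ (ord_lt (by omega)), bar_ord hk]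
  ga k hk := by rw [hgv _ (ord_long hk), bar_ord hk]
  comm i j hij hj y z hy hz := by
    rcases Nat.lt_or_eq_of_le hij with h | h
    · have h1 := hv.cm _ _ (ord_ge (by omega)) (ord_lt (by omega)) (ord_ge hj) (ord_lt hj)
        (fun h' => by have := ord_inj (by omega) hj h'; omega) y z hy hz
      refine Subgroup.closure_mono ?_ h1
      rintro w ⟨q, hq, hw⟩
      obtain ⟨l, hl, rfl⟩ := cm_ord h hj hq
      exact ⟨l, hl, hw⟩
    · subst h
      have h1 := hv.vx _ (ord_ge hj) (ord_lt hj)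
      have h2 : y * z = z * y := by
        rcases hy with rfl | rfl <;> rcases hz with rfl | rfl
        · rfl
        · exact h1.symm
        · exact h1
        · rfl
      rw [h2, mul_inv_cancel_right, mul_inv_cancel]
      exact Subgroup.one_mem _
  xU k hk h := by
    have e : {w : G | ∃ j < k, w = S.φ (x (ord j))} = S.φ '' {w : LL | ∃ j < k, w = x (ord j)} := by
      ext w
      constructor
      · rintro ⟨j, hj, rfl⟩
        exact ⟨_, ⟨j, hj, rfl⟩, rfl⟩
      · rintro ⟨_, ⟨j, hj, rfl⟩, rfl⟩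
        exact ⟨j, hj, rfl⟩
    rw [e, ← MonoidHom.map_closure] at h
    obtain ⟨u, hu, he⟩ := h
    have he' := S.inj he
    rw [he'] at hu
    exact x_not_mem hk hu

theorem U_eq (hg : GraphEl S α g) (hv : Four S v) (hgv : ∀ r ∈ longs, g * v r * g⁻¹ = v (bar r)) (k : ℕ) :
    (chain hg hv hgv).U k = (Subgroup.closure {w : LL | ∃ j < k, w = x (ord j)}).map S.φ := by
  rw [MonoidHom.map_closure]
  change Subgroup.closure _ = _
  congr 1
  ext w
  constructor
  · rintro ⟨j, hj, rfl⟩
    exact ⟨_, ⟨j, hj, rfl⟩, rfl⟩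
  · rintro ⟨_, ⟨j, hj, rfl⟩, rfl⟩
    exact ⟨j, hj, rfl⟩

/-- **e = 2**: no simple group. -/
theorem false_of_four [Finite G] [IsSimpleGroup G] (hG : ¬ ∀ a b : G, a * b = b * a)
    (hg : GraphEl S α g) (hgL : ∀ l, g ≠ S.φ l) (htgL : ∀ l, S.t * g ≠ S.φ l) (hv : Four S v)
    (hgv : ∀ r ∈ longs, g * v r * g⁻¹ = v (bar r)) : False := by
  refine (chain hg hv hgv).false_of_simple hG (p := 10) rfl ?_ S.φ.range ?_ ?_ ?_ ?_ ?_ ?_ ?_ ?_
  · intro h
    change S.φ (x (ord 22)) * S.φ (x (ord 23)) * (S.φ (x (ord 22)))⁻¹ * (S.φ (x (ord 23)))⁻¹ ∈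
      (chain hg hv hgv).U 20 at h
    rw [U_eq, ← map_inv, ← map_inv, ← map_mul, ← map_mul, ← map_mul] at h
    obtain ⟨u, hu, he⟩ := h
    have he' := S.inj he
    rw [he'] at hu
    exact comm_not_mem hu
  · intro i _
    exact ⟨_, rfl⟩
  · rintro _ ⟨l, rfl⟩
    exact S.comm' l
  · rintro _ ⟨l, rfl⟩
    exact ⟨α l, (hg.gφ l).symm⟩
  · rintro ⟨l, hl⟩
    exact S.tne l hl.symm
  · rintro ⟨l, hl⟩
    exact hgL l hl.symm
  · rintro ⟨l, hl⟩
    exact htgL l hl.symm
  · intro c hc
    obtain ⟨l, h | h | h | h⟩ := hg.cent c hc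
    · exact Or.inl ⟨l, h.symm⟩
    · refine Or.inr (Or.inl ⟨l, ?_⟩)
      rw [h]
      change S.φ l = S.t * (S.t * S.φ l)
      rw [← mul_assoc, S.tt, one_mul]
    · have hgg : ∃ l', g * c = S.φ l' ∨ g * c = S.t * S.φ l' := by
        rcases hg.gg with h' | h'
        · exact ⟨l, Or.inl (by rw [h, ← mul_assoc, h', one_mul])⟩
        · exact ⟨l, Or.inr (by rw [h, ← mul_assoc, h'])⟩
      obtain ⟨l', h' | h'⟩ := hgg
      · exact Or.inr (Or.inr (Or.inl ⟨l', h'.symm⟩))
      · refine Or.inr (Or.inr (Or.inr ⟨l', ?_⟩))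
        change S.φ l' = S.t * g * c
        rw [mul_assoc, h', ← mul_assoc, S.tt, one_mul]
    · have hgg : ∃ l', g * c = S.φ l' ∨ g * c = S.t * S.φ l' := by
        have e : g * c = S.t * (g * g) * S.φ l := by
          rw [h, ← mul_assoc, ← mul_assoc, hg.gt]; group
        rcases hg.gg with h' | h'
        · exact ⟨l, Or.inr (by rw [e, h', mul_one])⟩
        · exact ⟨l, Or.inl (by rw [e, h', S.tt, one_mul])⟩
      obtain ⟨l', h' | h'⟩ := hgg
      · exact Or.inr (Or.inr (Or.inl ⟨l', h'.symm⟩))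
      · refine Or.inr (Or.inr (Or.inr ⟨l', ?_⟩))
        change S.φ l' = S.t * g * c
        rw [mul_assoc, h', ← mul_assoc, S.tt, one_mul]
  · change Odd (((chain hg hv hgv).U 24).relIndex S.φ.range)
    rw [U_eq, closure_24, MonoidHom.range_eq_map, Subgroup.relIndex_map_map_of_injective _ _ S.inj,
      Subgroup.relIndex_top_right]
    exact Perf.odd_index

end Cfsg.Agent.F42.GraphRoots
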