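import Cfsg.Agent.F42.Std
import Cfsg.Agent.FourTwo.CentK

/-!
# The patterns (C) and (S)

* `ty_mid`: if `x_s` is of split type then `t x_s x_l` is conjugate to `t`;
* `mixed`: `x_s` nonsplit and `x_l` split is impossible (and dually, `mixed'`).
-/

set_option autoImplicit false

namespace Cfsg.Agent.F42.NormPat

open Cfsg.Agent.FourTwo.Base Cfsg.Agent.FourTwo.BN
open Cfsg.Agent.FourTwo.Comm
open Cfsg.Agent.FourTwo.Cent (plP)

variable {G : Type*} [Group G] (S : Std G)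

/-! ### (C) -/

theorem chk_a : chk [41, 6, 41, 44] [29, 41, 6, 41] = true := by decide +kernel

theorem chk_b : chk [41, 6, 44, 29] [44, 47, 41, 6] = true := by decide +kernel

theorem conj_of_chk {p w w' : List ℕ} (h : chk (p ++ w) (w' ++ p) = true) : wd p * wd w * (wd p)⁻¹ = wd w' := by
  have h1 := wd_eq _ _ h
  rw [wd_append, wd_append] at h1
  rw [h1, mul_inv_cancel_right]

theorem conj_a : wd [41, 6, 41] * x 44 * (wd [41, 6, 41])⁻¹ = x 29 := by
  have h := conj_of_chk (p := [41, 6, 41]) (w := [44]) (w' := [29]) chk_a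
  rwa [wd_one, wd_one] at h

theorem wd_two (r s : ℕ) : wd [r, s] = x r * x s := by rw [wd_cons, wd_one]

theorem conj_b : wd [41, 6] * (x 44 * x 29) * (wd [41, 6])⁻¹ = x 44 * x 47 := by
  have h := conj_of_chk (p := [41, 6]) (w := [44, 29]) (w' := [44, 47]) chk_b
  rwa [wd_two 44 29, wd_two 44 47] at h

variable {S}

/-- **(C).** -/
theorem ty_mid {a : G} (h : S.IsSplit a) : S.Ty (x 44 * x 47) := by
  have h1 : S.Ty (x 44) := ⟨a, h.at_⟩
  have h2 : S.Ty (x 29) := by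
    rw [← conj_a]
    exact S.ty_conj h1 _
  have h3 : S.Ty (x 44 * x 29) := by
    obtain ⟨g, hg⟩ := h2
    refine ⟨a * g, ?_⟩
    calc a * g * S.t * (a * g)⁻¹ = a * (g * S.t * g⁻¹) * a⁻¹ := by group
      _ = a * S.t * a⁻¹ * (a * S.φ (x 29) * a⁻¹) := by rw [hg]; group
      _ = S.t * S.φ (x 44 * x 29) := by
          rw [h.at_, h.fix 29 (by norm_num) (by norm_num), mul_inv_cancel_right, map_mul, mul_assoc]
  rw [← conj_b]
  exact S.ty_conj h3 _

/-! ### (S) -/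

/-- split type of `x 47`, in the coordinates of `S` -/
structure SplitL (S : Std G) (a : G) : Prop where
  aa : a * a = 1
  at_ : a * S.t * a⁻¹ = S.t * S.φ (x 47)
  fix : ∀ r < 48, plP r = true → a * S.φ (x r) = S.φ (x r) * a

theorem pl_bar : ((List.range 48).all fun r => plP r == decide (15 ≤ bar r)) = true := by decide +kernel

theorem le_bar {r : ℕ} (hr : r < 48) (h : plP r = true) : 15 ≤ bar r := by
  have h1 := pl_bar
  rw [List.all_eq_true] at h1
  have h2 := h1 r (List.mem_range.2 hr)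
  rw [h] at h2
  simpa using h2

theorem SplitL.of_dual {α : LL ≃* LL} {hα : ∀ r < 48, α (x r) = x (bar r)} {a : G} (h : (S.dual α hα).IsSplit a) :
    SplitL S a := by
  refine ⟨h.aa, ?_, fun r hr hp => ?_⟩
  · have h1 := h.at_
    rw [Std.dual_t, Std.dual_φ, Std.α44 α hα] at h1
    exact h1
  · have h1 := h.fix (bar r) (le_bar hr hp) (bar_lt hr)
    rw [Std.dual_φ, hα _ (bar_lt hr), bar_bar hr] at h1
    exact h1

theorem SplitL.of_split {α : LL ≃* LL} {hα : ∀ r < 48, α (x r) = x (bar r)} {a : G} (h : S.IsSplit a) :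
    SplitL (S.dual α hα) a := by
  refine ⟨h.aa, ?_, fun r hr hp => ?_⟩
  · rw [Std.dual_t, Std.dual_φ, Std.α47 α hα]
    exact h.at_
  · rw [Std.dual_φ, hα r hr]
    exact h.fix _ (le_bar hr hp) (bar_lt hr)

/-- the elements of `L` commuting with `g` -/
def Fx (S : Std G) (g : G) : Subgroup LL := (Subgroup.centralizer {g}).comap S.φ

theorem mem_Fx {g : G} {l : LL} : l ∈ Fx S g ↔ g * S.φ l = S.φ l * g := by
  unfold Fx
  rw [Subgroup.mem_comap, Subgroup.mem_centralizer_iff]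
  constructor
  · intro h
    exact h g rfl
  · rintro h _ rfl
    exact h

theorem Fx_conj {g : G} {m l : LL} (h : m⁻¹ * l * m ∈ Fx S g) : l ∈ Fx S (S.φ m * g * (S.φ m)⁻¹) := by
  rw [mem_Fx] at h ⊢
  rw [map_mul, map_mul, map_inv] at h
  calc S.φ m * g * (S.φ m)⁻¹ * S.φ l = S.φ m * (g * ((S.φ m)⁻¹ * S.φ l * S.φ m)) * (S.φ m)⁻¹ := by group
    _ = S.φ l * (S.φ m * g * (S.φ m)⁻¹) := by rw [h]; group

theorem at_conj {g : G} {z : LL} (h : g * S.t * g⁻¹ = S.t * S.φ z) (m : LL) :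
    (S.φ m * g * (S.φ m)⁻¹) * S.t * (S.φ m * g * (S.φ m)⁻¹)⁻¹ = S.t * S.φ (m * z * m⁻¹) := by
  have h1 : (S.φ m)⁻¹ * S.t * S.φ m = S.t := by rw [mul_assoc, S.comm m, inv_mul_cancel_left]
  calc (S.φ m * g * (S.φ m)⁻¹) * S.t * (S.φ m * g * (S.φ m)⁻¹)⁻¹
      = S.φ m * (g * ((S.φ m)⁻¹ * S.t * S.φ m) * g⁻¹) * (S.φ m)⁻¹ := by group
    _ = S.φ m * S.t * (S.φ z * (S.φ m)⁻¹) := by rw [h1, h]; group
    _ = S.t * S.φ (m * z * m⁻¹) := by rw [S.comm' m, map_mul, map_mul, map_inv]; group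

/-- the roots used -/
def Lr : List ℕ := [25, 28, 33, 34, 35, 36, 37, 38, 39, 40, 41, 42, 43, 44, 45, 46, 47]

/-- the reflection in `e₂` -/
def wE : List ℕ := [3, 2, 1, 2, 3]

theorem tabE : ∀ r ∈ Lr, plP r = true ∧ act wE r < 48 ∧ plP (act wE r) = true ∧ act wE (act wE r) = r := by
  decide +kernel

theorem tab29 : ∀ r ∈ Lr, 29 ≠ r ∧ 29 + r ≠ 47 ∧ ∀ q ∈ cmg 29 r, q ∈ Lr := by decide +kernel

theorem Lr_lt : ∀ r ∈ Lr, r < 48 := by decide

/-- possible words -/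
def ans : List (List ℕ) := [
  [], [17], [19], [17, 19], [20], [17, 20], [19, 20], [17, 19, 20],
  [22], [17, 22], [19, 22], [17, 19, 22], [20, 22], [17, 20, 22], [19, 20, 22], [17, 19, 20, 22],
  [23], [17, 23], [19, 23], [17, 19, 23], [20, 23], [17, 20, 23], [19, 20, 23], [17, 19, 20, 23],
  [22, 23], [17, 22, 23], [19, 22, 23], [17, 19, 22, 23], [20, 22, 23], [17, 20, 22, 23], [19, 20, 22, 23],
  [17, 19, 20, 22, 23]]

theorem chk25 : FourTwo.CentK.ChkC [([], 25)] ans = true := by decide +kernel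

theorem ans28 : ∀ T ∈ ans, ∀ j ∈ T, 24 + j < 48 ∧ 24 + j + 28 ≠ 47 ∧ cmg (24 + j) 28 = [] := by decide +kernel

/-- an element of `L` commuting with `Q_s` and `x 25` commutes with `x 28` -/
theorem comm28 {l : LL} (h8 : ∀ k, k < 8 → Commute l (x (33 + k))) (h25 : Commute l (x 25)) :
    Commute l (x 28) := by
  obtain ⟨T, hT, rfl⟩ := FourTwo.CentK.mainC chk25 h8 (by
    intro p hp
    simp only [List.mem_cons, List.not_mem_nil, or_false] at hp
    subst hp
    exact h25)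
  have h1 := ans28 T hT
  clear h8 h25 hT
  induction T with
  | nil => exact Commute.one_left _
  | cons j T ih =>
    rw [List.map_cons, wd_cons]
    have h2 := h1 j List.mem_cons_self
    exact Commute.mul_left (comm_one h2.1 (by norm_num) h2.2.1 h2.2.2)
      (ih fun i hi => h1 i (List.mem_cons_of_mem _ hi))

theorem c2941 : cmg 29 41 = [44, 47] ∨ cmg 29 41 = [47, 44] := by decide +kernel

theorem comm4447 : x 44 * x 47 = x 47 * x 44 := comm_one (by norm_num) (by norm_num) (by norm_num) (by decide +kernel)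

/-- **The mixed pattern is impossible.** -/
theorem mixed {a b : G} (ha : SplitL S a) (hb : S.IsNon b) : False := by
  have hwE : ∀ i ∈ wE, i < 4 := by decide
  have Fa : ∀ r ∈ Lr, x r ∈ Fx S a := fun r hr => mem_Fx.2 (ha.fix r (Lr_lt r hr) (tabE r hr).1)
  set a' : G := S.φ (nw wE) * a * (S.φ (nw wE))⁻¹ with ha'
  have Fa' : ∀ r ∈ Lr, x r ∈ Fx S a' := by
    intro r hr
    obtain ⟨-, h2, h3, h4⟩ := tabE r hr
    refine Fx_conj ?_
    have h5 := nw_conj hwE h2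
    rw [h4] at h5
    rw [← h5]
    have h6 : (nw wE)⁻¹ * (nw wE * x (act wE r) * (nw wE)⁻¹) * nw wE = x (act wE r) := by group
    rw [h6]
    exact mem_Fx.2 (ha.fix _ h2 h3)
  have hat' : a' * S.t * a'⁻¹ = S.t * S.φ (x 41) := by
    have h1 := at_conj ha.at_ (nw wE)
    rw [nw_conj hwE (by norm_num)] at h1
    exact h1
  set a'' : G := S.φ (x 29) * a' * (S.φ (x 29))⁻¹ with ha''
  have Fa'' : ∀ r ∈ Lr, x r ∈ Fx S a'' := by
    intro r hr
    obtain ⟨h1, h2, h3⟩ := tab29 r hr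
    refine Fx_conj ?_
    have h4 := conj_x (r := 29) (s := r) (by norm_num) (Lr_lt r hr) h1 h2
    rw [x_inv] at h4 ⊢
    rw [h4]
    exact mul_mem (Fa' r hr) (wd_mem fun q hq => Fa' q (h3 q hq))
  have hz : x 29 * x 41 * (x 29)⁻¹ = x 41 * (x 44 * x 47) := by
    rw [conj_x (by norm_num) (by norm_num) (by norm_num) (by norm_num)]
    rcases c2941 with h | h
    · rw [h, wd_two]
    · rw [h, wd_two, comm4447]
  have hat'' : a'' * S.t * a''⁻¹ = S.t * S.φ (x 41 * (x 44 * x 47)) := by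
    rw [← hz]
    exact at_conj hat' (x 29)
  have m41 : (41 : ℕ) ∈ Lr := by decide
  have m44 : (44 : ℕ) ∈ Lr := by decide
  have m47 : (47 : ℕ) ∈ Lr := by decide
  have mm : ∀ {c : G}, (∀ r ∈ Lr, x r ∈ Fx S c) → c * S.φ (x 41 * (x 44 * x 47)) * c⁻¹ = S.φ (x 41 * (x 44 * x 47)) := by
    intro c hc
    rw [mem_Fx.1 (mul_mem (hc 41 m41) (mul_mem (hc 44 m44) (hc 47 m47))), mul_inv_cancel_right]
  have mm' : ∀ {c : G}, (∀ r ∈ Lr, x r ∈ Fx S c) → c * S.φ (x 44 * x 47) * c⁻¹ = S.φ (x 44 * x 47) := by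
    intro c hc
    rw [mem_Fx.1 (mul_mem (hc 44 m44) (hc 47 m47)), mul_inv_cancel_right]
  have e1 : a' * (S.t * S.φ (x 41 * (x 44 * x 47))) * a'⁻¹ = S.t * S.φ (x 44 * x 47) := by
    calc a' * (S.t * S.φ (x 41 * (x 44 * x 47))) * a'⁻¹
        = (a' * S.t * a'⁻¹) * (a' * S.φ (x 41 * (x 44 * x 47)) * a'⁻¹) := by group
      _ = S.t * S.φ (x 41 * (x 41 * (x 44 * x 47))) := by
          rw [hat', mm Fa', map_mul S.φ (x 41) (x 41 * (x 44 * x 47)), mul_assoc]
      _ = S.t * S.φ (x 44 * x 47) := by rw [← mul_assoc (x 41), x_mul_self, one_mul]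
  have e2 : a * (S.t * S.φ (x 44 * x 47)) * a⁻¹ = S.t * S.φ (x 44) := by
    calc a * (S.t * S.φ (x 44 * x 47)) * a⁻¹
        = (a * S.t * a⁻¹) * (a * S.φ (x 44 * x 47) * a⁻¹) := by group
      _ = S.t * S.φ (x 47 * (x 47 * x 44)) := by
          rw [ha.at_, mm' Fa, comm4447, map_mul S.φ (x 47) (x 47 * x 44), mul_assoc]
      _ = S.t * S.φ (x 44) := by rw [← mul_assoc (x 47), x_mul_self, one_mul]
  set g : G := a * a' * a'' with hg
  have hgt : g * S.t * g⁻¹ = S.t * S.φ (x 44) := by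
    calc g * S.t * g⁻¹ = a * (a' * (a'' * S.t * a''⁻¹) * a'⁻¹) * a⁻¹ := by rw [hg]; group
      _ = S.t * S.φ (x 44) := by rw [hat'', e1, e2]
  have Fg : ∀ r ∈ Lr, g * S.φ (x r) = S.φ (x r) * g := by
    intro r hr
    have h1 : Commute a (S.φ (x r)) := mem_Fx.1 (Fa r hr)
    have h2 : Commute a' (S.φ (x r)) := mem_Fx.1 (Fa' r hr)
    have h3 : Commute a'' (S.φ (x r)) := mem_Fx.1 (Fa'' r hr)
    exact (h1.mul_left h2).mul_left h3
  have hbi : b⁻¹ = b := inv_eq_of_mul_eq_one_right hb.aa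
  set k : G := b * g with hk
  have hkt : k * S.t = S.t * k := by
    have h1 : b * (S.t * S.φ (x 44)) * b⁻¹ = S.t := by
      calc b * (S.t * S.φ (x 44)) * b⁻¹ = b * (b * S.t * b⁻¹) * b⁻¹ := by rw [hb.at_]
        _ = (b * b) * S.t * (b * b)⁻¹ := by group
        _ = S.t := by rw [hb.aa]; group
    calc k * S.t = (b * (g * S.t * g⁻¹) * b⁻¹) * k := by rw [hk]; group
      _ = S.t * k := by rw [hgt, h1]
  have hkr : ∀ r ∈ Lr, r ≠ 28 → k * S.φ (x r) = S.φ (x r) * k := by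
    intro r hr h28
    have key : ∀ r ∈ Lr, r ≠ 28 → 15 ≤ r ∧ r ∉ [18, 19, 20, 27, 28, 29] := by decide
    have h1 := hb.fix r (key r hr h28).1 (Lr_lt r hr) (key r hr h28).2
    rw [hk, mul_assoc, Fg r hr, ← mul_assoc, h1, mul_assoc]
  have hk28 : k * S.φ (x 28) * k⁻¹ = S.φ (x 28 * x 46) := by
    have h1 := hb.mv (28, 46) (by decide)
    calc k * S.φ (x 28) * k⁻¹ = b * (g * S.φ (x 28) * g⁻¹) * b⁻¹ := by rw [hk]; group
      _ = b * S.φ (x 28) * b⁻¹ := by rw [Fg 28 (by decide), mul_inv_cancel_right]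
      _ = _ := h1
  have fin : ∀ l : LL, (∀ r ∈ Lr, r ≠ 28 → S.φ l * S.φ (x r) = S.φ (x r) * S.φ l) →
      S.φ l * S.φ (x 28) * (S.φ l)⁻¹ = S.φ (x 28 * x 46) → False := by
    intro l h1 h2
    have h3 : ∀ r ∈ Lr, r ≠ 28 → Commute l (x r) := fun r hr hr' => by
      apply S.inj
      rw [map_mul, map_mul]
      exact h1 r hr hr'
    have key : ∀ k < 8, 33 + k ∈ Lr ∧ 33 + k ≠ 28 := by decide
    have h4 := comm28 (fun k hk => h3 _ (key k hk).1 (key k hk).2) (h3 25 (by decide) (by decide))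
    rw [← map_inv, ← map_mul, ← map_mul] at h2
    have h5 := S.inj h2
    rw [h4.eq, mul_inv_cancel_right] at h5
    exact x_ne_one (r := 46) (by norm_num) (left_eq_mul.1 h5)
  obtain ⟨l, hl | hl⟩ := S.root k hkt 44 (by norm_num) (hkr 44 m44 (by norm_num))
  · rw [hl] at hkr hk28
    exact fin l hkr hk28
  · refine fin l (fun r hr hr' => ?_) ?_
    · have h1 := hkr r hr hr'
      rw [hl, mul_assoc, ← mul_assoc (S.φ (x r)), S.comm', mul_assoc] at h1
      exact mul_left_cancel h1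
    · rw [hl] at hk28
      have h1 : S.t * S.φ l * S.φ (x 28) * (S.t * S.φ l)⁻¹ = S.φ l * S.φ (x 28) * (S.φ l)⁻¹ := by
        calc S.t * S.φ l * S.φ (x 28) * (S.t * S.φ l)⁻¹ = S.t * (S.φ l * S.φ (x 28) * (S.φ l)⁻¹) * S.t⁻¹ := by group
          _ = S.t * S.φ (l * x 28 * l⁻¹) * S.t⁻¹ := by rw [map_mul, map_mul, map_inv]
          _ = S.φ l * S.φ (x 28) * (S.φ l)⁻¹ := by
              rw [S.comm, mul_inv_cancel_right, map_mul, map_mul, map_inv]
      rw [← h1]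
      exact hk28

/-- `x_s` nonsplit, `x_l` split: impossible. -/
theorem non_split {α : LL ≃* LL} {hα : ∀ r < 48, α (x r) = x (bar r)} {a b : G}
    (hb : S.IsNon b) (ha : (S.dual α hα).IsSplit a) : False := mixed (SplitL.of_dual ha) hb

/-- `x_s` split, `x_l` nonsplit: impossible. -/
theorem split_non {α : LL ≃* LL} {hα : ∀ r < 48, α (x r) = x (bar r)} {a b : G}
    (ha : S.IsSplit a) (hb : (S.dual α hα).IsNon b) : False := mixed (SplitL.of_split ha) hb

end Cfsg.Agent.F42.NormPat
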