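import Cfsg.Agent.F42.Top
import Cfsg.Agent.F42.NormPat
import Cfsg.Agent.F42.NonPair
import Cfsg.Agent.F42.ParInst

/-!
# `F₄(2)` standard: the hypotheses of `Top.false_e1`
-/

set_option autoImplicit false

namespace Cfsg.Agent.F42.InstOne

open Cfsg.Agent.FourTwo Cfsg.Agent.FourTwo.Base

variable {G : Type*} [Group G]

/-- the dichotomy -/
theorem dich (S : Std G) : Top.Dich S := by
  intro h
  obtain ⟨a, ha⟩ := ParInst.exists_pre S h
  obtain ⟨w, -, h1 | h1⟩ := ha.split_or_non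
  · exact Or.inl ⟨_, h1⟩
  · exact Or.inr ⟨_, h1⟩

theorem split_ty (S : Std G) (a : G) (h : S.IsSplit a) : S.Ty (x 44 * x 47) := NormPat.ty_mid h

theorem split_dual {α : LL ≃* LL} (hα : ∀ r < 48, α (x r) = x (Base.bar r)) (S : Std G) (a : G)
    (h : S.IsSplit a) (hl : S.Swap (x 47)) : ∃ b, (S.dual α hα).IsSplit b := by
  have hl' : (S.dual α hα).Swap (x 44) := by
    rw [S.dual_swap α hα, hα 44 (by omega)]
    exact hl
  rcases dich (S.dual α hα) hl' with h1 | ⟨b, h1⟩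
  · exact h1
  · exact (NormPat.split_non h h1).elim

theorem non_non {α : LL ≃* LL} (hα : ∀ r < 48, α (x r) = x (Base.bar r)) (S : Std G) (a b : G)
    (ha : S.IsNon a) (hb : (S.dual α hα).IsNon b) : False := NonPair.ns S hα ha hb

theorem zFour (S : Std G) (n : G) (h1 : S.E1) (_ : Pattern.Norm S n)
    (e1 : n * S.t * n⁻¹ = S.t * S.φ (x 44)) (_ : n * S.φ (x 44) * n⁻¹ = S.φ (x 47))
    (e3 : n * S.φ (x 47) * n⁻¹ = S.φ (x 44)) (_ : S.Ty (x 44)) (_ : S.Ty (x 47)) (_ : S.Ty (x 47 * x 44)) : False :=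
  ParInst.no_Z4 S.inj S.comm h1 e1 e3

/-- `C_G(t) = ⟨t⟩ × L` is impossible, up to the kill of `D ∩ L`. -/
theorem false_e1 {G : Type*} [Group G] [Finite G] [IsSimpleGroup G] (hG : ¬ ∀ a b : G, a * b = b * a)
    (hD : ∀ S : Std G, S.E1 → ∀ z, ZTwo.ZU z → ∀ g, g * S.t * g⁻¹ ≠ S.φ z) (S : Std G) (h1 : S.E1) : False := by
  obtain ⟨α, hα⟩ := exists_graph
  exact Top.false_e1 hG hα hD dich split_ty (split_dual hα) (non_non hα) zFour S h1

end Cfsg.Agent.F42.InstOne
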