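import Cfsg.Agent.F42.Std
import Cfsg.Agent.FourTwo.PairRig

/-!
The rigidity of pairs of short roots (`rig60`, `rig90`, `rig120` of `FourTwo/PairRig`) in a group with an `F42.Std`:
exactly the fields of `RelSys.Sys` for `X r = S.φ (x r)`.
-/

set_option autoImplicit false

namespace Cfsg.Agent.F42.Std

open Cfsg.Agent.FourTwo.Base (LL x)
open Cfsg.Agent.FourTwo.PairRig (rig60 rig90 rig120)
open Cfsg.Agent.F42.RelTab (lg F sm all2 all2_spec p60 p90 p120)

theorem exists_F_tab : all2 (fun s q => !(p60 s q || p90 s q || p120 s q) ||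
    (List.range 48).any fun b => F s b && F q b) = true := by decide +kernel

theorem exists_F {s q : ℕ} (hs : s < 48) (hq : q < 48) (hp : (p60 s q || p90 s q || p120 s q) = true) :
    ∃ b, b < 48 ∧ F s b = true ∧ F q b = true := by
  have h := all2_spec exists_F_tab hs hq
  rw [hp, Bool.not_true, Bool.false_or, List.any_eq_true] at h
  obtain ⟨b, hb, h1⟩ := h
  rw [Bool.and_eq_true] at h1
  exact ⟨b, List.mem_range.1 hb, h1.1, h1.2⟩

variable {G : Type*} [Group G] (S : Std G)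

theorem exists_rig {e : G} (he : Commute e S.t) {s q : ℕ} (hb : ∃ b, b < 48 ∧ F s b = true ∧ F q b = true)
    (h : ∀ b, b < 48 → F s b = true → F q b = true → Commute e (S.φ (x b))) :
    ∃ (l : LL) (a : G), (a = 1 ∨ a = S.t) ∧ e = a * S.φ l ∧
      ∀ b, b < 48 → F s b = true → F q b = true → Commute l (x b) := by
  have key : ∀ l b, Commute (S.φ l) (S.φ (x b)) → Commute l (x b) := by
    intro l b h1
    apply S.inj
    rw [map_mul, map_mul]
    exact h1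
  obtain ⟨b0, h0, h1, h2⟩ := hb
  obtain ⟨l, rfl | rfl⟩ := S.root e he b0 h0 (h b0 h0 h1 h2)
  · exact ⟨l, 1, Or.inl rfl, (one_mul _).symm, fun b h3 h4 h5 => key l b (h b h3 h4 h5)⟩
  · refine ⟨l, S.t, Or.inr rfl, rfl, fun b h3 h4 h5 => key l b ?_⟩
    have h6 : Commute S.t (S.φ (x b)) := S.comm (x b)
    have h7 := h6.mul_left (h b h3 h4 h5)
    rwa [← mul_assoc, S.tt, one_mul] at h7

theorem map_or {l : LL} {r : ℕ} (h : l = 1 ∨ l = x r) : S.φ l = 1 ∨ S.φ l = S.φ (x r) := by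
  rcases h with rfl | rfl
  · exact Or.inl (map_one _)
  · exact Or.inr rfl

theorem rig60 (s q : ℕ) (hs : s < 48) (hq : q < 48) (hp : p60 s q = true) (e : G) (he : Commute e S.t)
    (h : ∀ b, b < 48 → F s b = true → F q b = true → Commute e (S.φ (x b))) :
    ∃ a b c, (a = 1 ∨ a = S.t) ∧ (b = 1 ∨ b = S.φ (x s)) ∧ (c = 1 ∨ c = S.φ (x q)) ∧ e = a * b * c := by
  obtain ⟨l, a, ha, e1, hl⟩ := S.exists_rig he (exists_F hs hq (by rw [hp]; rfl)) h
  obtain ⟨b, c, hb, hc', rfl⟩ := FourTwo.PairRig.rig60 hs hq hp hl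
  exact ⟨a, S.φ b, S.φ c, ha, S.map_or hb, S.map_or hc', by rw [e1, map_mul, mul_assoc]⟩

theorem rig90 (s q : ℕ) (hs : s < 48) (hq : q < 48) (hp : p90 s q = true) (e : G) (he : Commute e S.t)
    (h : ∀ b, b < 48 → F s b = true → F q b = true → Commute e (S.φ (x b))) :
    ∃ a b c d, (a = 1 ∨ a = S.t) ∧ (b = 1 ∨ b = S.φ (x s)) ∧ (c = 1 ∨ c = S.φ (x q)) ∧
      (d = 1 ∨ d = S.φ (x (sm s q))) ∧ e = a * b * c * d := by
  obtain ⟨l, a, ha, e1, hl⟩ := S.exists_rig he (exists_F hs hq (by rw [hp, Bool.or_true]; rfl)) h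
  obtain ⟨b, c, d, hb, hc', hd, rfl⟩ := FourTwo.PairRig.rig90 hs hq hp hl
  exact ⟨a, S.φ b, S.φ c, S.φ d, ha, S.map_or hb, S.map_or hc', S.map_or hd,
    by rw [e1, map_mul, map_mul]; simp only [mul_assoc]⟩

theorem rig120 (s q : ℕ) (hs : s < 48) (hq : q < 48) (hp : p120 s q = true) (e : G) (he : Commute e S.t)
    (h : ∀ b, b < 48 → F s b = true → F q b = true → Commute e (S.φ (x b))) :
    ∃ a b c d, (a = 1 ∨ a = S.t) ∧ (b = 1 ∨ b = S.φ (x s)) ∧ (c = 1 ∨ c = S.φ (x q)) ∧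
      (d = 1 ∨ d = S.φ (x (sm s q))) ∧ e = a * b * c * d := by
  obtain ⟨l, a, ha, e1, hl⟩ := S.exists_rig he (exists_F hs hq (by rw [hp, Bool.or_true])) h
  obtain ⟨b, c, d, hb, hc', hd, rfl⟩ := FourTwo.PairRig.rig120 hs hq hp hl
  exact ⟨a, S.φ b, S.φ c, S.φ d, ha, S.map_or hb, S.map_or hc', S.map_or hd,
    by rw [e1, map_mul, map_mul]; simp only [mul_assoc]⟩

end Cfsg.Agent.F42.Std
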