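import Cfsg.Agent.F42.RelPre
import Cfsg.Agent.F42.PairStd

/-!
# The case SHORT: the new root elements over `F42.Std`

`S : Std G`, `S.IsNon a0` : `aS S a0 s` is the new element of the short root `s` (a conjugate of `a0` under a Weyl
element with word `wS s`); `sysN : Sys S.t (S.φ (x r)) (aS s)`, `rootDataN : RootData G`.
-/

set_option autoImplicit false

namespace Cfsg.Agent.F42.RelNon

open Subgroup RelTab RelSys RelPre
open Cfsg.Agent.FourTwo.Base (LL x wd x_mul_self)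
open Cfsg.Agent.FourTwo.BN (nw act act_lt nw_conj x_ne_one x_inj)
open Cfsg.Agent.FourTwo.PairRig (act_F act_inv act_reverse reverse_lt)
open Cfsg.Agent.FourTwo.Comm (cmg comm_all)
open Cfsg.Agent.ChevalleyStructure.F4NTab (ct)

/-- words with `act w 44 = s` -/
def WS : List (List ℕ) := [
  [], [], [], [0, 1, 2, 3, 1, 2, 0, 1, 2, 3, 0, 1, 2, 1, 0], [], [], [],
  [1, 2, 3, 1, 2, 0, 1, 2, 3, 0, 1, 2, 1, 0], [2, 3, 1, 2, 0, 1, 2, 3, 0, 1, 2, 1, 0],
  [3, 1, 2, 0, 1, 2, 3, 0, 1, 2, 1, 0], [1, 2, 0, 1, 2, 3, 0, 1, 2, 1, 0], [3, 2, 0, 1, 2, 3, 0, 1, 2, 1, 0],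
  [2, 0, 1, 2, 3, 0, 1, 2, 1, 0], [0, 1, 2, 3, 0, 1, 2, 1, 0], [0, 1, 2, 3, 1, 2, 1, 0], [], [], [],
  [3, 2, 1, 2, 3, 0, 1, 2, 1, 0], [2, 1, 2, 3, 0, 1, 2, 1, 0], [1, 2, 3, 0, 1, 2, 1, 0], [], [], [], [], [], [],
  [2, 3, 0, 1, 2, 1, 0], [3, 0, 1, 2, 1, 0], [0, 1, 2, 1, 0], [], [], [], [1, 2, 3, 1, 2, 1, 0],
  [2, 3, 1, 2, 1, 0], [3, 1, 2, 1, 0], [1, 2, 1, 0], [3, 2, 1, 0], [2, 1, 0], [1, 0], [0], [], [], [], [], [], [],
  []]

/-- a word with `act (wS s) 44 = s`, `s` short -/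
def wS (s : ℕ) : List ℕ := WS.getD s []

theorem wS_tab : ((List.range 48).all fun s => lg s || ((wS s).all (fun i => Nat.blt i 4) && Nat.beq (act (wS s) 44) s)) =
    true := by decide +kernel

theorem wS_spec {s : ℕ} (hs : s < 48) (hl : lg s = false) : (∀ i ∈ wS s, i < 4) ∧ act (wS s) 44 = s := by
  have h := wS_tab
  rw [List.all_eq_true] at h
  have h1 := h s (List.mem_range.2 hs)
  rw [hl, Bool.false_or, Bool.and_eq_true, List.all_eq_true] at h1
  exact ⟨fun i hi => by simpa using h1.1 i hi, Nat.eq_of_beq_eq_true h1.2⟩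

/-- `F 44` -/
theorem F44_tab : ((List.range 48).all fun r => !(F 44 r) || (Nat.ble 15 r && !([18, 19, 20, 27, 28, 29].contains r))) =
    true := by decide +kernel

theorem F44 {r : ℕ} (hr : r < 48) (h : F 44 r = true) : 15 ≤ r ∧ r ∉ [18, 19, 20, 27, 28, 29] := by
  have h0 := F44_tab
  rw [List.all_eq_true] at h0
  have h1 := imp_of (h0 r (List.mem_range.2 hr)) h
  rw [Bool.and_eq_true, Bool.not_eq_true'] at h1
  refine ⟨Nat.le_of_ble_eq_true h1.1, fun hm => ?_⟩
  have h2 := h1.2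
  rw [List.contains_iff_mem.2 hm] at h2
  exact Bool.noConfusion h2

/-- short roots orthogonal to `44` -/
theorem p44_tab : ((List.range 48).all fun q => !(p90 44 q) || (Std.nsPairs.contains (q, sm 44 q) && Nat.blt (sm 44 q) 48)) =
    true := by decide +kernel

theorem p44 {q : ℕ} (hq : q < 48) (h : p90 44 q = true) : (q, sm 44 q) ∈ Std.nsPairs ∧ sm 44 q < 48 := by
  have h0 := p44_tab
  rw [List.all_eq_true] at h0
  have h1 := imp_of (h0 q (List.mem_range.2 hq)) h
  rw [Bool.and_eq_true] at h1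
  exact ⟨by simpa using h1.1, Nat.le_of_ble_eq_true h1.2⟩

variable {G : Type*} [Group G] (S : Std G) {a0 : G}

/-- the new element of the short root `s` -/
def aS (a0 : G) (s : ℕ) : G := if lg s = true then 1 else S.φ (nw (wS s)) * a0 * (S.φ (nw (wS s)))⁻¹

theorem aS_short {s : ℕ} (hl : lg s = false) : aS S a0 s = S.φ (nw (wS s)) * a0 * (S.φ (nw (wS s)))⁻¹ := by
  unfold aS
  rw [hl, if_neg Bool.false_ne_true]

theorem aS_long {s : ℕ} (hl : lg s = true) : aS S a0 s = 1 := by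
  unfold aS
  rw [hl, if_pos rfl]

theorem map_conj {w : List ℕ} (hw : ∀ i ∈ w, i < 4) {r : ℕ} (hr : r < 48) :
    S.φ (x (act w r)) = S.φ (nw w) * S.φ (x r) * (S.φ (nw w))⁻¹ := by
  rw [← nw_conj hw hr, map_mul, map_mul, map_inv]

theorem map_conj' {w : List ℕ} (hw : ∀ i ∈ w, i < 4) {b : ℕ} (hb : b < 48) :
    S.φ (x b) = S.φ (nw w) * S.φ (x (act w.reverse b)) * (S.φ (nw w))⁻¹ := by
  rw [← map_conj S hw (act_lt (reverse_lt hw) hb), act_reverse hw hb]

variable (H : S.IsNon a0)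
include H

theorem a0_conj_t : a0 * S.t * a0 = S.t * S.φ (x 44) := by
  have h := H.at_
  rwa [inv_eq_of_mul_eq_one_left H.aa] at h

theorem preN : Pre S.t (fun r => S.φ (x r)) (aS S a0) where
  tt := S.tt
  xx r _ := by
    show S.φ (x r) * S.φ (x r) = 1
    rw [← map_mul, x_mul_self, map_one]
  xt r _ := S.comm (x r)
  comm r s hr hs h1 h2 := by
    show S.φ (x r) * S.φ (x s) = S.φ (x s) * ((cmg r s).map fun r => S.φ (x r)).prod * S.φ (x r)
    have h := congrArg S.φ (comm_all hr hs h1 h2)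
    rw [map_mul, map_mul, map_mul] at h
    rw [h]
    congr 2
    unfold wd
    rw [map_list_prod, List.map_map]
    rfl
  ne_one r hr h := x_ne_one hr (S.inj (h.trans (map_one _).symm))
  inj r s hr hs h := x_inj hr hs (S.inj h)
  aa s hs hl := by
    rw [aS_short S hl]
    calc S.φ (nw (wS s)) * a0 * (S.φ (nw (wS s)))⁻¹ * (S.φ (nw (wS s)) * a0 * (S.φ (nw (wS s)))⁻¹)
        = S.φ (nw (wS s)) * (a0 * a0) * (S.φ (nw (wS s)))⁻¹ := by group
      _ = 1 := by rw [H.aa, mul_one, mul_inv_cancel]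
  tr s hs hl := by
    obtain ⟨hw, h44⟩ := wS_spec hs hl
    rw [aS_short S hl]
    have ht : (S.φ (nw (wS s)))⁻¹ * S.t * S.φ (nw (wS s)) = S.t := by
      rw [mul_assoc, S.comm, inv_mul_cancel_left]
    have ht' : S.φ (nw (wS s)) * S.t = S.t * S.φ (nw (wS s)) := (S.comm _).symm
    calc S.φ (nw (wS s)) * a0 * (S.φ (nw (wS s)))⁻¹ * S.t * (S.φ (nw (wS s)) * a0 * (S.φ (nw (wS s)))⁻¹)
        = S.φ (nw (wS s)) * a0 * ((S.φ (nw (wS s)))⁻¹ * S.t * S.φ (nw (wS s))) * a0 * (S.φ (nw (wS s)))⁻¹ := by group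
      _ = S.φ (nw (wS s)) * (a0 * S.t * a0) * (S.φ (nw (wS s)))⁻¹ := by rw [ht]; group
      _ = S.φ (nw (wS s)) * S.t * S.φ (x 44) * (S.φ (nw (wS s)))⁻¹ := by rw [a0_conj_t S H]; group
      _ = S.t * (S.φ (nw (wS s)) * S.φ (x 44) * (S.φ (nw (wS s)))⁻¹) := by rw [ht']; group
      _ = S.t * S.φ (x s) := by rw [← map_conj S hw (by norm_num : 44 < 48), h44]
  aF s hs hl b hb hF := by
    obtain ⟨hw, h44⟩ := wS_spec hs hl
    have hb' := act_lt (reverse_lt hw) hb
    have hF' : F 44 (act (wS s).reverse b) = true := by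
      rw [← act_F hw (by norm_num : 44 < 48) hb', h44, act_reverse hw hb]
      exact hF
    obtain ⟨e1, e2⟩ := F44 hb' hF'
    have h := H.fix _ e1 hb' e2
    show aS S a0 s * S.φ (x b) = S.φ (x b) * aS S a0 s
    rw [aS_short S hl, map_conj' S hw hb]
    generalize S.φ (x (act (wS s).reverse b)) = y at h
    generalize S.φ (nw (wS s)) = g
    calc g * a0 * g⁻¹ * (g * y * g⁻¹) = g * (a0 * y) * g⁻¹ := by group
      _ = g * y * g⁻¹ * (g * a0 * g⁻¹) := by rw [h]; group
  t5 s q hs hq hp := by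
    have hl : lg s = false := by
      unfold p90 at hp
      simp only [Bool.and_eq_true, Bool.not_eq_true'] at hp
      exact hp.1.1
    have hlq : lg q = false := by
      unfold p90 at hp
      simp only [Bool.and_eq_true, Bool.not_eq_true'] at hp
      exact hp.1.2
    have hct : ct s q = 0 := by
      unfold p90 at hp
      simp only [Bool.and_eq_true, decide_eq_true_eq] at hp
      exact hp.2
    obtain ⟨hw, h44⟩ := wS_spec hs hl
    have hq' := act_lt (reverse_lt hw) hq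
    obtain ⟨i1, -, i3⟩ := act_inv hw (by norm_num : 44 < 48) hq'
    obtain ⟨-, i2, -⟩ := act_inv hw hq' (by norm_num : 44 < 48)
    rw [h44, act_reverse hw hq] at i1 i3
    rw [act_reverse hw hq] at i2
    have hp' : p90 44 (act (wS s).reverse q) = true := by
      unfold p90
      rw [← i1, ← i2, hct, hlq]
      decide
    obtain ⟨j1, j2⟩ := p44 hq' hp'
    have hm := H.mv _ j1
    have hi3 := i3 j2
    have ha := inv_eq_of_mul_eq_one_left H.aa
    rw [ha, map_mul] at hm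
    show aS S a0 s * S.φ (x q) * aS S a0 s = S.φ (x q) * S.φ (x (sm s q))
    rw [aS_short S hl, map_conj' S hw hq, hi3, map_conj S hw j2]
    generalize S.φ (x (act (wS s).reverse q)) = y at hm
    generalize S.φ (x (sm 44 (act (wS s).reverse q))) = z at hm
    generalize S.φ (nw (wS s)) = g
    calc g * a0 * g⁻¹ * (g * y * g⁻¹) * (g * a0 * g⁻¹) = g * (a0 * y * a0) * g⁻¹ := by group
      _ = g * y * g⁻¹ * (g * z * g⁻¹) := by rw [hm]; group
  rig60 := S.rig60
  rig90 := S.rig90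
  rig120 := S.rig120

/-- All relations of the case SHORT. -/
theorem sysN : Sys S.t (fun r => S.φ (x r)) (aS S a0) := (preN S H).sys

/-- The root data of the case SHORT. -/
def rootDataN : RootChain.RootData G := (sysN S H).rootData fun _ _ hl => aS_long S hl

end Cfsg.Agent.F42.RelNon
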