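import Cfsg.Agent.F42.ShortEnd
import Cfsg.Agent.F42.RelNon

/-!
# [B + B'] : the case SHORT is finished

`Std.exists_sign_non`: `C_G(t) = ⟨t⟩ × L`, `x 44` of nonsplit type, `t` conjugate neither to `t φ(x 47)` nor to
`t φ(x 44 * x 47)`; then there is a homomorphism `m : G → {1, -1}` with `m t = -1`.
-/

set_option autoImplicit false

namespace Cfsg.Agent.F42.Std

open RelNon Cfsg.Agent.FourTwo.Base

theorem exists_sign_non {G : Type*} [Group G] [Finite G] (S : Std G) (hE : S.E1) {a : G} (H : S.IsNon a)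
    (h47 : ¬ S.Ty (x 47)) (h4447 : ¬ S.Ty (x 44 * x 47)) : ∃ m : G →* ℤˣ, m S.t = -1 :=
  S.exists_sign_short hE (sysN S H) (fun _ _ hl => aS_long S hl) h47 h4447

end Cfsg.Agent.F42.Std
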