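import Cfsg.Agent.F42.NormCert
import Cfsg.Agent.F42.Std

/-!
# Normalisation of the element `a_s`

`Pre a`: `a² = 1`, `a t a⁻¹ = t x_s`, `a` centralises `Q_s` and moves the elements of `P_s = C_L(x_s)` by elements
of `W_s = Z(Q_s)`.  Then `a` can be changed by an element of `W_s` such that it becomes of split or of nonsplit
type (`Pre.split_or_non`).
-/

set_option autoImplicit false

namespace Cfsg.Agent.F42.Norm

open Cfsg.Agent.FourTwo.Base hiding bar bar_lt
open Cfsg.Agent.FourTwo.Comm Cfsg.Agent.FourTwo.Par Cfsg.Agent.FourTwo.Cent Cfsg.Agent.FourTwo.BN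
open Cfsg.Agent.F42.NormCert

variable {G : Type*} [Group G]

/-- an element swapping `t` and `t x_s`, trivial on `Q_s` and on `P_s / W_s` -/
structure Pre (S : Std G) (a : G) : Prop where
  aa : a * a = 1
  at_ : a * S.t * a⁻¹ = S.t * S.φ (x 44)
  fix : ∀ r, 33 ≤ r → r < 48 → a * S.φ (x r) = S.φ (x r) * a
  mv : ∀ g ∈ Ps, ∃ w ∈ RG wsP, a * S.φ g * a⁻¹ = S.φ (w * g)

/-- the codes of the cocycle of `a` -/
structure Codes (S : Std G) (a : G) (A : ℕ → ℕ) : Prop where
  lt : ∀ r, 15 ≤ r → r < 33 → A r < 128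
  eq : ∀ r, 15 ≤ r → r < 33 → a * S.φ (x r) * a⁻¹ = S.φ (ew (A r) * x r)

theorem Codes.cod_lt {S : Std G} {a : G} {A : ℕ → ℕ} (h : Codes S a A) : ∀ w : List ℕ,
    (∀ r ∈ w, 15 ≤ r ∧ r < 33) → cod A w < 128
  | [], _ => by norm_num [cod]
  | r :: w, hw => by
    have ih := h.cod_lt w fun s hs => hw s (List.mem_cons_of_mem _ hs)
    have hr := hw r List.mem_cons_self
    exact xor_lt (h.lt r hr.1 hr.2) (act_lt r ih)

theorem Codes.cod_eq {S : Std G} {a : G} {A : ℕ → ℕ} (h : Codes S a A) : ∀ w : List ℕ,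
    (∀ r ∈ w, 15 ≤ r ∧ r < 33) → a * S.φ (wd w) * a⁻¹ = S.φ (ew (cod A w) * wd w)
  | [], _ => by simp [cod, ew_zero]
  | r :: w, hw => by
    have hw' : ∀ s ∈ w, 15 ≤ s ∧ s < 33 := fun s hs => hw s (List.mem_cons_of_mem _ hs)
    have ih := h.cod_eq w hw'
    have hr := hw r List.mem_cons_self
    have h1 := conj_ew hr.1 hr.2 (h.cod_lt w hw')
    calc a * S.φ (wd (r :: w)) * a⁻¹ = (a * S.φ (x r) * a⁻¹) * (a * S.φ (wd w) * a⁻¹) := by
          rw [wd_cons, map_mul]; group
      _ = S.φ (ew (A r) * x r) * S.φ (ew (cod A w) * wd w) := by rw [h.eq r hr.1 hr.2, ih]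
      _ = S.φ (ew (A r) * (x r * ew (cod A w) * (x r)⁻¹) * (x r * wd w)) := by
          rw [← map_mul]
          exact congrArg S.φ (by group)
      _ = S.φ (ew (cod A (r :: w)) * wd (r :: w)) := by
          rw [h1, wd_cons]
          show _ = S.φ (ew (A r ^^^ act r (cod A w)) * _)
          rw [ew_xor]

theorem Codes.rel {S : Std G} {a : G} {A : ℕ → ℕ} (h : Codes S a A) {r s : ℕ} (hr : 15 ≤ r) (hr' : r < 33)
    (hs : 15 ≤ s) (hs' : s < 33) : cod A (rel r s).1 = cod A (rel r s).2 := by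
  have h1 := rel_lev hr hr' hs hs'
  have h2 := h.cod_eq _ h1.1
  have h3 := h.cod_eq _ h1.2
  rw [rel_ok (by omega) (by omega), h3] at h2
  have h4 := S.inj h2
  exact (ew_inj (h.cod_lt _ h1.2) (h.cod_lt _ h1.1) (mul_right_cancel h4)).symm

theorem Pre.exists_codes {S : Std G} {a : G} (h : Pre S a) : ∃ A : ℕ → ℕ, Codes S a A := by
  have key : ∀ r : ℕ, ∃ c : ℕ, 15 ≤ r → r < 33 → c < 128 ∧ a * S.φ (x r) * a⁻¹ = S.φ (ew c * x r) := by
    intro r
    by_cases hr : 15 ≤ r ∧ r < 33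
    · obtain ⟨w, hw, hw2⟩ := h.mv (x r) (x_mem_RG (by omega) (by simpa [psP] using hr.1))
      obtain ⟨c, hc, rfl⟩ := exists_code hw
      exact ⟨c, fun _ _ => ⟨hc, hw2⟩⟩
    · exact ⟨0, fun h1 h2 => absurd ⟨h1, h2⟩ hr⟩
  choose A hA using key
  exact ⟨A, ⟨fun r h1 h2 => (hA r h1 h2).1, fun r h1 h2 => (hA r h1 h2).2⟩⟩

theorem Codes.change {S : Std G} {a : G} {A : ℕ → ℕ} (h : Codes S a A) {n : ℕ} (hn : n < 128) :
    Codes S (S.φ (ew n) * a) (fun r => A r ^^^ (n ^^^ act r n)) := by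
  refine ⟨fun r h1 h2 => xor_lt (h.lt r h1 h2) (xor_lt hn (act_lt r hn)), fun r h1 h2 => ?_⟩
  have h3 := conj_ew h1 h2 hn
  calc S.φ (ew n) * a * S.φ (x r) * (S.φ (ew n) * a)⁻¹
      = S.φ (ew n) * (a * S.φ (x r) * a⁻¹) * (S.φ (ew n))⁻¹ := by group
    _ = S.φ (ew n * (ew (A r) * x r) * (ew n)⁻¹) := by rw [h.eq r h1 h2, ← map_mul, ← map_inv, ← map_mul]
    _ = S.φ (ew (A r ^^^ (n ^^^ act r n)) * x r) := by
        refine congrArg S.φ ?_
        rw [ew_xor, ew_xor, ← h3, ew_inv]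
        have e : ew n * (ew (A r) * x r) * ew n = (ew n * ew (A r)) * (x r * ew n) := by group
        rw [e, ew_comm n (A r)]
        group

theorem bit3 : ∀ n < 128, ∀ c ∈ shL, (n ^^^ act c n).testBit 3 = n.testBit (qb c) := by decide +kernel

theorem exists_bits (f : ℕ → Bool) : ∃ n < 128, ∀ c ∈ shL, n.testBit (qb c) = f c := by
  have key : ∀ b1 b2 b3 b4 b5 b6 : Bool, ((bif b1 then 1 else 0) + (bif b2 then 2 else 0) + (bif b3 then 4 else 0) +
      (bif b4 then 16 else 0) + (bif b5 then 32 else 0) + (bif b6 then 64 else 0) < 128) ∧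
      (((bif b1 then 1 else 0) + (bif b2 then 2 else 0) + (bif b3 then 4 else 0) +
      (bif b4 then 16 else 0) + (bif b5 then 32 else 0) + (bif b6 then 64 else 0) : ℕ).testBit 0 = b1 ∧
      ((bif b1 then 1 else 0) + (bif b2 then 2 else 0) + (bif b3 then 4 else 0) +
      (bif b4 then 16 else 0) + (bif b5 then 32 else 0) + (bif b6 then 64 else 0) : ℕ).testBit 1 = b2 ∧
      ((bif b1 then 1 else 0) + (bif b2 then 2 else 0) + (bif b3 then 4 else 0) +
      (bif b4 then 16 else 0) + (bif b5 then 32 else 0) + (bif b6 then 64 else 0) : ℕ).testBit 2 = b3 ∧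
      ((bif b1 then 1 else 0) + (bif b2 then 2 else 0) + (bif b3 then 4 else 0) +
      (bif b4 then 16 else 0) + (bif b5 then 32 else 0) + (bif b6 then 64 else 0) : ℕ).testBit 4 = b4 ∧
      ((bif b1 then 1 else 0) + (bif b2 then 2 else 0) + (bif b3 then 4 else 0) +
      (bif b4 then 16 else 0) + (bif b5 then 32 else 0) + (bif b6 then 64 else 0) : ℕ).testBit 5 = b5 ∧
      ((bif b1 then 1 else 0) + (bif b2 then 2 else 0) + (bif b3 then 4 else 0) +
      (bif b4 then 16 else 0) + (bif b5 then 32 else 0) + (bif b6 then 64 else 0) : ℕ).testBit 6 = b6) := by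
    decide
  obtain ⟨h0, h1, h2, h3, h4, h5, h6⟩ := key (f 29) (f 28) (f 27) (f 20) (f 19) (f 18)
  refine ⟨_, h0, fun c hc => ?_⟩
  simp only [shL, List.mem_cons, List.not_mem_nil, or_false] at hc
  rcases hc with rfl | rfl | rfl | rfl | rfl | rfl
  · exact h6
  · exact h5
  · exact h4
  · exact h3
  · exact h2
  · exact h1

theorem Pre.change {S : Std G} {a : G} (h : Pre S a) {w : LL} (hw : w ∈ RG wsP) : Pre S (S.φ w * a) := by
  have hcQ : ∀ r, 33 ≤ r → r < 48 → w * x r = x r * w := by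
    intro r h1 h2
    obtain ⟨c, -, rfl⟩ := exists_code hw
    have tabW : ∀ i < 15, ∀ j < 7, 33 + i = 41 + j ∨ (33 + i + (41 + j) ≠ 47 ∧ cmg (33 + i) (41 + j) = []) := by
      decide +kernel
    have key : ∀ j < 7, x (41 + j) * x r = x r * x (41 + j) := by
      intro j hj
      rcases tabW (r - 33) (by omega) j hj with e | ⟨e1, e2⟩
      · rw [← e, show 33 + (r - 33) = r by omega]
      · rw [show 33 + (r - 33) = r by omega] at e1 e2
        exact (comm_one h2 (by omega) e1 e2).symm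
    rw [ew_eq_wd]
    have : ∀ l : List ℕ, (∀ s ∈ l, 41 ≤ s ∧ s < 48) → wd l * x r = x r * wd l := by
      intro l
      induction l with
      | nil => intro _; simp
      | cons s l ih =>
        intro hl
        have hs := hl s List.mem_cons_self
        have h3 := key (s - 41) (by omega)
        rw [show 41 + (s - 41) = s by omega] at h3
        rw [wd_cons, mul_assoc, ih fun q hq => hl q (List.mem_cons_of_mem _ hq), ← mul_assoc, h3, mul_assoc]
    apply this
    intro s hs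
    have hs' := (List.mem_filter.1 hs).1
    simp only [List.mem_cons, List.not_mem_nil, or_false] at hs'
    omega
  have haw : a * S.φ w * a⁻¹ = S.φ w := by
    have hww : ∀ g ∈ RG wsP, a * S.φ g * a⁻¹ = S.φ g := by
      intro g hg
      unfold RG at hg
      induction hg using Subgroup.closure_induction with
      | mem y hy =>
        obtain ⟨r, hr, hp, rfl⟩ := hy
        have h41 : 41 ≤ r := by simpa [wsP] using hp
        rw [h.fix r (by omega) hr, mul_inv_cancel_right]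
      | one => simp
      | mul u v _ _ hu hv =>
        have : a * S.φ (u * v) * a⁻¹ = (a * S.φ u * a⁻¹) * (a * S.φ v * a⁻¹) := by rw [map_mul]; group
        rw [this, hu, hv, map_mul]
      | inv u _ hu =>
        have : a * S.φ u⁻¹ * a⁻¹ = (a * S.φ u * a⁻¹)⁻¹ := by rw [map_inv]; group
        rw [this, hu, map_inv]
    exact hww w hw
  have haw' : a * S.φ w = S.φ w * a := by
    calc a * S.φ w = (a * S.φ w * a⁻¹) * a := by group
      _ = S.φ w * a := by rw [haw]
  have hw2 : w * w = 1 := by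
    obtain ⟨c, -, rfl⟩ := exists_code hw
    exact ew_mul_self c
  refine ⟨?_, ?_, ?_, ?_⟩
  · calc S.φ w * a * (S.φ w * a) = S.φ w * (a * S.φ w) * a := by group
      _ = S.φ (w * w) * (a * a) := by rw [haw', map_mul]; group
      _ = 1 := by rw [hw2, map_one, h.aa, one_mul]
  · calc S.φ w * a * S.t * (S.φ w * a)⁻¹ = S.φ w * (a * S.t * a⁻¹) * (S.φ w)⁻¹ := by group
      _ = S.φ w * S.t * (S.φ (x 44) * (S.φ w)⁻¹) := by rw [h.at_]; group
      _ = S.t * S.φ (w * x 44 * w⁻¹) := by rw [S.comm' w, map_mul, map_mul, map_inv]; group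
      _ = S.t * S.φ (x 44) := by rw [hcQ 44 (by norm_num) (by norm_num), mul_inv_cancel_right]
  · intro r h1 h2
    calc S.φ w * a * S.φ (x r) = S.φ w * (a * S.φ (x r)) := by group
      _ = S.φ (w * x r) * a := by rw [h.fix r h1 h2, map_mul]; group
      _ = S.φ (x r) * (S.φ w * a) := by rw [hcQ r h1 h2, map_mul]; group
  · intro g hg
    obtain ⟨v, hv, hv2⟩ := h.mv g hg
    have hn : normB psP wsP = true := by decide +kernel
    refine ⟨w * v * (g * w⁻¹ * g⁻¹), mul_mem (mul_mem hw hv) (conj_mem hn hg (inv_mem hw)), ?_⟩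
    calc S.φ w * a * S.φ g * (S.φ w * a)⁻¹ = S.φ w * (a * S.φ g * a⁻¹) * (S.φ w)⁻¹ := by group
      _ = S.φ (w * (v * g) * w⁻¹) := by rw [hv2, map_mul (S.φ) (w * (v * g)), map_mul S.φ w, map_inv]
      _ = S.φ (w * v * (g * w⁻¹ * g⁻¹) * g) := congrArg S.φ (by group)

/-- **Normalisation.** -/
theorem Pre.split_or_non {S : Std G} {a : G} (h : Pre S a) :
    ∃ w ∈ RG wsP, S.IsSplit (S.φ w * a) ∨ S.IsNon (S.φ w * a) := by
  obtain ⟨A, hA⟩ := h.exists_codes
  obtain ⟨n, hn, hn2⟩ := exists_bits fun c => (A c).testBit 3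
  have hA' := hA.change hn
  have hP := h.change (ew_mem n)
  have hlev : ∀ c ∈ shL, 15 ≤ c ∧ c < 33 := by decide
  have hC : Coc (fun r => A r ^^^ (n ^^^ act r n)) := by
    refine ⟨hA'.lt, fun r s h1 h2 h3 h4 => hA'.rel h1 h2 h3 h4, fun c hc => ?_⟩
    show (A c ^^^ (n ^^^ act c n)).testBit 3 = false
    rw [Nat.testBit_xor, bit3 n hn c hc, hn2 c hc, Bool.xor_self]
  refine ⟨ew n, ew_mem n, ?_⟩
  have comm_of : ∀ r, 15 ≤ r → r < 33 → A r ^^^ (n ^^^ act r n) = 0 →
      S.φ (ew n) * a * S.φ (x r) = S.φ (x r) * (S.φ (ew n) * a) := by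
    intro r h1 h2 h3
    have h4 := hA'.eq r h1 h2
    simp only [h3, ew_zero, one_mul] at h4
    calc S.φ (ew n) * a * S.φ (x r) = (S.φ (ew n) * a * S.φ (x r) * (S.φ (ew n) * a)⁻¹) * (S.φ (ew n) * a) := by group
      _ = S.φ (x r) * (S.φ (ew n) * a) := by rw [h4]
  by_cases hb : (A 29 ^^^ (n ^^^ act 29 n)).testBit 6 = true
  · right
    refine ⟨hP.aa, hP.at_, ?_, ?_⟩
    · intro r h1 h2 h3
      by_cases h4 : r < 33
      · exact comm_of r h1 h4 (hC.long_zero h1 h4 h3)
      · exact hP.fix r (by omega) h2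
    · intro p hp
      have key : ∀ p ∈ Std.nsPairs, p.1 ∈ shL ∧ p.2 = 41 + pb p.1 ∧ pb p.1 < 7 := by decide
      obtain ⟨h1, h2, h3⟩ := key p hp
      have h4 := hC.short_val h1
      simp only [hb, if_true] at h4
      have h5 := hA'.eq p.1 (hlev _ h1).1 (hlev _ h1).2
      simp only [h4] at h5
      rw [h5, ew_two_pow h3, ← h2]
      refine congrArg S.φ ?_
      have h6 := conj_root (hlev _ h1).1 (hlev _ h1).2 h3
      rw [← h2] at h6
      have key2 : ∀ c ∈ shL, act c (2 ^ pb c) = 2 ^ pb c := by decide +kernel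
      rw [key2 _ h1, ew_two_pow h3, ← h2] at h6
      calc x p.2 * x p.1 = (x p.1 * x p.2 * (x p.1)⁻¹) * x p.1 := by rw [h6]
        _ = x p.1 * x p.2 := by group
  · left
    refine ⟨hP.aa, hP.at_, ?_⟩
    intro r h1 h2
    by_cases h4 : r < 33
    · apply comm_of r h1 h4
      by_cases h5 : r ∈ shL
      · have h6 := hC.short_val h5
        simp only [hb] at h6
        simpa using h6
      · exact hC.long_zero h1 h4 h5
    · exact hP.fix r (by omega) h2

end Cfsg.Agent.F42.Norm
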