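import Cfsg.Agent.FourTwo.Cent

/-!
# Codes for `W_s` and the certificate for cocycles `P_s → W_s`

`W_s = ⟨x 41, …, x 47⟩` is elementary abelian; `ew c` is the element with code `c < 128` (bit `j` is the root
`41 + j`).  The root elements `x r`, `15 ≤ r < 33`, of the Levi complement act on the codes by `act r`.

A cocycle is given by codes `A r`, `15 ≤ r < 33`; its value on a word `w` has the code `cod A w`, a linear
function of the `126` bits of `A`, with masks `M w k`.  The tables `certZ`, `certE` express that the relations of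
the root elements and six normalising conditions determine `A` up to one bit.
-/

set_option autoImplicit false

namespace Cfsg.Agent.F42.NormCert

open Cfsg.Agent.FourTwo.Base hiding bar bar_lt
open Cfsg.Agent.FourTwo.Comm Cfsg.Agent.FourTwo.Par Cfsg.Agent.FourTwo.Cent Cfsg.Agent.FourTwo.BN

/-! ### codes -/

/-- partial products -/
def el (f : ℕ → Bool) : List ℕ → LL
  | [] => 1
  | j :: l => (if f j then x (41 + j) else 1) * el f l

/-- the element of `W_s` with code `c` -/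
def ew (c : ℕ) : LL := el c.testBit [0, 1, 2, 3, 4, 5, 6]

theorem cmg_W : ∀ i < 7, ∀ j < 7, cmg (41 + i) (41 + j) = [] := by decide +kernel

theorem comm_W {i j : ℕ} (hi : i < 7) (hj : j < 7) : x (41 + i) * x (41 + j) = x (41 + j) * x (41 + i) :=
  comm_one (by omega) (by omega) (by omega) (cmg_W i hi j hj)

theorem sel_comm_el (f g : ℕ → Bool) {j : ℕ} (hj : j < 7) : ∀ l : List ℕ, (∀ i ∈ l, i < 7) →
    (if g j then x (41 + j) else 1) * el f l = el f l * (if g j then x (41 + j) else 1)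
  | [], _ => by simp [el]
  | i :: l, h => by
    have ih := sel_comm_el f g hj l fun k hk => h k (List.mem_cons_of_mem _ hk)
    have hi := h i List.mem_cons_self
    have h1 : (if g j then x (41 + j) else 1) * (if f i then x (41 + i) else 1) =
        (if f i then x (41 + i) else 1) * (if g j then x (41 + j) else 1) := by
      cases f i <;> cases g j <;> simp [comm_W hj hi]
    show _ * (_ * el f l) = (_ * el f l) * _
    rw [← mul_assoc, h1, mul_assoc, ih, mul_assoc]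

theorem el_mul (f g : ℕ → Bool) : ∀ l : List ℕ, (∀ i ∈ l, i < 7) →
    el f l * el g l = el (fun i => xor (f i) (g i)) l
  | [], _ => by simp [el]
  | i :: l, h => by
    have hl : ∀ k ∈ l, k < 7 := fun k hk => h k (List.mem_cons_of_mem _ hk)
    have ih := el_mul f g l hl
    have hi := h i List.mem_cons_self
    have h1 := sel_comm_el f g hi l hl
    show (_ * el f l) * (_ * el g l) = _ * el _ l
    rw [mul_assoc, ← mul_assoc (el f l), ← h1, mul_assoc, ih, ← mul_assoc]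
    have h2 : (if f i then x (41 + i) else 1) * (if g i then x (41 + i) else 1) =
        if xor (f i) (g i) then x (41 + i) else 1 := by
      cases f i <;> cases g i <;> simp [x_mul_self]
    rw [h2]

theorem ew_xor (a b : ℕ) : ew (a ^^^ b) = ew a * ew b := by
  unfold ew
  rw [el_mul _ _ _ (by decide)]
  congr 1
  funext i
  exact Nat.testBit_xor ..

theorem ew_zero : ew 0 = 1 := by simp [ew, el]

theorem ew_mul_self (a : ℕ) : ew a * ew a = 1 := by rw [← ew_xor, Nat.xor_self, ew_zero]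

theorem ew_inv (a : ℕ) : (ew a)⁻¹ = ew a := by rw [inv_eq_iff_mul_eq_one, ew_mul_self]

theorem ew_comm (a b : ℕ) : ew a * ew b = ew b * ew a := by rw [← ew_xor, ← ew_xor, Nat.xor_comm]

theorem ew_two_pow {j : ℕ} (hj : j < 7) : ew (2 ^ j) = x (41 + j) := by
  unfold ew
  simp only [el, Nat.testBit_two_pow]
  interval_cases j <;> simp

theorem ew_eq_wd (c : ℕ) : ew c = wd ([41, 42, 43, 44, 45, 46, 47].filter fun r => c.testBit (r - 41)) := by
  unfold ew
  simp only [el]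
  have key : ∀ (b : Bool) (r : ℕ) (l : List ℕ), (if b then x r else 1) * wd l = wd (if b then r :: l else l) := by
    intro b r l
    cases b
    · simp
    · simp [wd_cons]
  simp only [List.filter_cons, List.filter_nil]
  have h0 : (1 : LL) = wd [] := rfl
  rw [h0]
  simp only [← key]
  norm_num

theorem ew_inj {a b : ℕ} (ha : a < 128) (hb : b < 128) (h : ew a = ew b) : a = b := by
  rw [ew_eq_wd, ew_eq_wd] at h
  have h1 := nf_unique (by decide) (by decide) h
  apply Nat.eq_of_testBit_eq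
  intro i
  by_cases hi : i < 7
  · have := h1 (41 + i) (by simp; omega)
    simpa using this
  · rw [Nat.testBit_lt_two_pow (lt_of_lt_of_le ha (by
        calc (128 : ℕ) = 2 ^ 7 := by norm_num
          _ ≤ 2 ^ i := Nat.pow_le_pow_right (by norm_num) (by omega))),
      Nat.testBit_lt_two_pow (lt_of_lt_of_le hb (by
        calc (128 : ℕ) = 2 ^ 7 := by norm_num
          _ ≤ 2 ^ i := Nat.pow_le_pow_right (by norm_num) (by omega)))]

/-- `W_s` -/
def wsP (r : ℕ) : Bool := decide (41 ≤ r)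

theorem ew_mem (c : ℕ) : ew c ∈ RG wsP := by
  rw [ew_eq_wd]
  refine wd_mem_RG fun r hr => ?_
  have h := (List.mem_filter.1 hr).1
  simp only [List.mem_cons, List.not_mem_nil, or_false] at h
  rcases h with rfl | rfl | rfl | rfl | rfl | rfl | rfl <;> exact ⟨by norm_num, by decide⟩

theorem xor_lt {a b : ℕ} (ha : a < 128) (hb : b < 128) : a ^^^ b < 128 :=
  Nat.xor_lt_two_pow (n := 7) ha hb

theorem exists_code {g : LL} (hg : g ∈ RG wsP) : ∃ c < 128, g = ew c := by
  unfold RG at hg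
  induction hg using Subgroup.closure_induction with
  | mem y hy =>
    obtain ⟨r, hr, hp, rfl⟩ := hy
    have h41 : 41 ≤ r := by simpa [wsP] using hp
    refine ⟨2 ^ (r - 41), ?_, ?_⟩
    · calc 2 ^ (r - 41) < 2 ^ 7 := Nat.pow_lt_pow_right (by norm_num) (by omega)
        _ = 128 := by norm_num
    · rw [ew_two_pow (by omega)]
      congr 1
      omega
  | one => exact ⟨0, by norm_num, ew_zero.symm⟩
  | mul a b _ _ ha hb =>
    obtain ⟨c, hc, rfl⟩ := ha
    obtain ⟨d, hd, rfl⟩ := hb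
    exact ⟨c ^^^ d, xor_lt hc hd, (ew_xor c d).symm⟩
  | inv a _ ha =>
    obtain ⟨c, hc, rfl⟩ := ha
    exact ⟨c, hc, ew_inv c⟩

/-! ### the action of the Levi root elements -/

/-- entry `r - 15`: the pairs `(j, k)` such that `x (41 + k)` occurs in the commutator of `x r` and `x (41 + j)` -/
def tab : List (List (ℕ × ℕ)) := [[(5, 0), (6, 1)], [(4, 0), (6, 2)], [(4, 1), (5, 2)], [(6, 3), (6, 0)],
  [(5, 3), (5, 1)], [(4, 3), (4, 2)], [(2, 0), (6, 4)], [(2, 1), (5, 4)], [(1, 0), (6, 5)], [(0, 1), (5, 6)],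
  [(1, 2), (4, 5)], [(0, 2), (4, 6)], [(2, 3), (2, 4)], [(1, 3), (1, 5)], [(0, 3), (0, 6)], [(1, 4), (2, 5)],
  [(0, 4), (2, 6)], [(0, 5), (1, 6)]]

/-- the pairs of `r` -/
def pr (r : ℕ) : List (ℕ × ℕ) := tab.getD (r - 15) []

/-- action of a list of pairs -/
def actL : List (ℕ × ℕ) → ℕ → ℕ
  | [], c => c
  | p :: l, c => actL l c ^^^ (if c.testBit p.1 then 2 ^ p.2 else 0)

/-- the action of `x r` on codes -/
def act (r c : ℕ) : ℕ := actL (pr r) c

theorem ite_xor (a b : Bool) (n : ℕ) :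
    (if (xor a b) then n else 0) = (if a then n else 0) ^^^ (if b then n else 0) := by
  cases a <;> cases b <;> simp

theorem actL_xor (l : List (ℕ × ℕ)) (a b : ℕ) : actL l (a ^^^ b) = actL l a ^^^ actL l b := by
  induction l with
  | nil => rfl
  | cons p l ih =>
    show actL l (a ^^^ b) ^^^ _ = (actL l a ^^^ _) ^^^ (actL l b ^^^ _)
    rw [ih, Nat.testBit_xor, ite_xor]
    generalize actL l a = u
    generalize actL l b = v
    generalize (if a.testBit p.1 then 2 ^ p.2 else 0) = s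
    generalize (if b.testBit p.1 then 2 ^ p.2 else 0) = t
    ac_rfl

theorem act_xor (r a b : ℕ) : act r (a ^^^ b) = act r a ^^^ act r b := actL_xor _ a b

theorem actL_lt (l : List (ℕ × ℕ)) (hl : ∀ p ∈ l, p.2 < 7) {c : ℕ} (hc : c < 128) : actL l c < 128 := by
  induction l with
  | nil => exact hc
  | cons p l ih =>
    refine xor_lt (ih fun q hq => hl q (List.mem_cons_of_mem _ hq)) ?_
    have : 2 ^ p.2 < 128 := by
      calc 2 ^ p.2 < 2 ^ 7 := Nat.pow_lt_pow_right (by norm_num) (hl p List.mem_cons_self)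
        _ = 128 := by norm_num
    split
    · exact this
    · norm_num

theorem tab_ok : (tab.all fun l => l.all fun p => decide (p.1 < 7) && decide (p.2 < 7)) = true := by decide

theorem pr_ok {r : ℕ} {p : ℕ × ℕ} (hp : p ∈ pr r) : p.1 < 7 ∧ p.2 < 7 := by
  have h := tab_ok
  rw [List.all_eq_true] at h
  unfold pr at hp
  rcases lt_or_ge (r - 15) tab.length with h1 | h1
  · rw [List.getD_eq_getElem _ _ h1] at hp
    have h2 := h _ (List.getElem_mem h1)
    rw [List.all_eq_true] at h2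
    simpa using h2 p hp
  · rw [List.getD_eq_default _ _ h1] at hp
    simp at hp

theorem act_lt (r : ℕ) {c : ℕ} (hc : c < 128) : act r c < 128 := actL_lt _ (fun _ hp => (pr_ok hp).2) hc

theorem wd_ew : ∀ l : List ℕ, (∀ t ∈ l, 41 ≤ t ∧ t < 48) → wd l = ew (l.foldr (fun t c => 2 ^ (t - 41) ^^^ c) 0)
  | [], _ => by simp [ew_zero]
  | t :: l, h => by
    have h1 := h t List.mem_cons_self
    rw [wd_cons, wd_ew l fun s hs => h s (List.mem_cons_of_mem _ hs), List.foldr_cons, ew_xor,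
      ew_two_pow (by omega)]
    congr 2
    omega

theorem act_tab : ((List.range 18).all fun r => (List.range 7).all fun j =>
    ((cmg (15 + r) (41 + j)).all fun t => decide (41 ≤ t) && decide (t < 48)) &&
    (2 ^ j ^^^ (cmg (15 + r) (41 + j)).foldr (fun t c => 2 ^ (t - 41) ^^^ c) 0 == act (15 + r) (2 ^ j))) = true := by
  decide +kernel

theorem conj_root {r j : ℕ} (hr : 15 ≤ r) (hr' : r < 33) (hj : j < 7) :
    x r * x (41 + j) * (x r)⁻¹ = ew (act r (2 ^ j)) := by
  have h := act_tab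
  rw [List.all_eq_true] at h
  have h1 := h (r - 15) (List.mem_range.2 (by omega))
  rw [List.all_eq_true] at h1
  have h2 := h1 j (List.mem_range.2 hj)
  rw [show 15 + (r - 15) = r by omega] at h2
  rw [Bool.and_eq_true, List.all_eq_true, beq_iff_eq] at h2
  rw [conj_x (by omega) (by omega) (by omega) (by omega), ← h2.2, ew_xor, ew_two_pow hj, wd_ew]
  intro t ht
  simpa using h2.1 t ht

/-- partial codes -/
def part (c : ℕ) : List ℕ → ℕ
  | [] => 0
  | j :: l => (if c.testBit j then 2 ^ j else 0) ^^^ part c l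

theorem part_eq : ∀ c < 128, part c [0, 1, 2, 3, 4, 5, 6] = c := by decide +kernel

theorem act_zero : ∀ r : ℕ, act r 0 = 0 := by
  intro r
  unfold act
  induction pr r with
  | nil => rfl
  | cons p l ih => simp [actL, ih]

theorem conj_el {r : ℕ} (hr : 15 ≤ r) (hr' : r < 33) (c : ℕ) : ∀ l : List ℕ, (∀ j ∈ l, j < 7) →
    x r * el c.testBit l * (x r)⁻¹ = ew (act r (part c l))
  | [], _ => by simp [el, part, act_zero, ew_zero]
  | j :: l, h => by
    have ih := conj_el hr hr' c l fun k hk => h k (List.mem_cons_of_mem _ hk)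
    have hj := h j List.mem_cons_self
    show x r * ((if c.testBit j then x (41 + j) else 1) * el c.testBit l) * (x r)⁻¹ =
      ew (act r ((if c.testBit j then 2 ^ j else 0) ^^^ part c l))
    rw [act_xor, ew_xor, ← ih]
    cases c.testBit j
    · simp [act_zero, ew_zero]
    · simp only [if_true]
      rw [← conj_root hr hr' hj]
      group

theorem conj_ew {r : ℕ} (hr : 15 ≤ r) (hr' : r < 33) {c : ℕ} (hc : c < 128) :
    x r * ew c * (x r)⁻¹ = ew (act r c) := by
  unfold ew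
  rw [conj_el hr hr' c _ (by decide), part_eq c hc]
  rfl

/-! ### cocycles -/

/-- the code of the value on a word -/
def cod (A : ℕ → ℕ) : List ℕ → ℕ
  | [] => 0
  | r :: w => A r ^^^ act r (cod A w)

/-- the masks -/
def M : List ℕ → ℕ → ℕ
  | [], _ => 0
  | r :: w, k => 2 ^ (7 * (r - 15) + k) ^^^ (pr r).foldr (fun p acc => if p.2 = k then acc ^^^ M w p.1 else acc) (M w k)

/-- the bit of `A` with number `i` -/
def bt (A : ℕ → ℕ) (i : ℕ) : Bool := (A (15 + i / 7)).testBit (i % 7)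

/-- scalar product with a mask -/
def dot (A : ℕ → ℕ) (m : ℕ) : List ℕ → Bool
  | [] => false
  | i :: l => xor (m.testBit i && bt A i) (dot A m l)

theorem dot_xor (A : ℕ → ℕ) (m m' : ℕ) : ∀ l : List ℕ, dot A (m ^^^ m') l = xor (dot A m l) (dot A m' l)
  | [] => rfl
  | i :: l => by
    show xor ((m ^^^ m').testBit i && bt A i) (dot A (m ^^^ m') l) = _
    rw [dot_xor A m m' l, Nat.testBit_xor]
    show _ = xor (xor (m.testBit i && bt A i) (dot A m l)) (xor (m'.testBit i && bt A i) (dot A m' l))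
    cases m.testBit i <;> cases m'.testBit i <;> cases bt A i <;> cases dot A m l <;> cases dot A m' l <;> rfl

theorem dot_zero (A : ℕ → ℕ) : ∀ l : List ℕ, dot A 0 l = false
  | [] => rfl
  | i :: l => by
    show xor ((0 : ℕ).testBit i && bt A i) (dot A 0 l) = false
    rw [dot_zero A l, Nat.zero_testBit]
    rfl

theorem dot_single_not_mem (A : ℕ → ℕ) (i : ℕ) : ∀ l : List ℕ, i ∉ l → dot A (2 ^ i) l = false
  | [], _ => rfl
  | j :: l, h => by
    have h1 : i ≠ j := fun e => h (e ▸ List.mem_cons_self)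
    show xor ((2 ^ i).testBit j && bt A j) (dot A (2 ^ i) l) = false
    rw [dot_single_not_mem A i l fun hm => h (List.mem_cons_of_mem _ hm), Nat.testBit_two_pow]
    simp [h1]

theorem dot_single (A : ℕ → ℕ) (i : ℕ) : ∀ l : List ℕ, l.Nodup → i ∈ l → dot A (2 ^ i) l = bt A i
  | [], _, h => by simp at h
  | j :: l, hn, h => by
    rw [List.nodup_cons] at hn
    show xor ((2 ^ i).testBit j && bt A j) (dot A (2 ^ i) l) = bt A i
    rw [Nat.testBit_two_pow]
    by_cases e : i = j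
    · subst e
      rw [dot_single_not_mem A i l hn.1]
      simp
    · rw [dot_single A i l hn.2 ((List.mem_cons.1 h).resolve_left e)]
      simp [e]

/-- the 126 bits -/
def idx : List ℕ := List.range 126

theorem dot_mem {A : ℕ → ℕ} {i : ℕ} (hi : i < 126) : dot A (2 ^ i) idx = bt A i :=
  dot_single A i idx List.nodup_range (List.mem_range.2 hi)

theorem testBit_actL (A : ℕ → ℕ) (m : ℕ → ℕ) (c : ℕ) (hm : ∀ k < 7, c.testBit k = dot A (m k) idx) {k : ℕ} (hk : k < 7) :
    ∀ l : List (ℕ × ℕ), (∀ p ∈ l, p.1 < 7) →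
    (actL l c).testBit k = dot A (l.foldr (fun p acc => if p.2 = k then acc ^^^ m p.1 else acc) (m k)) idx
  | [], _ => hm k hk
  | p :: l, h => by
    have ih := testBit_actL A m c hm hk l fun q hq => h q (List.mem_cons_of_mem _ hq)
    have hp := h p List.mem_cons_self
    show (actL l c ^^^ (if c.testBit p.1 then 2 ^ p.2 else 0)).testBit k = _
    rw [Nat.testBit_xor, ih, List.foldr_cons]
    by_cases e : p.2 = k
    · rw [if_pos e, dot_xor, ← hm p.1 hp, e]
      cases c.testBit p.1 <;> simp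
    · rw [if_neg e]
      cases c.testBit p.1 <;> simp [e]

theorem cod_testBit (A : ℕ → ℕ) : ∀ w : List ℕ, (∀ r ∈ w, 15 ≤ r ∧ r < 33) → ∀ k < 7,
    (cod A w).testBit k = dot A (M w k) idx
  | [], _, k, _ => by simp [cod, M, dot_zero]
  | r :: w, h, k, hk => by
    have ih := cod_testBit A w fun s hs => h s (List.mem_cons_of_mem _ hs)
    have hr := h r List.mem_cons_self
    show (A r ^^^ act r (cod A w)).testBit k = dot A (2 ^ (7 * (r - 15) + k) ^^^ _) idx
    rw [dot_xor, dot_mem (by omega), Nat.testBit_xor]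
    unfold act
    rw [testBit_actL A (M w) (cod A w) ih hk (pr r) fun p hp => (pr_ok hp).1]
    congr 1
    unfold bt
    have e1 : 15 + (7 * (r - 15) + k) / 7 = r := by omega
    have e2 : (7 * (r - 15) + k) % 7 = k := by omega
    rw [e1, e2]

/-! ### relations -/

/-- the relation of `x r`, `x s` -/
def rel (r s : ℕ) : List ℕ × List ℕ :=
  if r = s then ([r, r], []) else if r + s = 47 then ([r, s, r], [s, r, s]) else ([r, s], s :: (cmg r s ++ [r]))

theorem rel_ok {r s : ℕ} (hr : r < 48) (hs : s < 48) : wd (rel r s).1 = wd (rel r s).2 := by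
  unfold rel
  by_cases h1 : r = s
  · rw [if_pos h1]
    show wd [r, r] = wd []
    rw [wd_cons, wd_one, wd_nil, x_mul_self]
  · rw [if_neg h1]
    by_cases h2 : r + s = 47
    · rw [if_pos h2]
      have e : s = 47 - r := by omega
      subst e
      show wd [r, 47 - r, r] = wd [47 - r, r, 47 - r]
      rw [wd_cons, wd_cons, wd_one, wd_cons, wd_cons, wd_one, ← mul_assoc, ← mul_assoc]
      exact opp_all hr
    · rw [if_neg h2]
      show wd [r, s] = wd (s :: (cmg r s ++ [r]))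
      rw [wd_cons, wd_one, wd_cons, wd_append, wd_one, ← mul_assoc]
      exact comm_all hr hs h1 h2

theorem lev_tab : ((List.range 18).all fun r => (List.range 18).all fun s =>
    (rel (15 + r) (15 + s)).1.all (fun t => decide (15 ≤ t) && decide (t < 33)) &&
    (rel (15 + r) (15 + s)).2.all (fun t => decide (15 ≤ t) && decide (t < 33))) = true := by decide +kernel

theorem rel_lev {r s : ℕ} (hr : 15 ≤ r) (hr' : r < 33) (hs : 15 ≤ s) (hs' : s < 33) :
    (∀ t ∈ (rel r s).1, 15 ≤ t ∧ t < 33) ∧ ∀ t ∈ (rel r s).2, 15 ≤ t ∧ t < 33 := by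
  have h := lev_tab
  rw [List.all_eq_true] at h
  have h1 := h (r - 15) (List.mem_range.2 (by omega))
  rw [List.all_eq_true] at h1
  have h2 := h1 (s - 15) (List.mem_range.2 (by omega))
  rw [show 15 + (r - 15) = r by omega, show 15 + (s - 15) = s by omega] at h2
  rw [Bool.and_eq_true, List.all_eq_true, List.all_eq_true] at h2
  exact ⟨fun t ht => by simpa using h2.1 t ht, fun t ht => by simpa using h2.2 t ht⟩

/-- the mask of an equation -/
def eqm (p : ℕ × ℕ × ℕ) : ℕ := M (rel p.1 p.2.1).1 p.2.2 ^^^ M (rel p.1 p.2.1).2 p.2.2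

/-- the sum of masks -/
def tot (l : List (ℕ × ℕ × ℕ)) (n : List ℕ) : ℕ :=
  l.foldr (fun p acc => eqm p ^^^ acc) (n.foldr (fun c acc => 2 ^ (7 * (c - 15) + 3) ^^^ acc) 0)

/-- the short roots of the Levi complement -/
def shL : List ℕ := [18, 19, 20, 27, 28, 29]

/-- the bit of the centre `x_{s + c}` of the transvection `x c` -/
def pb (c : ℕ) : ℕ := if c < 24 then c - 18 else c - 23

/-- the bit of `x_{s - c}` -/
def qb (c : ℕ) : ℕ := if c < 24 then 24 - c else 29 - c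

/-- certificates: bit `k` of `A r` vanishes -/
def certZ : List (ℕ × ℕ × List (ℕ × ℕ × ℕ) × List ℕ) := [
  (15, 0, [(15, 15, 0), (15, 17, 0), (15, 22, 0), (15, 26, 2), (15, 27, 0), (15, 29, 4), (15, 31, 3), (16, 19, 0), (16, 24, 0), (17, 27, 2), (17, 27, 3)], [19]),
  (15, 1, [(15, 21, 1), (15, 27, 1), (15, 27, 3), (15, 30, 3), (16, 22, 1), (16, 27, 2), (16, 27, 3)], [18]),
  (15, 2, [(15, 27, 3)], []),
  (15, 3, [(16, 22, 3)], []),
  (15, 4, [(15, 20, 2)], []),
  (15, 5, [(15, 15, 0)], []),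
  (15, 6, [(15, 15, 1)], []),
  (16, 0, [(15, 25, 4), (15, 26, 4), (15, 29, 4), (16, 19, 0), (16, 24, 0), (16, 24, 1), (16, 25, 0), (16, 28, 0), (16, 32, 3), (17, 28, 1), (17, 28, 3)], [20]),
  (16, 1, [(15, 15, 1), (15, 16, 1), (15, 25, 2), (15, 27, 3), (16, 22, 1)], []),
  (16, 2, [(15, 16, 1), (15, 21, 1), (15, 27, 1), (15, 30, 3), (16, 27, 2), (16, 27, 3)], [18]),
  (16, 3, [(15, 25, 3)], []),
  (16, 4, [(15, 25, 4)], []),
  (16, 5, [(15, 16, 0), (15, 20, 2)], []),
  (16, 6, [(15, 16, 1)], []),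
  (17, 0, [(15, 29, 4), (16, 19, 0), (16, 24, 0)], []),
  (17, 1, [(15, 26, 4), (16, 25, 0), (16, 28, 0), (16, 32, 3), (17, 28, 1), (17, 28, 3)], [20]),
  (17, 2, [(15, 17, 0), (15, 22, 0), (15, 27, 0), (15, 31, 3), (17, 27, 2), (17, 27, 3)], [19]),
  (17, 3, [(15, 26, 3)], []),
  (17, 4, [(15, 26, 4)], []),
  (17, 5, [(15, 17, 0)], []),
  (17, 6, [(15, 17, 1), (15, 20, 2)], []),
  (18, 1, [(15, 15, 1), (15, 16, 1), (15, 27, 3), (15, 30, 4), (16, 21, 0), (16, 22, 1), (16, 27, 1)], []),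
  (18, 2, [(15, 27, 1), (15, 30, 2), (16, 27, 2)], []),
  (18, 3, [], [18]),
  (18, 4, [(15, 16, 1), (16, 18, 0)], []),
  (18, 5, [(15, 15, 1), (15, 18, 0)], []),
  (18, 6, [(15, 18, 1)], []),
  (19, 0, [(15, 15, 0), (15, 16, 0), (15, 20, 2), (15, 31, 4), (16, 22, 0), (17, 27, 0)], []),
  (19, 2, [(15, 27, 0), (15, 31, 2), (17, 27, 2)], []),
  (19, 3, [], [19]),
  (19, 4, [(16, 19, 0)], []),
  (19, 5, [(15, 19, 0)], []),
  (19, 6, [(15, 15, 0), (15, 19, 1)], []),
  (20, 0, [(15, 20, 2), (15, 32, 4), (16, 32, 0), (17, 28, 0)], []),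
  (20, 1, [(16, 28, 0), (16, 32, 1), (17, 28, 1)], []),
  (20, 3, [], [20]),
  (20, 4, [(16, 20, 0)], []),
  (20, 5, [(15, 20, 0)], []),
  (20, 6, [(15, 20, 1)], []),
  (21, 0, [(15, 15, 0), (15, 16, 0), (15, 17, 0), (15, 18, 1), (15, 20, 2), (15, 21, 1), (15, 22, 0), (15, 26, 2), (15, 27, 1), (15, 29, 4), (15, 30, 3), (15, 31, 1), (15, 31, 4), (16, 19, 0), (16, 22, 0), (16, 22, 1), (16, 24, 0), (16, 27, 0), (16, 27, 2), (17, 27, 0), (17, 27, 1), (18, 24, 1), (18, 31, 3)], [27]),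
  (21, 1, [(15, 15, 1), (15, 16, 1), (15, 27, 3), (15, 30, 4), (16, 21, 0), (16, 22, 1)], []),
  (21, 2, [(15, 30, 2)], []),
  (21, 3, [(15, 30, 3)], []),
  (21, 4, [(15, 16, 1), (15, 21, 1), (15, 27, 1), (15, 30, 3), (16, 21, 0), (16, 27, 2), (16, 27, 3)], [18]),
  (21, 5, [(15, 21, 0), (15, 27, 3)], []),
  (21, 6, [(15, 21, 1)], []),
  (22, 0, [(15, 15, 0), (15, 16, 0), (15, 20, 2), (15, 31, 4), (16, 22, 0)], []),
  (22, 1, [(15, 27, 1), (15, 27, 3), (15, 30, 3), (15, 31, 1), (16, 27, 2), (18, 31, 3)], [27]),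
  (22, 2, [(15, 31, 2)], []),
  (22, 3, [(15, 31, 3)], []),
  (22, 4, [(15, 15, 0), (15, 16, 0), (15, 17, 0), (15, 20, 2), (15, 22, 0), (15, 26, 2), (15, 27, 0), (15, 29, 4), (15, 31, 3), (16, 19, 0), (16, 22, 0), (16, 24, 0), (17, 27, 2), (17, 27, 3)], [19]),
  (22, 5, [(15, 22, 0)], []),
  (22, 6, [(15, 22, 1), (15, 27, 3)], []),
  (23, 0, [(15, 15, 1), (15, 18, 1), (15, 20, 2), (15, 21, 1), (15, 25, 2), (15, 26, 4), (15, 27, 1), (15, 27, 3), (15, 28, 0), (15, 28, 3), (15, 29, 4), (15, 30, 3), (15, 32, 4), (16, 19, 0), (16, 22, 1), (16, 24, 0), (16, 24, 1), (16, 25, 0), (16, 27, 2), (16, 27, 3), (16, 32, 0), (16, 32, 2), (17, 28, 0), (17, 28, 2), (18, 26, 2), (18, 32, 3)], [28]),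
  (23, 1, [(15, 15, 1), (15, 16, 1), (15, 18, 0), (15, 23, 0), (15, 27, 3), (15, 28, 5), (15, 30, 4), (16, 21, 0), (16, 22, 1), (16, 27, 1)], []),
  (23, 2, [(15, 27, 1), (15, 28, 2), (15, 30, 2), (16, 27, 2)], []),
  (23, 3, [(15, 15, 1), (15, 18, 0), (15, 21, 1), (15, 23, 0), (15, 23, 1), (15, 27, 1), (15, 27, 3), (15, 28, 3), (15, 28, 5), (15, 30, 3), (16, 22, 1), (16, 27, 2), (16, 27, 3)], []),
  (23, 4, [(15, 16, 1), (15, 28, 4), (16, 18, 0)], []),
  (23, 5, [(15, 21, 1), (15, 23, 0), (15, 27, 1), (15, 27, 3), (15, 30, 3), (16, 22, 1), (16, 27, 2), (16, 27, 3)], [18]),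
  (23, 6, [(15, 23, 1)], []),
  (24, 0, [(15, 15, 0), (15, 16, 0), (15, 19, 1), (15, 20, 2), (15, 24, 1), (15, 29, 6), (15, 31, 4), (16, 22, 0), (17, 27, 0)], []),
  (24, 1, [(15, 15, 0), (15, 16, 0), (15, 18, 1), (15, 20, 2), (15, 21, 1), (15, 24, 0), (15, 27, 1), (15, 27, 3), (15, 29, 1), (15, 30, 3), (15, 31, 4), (16, 22, 0), (16, 22, 1), (16, 27, 2), (16, 27, 3), (17, 27, 0), (18, 24, 1), (18, 29, 0), (18, 29, 3)], [29]),
  (24, 2, [(15, 27, 0), (15, 29, 2), (15, 31, 2), (17, 27, 2)], []),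
  (24, 3, [(15, 17, 0), (15, 19, 1), (15, 22, 0), (15, 24, 0), (15, 24, 1), (15, 26, 2), (15, 27, 0), (15, 29, 3), (15, 29, 4), (15, 29, 6), (15, 31, 3), (16, 19, 0), (16, 24, 0), (17, 27, 2), (17, 27, 3)], []),
  (24, 4, [(15, 29, 4), (16, 19, 0)], []),
  (24, 5, [(15, 24, 0)], []),
  (24, 6, [(15, 15, 0), (15, 17, 0), (15, 22, 0), (15, 24, 1), (15, 26, 2), (15, 27, 0), (15, 29, 4), (15, 31, 3), (16, 19, 0), (16, 24, 0), (17, 27, 2), (17, 27, 3)], [19]),
  (25, 0, [(15, 20, 2), (15, 32, 4), (16, 32, 0)], []),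
  (25, 1, [(16, 32, 1)], []),
  (25, 2, [(15, 16, 1), (15, 21, 1), (15, 23, 1), (15, 25, 2), (15, 27, 1), (15, 28, 3), (15, 30, 3), (16, 27, 2), (16, 27, 3), (16, 32, 2), (18, 32, 3)], [28]),
  (25, 3, [(16, 32, 3)], []),
  (25, 4, [(16, 25, 0)], []),
  (25, 5, [(15, 20, 2), (15, 25, 0), (15, 25, 4), (15, 26, 4), (15, 29, 4), (16, 19, 0), (16, 24, 0), (16, 24, 1), (16, 25, 0), (16, 28, 0), (16, 32, 3), (17, 28, 1), (17, 28, 3)], [20]),
  (25, 6, [(15, 15, 1), (15, 16, 1), (15, 25, 1), (15, 25, 2), (15, 27, 3), (16, 22, 1)], []),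
  (26, 0, [(15, 20, 1), (15, 26, 1), (15, 29, 4), (15, 32, 4), (16, 19, 0), (16, 24, 0), (16, 24, 1), (16, 29, 6), (16, 32, 0), (17, 28, 0)], []),
  (26, 1, [(16, 28, 0), (16, 29, 1), (16, 32, 1), (17, 28, 1)], []),
  (26, 2, [(15, 16, 1), (15, 18, 1), (15, 20, 2), (15, 21, 1), (15, 27, 1), (15, 30, 3), (15, 32, 4), (16, 26, 0), (16, 27, 2), (16, 27, 3), (16, 29, 2), (16, 32, 0), (17, 28, 0), (18, 26, 2), (18, 29, 0), (18, 29, 3)], [29]),
  (26, 3, [(15, 20, 1), (15, 20, 2), (15, 26, 1), (15, 26, 4), (16, 25, 0), (16, 26, 0), (16, 28, 0), (16, 29, 3), (16, 29, 6), (16, 32, 3), (17, 28, 1), (17, 28, 3)], []),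
  (26, 4, [(16, 26, 0)], []),
  (26, 5, [(15, 26, 0), (15, 29, 4), (16, 19, 0), (16, 24, 0)], []),
  (26, 6, [(15, 20, 2), (15, 26, 1), (15, 26, 4), (16, 25, 0), (16, 28, 0), (16, 32, 3), (17, 28, 1), (17, 28, 3)], [20]),
  (27, 0, [(15, 15, 0), (15, 16, 0), (15, 17, 0), (15, 18, 1), (15, 20, 2), (15, 21, 1), (15, 22, 0), (15, 26, 2), (15, 27, 1), (15, 29, 4), (15, 30, 2), (15, 31, 1), (15, 31, 4), (16, 19, 0), (16, 22, 0), (16, 22, 1), (16, 24, 0), (16, 27, 0), (16, 27, 2), (17, 27, 0), (17, 27, 1), (18, 24, 1), (18, 31, 0)], []),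
  (27, 1, [(15, 15, 1), (15, 16, 1), (15, 27, 3), (15, 30, 4), (16, 21, 0), (16, 22, 1), (18, 31, 1)], []),
  (27, 2, [(15, 30, 2), (18, 31, 2)], []),
  (27, 3, [], [27]),
  (27, 5, [(15, 27, 0)], []),
  (27, 6, [(15, 27, 1)], []),
  (28, 0, [(15, 15, 1), (15, 16, 1), (15, 18, 1), (15, 20, 2), (15, 23, 1), (15, 25, 2), (15, 26, 4), (15, 27, 3), (15, 28, 0), (15, 29, 4), (15, 30, 4), (15, 32, 4), (16, 19, 0), (16, 21, 0), (16, 22, 1), (16, 24, 0), (16, 24, 1), (16, 25, 0), (16, 27, 1), (16, 32, 0), (16, 32, 2), (17, 28, 0), (17, 28, 2), (18, 26, 2), (18, 32, 0)], []),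
  (28, 1, [(15, 15, 1), (15, 16, 1), (15, 18, 0), (15, 23, 0), (15, 27, 3), (15, 28, 5), (15, 30, 4), (16, 21, 0), (16, 22, 1), (16, 27, 1), (18, 32, 1)], []),
  (28, 2, [(15, 27, 1), (15, 28, 2), (15, 30, 2), (16, 27, 2), (18, 32, 2)], []),
  (28, 3, [], [28]),
  (28, 4, [(16, 28, 0)], []),
  (28, 6, [(15, 18, 0), (15, 23, 0), (15, 28, 1), (15, 28, 5)], []),
  (29, 0, [(15, 18, 1), (18, 29, 0)], []),
  (29, 1, [(15, 15, 1), (15, 16, 1), (15, 27, 3), (15, 30, 4), (16, 21, 0), (16, 22, 1), (16, 27, 1), (18, 29, 1)], []),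
  (29, 2, [(15, 27, 1), (15, 30, 2), (16, 27, 2), (18, 29, 2)], []),
  (29, 3, [], [29]),
  (29, 4, [(15, 20, 1), (15, 20, 2), (15, 26, 1), (15, 29, 4), (16, 19, 0), (16, 24, 0), (16, 24, 1), (16, 29, 0), (16, 29, 6)], []),
  (29, 5, [(15, 19, 1), (15, 24, 1), (15, 29, 0), (15, 29, 6)], []),
  (30, 0, [(15, 29, 4), (16, 19, 0), (16, 24, 0), (17, 30, 0)], []),
  (30, 1, [(15, 26, 4), (17, 30, 1)], []),
  (30, 2, [(15, 17, 0), (17, 30, 2)], []),
  (30, 3, [(15, 26, 3), (17, 30, 3)], []),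
  (30, 4, [(15, 16, 1), (15, 18, 1), (15, 20, 2), (15, 21, 1), (15, 26, 4), (15, 27, 1), (15, 28, 0), (15, 28, 3), (15, 29, 4), (15, 30, 3), (15, 32, 4), (16, 19, 0), (16, 24, 0), (16, 24, 1), (16, 25, 0), (16, 27, 2), (16, 27, 3), (16, 30, 0), (16, 32, 0), (16, 32, 2), (17, 28, 0), (17, 28, 2), (18, 26, 2), (18, 32, 3)], [28]),
  (30, 5, [(15, 15, 0), (15, 16, 0), (15, 17, 0), (15, 18, 1), (15, 20, 2), (15, 21, 1), (15, 22, 0), (15, 26, 2), (15, 27, 1), (15, 27, 3), (15, 29, 4), (15, 30, 0), (15, 30, 3), (15, 31, 1), (15, 31, 4), (16, 19, 0), (16, 22, 0), (16, 22, 1), (16, 24, 0), (16, 27, 0), (16, 27, 2), (17, 27, 0), (17, 27, 1), (18, 24, 1), (18, 31, 3)], [27]),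
  (30, 6, [(15, 15, 1), (15, 16, 1), (15, 27, 3), (15, 30, 1), (15, 30, 4), (16, 21, 0), (16, 22, 1)], []),
  (31, 0, [(15, 25, 4), (16, 31, 0)], []),
  (31, 1, [(15, 15, 1), (15, 16, 1), (15, 25, 2), (15, 27, 3), (16, 22, 1), (16, 31, 1)], []),
  (31, 2, [(15, 16, 1), (16, 31, 2)], []),
  (31, 3, [(15, 25, 3), (16, 31, 3)], []),
  (31, 4, [(15, 15, 0), (15, 16, 0), (15, 18, 1), (15, 20, 2), (15, 21, 1), (15, 24, 0), (15, 27, 1), (15, 27, 3), (15, 29, 1), (15, 29, 4), (15, 30, 3), (15, 31, 4), (16, 19, 0), (16, 22, 0), (16, 22, 1), (16, 24, 0), (16, 27, 2), (16, 27, 3), (17, 27, 0), (17, 31, 1), (18, 24, 1), (18, 29, 0), (18, 29, 3)], [29]),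
  (31, 5, [(15, 15, 0), (15, 16, 0), (15, 20, 2), (15, 31, 0), (15, 31, 4), (16, 22, 0)], []),
  (31, 6, [(15, 27, 1), (15, 30, 3), (16, 27, 2), (18, 31, 3)], [27]),
  (32, 0, [(15, 15, 0), (15, 32, 0)], []),
  (32, 1, [(15, 15, 1), (15, 32, 1)], []),
  (32, 2, [(15, 27, 3), (15, 32, 2)], []),
  (32, 3, [(15, 32, 3), (16, 22, 3)], []),
  (32, 4, [(15, 20, 2), (15, 32, 4)], []),
  (32, 5, [(15, 16, 1), (15, 18, 1), (15, 20, 2), (15, 21, 1), (15, 27, 1), (15, 29, 4), (15, 30, 3), (15, 32, 4), (16, 19, 0), (16, 24, 0), (16, 26, 0), (16, 27, 2), (16, 27, 3), (16, 29, 2), (16, 32, 0), (17, 28, 0), (17, 32, 2), (18, 26, 2), (18, 29, 0), (18, 29, 3)], [29]),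
  (32, 6, [(15, 15, 1), (15, 21, 1), (15, 23, 1), (15, 27, 1), (15, 27, 3), (15, 28, 3), (15, 30, 3), (16, 22, 1), (16, 27, 2), (16, 27, 3), (18, 32, 3)], [28])]

/-- certificates: bit `k` of `A r` is bit `6` of `A 29` -/
def certE : List (ℕ × ℕ × List (ℕ × ℕ × ℕ) × List ℕ) := [
  (18, 0, [(18, 29, 0), (18, 29, 3)], [29, 18]),
  (19, 1, [(15, 15, 0), (15, 16, 0), (15, 17, 0), (15, 18, 1), (15, 20, 2), (15, 21, 1), (15, 22, 0), (15, 26, 2), (15, 27, 0), (15, 27, 1), (15, 27, 3), (15, 29, 4), (15, 30, 3), (15, 31, 3), (15, 31, 4), (16, 19, 0), (16, 22, 0), (16, 22, 1), (16, 24, 0), (16, 27, 2), (16, 27, 3), (17, 27, 0), (17, 27, 2), (17, 27, 3), (18, 24, 1), (18, 29, 0), (18, 29, 3)], [29, 19]),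
  (20, 2, [(15, 16, 1), (15, 18, 1), (15, 20, 2), (15, 21, 1), (15, 26, 4), (15, 27, 1), (15, 29, 4), (15, 30, 3), (15, 32, 4), (16, 19, 0), (16, 24, 0), (16, 24, 1), (16, 25, 0), (16, 27, 2), (16, 27, 3), (16, 28, 0), (16, 32, 0), (16, 32, 3), (17, 28, 0), (17, 28, 1), (17, 28, 3), (18, 26, 2), (18, 29, 0), (18, 29, 3)], [29, 20]),
  (27, 4, [(15, 15, 0), (15, 16, 0), (15, 17, 0), (15, 18, 1), (15, 20, 2), (15, 21, 1), (15, 22, 0), (15, 26, 2), (15, 29, 4), (15, 31, 1), (15, 31, 4), (16, 19, 0), (16, 22, 0), (16, 22, 1), (16, 24, 0), (16, 27, 3), (17, 27, 0), (17, 27, 1), (18, 24, 1), (18, 29, 0), (18, 29, 3), (18, 31, 3)], [27, 29]),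
  (28, 5, [(15, 18, 1), (15, 20, 2), (15, 23, 1), (15, 25, 2), (15, 26, 4), (15, 28, 3), (15, 29, 4), (15, 32, 4), (16, 19, 0), (16, 24, 0), (16, 24, 1), (16, 25, 0), (16, 32, 0), (16, 32, 2), (17, 28, 0), (17, 28, 2), (18, 26, 2), (18, 29, 0), (18, 29, 3), (18, 32, 3)], [28, 29])]

/-- the letters of a certificate -/
def okc (l : List (ℕ × ℕ × ℕ)) (n : List ℕ) : Bool :=
  (l.all fun p => decide (15 ≤ p.1) && decide (p.1 < 33) && decide (15 ≤ p.2.1) && decide (p.2.1 < 33) &&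
    decide (p.2.2 < 7)) && n.all fun c => shL.contains c

theorem certZ_ok : (certZ.all fun q => okc q.2.2.1 q.2.2.2 &&
    (2 ^ (7 * (q.1 - 15) + q.2.1) == tot q.2.2.1 q.2.2.2)) = true := by decide +kernel

theorem certE_ok : (certE.all fun q => okc q.2.2.1 q.2.2.2 &&
    (2 ^ (7 * (q.1 - 15) + q.2.1) ^^^ 2 ^ 104 == tot q.2.2.1 q.2.2.2)) = true := by decide +kernel

theorem cover : ((List.range 18).all fun r => (List.range 7).all fun k =>
    (shL.contains (15 + r) && k == pb (15 + r)) || certZ.any fun q => q.1 == 15 + r && q.2.1 == k) = true := by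
  decide +kernel

theorem coverE : (shL.all fun c => c == 29 || certE.any fun q => q.1 == c && q.2.1 == pb c) = true := by
  decide +kernel

/-- a cocycle on the root elements of the Levi complement, by codes -/
structure Coc (A : ℕ → ℕ) : Prop where
  lt : ∀ r, 15 ≤ r → r < 33 → A r < 128
  rel : ∀ r s, 15 ≤ r → r < 33 → 15 ≤ s → s < 33 → cod A (rel r s).1 = cod A (rel r s).2
  norm : ∀ c ∈ shL, (A c).testBit 3 = false

namespace Coc

variable {A : ℕ → ℕ} (h : Coc A)
include h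

theorem dot_tot {l : List (ℕ × ℕ × ℕ)} {n : List ℕ} (ho : okc l n = true) : dot A (tot l n) idx = false := by
  unfold okc at ho
  rw [Bool.and_eq_true, List.all_eq_true, List.all_eq_true] at ho
  obtain ⟨h1, h2⟩ := ho
  unfold tot
  have key2 : ∀ n : List ℕ, (∀ c ∈ n, shL.contains c = true) →
      dot A (n.foldr (fun c acc => 2 ^ (7 * (c - 15) + 3) ^^^ acc) 0) idx = false := by
    intro n
    induction n with
    | nil => intro _; exact dot_zero A idx
    | cons c n ih =>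
      intro hc
      rw [List.foldr_cons, dot_xor, ih fun d hd => hc d (List.mem_cons_of_mem _ hd)]
      have hcs : c ∈ shL := by simpa using hc c List.mem_cons_self
      have hb := h.norm c hcs
      have hlt : 15 ≤ c ∧ c < 33 := by
        simp only [shL, List.mem_cons, List.not_mem_nil, or_false] at hcs
        omega
      rw [dot_mem (by omega)]
      unfold bt
      have e1 : 15 + (7 * (c - 15) + 3) / 7 = c := by omega
      have e2 : (7 * (c - 15) + 3) % 7 = 3 := by omega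
      rw [e1, e2, hb]
      rfl
  have key : ∀ l : List (ℕ × ℕ × ℕ), (∀ p ∈ l, (decide (15 ≤ p.1) && decide (p.1 < 33) && decide (15 ≤ p.2.1) &&
      decide (p.2.1 < 33) && decide (p.2.2 < 7)) = true) →
      dot A (l.foldr (fun p acc => eqm p ^^^ acc) (n.foldr (fun c acc => 2 ^ (7 * (c - 15) + 3) ^^^ acc) 0)) idx =
        false := by
    intro l
    induction l with
    | nil => intro _; exact key2 n h2
    | cons p l ih =>
      intro hp
      rw [List.foldr_cons, dot_xor, ih fun q hq => hp q (List.mem_cons_of_mem _ hq)]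
      have h3 := hp p List.mem_cons_self
      simp only [Bool.and_eq_true, decide_eq_true_eq] at h3
      obtain ⟨⟨⟨⟨a1, a2⟩, a3⟩, a4⟩, a5⟩ := h3
      have h4 := rel_lev a1 a2 a3 a4
      have h5 := h.rel p.1 p.2.1 a1 a2 a3 a4
      unfold eqm
      rw [dot_xor, ← cod_testBit A _ h4.1 _ a5, ← cod_testBit A _ h4.2 _ a5, h5, Bool.xor_self]
      rfl
  exact key l h1

theorem bit_zero {r k : ℕ} (hr : 15 ≤ r) (hr' : r < 33) (hk : k < 7) (hs : ¬ (r ∈ shL ∧ k = pb r)) :
    (A r).testBit k = false := by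
  have h1 := cover
  rw [List.all_eq_true] at h1
  have h2 := h1 (r - 15) (List.mem_range.2 (by omega))
  rw [List.all_eq_true] at h2
  have h3 := h2 k (List.mem_range.2 hk)
  rw [show 15 + (r - 15) = r by omega, Bool.or_eq_true] at h3
  rcases h3 with h3 | h3
  · exfalso
    apply hs
    simpa using h3
  · rw [List.any_eq_true] at h3
    obtain ⟨q, hq, h4⟩ := h3
    simp only [Bool.and_eq_true, beq_iff_eq] at h4
    have h5 := certZ_ok
    rw [List.all_eq_true] at h5
    have h6 := h5 q hq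
    rw [Bool.and_eq_true, beq_iff_eq] at h6
    have h7 := h.dot_tot h6.1
    rw [← h6.2, h4.1, h4.2, dot_mem (by omega)] at h7
    unfold bt at h7
    have e1 : 15 + (7 * (r - 15) + k) / 7 = r := by omega
    have e2 : (7 * (r - 15) + k) % 7 = k := by omega
    rwa [e1, e2] at h7

theorem bit_eq {c : ℕ} (hc : c ∈ shL) : (A c).testBit (pb c) = (A 29).testBit 6 := by
  have h1 := coverE
  rw [List.all_eq_true] at h1
  have h2 := h1 c hc
  rw [Bool.or_eq_true, beq_iff_eq] at h2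
  rcases h2 with rfl | h2
  · rfl
  · rw [List.any_eq_true] at h2
    obtain ⟨q, hq, h4⟩ := h2
    simp only [Bool.and_eq_true, beq_iff_eq] at h4
    have h5 := certE_ok
    rw [List.all_eq_true] at h5
    have h6 := h5 q hq
    rw [Bool.and_eq_true, beq_iff_eq] at h6
    have h7 := h.dot_tot h6.1
    have hb : pb c < 7 ∧ 15 ≤ c ∧ c < 33 := by
      simp only [shL, List.mem_cons, List.not_mem_nil, or_false] at hc
      unfold pb
      split <;> omega
    rw [← h6.2, h4.1, h4.2, dot_xor, dot_mem (by omega), dot_mem (by norm_num)] at h7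
    unfold bt at h7
    have e1 : 15 + (7 * (c - 15) + pb c) / 7 = c := by omega
    have e2 : (7 * (c - 15) + pb c) % 7 = pb c := by omega
    rw [e1, e2] at h7
    have h8 : (A 29).testBit 6 = (A (15 + 104 / 7)).testBit (104 % 7) := by norm_num
    rw [h8]
    revert h7
    cases (A c).testBit (pb c) <;> cases (A (15 + 104 / 7)).testBit (104 % 7) <;> simp

theorem testBit_ge {r : ℕ} (hr : 15 ≤ r) (hr' : r < 33) {k : ℕ} (hk : 7 ≤ k) : (A r).testBit k = false :=
  Nat.testBit_lt_two_pow (lt_of_lt_of_le (h.lt r hr hr') (by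
    calc (128 : ℕ) = 2 ^ 7 := by norm_num
      _ ≤ 2 ^ k := Nat.pow_le_pow_right (by norm_num) hk))

/-- the values at the long roots -/
theorem long_zero {r : ℕ} (hr : 15 ≤ r) (hr' : r < 33) (hs : r ∉ shL) : A r = 0 := by
  apply Nat.eq_of_testBit_eq
  intro k
  rw [Nat.zero_testBit]
  by_cases hk : k < 7
  · exact h.bit_zero hr hr' hk fun e => hs e.1
  · exact h.testBit_ge hr hr' (by omega)

/-- the values at the short roots -/
theorem short_val {c : ℕ} (hc : c ∈ shL) : A c = if (A 29).testBit 6 then 2 ^ pb c else 0 := by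
  have hb : pb c < 7 ∧ 15 ≤ c ∧ c < 33 := by
    simp only [shL, List.mem_cons, List.not_mem_nil, or_false] at hc
    unfold pb
    split <;> omega
  apply Nat.eq_of_testBit_eq
  intro k
  have h1 := h.bit_eq hc
  by_cases hk : k < 7
  · by_cases e : k = pb c
    · subst e
      rw [h1]
      cases (A 29).testBit 6 <;> simp
    · rw [h.bit_zero hb.2.1 hb.2.2 hk fun e' => e e'.2]
      cases (A 29).testBit 6
      · simp
      · simp only [if_true, Nat.testBit_two_pow]
        simp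
        omega
  · rw [h.testBit_ge hb.2.1 hb.2.2 (by omega)]
    cases (A 29).testBit 6
    · simp
    · simp only [if_true, Nat.testBit_two_pow]
      simp
      omega

end Coc

end Cfsg.Agent.F42.NormCert
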