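import Cfsg.Agent.FourTwo.ZTwo
import Cfsg.Agent.FourTwo.Perf

/-!
# The pattern `{z_c}` dies

`φ : LL →* G` injective, `t` an involution commuting with `φ`, `t ∉ φ(LL)`, `n` normalises `S₀ = ⟨t⟩ × φ(U)` and
`n t n⁻¹ = t φ(z_c)`, `z_c = x 47 * x 44`. Then `t` is conjugate to `t φ(x 47)` (`ty_long`) and to `t φ(x 44)` (`ty_short`).

Proof: `F u` = the `U`-component of `n φ(u) n⁻¹`. `F (x 47)` is central in `U`, not `1`, and not `z_c` by
`ZTwo.cen_c`, so it is `z_l` or `z_s`. If it is `z_l`: `F (x 46) ∈ x 46 Z(U)`, and `t φ(x 46) ≁ t` gives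
`F (x 46) ∈ x 46 {z_s, z_c}`, so `[F (x 45), U] = ⟨z_l, x 46 z_s⟩`, contradicting `ZTwo.cen_l'`. Same if it is `z_s`.
-/

set_option autoImplicit false

namespace Cfsg.Agent.F42.PatC

open Cfsg.Agent.FourTwo Cfsg.Agent.FourTwo.Base Cfsg.Agent.FourTwo.BN Cfsg.Agent.FourTwo.Comm
open Cfsg.Agent.FourTwo.ZTwo

/-! ### facts on `LL` -/

/-- a set of codes stable under conjugation by the 24 generators is stable under `U` -/
theorem orbit {S : List ℕ} (h : (S.all fun e => (List.range 24).all fun j =>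
    S.contains (UCode.conjU (2 ^ j) e % 2 ^ 24)) = true) {u : LL} (hu : u ∈ U) :
    ∀ e ∈ S, ∃ e' ∈ S, u * Classes.ec e * u⁻¹ = Classes.ec e' := by
  have key : ∀ r, 24 ≤ r → r < 48 → ∀ e ∈ S, ∃ e' ∈ S, x r * Classes.ec e * (x r)⁻¹ = Classes.ec e' := by
    intro r h1 h2 e he
    rw [List.all_eq_true] at h
    have h3 := h e he
    rw [List.all_eq_true] at h3
    have h4 := h3 (r - 24) (List.mem_range.2 (by omega))
    rw [List.contains_iff_mem] at h4
    refine ⟨_, h4, ?_⟩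
    rw [Classes.x_eq_ec h1 h2, ← Classes.ec_conjU]
    apply Subtype.ext
    rw [Classes.coe_ec, Classes.coe_ec, UMod.mod_24, Nat.mod_mod]
  rw [U_eq_closure] at hu
  refine Subgroup.closure_induction_left
    (p := fun (u : LL) _ => ∀ e ∈ S, ∃ e' ∈ S, u * Classes.ec e * u⁻¹ = Classes.ec e') ?_ ?_ ?_ hu
  · intro e he
    exact ⟨e, he, by rw [one_mul, inv_one, mul_one]⟩
  · rintro _ ⟨r, h1, h2, rfl⟩ y - ih e he
    obtain ⟨e', he', h3⟩ := ih e he
    obtain ⟨e'', he'', h4⟩ := key r h1 h2 e' he'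
    refine ⟨e'', he'', ?_⟩
    rw [← h4, ← h3]
    group
  · rintro _ ⟨r, h1, h2, rfl⟩ y - ih e he
    obtain ⟨e', he', h3⟩ := ih e he
    obtain ⟨e'', he'', h4⟩ := key r h1 h2 e' he'
    refine ⟨e'', he'', ?_⟩
    rw [← h4, ← h3, Base.x_inv]
    simp only [mul_inv_rev, Base.x_inv]
    simp only [mul_assoc]

theorem ec_16 {r : ℕ} (h : 24 ≤ r) (h' : r < 48) (e : ℕ) (he : 2 ^ (r - 24) = e) : x r = Classes.ec e := by
  rw [Classes.x_eq_ec h h', he]

theorem central_44 {u : LL} (hu : u ∈ U) : u * x 44 * u⁻¹ = x 44 := by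
  obtain ⟨e, he, h⟩ := orbit (S := [1048576]) (by decide +kernel) hu 1048576 (List.mem_singleton.2 rfl)
  rw [List.mem_singleton] at he
  rw [ec_16 (by omega) (by omega) 1048576 (by norm_num), h, he]

theorem central_47 {u : LL} (hu : u ∈ U) : u * x 47 * u⁻¹ = x 47 := by
  obtain ⟨e, he, h⟩ := orbit (S := [8388608]) (by decide +kernel) hu 8388608 (List.mem_singleton.2 rfl)
  rw [List.mem_singleton] at he
  rw [ec_16 (by omega) (by omega) 8388608 (by norm_num), h, he]

theorem central_zc {u : LL} (hu : u ∈ U) : u * (x 47 * x 44) * u⁻¹ = x 47 * x 44 := by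
  have e : u * (x 47 * x 44) * u⁻¹ = (u * x 47 * u⁻¹) * (u * x 44 * u⁻¹) := by group
  rw [e, central_47 hu, central_44 hu]

theorem zU_central {z : LL} (hz : ZU z) {u : LL} (hu : u ∈ U) : u * z * u⁻¹ = z := by
  rcases hz with rfl | rfl | rfl | rfl
  · rw [mul_one, mul_inv_cancel]
  · exact central_44 hu
  · exact central_47 hu
  · exact central_zc hu

/-- `[x 46, U] ≤ ⟨z_l⟩` -/
theorem conj_46 {u : LL} (hu : u ∈ U) : u * x 46 * u⁻¹ = x 46 ∨ u * x 46 * u⁻¹ = x 46 * x 47 := by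
  obtain ⟨e, he, h⟩ := orbit (S := [4194304, 12582912]) (by decide +kernel) hu 4194304 (by simp)
  rw [ec_46, h]
  simp only [List.mem_cons, List.not_mem_nil, or_false] at he
  rcases he with rfl | rfl
  · exact Or.inl rfl
  · right
    rw [Classes.ec47]
    exact ec_4 _ _ _ (by decide +kernel)

/-- `[x 45, U] ≤ ⟨z_l, x 46⟩` -/
theorem conj_45 {u : LL} (hu : u ∈ U) : u * x 45 * u⁻¹ = x 45 ∨ u * x 45 * u⁻¹ = x 45 * x 47 ∨
    u * x 45 * u⁻¹ = x 45 * x 46 ∨ u * x 45 * u⁻¹ = x 45 * (x 46 * x 47) := by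
  obtain ⟨e, he, h⟩ := orbit (S := [2097152, 10485760, 6291456, 14680064]) (by decide +kernel) hu 2097152 (by simp)
  rw [ec_16 (r := 45) (by omega) (by omega) 2097152 (by norm_num), h]
  simp only [List.mem_cons, List.not_mem_nil, or_false] at he
  rcases he with rfl | rfl | rfl | rfl
  · exact Or.inl rfl
  · right; left
    rw [Classes.ec47]
    exact ec_4 _ _ _ (by decide +kernel)
  · right; right; left
    rw [ec_46]
    exact ec_4 _ _ _ (by decide +kernel)
  · right; right; right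
    rw [ec_46, Classes.ec47, ← ec_4 4194304 8388608 12582912 (by decide +kernel)]
    exact ec_4 _ _ _ (by decide +kernel)

theorem rel_24 : x 24 * x 46 * (x 24)⁻¹ = x 46 * x 47 := by
  have h : wd [24, 46, 24] = wd [46, 47] := wd_eq _ _ (by decide +kernel)
  rw [wd_cons, wd_cons, wd_one, wd_cons, wd_one] at h
  rw [Base.x_inv, mul_assoc, h]

theorem rel_25 : x 25 * x 45 * (x 25)⁻¹ = x 45 * x 46 := by
  have h : wd [25, 45, 25] = wd [45, 46] := wd_eq _ _ (by decide +kernel)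
  rw [wd_cons, wd_cons, wd_one, wd_cons, wd_one] at h
  rw [Base.x_inv, mul_assoc, h]

/-- `z_c ~ x 46 z_s` -/
theorem conj_a : n 3 * (x 47 * x 44) * (n 3)⁻¹ = x 46 * x 44 := by
  have h : wd [24, 23, 24, 47, 44] = wd [46, 44, 24, 23, 24] := wd_eq _ _ (by decide +kernel)
  have e0 : n 3 = wd [24, 23, 24] := n_eq_wd 3
  have e1 : wd [24, 23, 24, 47, 44] = n 3 * (x 47 * x 44) := by
    rw [e0, show ([24, 23, 24, 47, 44] : List ℕ) = [24, 23, 24] ++ [47, 44] from rfl, wd_append, wd_cons 47, wd_one]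
  have e2 : wd [46, 44, 24, 23, 24] = x 46 * x 44 * n 3 := by
    rw [e0, show ([46, 44, 24, 23, 24] : List ℕ) = [46, 44] ++ [24, 23, 24] from rfl, wd_append, wd_cons 46, wd_one]
  rw [← e1, h, e2, mul_inv_cancel_right]

/-- `x 46 z_s ~ x 46 z_c` -/
theorem conj_b : x 24 * (x 46 * x 44) * (x 24)⁻¹ = x 46 * (x 47 * x 44) := by
  have h : wd [24, 46, 44, 24] = wd [46, 47, 44] := wd_eq _ _ (by decide +kernel)
  rw [wd_cons, wd_cons, wd_cons, wd_one, wd_cons, wd_cons, wd_one] at h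
  rw [Base.x_inv, ← h]
  simp only [mul_assoc]

/-- `z_c ~ x 40 z_l` -/
theorem conj_c : n 0 * (x 47 * x 44) * (n 0)⁻¹ = x 40 * x 47 := by
  have h : wd [33, 14, 33, 47, 44] = wd [40, 47, 33, 14, 33] := wd_eq _ _ (by decide +kernel)
  have e0 : n 0 = wd [33, 14, 33] := n_eq_wd 0
  have e1 : wd [33, 14, 33, 47, 44] = n 0 * (x 47 * x 44) := by
    rw [e0, show ([33, 14, 33, 47, 44] : List ℕ) = [33, 14, 33] ++ [47, 44] from rfl, wd_append, wd_cons 47, wd_one]
  have e2 : wd [40, 47, 33, 14, 33] = x 40 * x 47 * n 0 := by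
    rw [e0, show ([40, 47, 33, 14, 33] : List ℕ) = [40, 47] ++ [33, 14, 33] from rfl, wd_append, wd_cons 40, wd_one]
  rw [← e1, h, e2, mul_inv_cancel_right]

/-- `x 40 z_l ~ x 40 z_c` -/
theorem conj_d : x 33 * (x 40 * x 47) * (x 33)⁻¹ = x 40 * (x 47 * x 44) := by
  have h : wd [33, 40, 47, 33] = wd [40, 47, 44] := wd_eq _ _ (by decide +kernel)
  rw [wd_cons, wd_cons, wd_cons, wd_one, wd_cons, wd_cons, wd_one] at h
  rw [Base.x_inv, ← h]
  simp only [mul_assoc]

/-! ### the argument -/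

section

variable {G : Type*} [Group G] {φ : LL →* G} {t n : G}

/-- the two elements `φ u`, `t φ u` of `S₀` over `u` -/
def Pr (φ : LL →* G) (t : G) (g : G) (u : LL) : Prop := g = φ u ∨ g = t * φ u

/-- membership in `S₀ = ⟨t⟩ × φ(U)` -/
def InS (φ : LL →* G) (t : G) (g : G) : Prop := ∃ u ∈ U, Pr φ t g u

variable (hφ : Function.Injective φ) (htt : t * t = 1) (htc : ∀ l, t * φ l = φ l * t) (hne : ∀ l, t ≠ φ l)

include hφ hne in
theorem Pr.unique {g : G} {u v : LL} (h : Pr φ t g u) (h' : Pr φ t g v) : u = v := by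
  rcases h with h | h <;> rcases h' with h' | h'
  · exact hφ (h.symm.trans h')
  · exfalso
    apply hne (u * v⁻¹)
    rw [map_mul, map_inv, ← h, h', mul_inv_cancel_right]
  · exfalso
    apply hne (v * u⁻¹)
    rw [map_mul, map_inv, ← h', h, mul_inv_cancel_right]
  · exact hφ (mul_left_cancel (h.symm.trans h'))

include htt htc in
theorem Pr.mul {g g' : G} {u v : LL} (h : Pr φ t g u) (h' : Pr φ t g' v) : Pr φ t (g * g') (u * v) := by
  rcases h with rfl | rfl <;> rcases h' with rfl | rfl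
  · exact Or.inl (map_mul φ u v).symm
  · right
    rw [map_mul, ← mul_assoc, ← htc, mul_assoc]
  · right
    rw [map_mul, mul_assoc]
  · left
    calc t * φ u * (t * φ v) = t * (φ u * t) * φ v := by simp only [mul_assoc]
      _ = t * (t * φ u) * φ v := by rw [htc]
      _ = (t * t) * (φ u * φ v) := by simp only [mul_assoc]
      _ = φ (u * v) := by rw [htt, one_mul, map_mul]

include htt htc in
theorem Pr.inv {g : G} {u : LL} (h : Pr φ t g u) : Pr φ t g⁻¹ u⁻¹ := by
  have hti : t⁻¹ = t := inv_eq_of_mul_eq_one_left htt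
  rcases h with rfl | rfl
  · exact Or.inl (map_inv φ u).symm
  · right
    rw [mul_inv_rev, hti, ← map_inv, htc]

/-- the data attached to an element normalising `S₀` -/
structure Dat (φ : LL →* G) (t n : G) (F : LL → LL) : Prop where
  memU : ∀ u ∈ U, F u ∈ U
  pr : ∀ u ∈ U, Pr φ t (n * φ u * n⁻¹) (F u)
  mul : ∀ u ∈ U, ∀ v ∈ U, F (u * v) = F u * F v
  inv : ∀ u ∈ U, F u⁻¹ = (F u)⁻¹
  surj : ∀ g ∈ U, ∃ v ∈ U, ∀ w ∈ U, g * w * g⁻¹ = F v * w * (F v)⁻¹

include hφ htt htc hne in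
theorem exists_dat (hn : ∀ g, InS φ t g → InS φ t (n * g * n⁻¹)) (hn' : ∀ g, InS φ t g → InS φ t (n⁻¹ * g * n))
    (hnt : n * t * n⁻¹ = t * φ (x 47 * x 44)) : ∃ F : LL → LL, Dat φ t n F := by
  classical
  have h0 : ∀ u : LL, ∃ v : LL, u ∈ U → v ∈ U ∧ Pr φ t (n * φ u * n⁻¹) v := by
    intro u
    by_cases hu : u ∈ U
    · obtain ⟨v, hv, h⟩ := hn (φ u) ⟨u, hu, Or.inl rfl⟩
      exact ⟨v, fun _ => ⟨hv, h⟩⟩
    · exact ⟨1, fun h => absurd h hu⟩
  choose F hF using h0
  have hmul : ∀ u ∈ U, ∀ v ∈ U, F (u * v) = F u * F v := by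
    intro u hu v hv
    refine Pr.unique hφ hne (hF (u * v) (mul_mem hu hv)).2 ?_
    have h1 := Pr.mul htt htc (hF u hu).2 (hF v hv).2
    have e : n * φ u * n⁻¹ * (n * φ v * n⁻¹) = n * φ (u * v) * n⁻¹ := by rw [map_mul]; group
    rwa [e] at h1
  refine ⟨F, fun u hu => (hF u hu).1, fun u hu => (hF u hu).2, hmul, ?_, ?_⟩
  · intro u hu
    have h1 := hmul u hu u⁻¹ (inv_mem hu)
    have h2 := hmul 1 (one_mem _) 1 (one_mem _)
    rw [mul_one, left_eq_mul] at h2
    rw [mul_inv_cancel, h2] at h1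
    rw [eq_inv_iff_mul_eq_one]
    have h3 := hmul u⁻¹ (inv_mem hu) u hu
    rw [inv_mul_cancel, h2] at h3
    rw [← h3]
  · intro g hg
    obtain ⟨v, hv, h⟩ := hn' (φ g) ⟨g, hg, Or.inl rfl⟩
    refine ⟨v, hv, fun w hw => ?_⟩
    rcases h with h | h
    · have h1 : Pr φ t (n * φ v * n⁻¹) g := by
        left
        rw [← h]
        group
      rw [Pr.unique hφ hne h1 (hF v hv).2]
    · have h2 : φ g = t * φ (x 47 * x 44) * (n * φ v * n⁻¹) := by
        rw [← hnt]
        calc φ g = n * (n⁻¹ * φ g * n) * n⁻¹ := by group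
          _ = n * (t * φ v) * n⁻¹ := by rw [h]
          _ = _ := by group
      have h3 : Pr φ t (t * φ (x 47 * x 44) * (n * φ v * n⁻¹)) (x 47 * x 44 * F v) :=
        Pr.mul htt htc (Or.inr rfl) (hF v hv).2
      have h4 : g = x 47 * x 44 * F v := Pr.unique hφ hne (Or.inl h2.symm) h3
      have h5 := central_zc (mul_mem (mul_mem (hF v hv).1 hw) (inv_mem (hF v hv).1))
      have hc : ∀ u ∈ U, x 47 * x 44 * u * (x 47 * x 44)⁻¹ = u := by
        intro u hu
        have h6 := central_zc hu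
        rw [mul_inv_eq_iff_eq_mul] at h6
        rw [← h6, mul_inv_cancel_right]
      rw [h4]
      have e : x 47 * x 44 * F v * w * (x 47 * x 44 * F v)⁻¹ =
          x 47 * x 44 * (F v * w * (F v)⁻¹) * (x 47 * x 44)⁻¹ := by group
      rw [e, hc _ (mul_mem (mul_mem (hF v hv).1 hw) (inv_mem (hF v hv).1))]

omit hφ hne in
include htt htc in
theorem Pr.comm {g h : G} {u v : LL} (h1 : Pr φ t g u) (h2 : Pr φ t h v) :
    g * h * g⁻¹ * h⁻¹ = φ (u * v * u⁻¹ * v⁻¹) := by
  have hti : t⁻¹ = t := inv_eq_of_mul_eq_one_left htt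
  have hc : ∀ u v : LL, t * φ u * φ v * (t * φ u)⁻¹ = φ (u * v * u⁻¹) := by
    intro u v
    rw [map_mul, map_mul, map_inv, mul_inv_rev, hti]
    calc t * φ u * φ v * ((φ u)⁻¹ * t) = t * (φ u * φ v * (φ u)⁻¹) * t := by group
      _ = t * (φ (u * v * u⁻¹) * t) := by rw [map_mul, map_mul, map_inv]; simp only [mul_assoc]
      _ = t * (t * φ (u * v * u⁻¹)) := by rw [htc]
      _ = _ := by rw [← mul_assoc, htt, one_mul, map_mul, map_mul, map_inv]
  rcases h1 with rfl | rfl <;> rcases h2 with rfl | rfl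
  · simp only [map_mul, map_inv]
  · have e : φ u * (t * φ v) * (φ u)⁻¹ * (t * φ v)⁻¹ = t * (φ (u * v * u⁻¹ * v⁻¹) * t) := by
      simp only [map_mul, map_inv, mul_inv_rev, hti]
      calc φ u * (t * φ v) * (φ u)⁻¹ * ((φ v)⁻¹ * t) = (φ u * t) * φ v * (φ u)⁻¹ * (φ v)⁻¹ * t := by
            simp only [mul_assoc]
        _ = _ := by rw [← htc]; simp only [mul_assoc]
    rw [e, ← htc, ← mul_assoc, htt, one_mul]
  · rw [hc, ← map_inv, ← map_mul]
  · have e : t * φ u * (t * φ v) * (t * φ u)⁻¹ * (t * φ v)⁻¹ =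
        t * φ u * φ v * (t * φ u)⁻¹ * (φ v)⁻¹ := by
      have e1 : t * φ u * (t * φ v) = t * (t * φ u * φ v) := by
        rw [← mul_assoc (t * φ u), mul_assoc t (φ u) t, ← htc]
        simp only [mul_assoc]
      rw [e1, mul_inv_rev (t) (φ v), hti]
      have e2 : t * φ u * φ v * (t * φ u)⁻¹ * (φ v)⁻¹ = φ (u * v * u⁻¹ * v⁻¹) := by
        rw [hc, ← map_inv, ← map_mul]
      calc t * (t * φ u * φ v) * (t * φ u)⁻¹ * ((φ v)⁻¹ * t)
          = t * ((t * φ u * φ v * (t * φ u)⁻¹ * (φ v)⁻¹) * t) := by simp only [mul_assoc]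
        _ = t * (t * (t * φ u * φ v * (t * φ u)⁻¹ * (φ v)⁻¹)) := by rw [e2, ← htc]
        _ = _ := by rw [← mul_assoc, htt, one_mul]
    rw [e, hc, ← map_inv, ← map_mul]

namespace Dat

variable {F : LL → LL} (d : Dat φ t n F)

include d

theorem one : F 1 = 1 := by
  have h2 := d.mul 1 (one_mem _) 1 (one_mem _)
  rwa [mul_one, left_eq_mul] at h2

theorem conj {u v : LL} (hu : u ∈ U) (hv : v ∈ U) : F (v * u * v⁻¹) = F v * F u * (F v)⁻¹ := by
  rw [d.mul _ (mul_mem hv hu) _ (inv_mem hv), d.mul _ hv _ hu, d.inv _ hv]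

/-- conjugates of `F u` in `U` are images of conjugates of `u` -/
theorem exists_conj {u g : LL} (hu : u ∈ U) (hg : g ∈ U) : ∃ v ∈ U, g * F u * g⁻¹ = F (v * u * v⁻¹) := by
  obtain ⟨v, hv, h⟩ := d.surj g hg
  exact ⟨v, hv, by rw [h _ (d.memU u hu), d.conj hu hv]⟩

omit d in
include htt htc in
theorem exact (d : Dat φ t n F) {a b : LL} (ha : a ∈ U) (hb : b ∈ U) :
    n * φ (a * b * a⁻¹ * b⁻¹) * n⁻¹ = φ (F (a * b * a⁻¹ * b⁻¹)) := by
  have h1 := Pr.comm htt htc (d.pr a ha) (d.pr b hb)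
  have e : F (a * b * a⁻¹ * b⁻¹) = F a * F b * (F a)⁻¹ * (F b)⁻¹ := by
    rw [d.mul _ (mul_mem (mul_mem ha hb) (inv_mem ha)) _ (inv_mem hb), d.mul _ (mul_mem ha hb) _ (inv_mem ha),
      d.mul _ ha _ hb, d.inv _ ha, d.inv _ hb]
  rw [e, ← h1]
  simp only [map_mul, map_inv]
  group

end Dat

theorem wd3 (a b c : ℕ) : wd [a, b, c] = x a * (x b * x c) := by rw [wd_cons, wd_cons, wd_one]
theorem wd2 (a b : ℕ) : wd [a, b] = x a * x b := by rw [wd_cons, wd_one]

theorem e4644 : x 46 * x 44 = Classes.ec 5242880 := by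
  rw [ec_46, Classes.ec44]; exact (ec_4 _ _ _ (by decide +kernel)).symm
theorem e4647 : x 46 * x 47 = Classes.ec 12582912 := by
  rw [ec_46, Classes.ec47]; exact (ec_4 _ _ _ (by decide +kernel)).symm
theorem e46c : x 46 * (x 47 * x 44) = Classes.ec 13631488 := by
  rw [ec_46, ← ec_zc]; exact (ec_4 _ _ _ (by decide +kernel)).symm
theorem e4044 : x 40 * x 44 = Classes.ec 1114112 := by
  rw [ec_40, Classes.ec44]; exact (ec_4 _ _ _ (by decide +kernel)).symm
theorem e4047 : x 40 * x 47 = Classes.ec 8454144 := by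
  rw [ec_40, Classes.ec47]; exact (ec_4 _ _ _ (by decide +kernel)).symm
theorem e40c : x 40 * (x 47 * x 44) = Classes.ec 9502720 := by
  rw [ec_40, ← ec_zc]; exact (ec_4 _ _ _ (by decide +kernel)).symm

theorem ec_ne {a b : ℕ} (h : (decide (a < 16777216) && decide (b < 16777216) && !(a == b)) = true) :
    Classes.ec a ≠ Classes.ec b := by
  simp only [Bool.and_eq_true, decide_eq_true_eq, Bool.not_eq_true', beq_eq_false_iff_ne, ne_eq] at h
  intro h1
  exact h.2 (Classes.ec_inj (lt_of_lt_of_eq h.1.1 (by norm_num)) (lt_of_lt_of_eq h.1.2 (by norm_num)) h1)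

theorem m1 : x 46 * x 44 * x 47 = x 46 * (x 47 * x 44) := by
  rw [e4644, e46c, Classes.ec47]; exact (ec_4 _ _ _ (by decide +kernel)).symm
theorem m2 : x 46 * (x 47 * x 44) * x 47 = x 46 * x 44 := by
  rw [e4644, e46c, Classes.ec47]; exact (ec_4 _ _ _ (by decide +kernel)).symm
theorem m3 : x 40 * x 47 * x 44 = x 40 * (x 47 * x 44) := by rw [mul_assoc]
theorem m4 : x 40 * (x 47 * x 44) * x 44 = x 40 * x 47 := by
  rw [e4047, e40c, Classes.ec44]; exact (ec_4 _ _ _ (by decide +kernel)).symm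
theorem m5 : x 47 * x 44 * x 46 = x 46 * (x 47 * x 44) := by
  rw [← ec_zc, ec_46, ← Classes.ec_mulU, ← Classes.ec_mulU]; exact congrArg _ (by decide +kernel)
theorem m6 : x 47 * x 44 * (x 46 * x 47) = x 46 * x 44 := by
  rw [← ec_zc, e4647, e4644, ← Classes.ec_mulU]; exact congrArg _ (by decide +kernel)
theorem m7 : x 47 * x 44 * x 40 = x 40 * (x 47 * x 44) := by
  rw [← ec_zc, ec_40, ← Classes.ec_mulU, ← Classes.ec_mulU]; exact congrArg _ (by decide +kernel)
theorem m8 : x 47 * x 44 * (x 40 * x 44) = x 40 * x 47 := by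
  rw [← ec_zc, e4044, e4047, ← Classes.ec_mulU]; exact congrArg _ (by decide +kernel)

/-- `[x 40, U] ≤ ⟨z_s⟩` -/
theorem conj_40 {u : LL} (hu : u ∈ U) : u * x 40 * u⁻¹ = x 40 ∨ u * x 40 * u⁻¹ = x 40 * x 44 := by
  obtain ⟨e, he, h⟩ := orbit (S := [65536, 1114112]) (by decide +kernel) hu 65536 (by simp)
  rw [e4044, ec_40, h]
  simp only [List.mem_cons, List.not_mem_nil, or_false] at he
  rcases he with rfl | rfl
  · exact Or.inl rfl
  · exact Or.inr rfl

theorem act_mul {u a z c : LL} (ha : u * a * u⁻¹ = a ∨ u * a * u⁻¹ = a * c) (hz : u * z * u⁻¹ = z)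
    (hc : c * z = z * c) : u * (a * z) * u⁻¹ = a * z ∨ u * (a * z) * u⁻¹ = a * z * c := by
  have e : u * (a * z) * u⁻¹ = (u * a * u⁻¹) * (u * z * u⁻¹) := by group
  rw [e, hz]
  rcases ha with ha | ha
  · left; rw [ha]
  · right; rw [ha, mul_assoc, hc, ← mul_assoc]

theorem mem_U_x {r : ℕ} (h : 24 ≤ r) (h' : r < 48) : x r ∈ U := x_mem_U h h'

theorem comm_of_central {z : LL} (hz : z ∈ U) (h : ∀ u ∈ U, u * z * u⁻¹ = z) {c : LL} (hc : c ∈ U) :
    c * z = z * c := by
  have := h c hc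
  rwa [mul_inv_eq_iff_eq_mul] at this

theorem zc_mem : x 47 * x 44 ∈ U := mul_mem (mem_U_x (by omega) (by omega)) (mem_U_x (by omega) (by omega))

theorem zl_act {w : LL} (hw : Zl w) {u : LL} (hu : u ∈ U) : u * w * u⁻¹ = w ∨ u * w * u⁻¹ = w * x 47 := by
  rcases hw with hw | rfl | rfl | rfl | rfl
  · exact Or.inl (zU_central hw hu)
  · exact conj_46 hu
  · exact act_mul (conj_46 hu) (central_44 hu)
      (comm_of_central (mem_U_x (by omega) (by omega)) (fun u hu => central_44 hu) (mem_U_x (by omega) (by omega)))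
  · exact act_mul (conj_46 hu) (central_47 hu) rfl
  · exact act_mul (conj_46 hu) (central_zc hu)
      (comm_of_central zc_mem (fun u hu => central_zc hu) (mem_U_x (by omega) (by omega)))

theorem zs_act {w : LL} (hw : Zs w) {u : LL} (hu : u ∈ U) : u * w * u⁻¹ = w ∨ u * w * u⁻¹ = w * x 44 := by
  rcases hw with hw | rfl | rfl | rfl | rfl
  · exact Or.inl (zU_central hw hu)
  · exact conj_40 hu
  · exact act_mul (conj_40 hu) (central_44 hu) rfl
  · exact act_mul (conj_40 hu) (central_47 hu)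
      (comm_of_central (mem_U_x (by omega) (by omega)) (fun u hu => central_47 hu) (mem_U_x (by omega) (by omega)))
  · exact act_mul (conj_40 hu) (central_zc hu)
      (comm_of_central zc_mem (fun u hu => central_zc hu) (mem_U_x (by omega) (by omega)))

theorem conj_46_47 : Base.n 3 * x 47 * (Base.n 3)⁻¹ = x 46 := by
  have h := n_conj (i := 3) (r := 47) (by omega) (by omega)
  rwa [show ChevalleyStructure.TwF4.Rel.refl 3 47 = 46 by decide] at h

theorem x47_eq : x 24 * x 46 * (x 24)⁻¹ * (x 46)⁻¹ = x 47 := by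
  have h : wd [24, 46, 24, 46] = wd [47] := wd_eq _ _ (by decide +kernel)
  rw [wd_cons, wd_cons, wd_cons, wd_one, wd_one] at h
  rw [Base.x_inv, Base.x_inv, ← h]
  simp only [mul_assoc]

theorem x46_eq : x 25 * x 45 * (x 25)⁻¹ * (x 45)⁻¹ = x 46 := by
  have h : wd [25, 45, 25, 45] = wd [46] := wd_eq _ _ (by decide +kernel)
  rw [wd_cons, wd_cons, wd_cons, wd_one, wd_one] at h
  rw [Base.x_inv, Base.x_inv, ← h]
  simp only [mul_assoc]

omit hφ hne in
include htt htc in
/-- the contradiction of the second step -/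
theorem ty_of_conj {F : LL → LL} (d : Dat φ t n F) (hnt : n * t * n⁻¹ = t * φ (x 47 * x 44)) {l : LL}
    (hl : l * (x 47 * x 44) * l⁻¹ = x 47 * x 44 * F (x 46)) : ∃ g, g * t * g⁻¹ = t * φ (x 47) := by
  have h1 : n * φ (x 46) * n⁻¹ = φ (F (x 46)) := by
    have := Dat.exact htt htc d (mem_U_x (r := 25) (by omega) (by omega)) (mem_U_x (r := 45) (by omega) (by omega))
    rwa [x46_eq] at this
  have h2 : n * (t * φ (x 46)) * n⁻¹ = t * φ (x 47 * x 44 * F (x 46)) := by
    rw [map_mul φ _ (F (x 46)), ← mul_assoc t, ← hnt, ← h1]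
    group
  have tconj : ∀ l a : LL, φ l * (t * φ a) * (φ l)⁻¹ = t * φ (l * a * l⁻¹) := by
    intro l a
    rw [map_mul φ (l * a), map_mul φ l, map_inv, ← mul_assoc (φ l), ← htc]
    simp only [mul_assoc]
  have h3 : φ l * (t * φ (x 47 * x 44)) * (φ l)⁻¹ = t * φ (x 47 * x 44 * F (x 46)) := by
    rw [tconj, hl]
  have h4 : φ (Base.n 3) * (t * φ (x 47)) * (φ (Base.n 3))⁻¹ = t * φ (x 46) := by
    rw [tconj, conj_46_47]
  refine ⟨(φ (Base.n 3))⁻¹ * n⁻¹ * φ l * n, ?_⟩
  calc (φ (Base.n 3))⁻¹ * n⁻¹ * φ l * n * t * ((φ (Base.n 3))⁻¹ * n⁻¹ * φ l * n)⁻¹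
      = (φ (Base.n 3))⁻¹ * (n⁻¹ * (φ l * (n * t * n⁻¹) * (φ l)⁻¹) * n) * φ (Base.n 3) := by group
    _ = (φ (Base.n 3))⁻¹ * (t * φ (x 46)) * φ (Base.n 3) := by
        rw [hnt, h3, ← h2]
        group
    _ = t * φ (x 47) := by
        rw [← h4]
        group

include hφ htt htc hne in
/-- An element of `N_G(S₀)` carrying `t` to `t z_c` forces `t ~ t z_l`. -/
theorem ty_long (hn : ∀ g, InS φ t g → InS φ t (n * g * n⁻¹)) (hn' : ∀ g, InS φ t g → InS φ t (n⁻¹ * g * n))
    (hnt : n * t * n⁻¹ = t * φ (x 47 * x 44)) : ∃ g, g * t * g⁻¹ = t * φ (x 47) := by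
  obtain ⟨F, d⟩ := exists_dat hφ htt htc hne hn hn' hnt
  have u24 : x 24 ∈ U := mem_U_x (by omega) (by omega)
  have u25 : x 25 ∈ U := mem_U_x (by omega) (by omega)
  have u45 : x 45 ∈ U := mem_U_x (by omega) (by omega)
  have u46 : x 46 ∈ U := mem_U_x (by omega) (by omega)
  have u47 : x 47 ∈ U := mem_U_x (by omega) (by omega)
  -- `F (x 47)` is central and not trivial
  have hc : ∀ g ∈ U, g * F (x 47) * g⁻¹ = F (x 47) := by
    intro g hg
    obtain ⟨v, hv, h⟩ := d.exists_conj u47 hg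
    rw [h, central_47 hv]
  have h1 : F (x 47) ≠ 1 := by
    intro h
    have := Dat.exact htt htc d u24 u46
    rw [x47_eq, h, map_one, mul_inv_eq_one, mul_eq_left] at this
    exact x_ne_one (by omega) (hφ (this.trans (map_one φ).symm))
  have h46 : ∀ g ∈ U, g * F (x 46) * g⁻¹ = F (x 46) ∨ g * F (x 46) * g⁻¹ = F (x 46) * F (x 47) := by
    intro g hg
    obtain ⟨v, hv, h⟩ := d.exists_conj u46 hg
    rcases conj_46 hv with h2 | h2
    · left; rw [h, h2]
    · right; rw [h, h2, d.mul _ u46 _ u47]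
  have h24 : F (x 24) * F (x 46) * (F (x 24))⁻¹ = F (x 46) * F (x 47) := by
    rw [← d.conj u46 u24, rel_24, d.mul _ u46 _ u47]
  have hnc : ¬ ZU (F (x 46)) := by
    intro h
    rw [zU_central h (d.memU _ u24), left_eq_mul] at h24
    exact h1 h24
  have h45 : ∀ g ∈ U, g * F (x 45) * g⁻¹ = F (x 45) ∨ g * F (x 45) * g⁻¹ = F (x 45) * F (x 47) ∨
      g * F (x 45) * g⁻¹ = F (x 45) * F (x 46) ∨ g * F (x 45) * g⁻¹ = F (x 45) * (F (x 46) * F (x 47)) := by
    intro g hg
    obtain ⟨v, hv, h⟩ := d.exists_conj u45 hg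
    rcases conj_45 hv with h2 | h2 | h2 | h2
    · left; rw [h, h2]
    · right; left; rw [h, h2, d.mul _ u45 _ u47]
    · right; right; left; rw [h, h2, d.mul _ u45 _ u46]
    · right; right; right; rw [h, h2, d.mul _ u45 _ (mul_mem u46 u47), d.mul _ u46 _ u47]
  have h25 : F (x 25) * F (x 45) * (F (x 25))⁻¹ = F (x 45) * F (x 46) := by
    rw [← d.conj u45 u25, rel_25, d.mul _ u45 _ u46]
  have hz : ZU (F (x 47)) := cen_c (d.memU _ u47) fun g hg => Or.inl (hc g hg)
  rcases hz with hz | hz | hz | hz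
  · exact absurd hz h1
  · -- `F (x 47) = z_s`
    have hZ : Zs (F (x 46)) := cen_s (d.memU _ u46) fun g hg => by
      rcases h46 g hg with h | h
      · exact Or.inl h
      · right; rw [h, hz]
    have fin : ∀ w : LL, F (x 46) = w → w ≠ 1 → w ≠ x 44 → (∀ g ∈ U, g * F (x 45) * g⁻¹ = F (x 45) ∨
        g * F (x 45) * g⁻¹ = F (x 45) * x 44 ∨ g * F (x 45) * g⁻¹ = F (x 45) * (x 40 * x 47) ∨
        g * F (x 45) * g⁻¹ = F (x 45) * (x 40 * (x 47 * x 44))) → False := by
      intro w hw hw1 hw2 h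
      have h2 := zs_act (cen_s' (d.memU _ u45) h) (d.memU _ u25)
      rw [h25] at h2
      rcases h2 with h2 | h2
      · exact hw1 (by rw [← hw]; exact mul_eq_left.1 h2)
      · exact hw2 (by rw [← hw]; exact mul_left_cancel h2)
    rcases hZ with h | h | h | h | h
    · exact absurd h hnc
    · refine ty_of_conj htt htc d hnt (l := x 33 * Base.n 0) ?_
      rw [h, m7, ← conj_d, ← conj_c]
      group
    · refine ty_of_conj htt htc d hnt (l := Base.n 0) ?_
      rw [h, m8, conj_c]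
    · exfalso
      refine fin _ h ?_ ?_ fun g hg => ?_
      · rw [e4047, ← Classes.ec_zero]; exact ec_ne (by decide)
      · rw [e4047, Classes.ec44]; exact ec_ne (by decide)
      · rcases h45 g hg with h2 | h2 | h2 | h2
        · exact Or.inl h2
        · rw [hz] at h2; exact Or.inr (Or.inl h2)
        · rw [h] at h2; exact Or.inr (Or.inr (Or.inl h2))
        · rw [h, hz, m3] at h2; exact Or.inr (Or.inr (Or.inr h2))
    · exfalso
      refine fin _ h ?_ ?_ fun g hg => ?_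
      · rw [e40c, ← Classes.ec_zero]; exact ec_ne (by decide)
      · rw [e40c, Classes.ec44]; exact ec_ne (by decide)
      · rcases h45 g hg with h2 | h2 | h2 | h2
        · exact Or.inl h2
        · rw [hz] at h2; exact Or.inr (Or.inl h2)
        · rw [h] at h2; exact Or.inr (Or.inr (Or.inr h2))
        · rw [h, hz, m4] at h2; exact Or.inr (Or.inr (Or.inl h2))
  · -- `F (x 47) = z_l`
    have hZ : Zl (F (x 46)) := cen_l (d.memU _ u46) fun g hg => by
      rcases h46 g hg with h | h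
      · exact Or.inl h
      · right; rw [h, hz]
    have fin : ∀ w : LL, F (x 46) = w → w ≠ 1 → w ≠ x 47 → (∀ g ∈ U, g * F (x 45) * g⁻¹ = F (x 45) ∨
        g * F (x 45) * g⁻¹ = F (x 45) * x 47 ∨ g * F (x 45) * g⁻¹ = F (x 45) * (x 46 * x 44) ∨
        g * F (x 45) * g⁻¹ = F (x 45) * (x 46 * (x 47 * x 44))) → False := by
      intro w hw hw1 hw2 h
      have h2 := zl_act (cen_l' (d.memU _ u45) h) (d.memU _ u25)
      rw [h25] at h2
      rcases h2 with h2 | h2
      · exact hw1 (by rw [← hw]; exact mul_eq_left.1 h2)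
      · exact hw2 (by rw [← hw]; exact mul_left_cancel h2)
    rcases hZ with h | h | h | h | h
    · exact absurd h hnc
    · refine ty_of_conj htt htc d hnt (l := x 24 * Base.n 3) ?_
      rw [h, m5, ← conj_b, ← conj_a]
      group
    · exfalso
      refine fin _ h ?_ ?_ fun g hg => ?_
      · rw [e4644, ← Classes.ec_zero]; exact ec_ne (by decide)
      · rw [e4644, Classes.ec47]; exact ec_ne (by decide)
      · rcases h45 g hg with h2 | h2 | h2 | h2
        · exact Or.inl h2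
        · rw [hz] at h2; exact Or.inr (Or.inl h2)
        · rw [h] at h2; exact Or.inr (Or.inr (Or.inl h2))
        · rw [h, hz, m1] at h2; exact Or.inr (Or.inr (Or.inr h2))
    · refine ty_of_conj htt htc d hnt (l := Base.n 3) ?_
      rw [h, m6, conj_a]
    · exfalso
      refine fin _ h ?_ ?_ fun g hg => ?_
      · rw [e46c, ← Classes.ec_zero]; exact ec_ne (by decide)
      · rw [e46c, Classes.ec47]; exact ec_ne (by decide)
      · rcases h45 g hg with h2 | h2 | h2 | h2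
        · exact Or.inl h2
        · rw [hz] at h2; exact Or.inr (Or.inl h2)
        · rw [h] at h2; exact Or.inr (Or.inr (Or.inr h2))
        · rw [h, hz, m2] at h2; exact Or.inr (Or.inr (Or.inl h2))
  · -- `F (x 47) = z_c`
    exact absurd (cen_c (d.memU _ u46) fun g hg => by
      rcases h46 g hg with h | h
      · exact Or.inl h
      · right; rw [h, hz]) hnc

end

/-! ### the dual version -/

theorem bar_pos_tab : ((List.range 48).all fun r => decide (24 ≤ r) == decide (24 ≤ Base.bar r)) = true := by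
  decide +kernel

theorem bar_pos {r : ℕ} (h : 24 ≤ r) (h' : r < 48) : 24 ≤ Base.bar r := by
  have h1 := bar_pos_tab
  rw [List.all_eq_true] at h1
  have h2 := h1 r (List.mem_range.2 h')
  simpa [h] using h2

theorem alpha_alpha {α : LL ≃* LL} (hα : ∀ r < 48, α (x r) = x (Base.bar r)) (g : LL) : α (α g) = g := by
  have h : (α.toMonoidHom.comp α.toMonoidHom) = MonoidHom.id LL := by
    apply MonoidHom.eq_of_eqOn_dense closure_x
    rintro _ ⟨r, hr, rfl⟩
    show α (α (x r)) = x r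
    rw [hα r hr, hα _ (Base.bar_lt hr), Base.bar_bar hr]
  exact DFunLike.congr_fun h g

theorem alpha_mem_U {α : LL ≃* LL} (hα : ∀ r < 48, α (x r) = x (Base.bar r)) {u : LL} (hu : u ∈ U) : α u ∈ U := by
  obtain ⟨S, rfl⟩ := exists_nf hu
  have h : ∀ w : List ℕ, (∀ r ∈ w, 24 ≤ r ∧ r < 48) → α (wd w) ∈ U := by
    intro w
    induction w with
    | nil => intro _; rw [wd_nil, map_one]; exact one_mem _
    | cons r w ih =>
      intro h
      have h1 := h r List.mem_cons_self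
      rw [wd_cons, map_mul, hα r h1.2]
      exact mul_mem (x_mem_U (bar_pos h1.1 h1.2) (Base.bar_lt h1.2)) (ih fun s hs => h s (List.mem_cons_of_mem _ hs))
  exact h _ fun r hr => ChevalleyStructure.F4TwU.mem_posList.1 (List.mem_filter.1 hr).1

theorem zc_symm : x 44 * x 47 = x 47 * x 44 := by
  rw [← ec_zc, Classes.ec44, Classes.ec47]; exact (ec_4 _ _ _ (by decide +kernel)).symm

/-- An element of `N_G(S₀)` carrying `t` to `t z_c` forces `t ~ t z_s`. -/
theorem ty_short {G : Type*} [Group G] {φ : LL →* G} {t n : G} (hφ : Function.Injective φ) (htt : t * t = 1)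
    (htc : ∀ l, t * φ l = φ l * t) (hne : ∀ l, t ≠ φ l)
    (hn : ∀ g, InS φ t g → InS φ t (n * g * n⁻¹)) (hn' : ∀ g, InS φ t g → InS φ t (n⁻¹ * g * n))
    (hnt : n * t * n⁻¹ = t * φ (x 47 * x 44)) : ∃ g, g * t * g⁻¹ = t * φ (x 44) := by
  obtain ⟨α, hα⟩ := exists_graph
  have hS : ∀ g, InS (φ.comp α.toMonoidHom) t g ↔ InS φ t g := by
    intro g
    constructor
    · rintro ⟨u, hu, h⟩
      exact ⟨α u, alpha_mem_U hα hu, h⟩
    · rintro ⟨u, hu, h⟩
      refine ⟨α u, alpha_mem_U hα hu, ?_⟩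
      unfold Pr
      show g = φ (α (α u)) ∨ g = t * φ (α (α u))
      rw [alpha_alpha hα]
      exact h
  have b47 : α (x 47) = x 44 := hα 47 (by omega)
  have b44 : α (x 44) = x 47 := hα 44 (by omega)
  obtain ⟨g, hg⟩ := ty_long (φ := φ.comp α.toMonoidHom) (t := t) (n := n)
    (hφ.comp α.injective) htt (fun l => htc _) (fun l => hne _)
    (fun g h => (hS _).2 (hn g ((hS g).1 h))) (fun g h => (hS _).2 (hn' g ((hS g).1 h)))
    (by
      show n * t * n⁻¹ = t * φ (α (x 47 * x 44))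
      rw [map_mul, b47, b44, zc_symm, hnt])
  refine ⟨g, ?_⟩
  rw [hg]
  show t * φ (α (x 47)) = _
  rw [b47]

end Cfsg.Agent.F42.PatC
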