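import Cfsg.Agent.F42.DL
import Cfsg.Agent.F42.GraphRoots
import Cfsg.Agent.F42.PatC
import Cfsg.Agent.F42.Parity
import Cfsg.Agent.FourTwo.Facts2
import Cfsg.Agent.FourTwo.ClassSep

/-!
# A graph automorphism in `C_G(t)`: `t` is conjugate to `t z` by an element commuting with `z`, `z = x 44`, `x 47`
-/

set_option autoImplicit false

namespace Cfsg.Agent.F42.OuterSwap

open Cfsg.Agent.FourTwo Cfsg.Agent.FourTwo.Base Cfsg.Agent.F42.GraphRoots ExtTwo

variable {G : Type*} [Group G]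

section Gen

variable {K : Subgroup G} {t g : G} (tt : t * t = 1) (gt : g * t = t * g) (gg : g * g = 1 ∨ g * g = t)
  (hKt : ∀ c ∈ K, t * c * t⁻¹ ∈ K) (hKg : ∀ c ∈ K, g * c * g⁻¹ ∈ K)

include gg in
omit tt in
theorem gg_mem : g * g ∈ ext K t := by
  rcases gg with h | h
  · rw [h]; exact one_mem _
  · rw [h]; exact self_mem_ext _ _

include gt hKg in
theorem gn : ∀ c ∈ ext K t, g * c * g⁻¹ ∈ ext K t :=
  ext_conj hKg (by rw [gt, mul_inv_cancel_right])

include tt gt gg hKt hKg in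
theorem mem4 {c : G} : c ∈ ext (ext K t) g ↔ (c ∈ K ∨ t * c ∈ K) ∨ (g * c ∈ K ∨ t * g * c ∈ K) := by
  have a1 : t * t ∈ K := by rw [tt]; exact one_mem _
  rw [mem_ext (gn gt hKg) (gg_mem gg), mem_ext hKt a1, mem_ext hKt a1, ← mul_assoc t g c]

include tt gt gg hKt hKg in
theorem ind4 (b1 : t ∉ K) (b2 : g ∉ K) (b3 : t * g ∉ K) : K.relIndex (ext (ext K t) g) = 4 := by
  have a1 : t * t ∈ K := by rw [tt]; exact one_mem _
  have b4 : g ∉ ext K t := by
    rw [mem_ext hKt a1]
    rintro (h | h)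
    · exact b2 h
    · exact b3 h
  have := Subgroup.relIndex_mul_relIndex K (ext K t) (ext (ext K t) g) (le_ext _ _) (le_ext _ _)
  rw [relIndex_ext hKt a1 b1, relIndex_ext (gn gt hKg) (gg_mem gg) b4] at this
  exact this.symm

include tt gt gg hKt hKg in
theorem isPGroup4 (hK : IsPGroup 2 K) : IsPGroup 2 (ext (ext K t) g) := by
  have a1 : t * t ∈ K := by rw [tt]; exact one_mem _
  exact isPGroup_ext (gn gt hKg) (gg_mem gg) (isPGroup_ext hKt a1 hK)

end Gen

variable {S : Std G} {α : LL ≃* LL} {g : G}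

/-- the hypotheses on `g` -/
structure Out (S : Std G) (α : LL ≃* LL) (g : G) : Prop extends GraphEl S α g where
  gL : ∀ l, g ≠ S.φ l
  tgL : ∀ l, S.t * g ≠ S.φ l

namespace Out

variable (h : Out S α g)

include h

theorem g_ne (l : LL) : g ≠ S.t * S.φ l := by
  intro h'
  apply h.tgL l
  rw [h', ← mul_assoc, S.tt, one_mul]

omit h in
theorem tL : ∀ c ∈ S.φ.range, S.t * c * S.t⁻¹ ∈ S.φ.range := by
  rintro _ ⟨l, rfl⟩
  rw [S.comm, mul_inv_cancel_right]
  exact ⟨l, rfl⟩

theorem gLn : ∀ c ∈ S.φ.range, g * c * g⁻¹ ∈ S.φ.range := by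
  rintro _ ⟨l, rfl⟩
  exact ⟨α l, (h.gφ l).symm⟩

omit h in
theorem tU : ∀ c ∈ BN.U.map S.φ, S.t * c * S.t⁻¹ ∈ BN.U.map S.φ := by
  rintro _ ⟨l, hl, rfl⟩
  rw [S.comm, mul_inv_cancel_right]
  exact ⟨l, hl, rfl⟩

theorem gU : ∀ c ∈ BN.U.map S.φ, g * c * g⁻¹ ∈ BN.U.map S.φ := by
  rintro _ ⟨l, hl, rfl⟩
  rw [h.gφ]
  exact ⟨α l, PatC.alpha_mem_U h.hα hl, rfl⟩

/-- `C_G(t)` -/
theorem cent_eq : Subgroup.centralizer ({S.t} : Set G) = ext (ext S.φ.range S.t) g := by
  ext c
  rw [Subgroup.mem_centralizer_singleton_iff, mem4 S.tt h.gt h.gg tL h.gLn]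
  constructor
  · intro hc
    obtain ⟨l, hl | hl | hl | hl⟩ := h.cent c hc
    · exact Or.inl (Or.inl ⟨l, hl.symm⟩)
    · refine Or.inl (Or.inr ⟨l, ?_⟩)
      rw [hl, ← mul_assoc, S.tt, one_mul]
    · rcases h.gg with h' | h'
      · exact Or.inr (Or.inl ⟨l, by rw [hl, ← mul_assoc, h', one_mul]⟩)
      · refine Or.inr (Or.inr ⟨l, ?_⟩)
        rw [hl, mul_assoc, ← mul_assoc g g, h', ← mul_assoc, S.tt, one_mul]
    · have e : S.t * g * c = S.t * S.t * (g * g) * S.φ l := by
        calc S.t * g * c = S.t * (g * S.t) * g * S.φ l := by rw [hl]; group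
          _ = _ := by rw [h.gt]; group
      have e2 : g * c = S.t * (g * g) * S.φ l := by
        calc g * c = (g * S.t) * g * S.φ l := by rw [hl]; group
          _ = _ := by rw [h.gt]; group
      rcases h.gg with h' | h'
      · refine Or.inr (Or.inr ⟨l, ?_⟩)
        rw [e, S.tt, h', one_mul, one_mul]
      · refine Or.inr (Or.inl ⟨l, ?_⟩)
        rw [e2, h', S.tt, one_mul]
  · have hg : g ∈ Subgroup.centralizer ({S.t} : Set G) := Subgroup.mem_centralizer_singleton_iff.2 h.gt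
    have ht : S.t ∈ Subgroup.centralizer ({S.t} : Set G) := Subgroup.mem_centralizer_singleton_iff.2 rfl
    have hL : S.φ.range ≤ Subgroup.centralizer ({S.t} : Set G) := by
      rintro _ ⟨l, rfl⟩
      exact Subgroup.mem_centralizer_singleton_iff.2 (S.comm' l)
    rw [← Subgroup.mem_centralizer_singleton_iff]
    rintro ((h' | h') | (h' | h'))
    · exact hL h'
    · exact (Subgroup.mul_mem_cancel_left _ ht).1 (hL h')
    · exact (Subgroup.mul_mem_cancel_left _ hg).1 (hL h')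
    · exact (Subgroup.mul_mem_cancel_left _ (mul_mem ht hg)).1 (hL h')

/-- the Sylow `2`-subgroup `⟨t, g⟩ U` -/
theorem odd_P : Odd ((ext (ext (BN.U.map S.φ) S.t) g).relIndex (Subgroup.centralizer ({S.t} : Set G))) := by
  have htL : S.t ∉ S.φ.range := fun ⟨l, hl⟩ => S.tne l hl.symm
  have hgL : g ∉ S.φ.range := fun ⟨l, hl⟩ => h.gL l hl.symm
  have htgL : S.t * g ∉ S.φ.range := fun ⟨l, hl⟩ => h.tgL l hl.symm
  have hUL : BN.U.map S.φ ≤ S.φ.range := Subgroup.map_le_range _ _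
  have h1 := ind4 S.tt h.gt h.gg tL h.gLn htL hgL htgL
  have h2 := ind4 S.tt h.gt h.gg tU h.gU (fun h' => htL (hUL h')) (fun h' => hgL (hUL h')) (fun h' => htgL (hUL h'))
  rw [← h.cent_eq] at h1
  have hLM : S.φ.range ≤ Subgroup.centralizer ({S.t} : Set G) := by
    rw [h.cent_eq]; exact (le_ext _ _).trans (le_ext _ _)
  have hPM : ext (ext (BN.U.map S.φ) S.t) g ≤ Subgroup.centralizer ({S.t} : Set G) := by
    refine ext_le (ext_le (hUL.trans hLM) ?_) ?_
    · exact Subgroup.mem_centralizer_singleton_iff.2 rfl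
    · exact Subgroup.mem_centralizer_singleton_iff.2 h.gt
  have h3 := Subgroup.relIndex_mul_relIndex _ _ _ hUL hLM
  have h4 := Subgroup.relIndex_mul_relIndex (BN.U.map S.φ) _ _ ((le_ext _ S.t).trans (le_ext _ g)) hPM
  have h5 : (BN.U.map S.φ).relIndex S.φ.range = BN.U.index := by
    rw [MonoidHom.range_eq_map, Subgroup.relIndex_map_map_of_injective _ _ S.inj, Subgroup.relIndex_top_right]
  rw [h1, h5] at h3
  rw [h2] at h4
  have h6 := Perf.odd_index
  have h7 : (ext (ext (BN.U.map S.φ) S.t) g).relIndex (Subgroup.centralizer ({S.t} : Set G)) = BN.U.index := by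
    omega
  rw [h7]
  exact h6

theorem le_cent : ext (ext (BN.U.map S.φ) S.t) g ≤ Subgroup.centralizer ({S.t} : Set G) := by
  refine ext_le (ext_le ?_ ?_) ?_
  · rintro _ ⟨l, _, rfl⟩
    exact Subgroup.mem_centralizer_singleton_iff.2 (S.comm' l)
  · exact Subgroup.mem_centralizer_singleton_iff.2 rfl
  · exact Subgroup.mem_centralizer_singleton_iff.2 h.gt

/-- `C_G(t)/L` is abelian -/
theorem ab : DL.Ab S := by
  set L := S.φ.range with hL
  set M := Subgroup.centralizer ({S.t} : Set G) with hM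
  have hLM : L ≤ M := by
    rintro _ ⟨l, rfl⟩
    exact Subgroup.mem_centralizer_singleton_iff.2 (S.comm' l)
  have htM : S.t ∈ M := Subgroup.mem_centralizer_singleton_iff.2 rfl
  have hgM : g ∈ M := Subgroup.mem_centralizer_singleton_iff.2 h.gt
  have hN : M ≤ Subgroup.normalizer (L : Set G) := by
    rw [hM, h.cent_eq]
    refine ext_le (ext_le Subgroup.le_normalizer ?_) ?_
    · rw [Subgroup.mem_normalizer_iff]
      intro c
      constructor
      · exact tL c
      · intro hc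
        have := tL _ hc
        have e : S.t * (S.t * c * S.t⁻¹) * S.t⁻¹ = (S.t * S.t) * c * (S.t * S.t)⁻¹ := by group
        rwa [e, S.tt, one_mul, inv_one, mul_one] at this
    · rw [Subgroup.mem_normalizer_iff]
      intro c
      constructor
      · exact h.gLn c
      · intro hc
        obtain ⟨l, hl⟩ := h.gLn _ hc
        have e : g * (g * c * g⁻¹) * g⁻¹ = (g * g) * c * (g * g)⁻¹ := by group
        rw [e] at hl
        rcases h.gg with h' | h'
        · rw [h', one_mul, inv_one, mul_one] at hl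
          exact ⟨l, hl⟩
        · rw [h'] at hl
          refine ⟨l, ?_⟩
          have e2 : c = S.t⁻¹ * (S.t * c * S.t⁻¹) * S.t := by group
          rw [e2, ← hl, S.t_inv, S.comm, mul_assoc, S.tt, mul_one]
  have hX : Subgroup.closure ((L : Set G) ∪ {S.t, g}) ≤ M := by
    rw [Subgroup.closure_le]
    rintro c (hc | hc | hc)
    · exact hLM hc
    · rw [hc]; exact htM
    · rw [Set.mem_singleton_iff] at hc
      rw [hc]; exact hgM
  have hX2 : M ≤ Subgroup.closure ((L : Set G) ∪ {S.t, g}) := by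
    rw [hM, h.cent_eq]
    refine ext_le (ext_le (fun c hc => Subgroup.subset_closure (Or.inl hc)) ?_) ?_
    · exact Subgroup.subset_closure (Or.inr (Or.inl rfl))
    · exact Subgroup.subset_closure (Or.inr (Or.inr rfl))
  have key := Pairs.comm_closure (S := M) (K := L) (X := (L : Set G) ∪ {S.t, g}) (Y := (L : Set G) ∪ {S.t, g})
    (fun s hs n hn => (Subgroup.mem_normalizer_iff.1 (hN hs) n).1 hn) hX hX (by
      have h1 : ∀ y ∈ L, ∀ z ∈ M, y * z * y⁻¹ * z⁻¹ ∈ L := by
        intro y hy z hz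
        have h2 := (Subgroup.mem_normalizer_iff.1 (hN hz) y⁻¹).1 (inv_mem hy)
        have e : y * z * y⁻¹ * z⁻¹ = y * (z * y⁻¹ * z⁻¹) := by group
        rw [e]
        exact mul_mem hy h2
      have h2 : ∀ y ∈ L, ∀ z ∈ M, z * y * z⁻¹ * y⁻¹ ∈ L := by
        intro y hy z hz
        exact mul_mem ((Subgroup.mem_normalizer_iff.1 (hN hz) y).1 hy) (inv_mem hy)
      rintro y (hy | hy | hy) z (hz | hz | hz)
      · exact h1 y hy z (hLM hz)
      · rw [hz]; exact h1 y hy _ htM
      · rw [Set.mem_singleton_iff] at hz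
        rw [hz]; exact h1 y hy _ hgM
      · rw [hy]; exact h2 z hz _ htM
      · rw [hy, hz, mul_inv_cancel_right, mul_inv_cancel]; exact one_mem _
      · rw [Set.mem_singleton_iff] at hz
        rw [hy, hz, ← h.gt, mul_inv_cancel_right, mul_inv_cancel]; exact one_mem _
      · rw [Set.mem_singleton_iff] at hy
        rw [hy]; exact h2 z hz _ hgM
      · rw [Set.mem_singleton_iff] at hy
        rw [hy, hz, h.gt, mul_inv_cancel_right, mul_inv_cancel]; exact one_mem _
      · rw [Set.mem_singleton_iff] at hy hz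
        rw [hy, hz, mul_inv_cancel_right, mul_inv_cancel]; exact one_mem _)
  intro a b ha hb
  obtain ⟨l, hl⟩ := key a (hX2 (Subgroup.mem_centralizer_singleton_iff.2 ha)) b
    (hX2 (Subgroup.mem_centralizer_singleton_iff.2 hb))
  exact ⟨l, hl.symm⟩

/-- elements of `P` -/
theorem mem_P {c : G} (hc : c ∈ ext (ext (BN.U.map S.φ) S.t) g) :
    PatC.InS S.φ S.t c ∨ PatC.InS S.φ S.t (g * c) := by
  rcases (mem4 S.tt h.gt h.gg tU h.gU).1 hc with (⟨u, hu, he⟩ | ⟨u, hu, he⟩) | (⟨u, hu, he⟩ | ⟨u, hu, he⟩)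
  · exact Or.inl ⟨u, hu, Or.inl he.symm⟩
  · refine Or.inl ⟨u, hu, Or.inr ?_⟩
    rw [he, ← mul_assoc, S.tt, one_mul]
  · exact Or.inr ⟨u, hu, Or.inl he.symm⟩
  · refine Or.inr ⟨u, hu, Or.inr ?_⟩
    rw [he, ← mul_assoc, ← mul_assoc, S.tt, one_mul]

omit h in
theorem inS_mem {c : G} (hc : PatC.InS S.φ S.t c) : c ∈ ext (ext (BN.U.map S.φ) S.t) g := by
  obtain ⟨u, hu, rfl | rfl⟩ := hc
  · exact le_ext _ _ (le_ext _ _ ⟨u, hu, rfl⟩)
  · exact mul_mem (le_ext _ _ (self_mem_ext _ _)) (le_ext _ _ (le_ext _ _ ⟨u, hu, rfl⟩))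

/-- an element of `P` commuting with a root element lies in `S₀` -/
theorem inS_of_comm {c : G} (hc : c ∈ ext (ext (BN.U.map S.φ) S.t) g) {r : ℕ} (hr : r < 48)
    (hcr : c * S.φ (x r) = S.φ (x r) * c) : PatC.InS S.φ S.t c := by
  rcases h.mem_P hc with h' | h'
  · exact h'
  · exfalso
    have hct : c * S.t = S.t * c := Subgroup.mem_centralizer_singleton_iff.1 (h.le_cent hc)
    obtain ⟨l, hl⟩ := S.root c hct r hr hcr
    obtain ⟨u, _, hu⟩ := h'
    have e : g = g * c * c⁻¹ := by group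
    rcases hu with hu | hu <;> rcases hl with hl | hl
    · apply h.gL (u * l⁻¹)
      rw [map_mul, map_inv, ← hu, ← hl]; exact e
    · apply h.g_ne (u * l⁻¹)
      rw [map_mul, map_inv, ← hu]
      have e2 : (S.φ l)⁻¹ = c⁻¹ * S.t := by
        rw [hl, mul_inv_rev, inv_mul_cancel_right]
      rw [e2]
      have e3 : S.t * (g * c * (c⁻¹ * S.t)) = S.t * g * S.t := by group
      rw [e3, ← h.gt, mul_assoc, S.tt, mul_one]
    · apply h.g_ne (u * l⁻¹)
      rw [map_mul, map_inv, ← mul_assoc, ← hu, ← hl]; exact e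
    · apply h.gL (u * l⁻¹)
      rw [map_mul, map_inv]
      have e2 : (S.φ l)⁻¹ = c⁻¹ * S.t := by
        rw [hl, mul_inv_rev, inv_mul_cancel_right]
      have e4 : S.φ u = S.t * (g * c) := by rw [hu, ← mul_assoc, S.tt, one_mul]
      rw [e2, e4]
      have e3 : S.t * (g * c) * (c⁻¹ * S.t) = S.t * g * S.t := by group
      rw [e3, ← h.gt, mul_assoc, S.tt, mul_one]

/-- the centre of `P` -/
theorem center_P {c : G} (hc : c ∈ ext (ext (BN.U.map S.φ) S.t) g)
    (hcP : ∀ p ∈ ext (ext (BN.U.map S.φ) S.t) g, p * c = c * p) :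
    c = 1 ∨ c = S.t ∨ c = S.φ (x 47 * x 44) ∨ c = S.t * S.φ (x 47 * x 44) := by
  have hx : ∀ r, 24 ≤ r → r < 48 → S.φ (x r) ∈ ext (ext (BN.U.map S.φ) S.t) g := fun r h1 h2 =>
    le_ext _ _ (le_ext _ _ ⟨_, BN.x_mem_U h1 h2, rfl⟩)
  have h1 : ∀ r, 24 ≤ r → r < 48 → S.φ (x r) * c = c * S.φ (x r) := fun r h1 h2 => hcP _ (hx r h1 h2)
  obtain ⟨u, hu, hcu⟩ := h.inS_of_comm hc (r := 47) (by norm_num) (h1 47 (by norm_num) (by norm_num)).symm
  have h2 : ∀ r, 24 ≤ r → r < 48 → x r * u = u * x r := by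
    intro r hr1 hr2
    apply S.inj
    rw [map_mul, map_mul]
    have := h1 r hr1 hr2
    rcases hcu with rfl | rfl
    · exact this
    · apply mul_left_cancel (a := S.t)
      calc S.t * (S.φ (x r) * S.φ u) = (S.t * S.φ (x r)) * S.φ u := by group
        _ = S.φ (x r) * (S.t * S.φ u) := by rw [S.comm]; group
        _ = _ := by rw [this]; group
  have h3 := Facts.cent_U hu (fun r hr => by
    simp only [List.mem_cons, List.not_mem_nil, or_false] at hr
    rcases hr with rfl | rfl | rfl | rfl <;> exact h2 _ (by norm_num) (by norm_num))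
  have hg : S.φ (α u) = S.φ u := by
    have h4 := hcP g (self_mem_ext _ _)
    rw [← h.gφ]
    rcases hcu with rfl | rfl
    · rw [h4, mul_inv_cancel_right]
    · have h5 : S.t * (g * S.φ u) = S.t * (S.φ u * g) := by
        calc S.t * (g * S.φ u) = (S.t * g) * S.φ u := by group
          _ = g * (S.t * S.φ u) := by rw [← h.gt]; group
          _ = _ := by rw [h4]; group
      rw [mul_left_cancel h5, mul_inv_cancel_right]
  have hα44 : α (x 44) = x 47 := h.hα 44 (by norm_num)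
  have hα47 : α (x 47) = x 44 := h.hα 47 (by norm_num)
  have hne : x 47 ≠ x 44 := fun he => by
    have := BN.x_inj (r := 47) (s := 44) (by norm_num) (by norm_num) he
    omega
  have h6 : u = 1 ∨ u = x 47 * x 44 := by
    rcases h3 with h3 | h3 | h3 | h3
    · exact Or.inl h3
    · exfalso
      have := S.inj hg
      rw [h3, hα44] at this
      exact hne this
    · exfalso
      have := S.inj hg
      rw [h3, hα47] at this
      exact hne this.symm
    · exact Or.inr (by rw [h3, DL.comm_4744])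
  rcases h6 with rfl | rfl
  · rcases hcu with hcu | hcu
    · exact Or.inl (by rw [hcu, map_one])
    · exact Or.inr (Or.inl (by rw [hcu, map_one, mul_one]))
  · rcases hcu with hcu | hcu
    · exact Or.inr (Or.inr (Or.inl hcu))
    · exact Or.inr (Or.inr (Or.inr hcu))

/-- parity: `t z_c` is conjugate to `t` -/
theorem isConj_tc [Finite G] [IsSimpleGroup G] (hG : ¬ ∀ a b : G, a * b = b * a) :
    ∃ k, k * S.t * k⁻¹ = S.t * S.φ (x 47 * x 44) := by
  have hP2 : IsPGroup 2 (ext (ext (BN.U.map S.φ) S.t) g) := by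
    refine isPGroup4 S.tt h.gt h.gg tU h.gU ?_
    have h1 : IsPGroup 2 BN.U := Classes.isPGroup_UL
    exact h1.map _
  have htL : S.t ∉ S.φ.range := fun ⟨l, hl⟩ => S.tne l hl.symm
  have h1 := Parity.even_cen_of_comm hG S.tt (M := Subgroup.centralizer ({S.t} : Set G)) (L := S.φ.range) rfl
    (fun a ha b hb => by
      obtain ⟨l, hl⟩ := h.ab a b (Subgroup.mem_centralizer_singleton_iff.1 ha) (Subgroup.mem_centralizer_singleton_iff.1 hb)
      exact ⟨l, hl.symm⟩) htL hP2 h.le_cent h.odd_P (fun u hu huP hup => by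
      rcases h.center_P huP hup with rfl | rfl | rfl | rfl
      · exfalso
        obtain ⟨k, hk⟩ := isConj_iff.1 hu
        apply S.t_ne_one
        rw [mul_inv_eq_one, mul_eq_left] at hk
        exact hk
      · exact ⟨1, by rw [S.tt, map_one]⟩
      · exfalso
        obtain ⟨k, hk⟩ := isConj_iff.1 hu
        exact DL.ne_c h.ab k hk
      · refine ⟨x 47 * x 44, ?_⟩
        rw [S.comm, mul_assoc, S.tt, mul_one])
  by_contra hne
  push Not at hne
  have h2 : Parity.Cen S.t (ext (ext (BN.U.map S.φ) S.t) g) = {S.t} := by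
    ext s
    rw [Set.mem_singleton_iff]
    constructor
    · rintro ⟨hs, hsP⟩
      obtain ⟨k, hk⟩ := isConj_iff.1 hs
      have hss : s * s = 1 := by
        rw [← hk]
        calc k * S.t * k⁻¹ * (k * S.t * k⁻¹) = k * (S.t * S.t) * k⁻¹ := by group
          _ = 1 := by rw [S.tt]; group
      have hsM : s ∈ Subgroup.centralizer ({S.t} : Set G) :=
        Subgroup.mem_centralizer_singleton_iff.2
          ((hsP S.t (le_ext _ _ (self_mem_ext _ _))).symm)
      have hsP' := Parity.mem_of_commute hP2 h.le_cent hsM hsP h.odd_P hss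
      rcases h.center_P hsP' hsP with h3 | h3 | h3 | h3
      · exfalso
        apply S.t_ne_one
        rw [h3, mul_inv_eq_one, mul_eq_left] at hk
        exact hk
      · exact h3
      · exfalso
        rw [h3] at hk
        exact DL.ne_c h.ab k hk
      · exfalso
        rw [h3] at hk
        exact hne k hk
    · rintro rfl
      exact ⟨IsConj.refl _, fun p hp => Subgroup.mem_centralizer_singleton_iff.1 (h.le_cent hp)⟩
  rw [h2, Set.ncard_singleton] at h1
  exact absurd h1 (by decide)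

omit h in
/-- a Sylow `2`-subgroup of `C_G(t)` which centralises the conjugate `d` of `t` is normalised by an element moving
`t` to `d` -/
theorem exists_normalizer [Finite G] {t d k : G} (hk : k * t * k⁻¹ = d) {P : Subgroup G} (hP : IsPGroup 2 P)
    (hPt : P ≤ Subgroup.centralizer {t}) (hPd : P ≤ Subgroup.centralizer {d})
    (hodd : Odd (P.relIndex (Subgroup.centralizer {t}))) :
    ∃ n : G, n * t * n⁻¹ = d ∧ ∀ c, c ∈ P ↔ n * c * n⁻¹ ∈ P := by
  have hmap := Pairs.map_centralizer t k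
  rw [hk] at hmap
  have hR : IsPGroup 2 (P.map (MulAut.conj k).toMonoidHom) := hP.map _
  have hRd : P.map (MulAut.conj k).toMonoidHom ≤ Subgroup.centralizer {d} := by
    rw [← hmap]; exact Subgroup.map_mono hPt
  have hRo : Odd ((P.map (MulAut.conj k).toMonoidHom).relIndex (Subgroup.centralizer {d})) := by
    rw [← hmap, Pairs.relIndex_map_conj]; exact hodd
  have hPo : Odd (P.relIndex (Subgroup.centralizer {d})) := by
    have h1 := Parity.relIndex_mul_card' hPt
    have h2 := Parity.relIndex_mul_card' hPd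
    have h3 : Nat.card (Subgroup.centralizer {d} : Subgroup G) = Nat.card (Subgroup.centralizer {t} : Subgroup G) := by
      rw [← hmap]
      exact (Nat.card_congr (Subgroup.equivMapOfInjective _ _ (MulAut.conj k).injective).toEquiv).symm
    rw [h3, ← h1] at h2
    have h4 : 0 < Nat.card P := Nat.card_pos
    rw [Nat.eq_of_mul_eq_mul_right h4 h2]
    exact hodd
  obtain ⟨m, hm, hm2⟩ := Parity.exists_conj hPd hRd hP hR hPo hRo
  rw [Subgroup.mem_centralizer_singleton_iff] at hm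
  refine ⟨m * k, ?_, fun c => ?_⟩
  · calc m * k * t * (m * k)⁻¹ = m * (k * t * k⁻¹) * m⁻¹ := by group
      _ = d := by rw [hk, hm, mul_inv_cancel_right]
  · have h1 : c ∈ P ↔ k * c * k⁻¹ ∈ P.map (MulAut.conj k).toMonoidHom := by
      rw [Subgroup.mem_map_equiv, MulAut.conj_symm_apply]
      have e : k⁻¹ * (k * c * k⁻¹) * k = c := by group
      rw [e]
    rw [h1, hm2]
    have e : m * (k * c * k⁻¹) * m⁻¹ = m * k * c * (m * k)⁻¹ := by group
    rw [e]

omit [Group G] h in
/-- `x 33` is not conjugate to `x 24` nor to `x 24 z_c` -/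
theorem no_conj (u : LL) : u * x 33 * u⁻¹ ≠ x 24 ∧ u * x 33 * u⁻¹ ≠ x 24 * (x 47 * x 44) := by
  constructor
  · have := ClassSep.sep (w := [33]) (w' := [24]) (by decide) (by decide) (by decide +kernel) u
    rw [wd_one, wd_one] at this
    exact this
  · have := ClassSep.sep (w := [33]) (w' := [24, 47, 44]) (by decide) (by decide) (by decide +kernel) u
    rw [wd_one, wd_cons, wd_cons, wd_one] at this
    exact this

omit h in
theorem not_t_mul (l : LL) : ∀ l', S.t * S.φ l ≠ S.φ l' := fun l' => S.t_mul_ne l l'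

omit [Group G] h in
theorem zc_comm {u : LL} (hu : u ∈ BN.U) : u * (x 47 * x 44) = x 47 * x 44 * u := by
  have h1 : Commute u (x 47) := Facts2.central47 hu
  have h2 : Commute u (x 44) := Facts2.central44 hu
  have h3 := h1.mul_right h2
  unfold Commute SemiconjBy at h3
  rw [h3]

/-- `P` acts on `x 47` -/
theorem act47 {p : G} (hp : p ∈ ext (ext (BN.U.map S.φ) S.t) g) :
    p * S.φ (x 47) * p⁻¹ = S.φ (x 47) ∨ p * S.φ (x 47) * p⁻¹ = S.φ (x 47) * S.φ (x 47 * x 44) := by
  have hin : ∀ c, PatC.InS S.φ S.t c → c * S.φ (x 47) * c⁻¹ = S.φ (x 47) := by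
    rintro c ⟨u, hu, rfl | rfl⟩
    · rw [← map_mul, Facts2.central47 hu, map_mul, mul_inv_cancel_right]
    · have e : S.t * S.φ u * S.φ (x 47) = S.φ (x 47) * (S.t * S.φ u) := by
        rw [mul_assoc, ← map_mul, Facts2.central47 hu, map_mul, ← mul_assoc, S.comm, mul_assoc]
      rw [e, mul_inv_cancel_right]
  rcases h.mem_P hp with h' | h'
  · exact Or.inl (hin p h')
  · refine Or.inr ?_
    have h1 := hin _ h'
    have h2 : g * S.φ (x 44) * g⁻¹ = S.φ (x 47) := by rw [h.gφ, h.hα 44 (by norm_num)]; rfl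
    have h3 : p * S.φ (x 47) * p⁻¹ = S.φ (x 44) := by
      have e : p * S.φ (x 47) * p⁻¹ = g⁻¹ * (g * p * S.φ (x 47) * (g * p)⁻¹) * g := by group
      rw [e, h1, ← h2]; group
    rw [h3, ← map_mul, ← mul_assoc, x_mul_self, one_mul]

/-- `φ z_c` is central in `P` -/
theorem zc_central {p : G} (hp : p ∈ ext (ext (BN.U.map S.φ) S.t) g) :
    p * S.φ (x 47 * x 44) = S.φ (x 47 * x 44) * p := by
  have h1 : ext (ext (BN.U.map S.φ) S.t) g ≤ Subgroup.centralizer ({S.φ (x 47 * x 44)} : Set G) := by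
    refine ext_le (ext_le ?_ ?_) ?_
    · rintro _ ⟨u, hu, rfl⟩
      rw [Subgroup.mem_centralizer_singleton_iff]
      rw [← map_mul, ← map_mul, zc_comm hu]
    · rw [Subgroup.mem_centralizer_singleton_iff]
      exact S.comm _
    · rw [Subgroup.mem_centralizer_singleton_iff]
      have h2 : g * S.φ (x 47 * x 44) * g⁻¹ = S.φ (x 47 * x 44) := by
        rw [h.gφ, map_mul, h.hα 47 (by norm_num), h.hα 44 (by norm_num)]
        change S.φ (x 44 * x 47) = _
        rw [DL.comm_4744]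
      rw [← mul_inv_eq_iff_eq_mul]
      exact h2
  exact Subgroup.mem_centralizer_singleton_iff.1 (h1 hp)

/-- an element of `P` which moves `x 47`-like elements only by the centre -/
theorem z_form {z ζ : G} (hz : z ∈ ext (ext (BN.U.map S.φ) S.t) g)
    (hζ : ζ = 1 ∨ ζ = S.t ∨ ζ = S.φ (x 47 * x 44) ∨ ζ = S.t * S.φ (x 47 * x 44))
    (hact : ∀ p ∈ ext (ext (BN.U.map S.φ) S.t) g, p * z * p⁻¹ = z ∨ p * z * p⁻¹ = z * ζ) :
    ∃ u, ZTwo.ZU u ∧ (z = S.φ u ∨ z = S.t * S.φ u) := by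
  -- `ζ` in `φ(LL)`
  have hζ2 : ∀ l, ζ = S.φ l → l = 1 ∨ l = x 47 * x 44 := by
    intro l hl
    rcases hζ with h1 | h1 | h1 | h1
    · left; apply S.inj; rw [← hl, h1, map_one]
    · exact absurd (h1.symm.trans hl) (S.tne l)
    · right; apply S.inj; rw [← hl, h1]
    · exact absurd (h1.symm.trans hl) (S.t_mul_ne _ _)
  rcases h.mem_P hz with ⟨u, hu, hzu⟩ | ⟨u, hu, hzu⟩
  · refine ⟨u, ?_, hzu⟩
    apply ZTwo.cen_c hu
    intro v hv
    have h1 := hact (S.φ v) (le_ext _ _ (le_ext _ _ ⟨v, hv, rfl⟩))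
    have h2 : S.φ v * z * (S.φ v)⁻¹ = z * S.φ (u⁻¹ * (v * u * v⁻¹)) := by
      rw [map_mul, map_mul, map_mul, map_inv, map_inv]
      rcases hzu with rfl | rfl
      · group
      · calc S.φ v * (S.t * S.φ u) * (S.φ v)⁻¹ = (S.φ v * S.t) * (S.φ u * (S.φ v)⁻¹) := by group
          _ = (S.t * S.φ v) * (S.φ u * (S.φ v)⁻¹) := by rw [S.comm]
          _ = _ := by group
    rw [h2] at h1
    rcases h1 with h1 | h1
    · left
      have h3 : S.φ (u⁻¹ * (v * u * v⁻¹)) = S.φ 1 := by rw [map_one]; exact mul_eq_left.1 h1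
      exact (inv_mul_eq_one.1 (S.inj h3)).symm
    · have h3 := mul_left_cancel h1
      rcases hζ2 _ h3.symm with h4 | h4
      · left
        rw [inv_mul_eq_one] at h4
        rw [← h4]
      · right
        rw [inv_mul_eq_iff_eq_mul] at h4
        rw [h4]
  · exfalso
    have h1 := hact (S.φ (x 24)) (le_ext _ _ (le_ext _ _ ⟨_, BN.x_mem_U (by norm_num) (by norm_num), rfl⟩))
    -- `z⁻¹ x24 z = φ (u⁻¹ x33 u)`
    have h2 : z⁻¹ * S.φ (x 24) * z = S.φ (u⁻¹ * x 33 * u) := by
      have h3 : g * S.φ (x 24) * g⁻¹ = S.φ (x 33) := by rw [h.gφ, h.hα 24 (by norm_num)]; rfl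
      have e : z⁻¹ * S.φ (x 24) * z = (g * z)⁻¹ * (g * S.φ (x 24) * g⁻¹) * (g * z) := by group
      rw [e, h3, map_mul, map_mul, map_inv]
      rcases hzu with h4 | h4
      · rw [h4]
      · rw [h4]
        calc (S.t * S.φ u)⁻¹ * S.φ (x 33) * (S.t * S.φ u) = (S.φ u)⁻¹ * S.t⁻¹ * (S.φ (x 33) * S.t) * S.φ u := by group
          _ = (S.φ u)⁻¹ * S.t⁻¹ * (S.t * S.φ (x 33)) * S.φ u := by rw [S.comm]
          _ = _ := by group
    have hno := no_conj u⁻¹
    rw [inv_inv] at hno
    rcases h1 with h1 | h1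
    · have h5 : z⁻¹ * S.φ (x 24) * z = S.φ (x 24) := by
        have h6 : S.φ (x 24) * z = z * S.φ (x 24) := by rw [← mul_inv_eq_iff_eq_mul]; exact h1
        rw [mul_assoc, h6, inv_mul_cancel_left]
      rw [h2] at h5
      exact hno.1 (S.inj h5)
    · have h5 : z⁻¹ * S.φ (x 24) * z = ζ * S.φ (x 24) := by
        have h6 : S.φ (x 24) * z = z * ζ * S.φ (x 24) := by rw [← mul_inv_eq_iff_eq_mul]; exact h1
        rw [mul_assoc, h6]; group
      rw [h2] at h5
      have h7 : ζ = S.φ (u⁻¹ * x 33 * u * (x 24)⁻¹) := by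
        rw [map_mul _ _ (x 24)⁻¹, h5, map_inv, mul_inv_cancel_right]
      rcases hζ2 _ h7 with h8 | h8
      · exact hno.1 (mul_inv_eq_one.1 h8)
      · apply hno.2
        rw [mul_inv_eq_iff_eq_mul] at h8
        rw [h8, zc_comm (BN.x_mem_U (by norm_num) (by norm_num))]

omit h in
theorem comm_root {c : G} (hc : PatC.InS S.φ S.t c) {z : LL} (hz : ∀ u ∈ BN.U, u * z = z * u) :
    c * S.φ z = S.φ z * c := by
  obtain ⟨u, hu, rfl | rfl⟩ := hc
  · rw [← map_mul, ← map_mul, hz u hu]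
  · rw [mul_assoc, ← map_mul, hz u hu, map_mul, ← mul_assoc, S.comm, mul_assoc]

/-- an element normalising `S₀ = ⟨t⟩ × U` and moving `t` to `t z_c` -/
theorem exists_n [Finite G] [IsSimpleGroup G] (hG : ¬ ∀ a b : G, a * b = b * a) :
    ∃ n : G, n * S.t * n⁻¹ = S.t * S.φ (x 47 * x 44) ∧
      (∀ c, PatC.InS S.φ S.t c → PatC.InS S.φ S.t (n * c * n⁻¹)) ∧
      (∀ c, PatC.InS S.φ S.t c → PatC.InS S.φ S.t (n⁻¹ * c * n)) := by
  obtain ⟨k, hk⟩ := h.isConj_tc hG
  have hP2 : IsPGroup 2 (ext (ext (BN.U.map S.φ) S.t) g) := by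
    refine isPGroup4 S.tt h.gt h.gg tU h.gU ?_
    have h1 : IsPGroup 2 BN.U := Classes.isPGroup_UL
    exact h1.map _
  have hPd : ext (ext (BN.U.map S.φ) S.t) g ≤ Subgroup.centralizer ({S.t * S.φ (x 47 * x 44)} : Set G) := by
    intro p hp
    rw [Subgroup.mem_centralizer_singleton_iff]
    have h1 : p * S.t = S.t * p := Subgroup.mem_centralizer_singleton_iff.1 (h.le_cent hp)
    rw [← mul_assoc, h1, mul_assoc, h.zc_central hp, mul_assoc]
  obtain ⟨n, hn, hnP⟩ := exists_normalizer hk hP2 h.le_cent hPd h.odd_P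
  have hnP' : ∀ c, c ∈ ext (ext (BN.U.map S.φ) S.t) g → n⁻¹ * c * n ∈ ext (ext (BN.U.map S.φ) S.t) g := by
    intro c hc
    rw [hnP]
    have e : n * (n⁻¹ * c * n) * n⁻¹ = c := by group
    rwa [e]
  have u47 : x 47 ∈ BN.U := BN.x_mem_U (by norm_num) (by norm_num)
  have u44 : x 44 ∈ BN.U := BN.x_mem_U (by norm_num) (by norm_num)
  have m47 : S.φ (x 47) ∈ ext (ext (BN.U.map S.φ) S.t) g := le_ext _ _ (le_ext _ _ ⟨_, u47, rfl⟩)
  have mzc : S.φ (x 47 * x 44) ∈ ext (ext (BN.U.map S.φ) S.t) g :=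
    le_ext _ _ (le_ext _ _ ⟨_, mul_mem u47 u44, rfl⟩)
  -- `ζ`
  have hζ := h.center_P ((hnP _).1 mzc) (fun p hp => by
    have h1 := h.zc_central (hnP' p hp)
    calc p * (n * S.φ (x 47 * x 44) * n⁻¹) = n * (n⁻¹ * p * n * S.φ (x 47 * x 44)) * n⁻¹ := by group
      _ = n * (S.φ (x 47 * x 44) * (n⁻¹ * p * n)) * n⁻¹ := by rw [h1]
      _ = _ := by group)
  have hz : n * S.φ (x 47) * n⁻¹ ∈ ext (ext (BN.U.map S.φ) S.t) g := (hnP _).1 m47
  obtain ⟨u, hu, hzu⟩ := h.z_form hz hζ (fun p hp => by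
    have e : p * (n * S.φ (x 47) * n⁻¹) * p⁻¹ = n * ((n⁻¹ * p * n) * S.φ (x 47) * (n⁻¹ * p * n)⁻¹) * n⁻¹ := by
      group
    rcases h.act47 (hnP' p hp) with h1 | h1
    · left; rw [e, h1]
    · right; rw [e, h1]; group)
  have hbad : (∀ p ∈ ext (ext (BN.U.map S.φ) S.t) g, p * S.φ u = S.φ u * p) → False := by
    intro hu1
    have hz1 : ∀ p ∈ ext (ext (BN.U.map S.φ) S.t) g, p * (n * S.φ (x 47) * n⁻¹) = (n * S.φ (x 47) * n⁻¹) * p := by
      intro p hp
      have hpt : p * S.t = S.t * p := Subgroup.mem_centralizer_singleton_iff.1 (h.le_cent hp)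
      rcases hzu with h2 | h2
      · rw [h2, hu1 p hp]
      · rw [h2, ← mul_assoc, hpt, mul_assoc, hu1 p hp, mul_assoc]
    have h1 := hz1 (n * g * n⁻¹) ((hnP g).1 (self_mem_ext _ _))
    have h2 : g * S.φ (x 47) = S.φ (x 47) * g := by
      have e1 : n * g * n⁻¹ * (n * S.φ (x 47) * n⁻¹) = n * (g * S.φ (x 47)) * n⁻¹ := by group
      have e2 : n * S.φ (x 47) * n⁻¹ * (n * g * n⁻¹) = n * (S.φ (x 47) * g) * n⁻¹ := by group
      rw [e1, e2] at h1
      exact mul_left_cancel (mul_right_cancel h1)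
    have h3 := h.gφ (x 47)
    rw [h2, mul_inv_cancel_right, h.hα 47 (by norm_num)] at h3
    have h4 := BN.x_inj (r := 47) (s := bar 47) (by norm_num) (by decide) (S.inj h3)
    revert h4
    decide
  -- `C_P(z') = S₀`
  have key : ∀ c, PatC.InS S.φ S.t c ↔ c ∈ ext (ext (BN.U.map S.φ) S.t) g ∧
      c * (n * S.φ (x 47) * n⁻¹) = (n * S.φ (x 47) * n⁻¹) * c := by
    intro c
    have hcent : ∀ w ∈ BN.U, w * u = u * w := by
      intro w hw
      have := PatC.zU_central hu hw
      rwa [mul_inv_eq_iff_eq_mul] at this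
    constructor
    · intro hc
      refine ⟨inS_mem hc, ?_⟩
      have h1 := comm_root hc hcent
      have hct : c * S.t = S.t * c := Subgroup.mem_centralizer_singleton_iff.1 (h.le_cent (inS_mem hc))
      rcases hzu with h2 | h2
      · rw [h2, h1]
      · rw [h2, ← mul_assoc, hct, mul_assoc, h1, mul_assoc]
    · rintro ⟨hc, hcz⟩
      have hct : c * S.t = S.t * c := Subgroup.mem_centralizer_singleton_iff.1 (h.le_cent hc)
      have h1 : c * S.φ u = S.φ u * c := by
        rcases hzu with h2 | h2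
        · rw [h2] at hcz; exact hcz
        · rw [h2] at hcz
          apply mul_left_cancel (a := S.t)
          calc S.t * (c * S.φ u) = (S.t * c) * S.φ u := by group
            _ = c * (S.t * S.φ u) := by rw [← hct]; group
            _ = _ := by rw [hcz]; group
      rcases hu with h2 | h2 | h2 | h2
      · exfalso
        apply hbad
        intro p _
        rw [h2, map_one, mul_one, one_mul]
      · rw [h2] at h1
        exact h.inS_of_comm hc (by norm_num) h1
      · rw [h2] at h1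
        exact h.inS_of_comm hc (by norm_num) h1
      · exfalso
        apply hbad
        intro p hp
        rw [h2, h.zc_central hp]
  have key0 : ∀ c, PatC.InS S.φ S.t c ↔ c ∈ ext (ext (BN.U.map S.φ) S.t) g ∧
      c * S.φ (x 47) = S.φ (x 47) * c := by
    intro c
    constructor
    · intro hc
      exact ⟨inS_mem hc, comm_root hc (fun u hu => Facts2.central47 hu)⟩
    · rintro ⟨hc, hcz⟩
      exact h.inS_of_comm hc (by norm_num) hcz
  refine ⟨n, hn, fun c hc => ?_, fun c hc => ?_⟩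
  · obtain ⟨h1, h2⟩ := (key0 c).1 hc
    refine (key _).2 ⟨(hnP c).1 h1, ?_⟩
    calc n * c * n⁻¹ * (n * S.φ (x 47) * n⁻¹) = n * (c * S.φ (x 47)) * n⁻¹ := by group
      _ = n * (S.φ (x 47) * c) * n⁻¹ := by rw [h2]
      _ = _ := by group
  · obtain ⟨h1, h2⟩ := (key c).1 hc
    refine (key0 _).2 ⟨hnP' c h1, ?_⟩
    calc n⁻¹ * c * n * S.φ (x 47) = n⁻¹ * (c * (n * S.φ (x 47) * n⁻¹)) * n := by group
      _ = n⁻¹ * (n * S.φ (x 47) * n⁻¹ * c) * n := by rw [h2]
      _ = _ := by group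

theorem ty_47 [Finite G] [IsSimpleGroup G] (hG : ¬ ∀ a b : G, a * b = b * a) : S.Ty (x 47) := by
  obtain ⟨n, hn, h1, h2⟩ := h.exists_n hG
  exact PatC.ty_long S.inj S.tt S.comm S.tne h1 h2 hn

theorem ty_44 [Finite G] [IsSimpleGroup G] (hG : ¬ ∀ a b : G, a * b = b * a) : S.Ty (x 44) := by
  obtain ⟨n, hn, h1, h2⟩ := h.exists_n hG
  exact PatC.ty_short S.inj S.tt S.comm S.tne h1 h2 hn

end Out

end Cfsg.Agent.F42.OuterSwap
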