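import Cfsg.Agent.F42.OuterSwap

/-!
# A graph automorphism in `C_G(t)`: `Swap (x 47)` and `Swap (x 44)`
-/

set_option autoImplicit false

namespace Cfsg.Agent.F42.OuterSwap

open Cfsg.Agent.FourTwo Cfsg.Agent.FourTwo.Base Cfsg.Agent.F42.GraphRoots ExtTwo
open Cfsg.Agent.ChevalleyStructure.TwF4.Rel

theorem card_map_conj {Γ : Type*} [Group Γ] (H : Subgroup Γ) (y : Γ) :
    Nat.card (H.map (MulAut.conj y).toMonoidHom) = Nat.card H :=
  (Nat.card_congr (Subgroup.equivMapOfInjective _ _ (MulAut.conj y).injective).toEquiv).symm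

/-! ### facts on `LL` -/

theorem refl_vals : (refl 0 44 = 40 ∧ refl 0 47 = 47) ∧ (refl 1 44 = 44 ∧ refl 2 44 = 44) ∧
    (refl 3 44 = 44 ∧ refl 3 47 = 46) := by decide +kernel

theorem n_fix_44 {i : ℕ} (hi : i < 4) (h : n i * (x 44 * x 47) = x 44 * x 47 * n i) : n i * x 44 = x 44 * n i := by
  have h1 : n i * (x 44 * x 47) = x (refl i 44) * x (refl i 47) * n i := by
    rw [← mul_assoc, n_mul_x hi (by norm_num), mul_assoc, n_mul_x hi (by norm_num), mul_assoc]
  rw [h1] at h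
  have h2 := mul_right_cancel h
  have hv := refl_vals
  have key : i = 0 ∨ i = 1 ∨ i = 2 ∨ i = 3 := by omega
  rcases key with rfl | rfl | rfl | rfl
  · exfalso
    rw [hv.1.1, hv.1.2] at h2
    have h3 := mul_right_cancel h2
    have := BN.x_inj (r := 40) (s := 44) (by norm_num) (by norm_num) h3
    omega
  · rw [n_mul_x (by norm_num) (by norm_num), hv.2.1.1]
  · rw [n_mul_x (by norm_num) (by norm_num), hv.2.1.2]
  · exfalso
    rw [hv.2.2.1, hv.2.2.2] at h2
    have h3 := mul_left_cancel h2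
    have := BN.x_inj (r := 46) (s := 47) (by norm_num) (by norm_num) h3
    omega

/-- `C(z_c) ≤ C(z_s)` -/
theorem cent_c_le {w : LL} (hw : w * (x 44 * x 47) = x 44 * x 47 * w) : w * x 44 = x 44 * w := by
  have hU : BN.U ≤ Subgroup.centralizer ({x 44 * x 47} : Set LL) := by
    intro u hu
    rw [Subgroup.mem_centralizer_singleton_iff, ← mul_assoc, Facts2.central44 hu, mul_assoc, Facts2.central47 hu,
      mul_assoc]
  have h1 := Cent.parabolic_eq hU
  have h2 : Subgroup.centralizer ({x 44 * x 47} : Set LL) ≤ Subgroup.centralizer {x 44} := by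
    rw [h1]
    refine sup_le ?_ ?_
    · intro u hu
      rw [Subgroup.mem_centralizer_singleton_iff, Facts2.central44 hu]
    · rw [Subgroup.closure_le]
      rintro _ ⟨i, hi, hn, rfl⟩
      rw [Subgroup.mem_centralizer_singleton_iff] at hn
      exact Subgroup.mem_centralizer_singleton_iff.2 (n_fix_44 hi hn)
  have h3 : w ∈ Subgroup.centralizer ({x 44 * x 47} : Set LL) := Subgroup.mem_centralizer_singleton_iff.2 hw
  have h4 := h2 h3
  rw [Subgroup.mem_centralizer_singleton_iff] at h4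
  exact h4

/-- `n 0` commutes with `x 47`, but not with `x 44` -/
theorem n0_47 : n 0 * x 47 = x 47 * n 0 := by
  rw [n_mul_x (by norm_num) (by norm_num), refl_vals.1.2]

theorem n0_44 : n 0 * x 44 = x 40 * n 0 := by
  rw [n_mul_x (by norm_num) (by norm_num), refl_vals.1.1]

/-- the centre of `C(x 47)` -/
theorem center_47 {w : LL} (hw : w ∈ BN.U) (h : ∀ p : LL, p * x 47 = x 47 * p → p * w = w * p) :
    w = 1 ∨ w = x 47 := by
  have h1 := Facts.cent_U hw (fun r hr => by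
    simp only [List.mem_cons, List.not_mem_nil, or_false] at hr
    rcases hr with rfl | rfl | rfl | rfl <;>
      exact h _ (Facts2.central47 (BN.x_mem_U (by norm_num) (by norm_num))))
  have h2 := h (n 0) n0_47
  have hne : x 40 ≠ x 44 := fun he => by
    have := BN.x_inj (r := 40) (s := 44) (by norm_num) (by norm_num) he
    omega
  rcases h1 with h1 | h1 | h1 | h1
  · exact Or.inl h1
  · exfalso
    rw [h1, n0_44] at h2
    exact hne (mul_right_cancel h2)
  · exact Or.inr h1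
  · exfalso
    rw [h1, ← mul_assoc, n0_44, mul_assoc, n0_47, mul_assoc] at h2
    exact hne (mul_right_cancel h2)

variable {G : Type*} [Group G]

variable {S : Std G}

/-- `C(x 47)` is moved into `L` -/
theorem range_of_perfect (hab : DL.Ab S) {k : G} (hk : k * S.t * k⁻¹ = S.t * S.φ (x 47)) {p : LL}
    (hp : p * x 47 = x 47 * p) : ∃ l, k⁻¹ * S.φ p * k = S.φ l := by
  have key : ⁅Subgroup.centralizer ({x 47} : Set LL), Subgroup.centralizer ({x 47} : Set LL)⁆ ≤
      S.φ.range.comap ((MulAut.conj k⁻¹).toMonoidHom.comp S.φ) := by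
    rw [Subgroup.commutator_le]
    intro a ha b hb
    rw [Subgroup.mem_centralizer_singleton_iff] at ha hb
    have hM : ∀ c : LL, c * x 47 = x 47 * c → k⁻¹ * S.φ c * k * S.t = S.t * (k⁻¹ * S.φ c * k) := by
      intro c hc
      have e : S.φ c * (S.t * S.φ (x 47)) = S.t * S.φ (x 47) * S.φ c := by
        rw [← mul_assoc, ← S.comm, mul_assoc, ← map_mul, hc, map_mul, mul_assoc]
      rw [← hk] at e
      calc k⁻¹ * S.φ c * k * S.t = k⁻¹ * (S.φ c * (k * S.t * k⁻¹)) * k := by group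
        _ = k⁻¹ * (k * S.t * k⁻¹ * S.φ c) * k := by rw [e]
        _ = _ := by group
    obtain ⟨l, hl⟩ := hab _ _ (hM a ha) (hM b hb)
    refine ⟨l, ?_⟩
    rw [← hl]
    change _ = k⁻¹ * S.φ (a * b * a⁻¹ * b⁻¹) * k⁻¹⁻¹
    rw [map_mul, map_mul, map_mul, map_inv, map_inv]
    group
  have hp' : p ∈ ⁅Subgroup.centralizer ({x 47} : Set LL), Subgroup.centralizer ({x 47} : Set LL)⁆ := by
    rw [Cent.cent_long, Perf.perfect_Pl, ← Cent.cent_long, Subgroup.mem_centralizer_singleton_iff, hp]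
  obtain ⟨l, hl⟩ := key hp'
  refine ⟨l, ?_⟩
  rw [hl]
  change _ = k⁻¹ * S.φ p * k⁻¹⁻¹
  rw [inv_inv]

/-- `y` with `φ y = k⁻¹ φ (x 47) k` is conjugate to `x 44` or `x 47` -/
theorem exists_conj_root (hab : DL.Ab S) {k : G} (hk : k * S.t * k⁻¹ = S.t * S.φ (x 47)) :
    ∃ y z : LL, k⁻¹ * S.φ (x 47) * k = S.φ (y⁻¹ * z * y) ∧ (z = x 44 ∨ z = x 47) := by
  set f : LL →* G := (MulAut.conj k⁻¹).toMonoidHom.comp S.φ with hf
  have hfv : ∀ l, f l = k⁻¹ * S.φ l * k := by
    intro l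
    rw [hf]
    change k⁻¹ * S.φ l * k⁻¹⁻¹ = _
    rw [inv_inv]
  have hfi : Function.Injective f := (MulAut.conj k⁻¹).injective.comp S.inj
  have hU47 : ∀ u ∈ BN.U, u * x 47 = x 47 * u := by
    intro u hu
    rw [Facts2.central47 hu]
  set Q : Subgroup LL := (BN.U.map f).comap S.φ with hQ
  have memQ : ∀ l, l ∈ Q ↔ ∃ u ∈ BN.U, f u = S.φ l := fun l => Iff.rfl
  have hcard : Nat.card Q = Nat.card BN.U := by
    have h1 : Q.map S.φ = BN.U.map f := by
      rw [hQ, Subgroup.map_comap_eq, inf_eq_right]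
      rintro _ ⟨u, hu, rfl⟩
      have hu' : u ∈ BN.U := hu
      obtain ⟨l, hl⟩ := range_of_perfect hab hk (p := u) (by rw [hU47 u hu'])
      exact ⟨l, by rw [hfv, hl]⟩
    have h2 : Nat.card (Q.map S.φ) = Nat.card Q :=
      (Nat.card_congr (Subgroup.equivMapOfInjective _ _ S.inj).toEquiv).symm
    have h3 : Nat.card (BN.U.map f) = Nat.card BN.U :=
      (Nat.card_congr (Subgroup.equivMapOfInjective _ _ hfi).toEquiv).symm
    rw [← h2, h1, h3]
  have hQ2 : IsPGroup 2 Q := by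
    apply IsPGroup.of_card (n := 24)
    rw [hcard, Perf.card_U]
  obtain ⟨y, hy⟩ := Classes.exists_conj_le hQ2
  -- `y Q y⁻¹ = U`
  have hyU : ∀ w ∈ BN.U, y⁻¹ * w * y ∈ Q := by
    have h1 : Q.map (MulAut.conj y).toMonoidHom ≤ BN.U := by
      rintro _ ⟨q, hq, rfl⟩
      exact hy q hq
    have h2 : Nat.card (Q.map (MulAut.conj y).toMonoidHom) = Nat.card BN.U := by
      rw [← hcard, card_map_conj]
    have h3 := Subgroup.eq_of_le_of_card_ge h1 h2.ge
    intro w hw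
    rw [← h3] at hw
    rw [Subgroup.mem_map_equiv, MulAut.conj_symm_apply] at hw
    exact hw
  -- `y*`
  obtain ⟨l, hl⟩ := range_of_perfect hab hk (p := x 47) rfl
  have hlQ : l ∈ Q := (memQ l).2 ⟨x 47, BN.x_mem_U (by norm_num) (by norm_num), by rw [hfv, hl]⟩
  have hlc : ∀ q ∈ Q, q * l = l * q := by
    rintro q hq
    obtain ⟨u, hu, he⟩ := (memQ q).1 hq
    apply S.inj
    have h1 := hU47 u hu
    have h2 := congrArg f h1
    rw [map_mul, map_mul, he, hfv (x 47), hl, ← map_mul, ← map_mul] at h2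
    rw [h2]
  have hzU : y * l * y⁻¹ ∈ BN.U := hy l hlQ
  have hzc : ∀ w ∈ BN.U, w * (y * l * y⁻¹) = y * l * y⁻¹ * w := by
    intro w hw
    have h1 := hlc _ (hyU w hw)
    calc w * (y * l * y⁻¹) = y * (y⁻¹ * w * y * l) * y⁻¹ := by group
      _ = y * (l * (y⁻¹ * w * y)) * y⁻¹ := by rw [h1]
      _ = _ := by group
  have h1 := Facts.cent_U hzU (fun r hr => by
    simp only [List.mem_cons, List.not_mem_nil, or_false] at hr
    rcases hr with rfl | rfl | rfl | rfl <;> rw [hzc _ (BN.x_mem_U (by norm_num) (by norm_num))])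
  have hle : l = y⁻¹ * (y * l * y⁻¹) * y := by group
  have hl1 : l ≠ 1 := by
    intro h'
    rw [h', map_one] at hl
    have h2 : S.φ (x 47) = 1 := by
      have e : S.φ (x 47) = k * (k⁻¹ * S.φ (x 47) * k) * k⁻¹ := by group
      rw [e, hl]; group
    rw [← map_one S.φ] at h2
    exact BN.x_ne_one (r := 47) (by norm_num) (S.inj h2)
  rcases h1 with h1 | h1 | h1 | h1
  · exfalso
    apply hl1
    rw [hle, h1]; group
  · exact ⟨y, x 44, by rw [hl, hle, h1], Or.inl rfl⟩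
  · exact ⟨y, x 47, by rw [hl, hle, h1], Or.inr rfl⟩
  · exfalso
    -- `x 44 = y w' y⁻¹`
    obtain ⟨w, hw, hw2⟩ := (memQ _).1 (hyU (x 44) (BN.x_mem_U (by norm_num) (by norm_num)))
    have h2 := center_47 hw (fun p hp => by
      obtain ⟨q, hq⟩ := range_of_perfect hab hk hp
      -- `q` commutes with `l`
      have h3 : q * l = l * q := by
        apply S.inj
        have h4 := congrArg f hp
        rw [map_mul, map_mul, hfv p, hq, hfv (x 47), hl, ← map_mul, ← map_mul] at h4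
        rw [h4]
      have h5 : (y * q * y⁻¹) * (x 44 * x 47) = x 44 * x 47 * (y * q * y⁻¹) := by
        rw [← h1]
        calc y * q * y⁻¹ * (y * l * y⁻¹) = y * (q * l) * y⁻¹ := by group
          _ = y * (l * q) * y⁻¹ := by rw [h3]
          _ = _ := by group
      have h6 := cent_c_le h5
      apply hfi
      rw [map_mul, map_mul, hw2, hfv p, hq, ← map_mul, ← map_mul]
      have e1 : q * (y⁻¹ * x 44 * y) = y⁻¹ * (y * q * y⁻¹ * x 44) * y := by group
      have e2 : y⁻¹ * x 44 * y * q = y⁻¹ * (x 44 * (y * q * y⁻¹)) * y := by group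
      rw [e1, e2, h6])
    rcases h2 with h2 | h2
    · rw [h2, map_one, ← map_one S.φ] at hw2
      have h3 := S.inj hw2
      have h4 : x 44 = 1 := by
        have e : x 44 = y * (y⁻¹ * x 44 * y) * y⁻¹ := by group
        rw [e, ← h3]; group
      exact BN.x_ne_one (r := 44) (by norm_num) h4
    · rw [h2, hfv, hl] at hw2
      have h3 := S.inj hw2
      have h4 : x 44 = y * l * y⁻¹ := by rw [h3]; group
      rw [h1] at h4
      have h5 : x 47 = 1 := by
        have h6 : x 44 * 1 = x 44 * x 47 := by rw [mul_one]; exact h4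
        exact (mul_left_cancel h6).symm
      exact BN.x_ne_one (r := 47) (by norm_num) h5

namespace Out

variable {α : LL ≃* LL} {g : G} (h : Out S α g)

include h

theorem swap_47 [Finite G] [IsSimpleGroup G] (hG : ¬ ∀ a b : G, a * b = b * a) : S.Swap (x 47) := by
  obtain ⟨k, hk⟩ := h.ty_47 hG
  obtain ⟨y, z, h1, h2⟩ := exists_conj_root h.ab hk
  -- `m` in `C_G(t)` with `m φ(y⁻¹ z y) m⁻¹ = φ (x 47)`
  obtain ⟨m, hm1, hm2⟩ : ∃ m, m * S.t = S.t * m ∧ m * S.φ (y⁻¹ * z * y) * m⁻¹ = S.φ (x 47) := by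
    have e : S.φ y * S.φ (y⁻¹ * z * y) * (S.φ y)⁻¹ = S.φ z := by
      rw [map_mul, map_mul, map_inv]; group
    rcases h2 with rfl | rfl
    · refine ⟨g * S.φ y, ?_, ?_⟩
      · rw [mul_assoc, S.comm', ← mul_assoc, h.gt, mul_assoc]
      · have e2 : g * S.φ y * S.φ (y⁻¹ * x 44 * y) * (g * S.φ y)⁻¹ =
            g * (S.φ y * S.φ (y⁻¹ * x 44 * y) * (S.φ y)⁻¹) * g⁻¹ := by group
        rw [e2, e, h.gφ, h.hα 44 (by norm_num)]; rfl
    · exact ⟨S.φ y, S.comm' y, e⟩
  refine ⟨k * m⁻¹, ?_, ?_⟩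
  · have e : k * m⁻¹ * S.t * (k * m⁻¹)⁻¹ = k * (m⁻¹ * (S.t * m)) * k⁻¹ := by group
    rw [e, ← hm1, inv_mul_cancel_left, hk]
  · calc k * m⁻¹ * S.φ (x 47) * (k * m⁻¹)⁻¹ = k * (m⁻¹ * S.φ (x 47) * m) * k⁻¹ := by group
      _ = k * (m⁻¹ * (m * S.φ (y⁻¹ * z * y) * m⁻¹) * m) * k⁻¹ := by rw [hm2]
      _ = k * S.φ (y⁻¹ * z * y) * k⁻¹ := by group
      _ = k * (k⁻¹ * S.φ (x 47) * k) * k⁻¹ := by rw [h1]
      _ = S.φ (x 47) := by group

theorem swap_44 [Finite G] [IsSimpleGroup G] (hG : ¬ ∀ a b : G, a * b = b * a) : S.Swap (x 44) := by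
  obtain ⟨n, h1, h2⟩ := h.swap_47 hG
  have e1 : g * S.φ (x 47) * g⁻¹ = S.φ (x 44) := by rw [h.gφ, h.hα 47 (by norm_num)]; rfl
  refine ⟨g * n * g⁻¹, ?_, ?_⟩
  · have e : g * n * g⁻¹ * S.t * (g * n * g⁻¹)⁻¹ = g * n * g⁻¹ * (S.t * g) * n⁻¹ * g⁻¹ := by group
    rw [e, ← h.gt]
    have e2 : g * n * g⁻¹ * (g * S.t) * n⁻¹ * g⁻¹ = g * (n * S.t * n⁻¹) * g⁻¹ := by group
    rw [e2, h1]
    have e3 : g * (S.t * S.φ (x 47)) * g⁻¹ = (g * S.t) * S.φ (x 47) * g⁻¹ := by group
    rw [e3, h.gt, ← e1]; group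
  · have e : g * n * g⁻¹ * S.φ (x 44) * (g * n * g⁻¹)⁻¹ = g * (n * (g⁻¹ * S.φ (x 44) * g) * n⁻¹) * g⁻¹ := by group
    have e2 : g⁻¹ * S.φ (x 44) * g = S.φ (x 47) := by rw [← e1]; group
    rw [e, e2, h2, e1]

end Out

end Cfsg.Agent.F42.OuterSwap
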