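import Cfsg.Agent.F42.Filtered
import Cfsg.Agent.F42.ExtTwo

/-!
# A filtered 2-group with a Klein four-group acting freely on its factors

`2 m` four-groups `⟨x i, a i⟩`; `t` moves `a i` to `a i * x i`, `g` interchanges the steps `2 k` and
`2 k + 1`.
-/

set_option autoImplicit false

namespace Cfsg.Agent.F42.Pairs

open Subgroup Filtered ExtTwo

variable {G : Type*} [Group G]

/-- commutators of two generated subgroups -/
theorem comm_closure {S K : Subgroup G} {X Y : Set G} (hK : ∀ s ∈ S, ∀ n ∈ K, s * n * s⁻¹ ∈ K)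
    (hX : closure X ≤ S) (hY : closure Y ≤ S) (h : ∀ y ∈ X, ∀ z ∈ Y, y * z * y⁻¹ * z⁻¹ ∈ K) :
    ∀ y ∈ closure X, ∀ z ∈ closure Y, y * z * y⁻¹ * z⁻¹ ∈ K := by
  have h1 : ∀ y ∈ X, ∀ z ∈ closure Y, y * z * y⁻¹ * z⁻¹ ∈ K := by
    intro y hy z hz
    induction hz using closure_induction with
    | mem z hz => exact h y hy z hz
    | one => simp only [mul_one, mul_inv_cancel, inv_one]; exact one_mem _
    | mul a b ha hb iha ihb =>
      have e : y * (a * b) * y⁻¹ * (a * b)⁻¹ = (y * a * y⁻¹ * a⁻¹) * (a * (y * b * y⁻¹ * b⁻¹) * a⁻¹) := by group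
      rw [e]
      exact mul_mem iha (hK a (hY ha) _ ihb)
    | inv a ha iha =>
      have e : y * a⁻¹ * y⁻¹ * a⁻¹⁻¹ = a⁻¹ * (y * a * y⁻¹ * a⁻¹)⁻¹ * a⁻¹⁻¹ := by group
      rw [e]
      exact hK _ (inv_mem (hY ha)) _ (inv_mem iha)
  intro y hy
  induction hy using closure_induction with
  | mem y hy => exact h1 y hy
  | one => intro z _; simp only [one_mul, inv_one, mul_one, mul_inv_cancel]; exact one_mem _
  | mul a b ha hb iha ihb =>
    intro z hz
    have e : (a * b) * z * (a * b)⁻¹ * z⁻¹ = a * (b * z * b⁻¹ * z⁻¹) * a⁻¹ * (a * z * a⁻¹ * z⁻¹) := by group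
    rw [e]
    exact mul_mem (hK a (hX ha) _ (ihb z hz)) (iha z hz)
  | inv a ha iha =>
    intro z hz
    have e : a⁻¹ * z * a⁻¹⁻¹ * z⁻¹ = a⁻¹ * (a * z * a⁻¹ * z⁻¹)⁻¹ * a⁻¹⁻¹ := by group
    rw [e]
    exact hK _ (inv_mem (hX ha)) _ (inv_mem (iha z hz))

/-- The data. -/
structure PairChain (G : Type*) [Group G] where
  m : ℕ
  t : G
  g : G
  x : ℕ → G
  a : ℕ → G
  tt : t * t = 1
  gt : g * t = t * g
  gg : g * g = 1 ∨ g * g = t
  xx : ∀ i < 2 * m, x i * x i = 1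
  aa : ∀ i < 2 * m, a i * a i = 1
  ax : ∀ i < 2 * m, a i * x i = x i * a i
  xt : ∀ i < 2 * m, x i * t = t * x i
  aat : ∀ i < 2 * m, a i * t * (a i)⁻¹ = t * x i
  gx : ∀ k < m, g * x (2 * k) * g⁻¹ = x (2 * k + 1)
  ga : ∀ k < m, g * a (2 * k) * g⁻¹ = a (2 * k + 1)
  comm : ∀ i j, i ≤ j → j < 2 * m → ∀ y z, (y = x i ∨ y = a i) → (z = x j ∨ z = a j) →
    y * z * y⁻¹ * z⁻¹ ∈ closure {g | ∃ l < 2 * (i / 2), g = x l ∨ g = a l}
  xU : ∀ k < 2 * m, x k ∉ closure {g | ∃ j < k, g = x j}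

namespace PairChain

variable (C : PairChain G)

/-- The chain of helper315. -/
def ch : Chain G where
  n := 2 * C.m
  t := C.t
  x := C.x
  a := C.a
  free := fun _ => True
  tt := C.tt
  xx := C.xx
  xt := C.xt
  at_free i hi _ := C.aat i hi
  a_triv i _ h := absurd trivial h
  aa i hi := by rw [C.aa i hi]; exact one_mem _
  comm i j hij hj y z hy hz := by
    refine closure_mono ?_ (C.comm i j hij hj y z hy hz)
    rintro _ ⟨l, hl, h⟩
    exact ⟨l, by omega, h⟩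

theorem ch_n : C.ch.n = 2 * C.m := rfl

/-- The filtration. -/
abbrev N (k : ℕ) : Subgroup G := C.ch.N k

/-- The part centralised by `t`. -/
abbrev U (k : ℕ) : Subgroup G := C.ch.U k

theorem hx : ∀ k < C.ch.n, C.ch.free k → C.ch.x k ∉ C.ch.U k := fun k hk _ => C.xU k hk

theorem comm_t_mem {k : ℕ} (hk : k ≤ 2 * C.m) {c : G} (hc : c ∈ C.N k) (h : c * C.t = C.t * c) : c ∈ C.U k :=
  C.ch.comm_t_mem C.hx hk c hc h

theorem conj_mem {k : ℕ} (hk : k ≤ 2 * C.m) {c n : G} (hc : c ∈ C.N (2 * C.m)) (hn : n ∈ C.N k) :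
    c * n * c⁻¹ ∈ C.N k := C.ch.conj_mem hk hc hn

theorem conj_mem' {k : ℕ} (hk : k ≤ 2 * C.m) {c n : G} (hc : c ∈ C.N (2 * C.m)) (hn : n ∈ C.N k) :
    c⁻¹ * n * c ∈ C.N k := by
  have := C.ch.conj_mem hk (inv_mem hc) hn
  rwa [inv_inv] at this

theorem N_mono {i j : ℕ} (h : i ≤ j) : C.N i ≤ C.N j := C.ch.N_mono h

theorem t_inv : C.t⁻¹ = C.t := inv_eq_of_mul_eq_one_right C.tt

theorem x_inv {i : ℕ} (hi : i < 2 * C.m) : (C.x i)⁻¹ = C.x i := inv_eq_of_mul_eq_one_right (C.xx i hi)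

theorem a_inv {i : ℕ} (hi : i < 2 * C.m) : (C.a i)⁻¹ = C.a i := inv_eq_of_mul_eq_one_right (C.aa i hi)

theorem t_conj_a {i : ℕ} (hi : i < 2 * C.m) : C.t * C.a i * C.t⁻¹ = C.x i * C.a i :=
  C.ch.t_a_t hi trivial

theorem t_conj_x {i : ℕ} (hi : i < 2 * C.m) : C.t * C.x i * C.t⁻¹ = C.x i := by
  rw [← C.xt i hi, mul_inv_cancel_right]

/-! ### the four-groups -/

/-- The four-group number `i`. -/
def X (i : ℕ) : Subgroup G := closure {C.x i, C.a i}

theorem mem_X {i : ℕ} (hi : i < 2 * C.m) {y : G} :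
    y ∈ C.X i ↔ y = 1 ∨ y = C.x i ∨ y = C.a i ∨ y = C.x i * C.a i := by
  have hxx := C.xx i hi
  have haa := C.aa i hi
  have hax := C.ax i hi
  constructor
  · intro h
    unfold X at h
    induction h using closure_induction_left with
    | one => exact Or.inl rfl
    | mul_left v hv u _ hu =>
      have hv' : v = C.x i ∨ v = C.a i := by simpa using hv
      rcases hv' with rfl | rfl
      · rcases hu with rfl | rfl | rfl | rfl
        · exact Or.inr (Or.inl (mul_one _))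
        · exact Or.inl hxx
        · exact Or.inr (Or.inr (Or.inr rfl))
        · refine Or.inr (Or.inr (Or.inl ?_)); rw [← mul_assoc, hxx, one_mul]
      · rcases hu with rfl | rfl | rfl | rfl
        · exact Or.inr (Or.inr (Or.inl (mul_one _)))
        · exact Or.inr (Or.inr (Or.inr hax))
        · exact Or.inl haa
        · refine Or.inr (Or.inl ?_); rw [← mul_assoc, hax, mul_assoc, haa, mul_one]
    | inv_mul_cancel v hv u _ hu =>
      have hv' : v = C.x i ∨ v = C.a i := by simpa using hv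
      rcases hv' with rfl | rfl
      · rw [C.x_inv hi]
        rcases hu with rfl | rfl | rfl | rfl
        · exact Or.inr (Or.inl (mul_one _))
        · exact Or.inl hxx
        · exact Or.inr (Or.inr (Or.inr rfl))
        · refine Or.inr (Or.inr (Or.inl ?_)); rw [← mul_assoc, hxx, one_mul]
      · rw [C.a_inv hi]
        rcases hu with rfl | rfl | rfl | rfl
        · exact Or.inr (Or.inr (Or.inl (mul_one _)))
        · exact Or.inr (Or.inr (Or.inr hax))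
        · exact Or.inl haa
        · refine Or.inr (Or.inl ?_); rw [← mul_assoc, hax, mul_assoc, haa, mul_one]
  · have h1 : C.x i ∈ C.X i := subset_closure (Set.mem_insert _ _)
    have h2 : C.a i ∈ C.X i := subset_closure (Set.mem_insert_of_mem _ rfl)
    rintro (rfl | rfl | rfl | rfl)
    · exact one_mem _
    · exact h1
    · exact h2
    · exact mul_mem h1 h2

theorem x_mem_X (i : ℕ) : C.x i ∈ C.X i := subset_closure (Set.mem_insert _ _)

theorem a_mem_X (i : ℕ) : C.a i ∈ C.X i := subset_closure (Set.mem_insert_of_mem _ rfl)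

theorem X_le {i k : ℕ} (h : i < k) : C.X i ≤ C.N k := by
  unfold X
  rw [closure_le]
  rintro y (rfl | rfl)
  · exact C.ch.x_mem h
  · exact C.ch.a_mem h

/-- the four-group `i` meets `N i` trivially -/
theorem eq_one_of_mem {i : ℕ} (hi : i < 2 * C.m) {y : G} (hy : y ∈ C.X i) (h : y ∈ C.N i) : y = 1 := by
  have hxN : C.x i ∉ C.N i := fun h' => C.xU i hi (C.comm_t_mem hi.le h' (C.xt i hi))
  have key : ∀ z, C.t * z * C.t⁻¹ = C.x i * z → z ∉ C.N i := by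
    intro z hz h'
    apply hxN
    have := mul_mem (C.ch.t_conj_mem hi.le h') (inv_mem h')
    change C.t * z * C.t⁻¹ * z⁻¹ ∈ _ at this
    rwa [hz, mul_inv_cancel_right] at this
  rcases (C.mem_X hi).1 hy with rfl | rfl | rfl | rfl
  · rfl
  · exact absurd h hxN
  · exact absurd h (key _ (C.t_conj_a hi))
  · refine absurd h (key _ ?_)
    have e : C.t * (C.x i * C.a i) * C.t⁻¹ = (C.t * C.x i * C.t⁻¹) * (C.t * C.a i * C.t⁻¹) := by group
    rw [e, C.t_conj_x hi, C.t_conj_a hi]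

/-- every element of `N (i + 1)` is the product of an element of the four-group `i` and of `N i` -/
theorem exists_mul {i : ℕ} (hi : i < 2 * C.m) {c : G} (hc : c ∈ C.N (i + 1)) :
    ∃ y ∈ C.X i, ∃ n ∈ C.N i, c = y * n := by
  have h1 := C.x_mem_X i
  have h2 := C.a_mem_X i
  obtain ⟨m, hm, rfl | rfl | rfl | rfl⟩ := C.ch.mem_succ (k := i) hi hc
  · exact ⟨1, one_mem _, _, hm, (one_mul _).symm⟩
  · exact ⟨_, h1, _, hm, rfl⟩
  · exact ⟨_, h2, _, hm, rfl⟩
  · exact ⟨_, mul_mem h2 h1, _, hm, (mul_assoc _ _ _).symm⟩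

/-! ### commutators of pairs -/

/-- commutators of `N (2 m)` with `N (2 (k + 1))` lie in `N (2 k)` -/
theorem comm_mem {k : ℕ} (hk : k < C.m) :
    ∀ c ∈ C.N (2 * C.m), ∀ d ∈ C.N (2 * (k + 1)), c * d * c⁻¹ * d⁻¹ ∈ C.N (2 * k) := by
  refine comm_closure (S := C.N (2 * C.m)) (fun s hs n hn => C.conj_mem (by omega) hs hn) le_rfl
    (C.N_mono (by omega)) ?_
  rintro y ⟨i, hi, hy⟩ z ⟨j, hj, hz⟩
  change i < 2 * C.m at hi
  rcases le_total i j with hij | hij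
  · have := C.comm i j hij (by omega) y z hy hz
    exact C.N_mono (i := 2 * (i / 2)) (by omega) this
  · have := C.comm j i hij hi z y hz hy
    have h2 := C.N_mono (i := 2 * (j / 2)) (j := 2 * k) (by omega) (inv_mem this)
    have e : (z * y * z⁻¹ * y⁻¹)⁻¹ = y * z * y⁻¹ * z⁻¹ := by group
    rwa [e] at h2

/-! ### the action of `g` -/

theorem gg_conj {c : G} (hc : c * C.t = C.t * c) : C.g * C.g * c * (C.g * C.g)⁻¹ = c := by
  rcases C.gg with h | h
  · rw [h]; group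
  · rw [h, ← hc, mul_inv_cancel_right]

theorem gx' {k : ℕ} (hk : k < C.m) : C.g * C.x (2 * k + 1) * C.g⁻¹ = C.x (2 * k) := by
  rw [← C.gx k hk]
  calc C.g * (C.g * C.x (2 * k) * C.g⁻¹) * C.g⁻¹ = C.g * C.g * C.x (2 * k) * (C.g * C.g)⁻¹ := by group
    _ = _ := C.gg_conj (C.xt (2 * k) (by omega))

theorem ga' {k : ℕ} (hk : k < C.m) : C.g * C.a (2 * k + 1) * C.g⁻¹ ∈ C.X (2 * k) := by
  rw [← C.ga k hk]
  have e : C.g * (C.g * C.a (2 * k) * C.g⁻¹) * C.g⁻¹ = C.g * C.g * C.a (2 * k) * (C.g * C.g)⁻¹ := by group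
  rw [e]
  rcases C.gg with h | h
  · rw [h, one_mul, inv_one, mul_one]
    exact C.a_mem_X _
  · rw [h, C.t_conj_a (by omega)]
    exact mul_mem (C.x_mem_X _) (C.a_mem_X _)

theorem conj_closure_le {K : Subgroup G} {S : Set G} {h : G} (H : ∀ y ∈ S, h * y * h⁻¹ ∈ K) :
    ∀ y ∈ closure S, h * y * h⁻¹ ∈ K := by
  have : (closure S).map (MulAut.conj h).toMonoidHom ≤ K := by
    rw [MonoidHom.map_closure, closure_le]
    rintro _ ⟨y, hy, rfl⟩
    exact H y hy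
  intro y hy
  exact this ⟨y, hy, rfl⟩

/-- An involution which commutes with `t` and interchanges the two four-groups of a pair. -/
structure Swap (h : G) : Prop where
  hh : h * h = 1
  ht : h * C.t = C.t * h
  h0 : ∀ k < C.m, ∀ y ∈ C.X (2 * k), h * y * h⁻¹ ∈ C.X (2 * k + 1)
  h1 : ∀ k < C.m, ∀ y ∈ C.X (2 * k + 1), h * y * h⁻¹ ∈ C.X (2 * k)

theorem g_h0 : ∀ k < C.m, ∀ y ∈ C.X (2 * k), C.g * y * C.g⁻¹ ∈ C.X (2 * k + 1) := by
  intro k hk
  refine conj_closure_le ?_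
  rintro y (rfl | rfl)
  · rw [C.gx k hk]; exact C.x_mem_X _
  · rw [C.ga k hk]; exact C.a_mem_X _

theorem g_h1 : ∀ k < C.m, ∀ y ∈ C.X (2 * k + 1), C.g * y * C.g⁻¹ ∈ C.X (2 * k) := by
  intro k hk
  refine conj_closure_le ?_
  rintro y (rfl | rfl)
  · rw [C.gx' hk]; exact C.x_mem_X _
  · exact C.ga' hk

theorem t_X {i : ℕ} (hi : i < 2 * C.m) : ∀ y ∈ C.X i, C.t * y * C.t⁻¹ ∈ C.X i := by
  refine conj_closure_le ?_
  rintro y (rfl | rfl)
  · rw [C.t_conj_x hi]; exact C.x_mem_X _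
  · rw [C.t_conj_a hi]; exact mul_mem (C.x_mem_X _) (C.a_mem_X _)

theorem t_comp_conj (h y : G) : C.t * h * y * (C.t * h)⁻¹ = C.t * (h * y * h⁻¹) * C.t⁻¹ := by group

theorem swap_g (hg : C.g * C.g = 1) : C.Swap C.g := ⟨hg, C.gt, C.g_h0, C.g_h1⟩

theorem Swap.t_mul {C : PairChain G} {h : G} (H : C.Swap h) : C.Swap (C.t * h) where
  hh := by
    calc C.t * h * (C.t * h) = C.t * (h * C.t) * h := by group
      _ = (C.t * C.t) * (h * h) := by rw [H.ht]; group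
      _ = 1 := by rw [C.tt, H.hh, one_mul]
  ht := by rw [mul_assoc, H.ht]
  h0 k hk y hy := by rw [C.t_comp_conj]; exact C.t_X (by omega) _ (H.h0 k hk y hy)
  h1 k hk y hy := by rw [C.t_comp_conj]; exact C.t_X (by omega) _ (H.h1 k hk y hy)

theorem N_eq (k : ℕ) : C.N k = closure {g | ∃ j < k, g = C.x j ∨ g = C.a j} := rfl

theorem conj_N_of {h : G} (h0 : ∀ k < C.m, ∀ y ∈ C.X (2 * k), h * y * h⁻¹ ∈ C.X (2 * k + 1))
    (h1 : ∀ k < C.m, ∀ y ∈ C.X (2 * k + 1), h * y * h⁻¹ ∈ C.X (2 * k)) {k : ℕ} (hk : k ≤ C.m) :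
    ∀ c ∈ C.N (2 * k), h * c * h⁻¹ ∈ C.N (2 * k) := by
  rw [C.N_eq]
  refine conj_closure_le ?_
  rintro y ⟨j, hj, hy⟩
  have hyX : y ∈ C.X j := by
    rcases hy with rfl | rfl
    · exact C.x_mem_X j
    · exact C.a_mem_X j
  rw [← C.N_eq]
  rcases Nat.even_or_odd' j with ⟨l, rfl | rfl⟩
  · exact C.X_le (by omega) (h0 l (by omega) y hyX)
  · exact C.X_le (by omega) (h1 l (by omega) y hyX)

theorem Swap.conj_N {C : PairChain G} {h : G} (H : C.Swap h) {k : ℕ} (hk : k ≤ C.m) :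
    ∀ c ∈ C.N (2 * k), h * c * h⁻¹ ∈ C.N (2 * k) := C.conj_N_of H.h0 H.h1 hk

theorem Swap.inv {C : PairChain G} {h : G} (H : C.Swap h) : h⁻¹ = h := inv_eq_of_mul_eq_one_right H.hh

/-- uniqueness for a pair -/
theorem pair_eq_one {k : ℕ} (hk : k < C.m) {y z : G} (hy : y ∈ C.X (2 * k)) (hz : z ∈ C.X (2 * k + 1))
    (h : z * y ∈ C.N (2 * k)) : y = 1 ∧ z = 1 := by
  have h1 : z ∈ C.N (2 * k + 1) := by
    have := mul_mem (C.N_mono (Nat.le_succ _) h) (inv_mem (C.X_le (Nat.lt_succ_self _) hy))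
    rwa [mul_inv_cancel_right] at this
  have hz1 : z = 1 := C.eq_one_of_mem (by omega) hz h1
  rw [hz1, one_mul] at h
  exact ⟨C.eq_one_of_mem (by omega) hy h, hz1⟩

/-- every element of `N (2 (k + 1))` -/
theorem exists_pair {k : ℕ} (hk : k < C.m) {c : G} (hc : c ∈ C.N (2 * (k + 1))) :
    ∃ z ∈ C.X (2 * k + 1), ∃ y ∈ C.X (2 * k), ∃ n ∈ C.N (2 * k), c = z * y * n := by
  obtain ⟨z, hz, n, hn, rfl⟩ := C.exists_mul (i := 2 * k + 1) (by omega) hc
  obtain ⟨y, hy, n', hn', rfl⟩ := C.exists_mul (i := 2 * k) (by omega) hn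
  exact ⟨z, hz, y, hy, n', hn', (mul_assoc _ _ _).symm⟩

/-- one step: an involution of `h N (2 (k + 1))` is conjugate into `h N (2 k)` -/
theorem Swap.step {C : PairChain G} {h : G} (H : C.Swap h) {k : ℕ} (hk : k < C.m) {u : G} (hu : u * u = 1)
    (huN : h⁻¹ * u ∈ C.N (2 * (k + 1))) : ∃ s ∈ C.N (2 * (k + 1)), h⁻¹ * (s * u * s⁻¹) ∈ C.N (2 * k) := by
  obtain ⟨z, hz, y, hy, n, hn, he⟩ := C.exists_pair hk huN
  have hi := H.inv
  have hzN : z ∈ C.N (2 * C.m) := C.X_le (by omega) hz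
  have hyN : y ∈ C.N (2 * C.m) := C.X_le (by omega) hy
  set z' := h * z * h⁻¹ with hz'
  set y' := h * y * h⁻¹ with hy'
  set n' := h * n * h⁻¹ with hn'
  have hz'X : z' ∈ C.X (2 * k) := H.h1 k hk z hz
  have hy'X : y' ∈ C.X (2 * k + 1) := H.h0 k hk y hy
  have hn'N : n' ∈ C.N (2 * k) := H.conj_N hk.le n hn
  have hue : u = h * (z * y * n) := by rw [← he]; group
  have h1 : z' * y' * n' * (z * y * n) = 1 := by
    rw [← hu, hue, hz', hy', hn']
    calc _ = h * (z * y * n) * h⁻¹ * (z * y * n) := by group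
      _ = _ := by rw [hi]; group
  have hbX : y' * z ∈ C.X (2 * k + 1) := mul_mem hy'X hz
  have hcX : z' * y ∈ C.X (2 * k) := mul_mem hz'X hy
  have hbN : y' * z ∈ C.N (2 * C.m) := C.X_le (by omega) hbX
  have hcN : z' * y ∈ C.N (2 * C.m) := C.X_le (by omega) hcX
  have hc : (y' * z)⁻¹ * z' * (y' * z)⁻¹⁻¹ * z'⁻¹ ∈ C.N (2 * k) :=
    C.comm_mem hk _ (inv_mem hbN) _ (C.X_le (by omega) hz'X)
  have h2 : (y' * z) * (z' * y) ∈ C.N (2 * k) := by
    -- `z' y' n' z y n = (y' z) (z' y) * ...`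
    have h3 : (z' * y)⁻¹ * ((y' * z)⁻¹ * z' * (y' * z)⁻¹⁻¹ * z'⁻¹) * (z' * y) *
        ((z * y)⁻¹ * n' * (z * y) * n) ∈ C.N (2 * k) :=
      mul_mem (C.conj_mem' (by omega) hcN hc)
        (mul_mem (C.conj_mem' (by omega) (mul_mem hzN hyN) hn'N) hn)
    have e : (y' * z) * (z' * y) * ((z' * y)⁻¹ * ((y' * z)⁻¹ * z' * (y' * z)⁻¹⁻¹ * z'⁻¹) * (z' * y) *
        ((z * y)⁻¹ * n' * (z * y) * n)) = z' * y' * n' * (z * y * n) := by group
    rw [h1] at e
    have := inv_mem h3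
    rwa [inv_eq_of_mul_eq_one_left e] at this
  have h4 := C.pair_eq_one hk hcX hbX h2
  refine ⟨y, C.X_le (by omega) hy, ?_⟩
  have e : h⁻¹ * (y * u * y⁻¹) = (y' * z) * (y * n * y⁻¹) := by
    rw [hue, hy']
    calc h⁻¹ * (y * (h * (z * y * n)) * y⁻¹) = h⁻¹ * y * h⁻¹⁻¹ * z * (y * n * y⁻¹) := by group
      _ = _ := by rw [inv_inv, hi]
  rw [e, h4.2, one_mul]
  exact C.conj_mem (by omega) hyN hn

/-- every involution of `h N (2 k)` is conjugate to `h` -/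
theorem Swap.conj_of_invol {C : PairChain G} {h : G} (H : C.Swap h) {k : ℕ} (hk : k ≤ C.m) :
    ∀ u : G, u * u = 1 → h⁻¹ * u ∈ C.N (2 * k) → ∃ s ∈ C.N (2 * k), s * u * s⁻¹ = h := by
  induction k with
  | zero =>
    intro u _ huN
    refine ⟨1, one_mem _, ?_⟩
    have huN' : h⁻¹ * u ∈ C.ch.N 0 := huN
    rw [C.ch.N_zero, mem_bot] at huN'
    rw [one_mul, inv_one, mul_one]
    exact (inv_mul_eq_one.1 huN').symm
  | succ k ih =>
    intro u hu huN
    obtain ⟨s, hs, hs2⟩ := H.step (by omega) hu huN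
    obtain ⟨r, hr, hr2⟩ := ih (by omega) (s * u * s⁻¹) (by
      calc s * u * s⁻¹ * (s * u * s⁻¹) = s * (u * u) * s⁻¹ := by group
        _ = 1 := by rw [hu]; group) hs2
    refine ⟨r * s, mul_mem (C.N_mono (by omega) hr) hs, ?_⟩
    rw [← hr2]
    group

end PairChain

end Cfsg.Agent.F42.Pairs
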