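import Cfsg.Agent.F42.ParData

/-!
# Automorphisms of the parabolic `P_s = C_L(x 44)` of `F₄(2)`

`two_le`: a normal `2`-subgroup of `P_s` is contained in `Q_s`.
`exists_inner`: for every automorphism `α` of `P_s` there is `p ∈ P_s` such that `p⁻¹ α(·) p` is the identity on
`Q_s` and moves every element of `P_s` by an element of `W_s = Z(Q_s)`.
-/

set_option autoImplicit false

namespace Cfsg.Agent.F42.ParAut

open Cfsg.Lie Cfsg.Agent.ChevalleyStructure.TwF4.Rel Cfsg.Agent.ChevalleyStructure.TwF4.Tables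
open Cfsg.Agent.ChevalleyStructure.F4TwU (posList mem_posList)
open Cfsg.Agent.FourTwo.Base Cfsg.Agent.FourTwo.Comm Cfsg.Agent.FourTwo.Par
open Cfsg.Agent.FourTwo.BN
open Cfsg.Agent.FourTwo.Cent
open WCode (qf okL actW)
open ParFacts ParData

/-- the parabolic as a group -/
abbrev PP : Type := ↥Ps

/-- `Q_s` in `P_s` -/
def QP : Subgroup PP := Qs.subgroupOf Ps

/-- `W_s` in `P_s` -/
def WP : Subgroup PP := Ws.subgroupOf Ps

/-- `U` in `P_s` -/
def UP : Subgroup PP := U.subgroupOf Ps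

theorem mem_QP {g : PP} : g ∈ QP ↔ (g : LL) ∈ Qs := Subgroup.mem_subgroupOf
theorem mem_WP {g : PP} : g ∈ WP ↔ (g : LL) ∈ Ws := Subgroup.mem_subgroupOf
theorem mem_UP {g : PP} : g ∈ UP ↔ (g : LL) ∈ U := Subgroup.mem_subgroupOf

/-- root elements -/
def xp (r : ℕ) (h1 : 15 ≤ r) (h2 : r < 48) : PP := ⟨x r, x_mem_Ps h1 h2⟩

/-! ### `Q_s = O_2(P_s)` -/

theorem index_UP : ¬ 2 ∣ UP.index := by
  have h1 : UP.index = U.relIndex Ps := rfl
  rw [h1]
  intro h2
  have h3 := Subgroup.relIndex_mul_index U_le_Ps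
  have h4 : 2 ∣ U.index := by
    rw [← h3]
    exact dvd_mul_of_dvd_left h2 _
  have h5 := FourTwo.Perf.odd_index
  rw [← Nat.not_even_iff_odd, even_iff_two_dvd] at h5
  exact h5 h4

theorem isPGroup_UP : IsPGroup 2 UP := by
  have h : IsPGroup 2 U := IsPGroup.of_card FourTwo.Perf.card_U
  exact h.comap_of_injective Ps.subtype Subtype.val_injective

instance : Finite LL := FourTwo.Perf.instFiniteLL

/-- a normal 2-subgroup of `P_s` lies in `U` -/
theorem le_UP {R : Subgroup PP} [R.Normal] (hR : IsPGroup 2 R) : R ≤ UP := by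
  have : Fact (Nat.Prime 2) := ⟨Nat.prime_two⟩
  obtain ⟨S, hS⟩ := hR.exists_le_sylow
  obtain ⟨g, hg⟩ := MulAction.exists_smul_eq PP S (isPGroup_UP.toSylow index_UP)
  intro r hr
  have h1 : g⁻¹ * r * g ∈ S := hS (by
    have := Subgroup.Normal.conj_mem ‹R.Normal› r hr g⁻¹
    rwa [inv_inv] at this)
  have h3 : r ∈ ((isPGroup_UP.toSylow index_UP : Sylow 2 PP) : Subgroup PP) := by
    rw [← hg, Sylow.coe_subgroup_smul]
    refine ⟨g⁻¹ * r * g, h1, ?_⟩
    show g * (g⁻¹ * r * g) * g⁻¹ = r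
    group
  exact h3

/-- the longest element of the Weyl group of the Levi complement -/
def w0' : List ℕ := [1, 2, 3, 1, 2, 3, 1, 2, 3]

theorem w0'_lt : ∀ i ∈ w0', 1 ≤ i ∧ i < 4 := by decide

theorem act_w0' : ∀ r < 48, 24 ≤ r → r < 33 → act w0' r = 47 - r := by decide +kernel

theorem conj_levi {w : List ℕ} (hw : ∀ r ∈ w, 24 ≤ r ∧ r < 33) : nw w0' * wd w * (nw w0')⁻¹ ∈ V := by
  induction w with
  | nil => rw [wd_nil, mul_one, mul_inv_cancel]; exact one_mem _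
  | cons r w ih =>
    have hr := hw r List.mem_cons_self
    have e : nw w0' * wd (r :: w) * (nw w0')⁻¹ =
        (nw w0' * x r * (nw w0')⁻¹) * (nw w0' * wd w * (nw w0')⁻¹) := by
      rw [wd_cons]; group
    rw [e]
    refine mul_mem ?_ (ih fun s hs => hw s (List.mem_cons_of_mem _ hs))
    rw [nw_conj (fun i hi => (w0'_lt i hi).2) (by omega), act_w0' r (by omega) hr.1 hr.2]
    exact x_mem_V (by omega)

theorem posList_split : posList 24 = (List.range' 24 9) ++ (List.range' 33 15) := by decide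

theorem two_le {R : Subgroup PP} [hn : R.Normal] (hR : IsPGroup 2 R) : R ≤ QP := by
  intro r hr
  have hU : (r : LL) ∈ U := mem_UP.1 (le_UP hR hr)
  obtain ⟨S, hS⟩ := exists_nf hU
  rw [posList_split, List.filter_append, wd_append] at hS
  set a := wd ((List.range' 24 9).filter S) with ha
  set b := wd ((List.range' 33 15).filter S) with hb
  have hbQ : b ∈ Qs := wd_mem_RG fun s hs => by
    have h1 := List.mem_range'_1.1 (List.mem_filter.1 hs).1
    exact ⟨by omega, by unfold qP; exact decide_eq_true (by omega)⟩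
  have hw : nw w0' ∈ Ps := nw_mem w0'_lt
  have h1 : nw w0' * r * (nw w0')⁻¹ ∈ U := by
    have h0 := mem_UP.1 (le_UP hR (hn.conj_mem r hr ⟨nw w0', hw⟩))
    rw [Subgroup.coe_mul, Subgroup.coe_mul, Subgroup.coe_inv] at h0
    exact h0
  have h2 : nw w0' * b * (nw w0')⁻¹ ∈ U := Qs_le_U (Q_norm hw hbQ)
  have h3 : nw w0' * a * (nw w0')⁻¹ ∈ U := by
    have e : nw w0' * a * (nw w0')⁻¹ = (nw w0' * r * (nw w0')⁻¹) * (nw w0' * b * (nw w0')⁻¹)⁻¹ := by
      rw [hS]; group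
    rw [e]
    exact mul_mem h1 (inv_mem h2)
  have h4 : nw w0' * a * (nw w0')⁻¹ ∈ V := conj_levi fun s hs => by
    have h5 := List.mem_range'_1.1 (List.mem_filter.1 hs).1
    omega
  have h5 : nw w0' * a * (nw w0')⁻¹ = 1 := by
    have h6 : nw w0' * a * (nw w0')⁻¹ ∈ U ⊓ V := ⟨h3, h4⟩
    rw [U_inf_V] at h6
    exact Subgroup.mem_bot.1 h6
  have h6 : a = 1 := by
    rw [mul_inv_eq_one] at h5
    exact mul_eq_left.1 h5
  rw [mem_QP, hS, h6, one_mul]
  exact hbQ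

theorem isPGroup_QP : IsPGroup 2 QP := isPGroup_UP.to_le fun _ hg => mem_UP.2 (Qs_le_U (mem_QP.1 hg))

instance normal_QP : QP.Normal := ⟨fun _ hq g => mem_QP.2 (Q_norm g.2 (mem_QP.1 hq))⟩

/-- automorphisms preserve `Q_s` -/
theorem map_Q (α : MulAut PP) : ∀ q ∈ QP, α q ∈ QP := by
  intro q hq
  have hn : (QP.map α.toMonoidHom).Normal := Subgroup.Normal.map inferInstance _ α.surjective
  have hp : IsPGroup 2 (QP.map α.toMonoidHom) := isPGroup_QP.map _
  exact two_le hp ⟨q, hq, rfl⟩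

theorem map_W (α : MulAut PP) : ∀ w ∈ WP, α w ∈ WP := by
  intro w hw
  rw [mem_WP]
  refine cent_Q fun q hq => ?_
  have h1 := map_Q α⁻¹ ⟨q, Qs_le_Ps hq⟩ (mem_QP.2 hq)
  have h2 := comm_W (mem_WP.1 hw) (mem_QP.1 h1)
  have h3 : α⁻¹ ⟨q, Qs_le_Ps hq⟩ * w = w * α⁻¹ ⟨q, Qs_le_Ps hq⟩ := Subtype.ext h2
  have h4 := congrArg α h3
  rw [map_mul, map_mul, MulAut.apply_inv_self] at h4
  exact (congrArg Subtype.val h4).symm

/-! ### The abstract data -/

/-- the central element -/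
def zP : PP := ⟨x 44, x_mem_Ps (by norm_num) (by norm_num)⟩

/-- the highest short element -/
def x0P : PP := ⟨x 40, x_mem_Ps (by norm_num) (by norm_num)⟩

/-- the highest long element -/
def l0P : PP := ⟨x 47, x_mem_Ps (by norm_num) (by norm_num)⟩

/-- a reflection -/
def g0P : PP := ⟨n 3, nmem (by norm_num) (by norm_num)⟩

/-- a basis of `Q_s/W_s` -/
def xsP (i : Fin 8) : PP := ⟨x (33 + i), x_mem_Ps (by omega) (by omega)⟩

/-- the dual basis -/
def ysP (i : Fin 8) : PP := ⟨x (40 - i), x_mem_Ps (by omega) (by omega)⟩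

theorem ext_iff {a b : PP} (h : (a : LL) = b) : a = b := Subtype.ext h

theorem val_mul (a b : PP) : ((a * b : PP) : LL) = (a : LL) * b := rfl

theorem val_inv (a : PP) : ((a⁻¹ : PP) : LL) = (a : LL)⁻¹ := rfl

theorem mem_zpP {g : PP} : g ∈ Subgroup.zpowers zP ↔ (g : LL) ∈ Subgroup.zpowers (x 44) := by
  constructor
  · rintro ⟨k, rfl⟩
    exact ⟨k, rfl⟩
  · rintro ⟨k, hk⟩
    exact ⟨k, ext_iff hk⟩

theorem d_z_sq : zP * zP = 1 := ext_iff (x_mul_self 44)

theorem d_z_cent (g : PP) : g * zP = zP * g := ext_iff (cent44 g.2)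

theorem d_comm_W (w : PP) (hw : w ∈ WP) (q : PP) (hq : q ∈ QP) : q * w = w * q :=
  ext_iff (comm_W (mem_WP.1 hw) (mem_QP.1 hq))

theorem d_Q_comm (a : PP) (ha : a ∈ QP) (b : PP) (hb : b ∈ QP) : a * b * a⁻¹ * b⁻¹ ∈ Subgroup.zpowers zP := by
  rw [mem_zpP]
  simp only [val_mul, val_inv]
  exact Q_comm (mem_QP.1 ha) (mem_QP.1 hb)

theorem val_comm {a b : PP} (h : a * b = b * a) : (a : LL) * b = b * a := by
  have h1 := congrArg (fun g : PP => (g : LL)) h
  simp only [val_mul] at h1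
  exact h1

theorem d_cent_W (g : PP) (h : ∀ w ∈ WP, g * w = w * g) : g ∈ QP := by
  rw [mem_QP]
  refine cent_W fun w hw => ?_
  have h0 : (⟨w, Ws_le_Ps hw⟩ : PP) ∈ WP := mem_WP.2 hw
  have h1 := val_comm (h _ h0)
  exact h1

theorem d_cent_Q (g : PP) (h : ∀ w ∈ QP, g * w = w * g) : g ∈ WP := by
  rw [mem_WP]
  refine cent_Q fun w hw => ?_
  have h0 : (⟨w, Qs_le_Ps hw⟩ : PP) ∈ QP := mem_QP.2 hw
  have h1 := val_comm (h _ h0)
  exact h1

theorem d_U_x0 (u : PP) (hu : u ∈ UP) : u * x0P * u⁻¹ * x0P⁻¹ ∈ WP := by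
  rw [mem_WP]
  simp only [val_mul, val_inv]
  exact U_x0 (mem_UP.1 hu)

theorem d_top_Q (q : PP) (hq : q ∈ QP) (h : ∀ u ∈ UP, u * q * u⁻¹ * q⁻¹ ∈ WP) : q ∈ WP ∨ q * x0P⁻¹ ∈ WP := by
  rw [mem_WP, mem_WP]
  simp only [val_mul, val_inv]
  refine top_Q (mem_QP.1 hq) fun r hr => ?_
  have hr' : 24 ≤ r ∧ r < 48 := by
    simp only [List.mem_cons, List.not_mem_nil, or_false] at hr
    omega
  have h1 := h (xp r (by omega) hr'.2) (mem_UP.2 (x_mem_U hr'.1 hr'.2))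
  rw [mem_WP] at h1
  simp only [val_mul, val_inv] at h1
  exact h1

theorem d_top_W (q : PP) (hq : q ∈ WP) (h : ∀ u ∈ UP, u * q * u⁻¹ * q⁻¹ ∈ Subgroup.zpowers zP) :
    q ∈ Subgroup.zpowers zP ∨ q * l0P⁻¹ ∈ Subgroup.zpowers zP := by
  rw [mem_zpP, mem_zpP]
  simp only [val_mul, val_inv]
  refine top_W (mem_WP.1 hq) fun r hr => ?_
  have hr' : 24 ≤ r ∧ r < 48 := by
    simp only [List.mem_cons, List.not_mem_nil, or_false] at hr
    omega
  have h1 := h (xp r (by omega) hr'.2) (mem_UP.2 (x_mem_U hr'.1 hr'.2))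
  rw [mem_zpP] at h1
  simp only [val_mul, val_inv] at h1
  exact h1

/-- transfer of generation -/
theorem closure_transfer {S : Set LL} {S' : Set PP} (h : Qs ≤ Subgroup.closure S)
    (hS : ∀ s ∈ S, ∃ s' ∈ S', (s' : LL) = s) : QP ≤ Subgroup.closure S' := by
  intro q hq
  have h1 := h (mem_QP.1 hq)
  have h2 : Subgroup.closure S ≤ (Subgroup.closure S').map Ps.subtype := by
    rw [Subgroup.closure_le]
    intro s hs
    obtain ⟨s', h3, rfl⟩ := hS s hs
    exact ⟨s', Subgroup.subset_closure h3, rfl⟩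
  obtain ⟨q', h3, h4⟩ := h2 h1
  have h5 : q' = q := ext_iff h4
  exact h5 ▸ h3

theorem d_gen_Q : QP ≤ Subgroup.closure ((WP : Set PP) ∪ {q | ∃ g, q = g * x0P * g⁻¹}) := by
  refine closure_transfer gen_Q ?_
  rintro s (hs | ⟨g, hg, rfl⟩)
  · exact ⟨⟨s, Ws_le_Ps hs⟩, Or.inl (mem_WP.2 hs), rfl⟩
  · have h1 : ∀ g' : PP, (g' : LL) = g → g' * x0P * g'⁻¹ ∈ ((WP : Set PP) ∪ {q | ∃ g, q = g * x0P * g⁻¹}) :=
      fun g' _ => Or.inr (by rw [Set.mem_ofPred_eq]; exact ⟨g', rfl⟩)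
    refine ⟨_, h1 ⟨g, hg⟩ rfl, ?_⟩
    rw [val_mul, val_mul, val_inv]
    rfl

theorem d_gen_xs : QP ≤ Subgroup.closure ((WP : Set PP) ∪ Set.range xsP) := by
  refine closure_transfer gen_xs ?_
  rintro s (hs | ⟨i, rfl⟩)
  · exact ⟨⟨s, Ws_le_Ps hs⟩, Or.inl (mem_WP.2 hs), rfl⟩
  · exact ⟨xsP i, Or.inr ⟨i, rfl⟩, rfl⟩

theorem d_g0_x0 : g0P * x0P * g0P⁻¹ * x0P⁻¹ ∈ WP := by
  rw [mem_WP]
  simp only [val_mul, val_inv]
  show n 3 * x 40 * (n 3)⁻¹ * (x 40)⁻¹ ∈ Ws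
  rw [n3_40, mul_inv_cancel]
  exact one_mem _

theorem d_g0_l0 : g0P * l0P * g0P⁻¹ * l0P⁻¹ ∉ Subgroup.zpowers zP := by
  rw [mem_zpP]
  simp only [val_mul, val_inv]
  exact g0_l0

theorem d_dual_self (i : Fin 8) : ysP i * xsP i * (ysP i)⁻¹ * (xsP i)⁻¹ = zP := by
  apply ext_iff
  simp only [val_mul, val_inv]
  show x (40 - i) * x (33 + i) * (x (40 - i))⁻¹ * (x (33 + i))⁻¹ = x 44
  rw [dual_aux i.2 i.2, if_pos rfl]

theorem d_dual_ne (i j : Fin 8) (hij : i ≠ j) : ysP i * xsP j * (ysP i)⁻¹ * (xsP j)⁻¹ = 1 := by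
  apply ext_iff
  simp only [val_mul, val_inv]
  show x (40 - i) * x (33 + j) * (x (40 - i))⁻¹ * (x (33 + j))⁻¹ = 1
  rw [dual_aux i.2 j.2, if_neg fun h => hij (Fin.ext h)]

theorem data : AutPar.Data QP WP UP zP x0P l0P g0P xsP ysP where
  W_le _ hw := mem_QP.2 (Ws_le_Qs (mem_WP.1 hw))
  z_mem := mem_WP.2 x44_mem
  z_sq := d_z_sq
  z_cent := d_z_cent
  comm_W := d_comm_W
  Q_comm := d_Q_comm
  Q_norm g _ hq := mem_QP.2 (Q_norm g.2 (mem_QP.1 hq))
  W_norm g _ hq := mem_WP.2 (W_norm g.2 (mem_WP.1 hq))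
  cent_W := d_cent_W
  cent_Q := d_cent_Q
  x0_mem := mem_QP.2 (x_mem_Qs (by norm_num) (by norm_num))
  x0_not h := x40_not (mem_WP.1 h)
  U_x0 := d_U_x0
  top_Q := d_top_Q
  gen_Q := d_gen_Q
  top_W := d_top_W
  g0_x0 := d_g0_x0
  g0_l0 := d_g0_l0
  xs_mem i := mem_QP.2 (x_mem_Qs (by omega) (by omega))
  ys_mem i := mem_QP.2 (x_mem_Qs (by omega) (by omega))
  gen_xs := d_gen_xs
  dual_self := d_dual_self
  dual_ne := d_dual_ne

/-! ### The action on `W_s` is an isometry -/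

/-- the elements of `W_s` -/
def wvP (c : ℕ) : PP := ⟨wv c, Ws_le_Ps (wv_mem c)⟩

theorem wvP_mem (c : ℕ) : wvP c ∈ WP := mem_WP.2 (wv_mem c)

theorem exists_wvP {w : PP} (hw : w ∈ WP) : ∃ c < 128, w = wvP c := by
  obtain ⟨c, hc, h⟩ := exists_code_Wv (mem_WP.1 hw)
  exact ⟨c, hc, ext_iff h⟩

theorem wvP_mul {a b : ℕ} (ha : a < 128) (hb : b < 128) : wvP a * wvP b = wvP (a ^^^ b) :=
  ext_iff (wv_mul ha hb)

theorem wvP_zero : wvP 0 = 1 := ext_iff wv_zero

theorem wvP_8 : wvP 8 = zP := ext_iff wv_8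

theorem wvP_inj {a b : ℕ} (ha : a < 128) (hb : b < 128) (h : wvP a = wvP b) : a = b := by
  have h1 := congrArg (fun g : PP => (g : LL)) h
  exact wv_inj ha hb h1

theorem exists_code_map (α : MulAut PP) (c : ℕ) : ∃ d < 128, α (wvP c) = wvP d := exists_wvP (map_W α _ (wvP_mem c))

/-- the map on codes -/
noncomputable def cd (α : MulAut PP) (c : ℕ) : ℕ := Classical.choose (exists_code_map α c)

theorem cd_lt (α : MulAut PP) (c : ℕ) : cd α c < 128 := (Classical.choose_spec (exists_code_map α c)).1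

theorem cd_eq (α : MulAut PP) (c : ℕ) : α (wvP c) = wvP (cd α c) := (Classical.choose_spec (exists_code_map α c)).2

theorem cd_xor (α : MulAut PP) {c d : ℕ} (hc : c < 128) (hd : d < 128) : cd α (c ^^^ d) = cd α c ^^^ cd α d := by
  refine wvP_inj (cd_lt α _) (WCode.xor_lt (cd_lt α _) (cd_lt α _)) ?_
  rw [← cd_eq, ← wvP_mul hc hd, map_mul, cd_eq, cd_eq, wvP_mul (cd_lt α _) (cd_lt α _)]

theorem cd_ker (α : MulAut PP) {c : ℕ} (hc : c < 128) (h : cd α c = 0) : c = 0 := by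
  have h1 := cd_eq α c
  rw [h, wvP_zero, map_eq_one_iff α α.injective, ← wvP_zero] at h1
  exact wvP_inj hc (by norm_num) h1

/-- letters -/
def xP (r : ℕ) (h1 : 15 ≤ r) (h2 : r < 48) : PP := ⟨x r, x_mem_Ps h1 h2⟩

theorem map_z (α : MulAut PP) : α zP = zP := by
  obtain ⟨e, he, h1⟩ := exists_wvP (map_W α zP (mem_WP.2 x44_mem))
  have h2 : ∀ g : PP, g * wvP e = wvP e * g := by
    intro g
    obtain ⟨g', rfl⟩ := α.surjective g
    rw [← h1, ← map_mul, ← map_mul, d_z_cent]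
  have h3 : ∀ r, 15 ≤ r → r < 33 → WCode.act r e = e := by
    intro r hr hr'
    have h4 := val_comm (h2 (xP r hr (by omega)))
    have h5 : x r * wv e * (x r)⁻¹ = wv e := by
      have h6 : x r * wv e = wv e * x r := h4
      rw [h6, mul_inv_cancel_right]
    rw [conj_wv hr (by omega) he] at h5
    exact wv_inj (WCode.tab_of hr (by omega) he).1 he h5
  rcases WCode.eq_of_fix he h3 with rfl | rfl
  · exfalso
    rw [wvP_zero, map_eq_one_iff α α.injective] at h1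
    have h4 : x 44 = 1 := congrArg (fun g : PP => (g : LL)) h1
    exact x_ne_one (by norm_num) h4
  · rw [h1, wvP_8]

theorem cd_8 (α : MulAut PP) : cd α 8 = 8 := by
  refine wvP_inj (cd_lt α _) (by norm_num) ?_
  rw [← cd_eq, wvP_8, map_z]

theorem qf_cd (α : MulAut PP) {c : ℕ} (hc : c < 128) (h0 : c ≠ 0) (hq : qf c = false) :
    qf (cd α c) = qf (cd α 64) := by
  obtain ⟨w, hw, h1⟩ := WCode.exists_to64 hc h0 hq
  have h2 : (⟨wd w, wd_mem_Ps hw⟩ : PP) * wvP c * (⟨wd w, wd_mem_Ps hw⟩ : PP)⁻¹ = wvP 64 := by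
    apply ext_iff
    rw [val_mul, val_mul, val_inv, ← h1]
    exact wd_conj_wv hw hc
  have h3 := congrArg α h2
  rw [map_mul, map_mul, map_inv, cd_eq, cd_eq] at h3
  have h4 := congrArg (fun g : PP => (g : LL)) h3
  simp only [val_mul, val_inv] at h4
  obtain ⟨d, hd, h5, h6⟩ := (conj_code (α ⟨wd w, wd_mem_Ps hw⟩).2).1 _ (cd_lt α c)
  have h7 : wv d = wv (cd α 64) := h5.symm.trans h4
  rw [← wv_inj hd (cd_lt α 64) h7, h6]

theorem good (α : MulAut PP) : WCode.Good (cd α) where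
  lt c _ := cd_lt α c
  xor _ hc _ hd := cd_xor α hc hd
  ker _ hc h := cd_ker α hc h
  eight := cd_8 α
  q := by
    rcases Bool.eq_false_or_eq_true (qf (cd α 64)) with h64 | h64
    · exfalso
      exact WCode.flip_false (fun c _ => cd_lt α c) (fun _ hc _ hd => cd_xor α hc hd) (fun _ hc h => cd_ker α hc h)
        (cd_8 α) fun c hc h0 hq => by rw [qf_cd α hc h0 hq, h64]
    · intro c hc
      rcases Bool.eq_false_or_eq_true (qf c) with hq | hq
      · have h1 := WCode.qf_8 hc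
        rw [hq] at h1
        have hc' : c ^^^ 8 < 128 := WCode.xor_lt hc (by norm_num)
        by_cases h0 : c ^^^ 8 = 0
        · have h2 : c = 8 := by
            have h3 : (c ^^^ 8) ^^^ 8 = 0 ^^^ 8 := by rw [h0]
            rw [Nat.xor_assoc] at h3
            simpa using h3
          rw [h2, cd_8]
        · have h2 := qf_cd α hc' h0 h1
          rw [h64, cd_xor α hc (by norm_num), cd_8, WCode.qf_8 (cd_lt α c)] at h2
          rw [hq]
          simpa using h2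
      · by_cases h0 : c = 0
        · subst h0
          have h1 := cd_xor α (c := 0) (d := 0) (by norm_num) (by norm_num)
          simp only [Nat.xor_self] at h1
          rw [h1]
        · rw [qf_cd α hc h0 hq, h64, hq]

theorem exists_W (α : MulAut PP) : ∃ p : PP, ∀ w ∈ WP, α w = p * w * p⁻¹ := by
  obtain ⟨w, hw, h⟩ := (good α).exists_word
  refine ⟨(⟨wd w, wd_mem_Ps hw⟩ : PP)⁻¹, fun v hv => ?_⟩
  obtain ⟨c, hc, rfl⟩ := exists_wvP hv
  rw [cd_eq]
  apply ext_iff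
  rw [inv_inv, val_mul, val_mul, val_inv]
  have h1 := wd_conj_wv hw (cd_lt α c)
  rw [h c hc] at h1
  show wv (cd α c) = (wd w)⁻¹ * wv c * wd w
  rw [← h1]
  group

/-- **Automorphisms of `P_s`.** -/
theorem exists_inner (α : MulAut PP) :
    ∃ p : PP, (∀ q ∈ QP, α q = p * q * p⁻¹) ∧ ∀ g, p⁻¹ * α g * p * g⁻¹ ∈ WP :=
  data.exists_inner α (map_Q α) (exists_W α)

end Cfsg.Agent.F42.ParAut
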