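import Cfsg.Agent.F42.ParFacts
import Cfsg.Agent.FourTwo.CentK

/-!
# The parabolic `P_s = C_L(x 44)` of `F₄(2)`: the facts `AutPar.Data`
-/

set_option autoImplicit false

namespace Cfsg.Agent.F42.ParData

open Cfsg.Lie Cfsg.Agent.ChevalleyStructure.TwF4.Rel Cfsg.Agent.ChevalleyStructure.TwF4.Tables
open Cfsg.Agent.ChevalleyStructure.TwF4.Torus (all_of)
open Cfsg.Agent.ChevalleyStructure.F4TwU (posList mem_posList)
open Cfsg.Agent.FourTwo.Base Cfsg.Agent.FourTwo.Comm Cfsg.Agent.FourTwo.Par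
open Cfsg.Agent.FourTwo.BN
open Cfsg.Agent.FourTwo.Cent Cfsg.Agent.FourTwo.Classes
open Cfsg.Agent.FourTwo.UCode (mulU conjU lets mem_lets el wel_lets)
open WCode (qf)
open Cfsg.Agent.FourTwo.CentW (GG Y E)
open ParFacts

/-! ### Inclusions -/

theorem Ws_le_Qs : Ws ≤ Qs := RG_mono fun r _ h => by
  unfold wP at h
  unfold qP
  rw [decide_eq_true_eq] at h ⊢
  omega

theorem Qs_le_Ps : Qs ≤ Ps := RG_mono fun r _ h => by
  unfold qP at h
  unfold psP
  rw [decide_eq_true_eq] at h ⊢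
  omega

theorem Ws_le_Ps : Ws ≤ Ps := le_trans Ws_le_Qs Qs_le_Ps

theorem U_le_Ps : U ≤ Ps := by
  rw [U_eq]
  exact RG_mono fun r _ h => by
    unfold posP at h
    unfold psP
    rw [decide_eq_true_eq] at h ⊢
    omega

theorem Qs_le_U : Qs ≤ U := by
  rw [U_eq]
  exact RG_mono fun r _ h => by
    unfold qP at h
    unfold posP
    rw [decide_eq_true_eq] at h ⊢
    omega

theorem x44_mem : x 44 ∈ Ws := x_mem_RG (by norm_num) (by decide)

theorem cent44 {g : LL} (hg : g ∈ Ps) : g * x 44 = x 44 * g := by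
  rw [← cent_short, Subgroup.mem_centralizer_singleton_iff] at hg
  exact hg

theorem mem_Ps_of_comm {g : LL} (hg : g * x 44 = x 44 * g) : g ∈ Ps := by
  rw [← cent_short, Subgroup.mem_centralizer_singleton_iff]
  exact hg

/-! ### Commutation -/

/-- root elements of `P` and `Q` commute -/
def commB (P Q : ℕ → Bool) : Bool := (List.range 48).all fun r => !P r || (List.range 48).all fun s =>
  !Q s || (r == s || (r + s != 47 && cmg r s == []))

theorem RG_comm {P Q : ℕ → Bool} (h : commB P Q = true) {p q : LL} (hp : p ∈ RG P) (hq : q ∈ RG Q) :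
    p * q = q * p := by
  have key : ∀ r < 48, P r = true → ∀ s < 48, Q s = true → x r * x s = x s * x r := by
    intro r hr hP s hs hQ
    have h1 := all_of h hr
    rw [hP, Bool.not_true, Bool.false_or] at h1
    have h2 := all_of h1 hs
    rw [hQ, Bool.not_true, Bool.false_or, Bool.or_eq_true, beq_iff_eq] at h2
    rcases h2 with rfl | h2
    · rfl
    · simp only [Bool.and_eq_true, bne_iff_ne, ne_eq, beq_iff_eq] at h2
      exact comm_one hr hs h2.1 h2.2
  have h1 : ∀ r < 48, P r = true → RG Q ≤ Subgroup.centralizer {x r} := fun r hr hP => RG_le fun s hs hQ =>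
    Subgroup.mem_centralizer_singleton_iff.2 (key r hr hP s hs hQ).symm
  have h2 : RG P ≤ Subgroup.centralizer {q} := RG_le fun r hr hP =>
    Subgroup.mem_centralizer_singleton_iff.2 (Subgroup.mem_centralizer_singleton_iff.1 (h1 r hr hP hq)).symm
  have h3 := h2 hp
  rw [Subgroup.mem_centralizer_singleton_iff] at h3
  exact h3

theorem commB_qw : commB qP wP = true := by decide +kernel

theorem comm_W {w q : LL} (hw : w ∈ Ws) (hq : q ∈ Qs) : q * w = w * q := RG_comm commB_qw hq hw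

theorem comm_closure {G : Type*} [Group G] {S : Set G} {Z : Subgroup G} (hc : ∀ z ∈ Z, ∀ s ∈ S, s * z = z * s)
    (h : ∀ s ∈ S, ∀ s' ∈ S, s * s' * s⁻¹ * s'⁻¹ ∈ Z) :
    ∀ a ∈ Subgroup.closure S, ∀ b ∈ Subgroup.closure S, a * b * a⁻¹ * b⁻¹ ∈ Z := by
  have hc' : ∀ a ∈ Subgroup.closure S, ∀ z ∈ Z, a * z = z * a := by
    intro a ha z hz
    have h1 : Subgroup.closure S ≤ Subgroup.centralizer {z} := by
      rw [Subgroup.closure_le]
      intro s hs
      rw [SetLike.mem_coe, Subgroup.mem_centralizer_singleton_iff]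
      exact hc z hz s hs
    exact Subgroup.mem_centralizer_singleton_iff.1 (h1 ha)
  have step : ∀ s' ∈ S, ∀ a ∈ Subgroup.closure S, a * s' * a⁻¹ * s'⁻¹ ∈ Z := by
    intro s' hs' a ha
    induction ha using Subgroup.closure_induction with
    | mem s hs => exact h s hs s' hs'
    | one => simp [Z.one_mem]
    | mul a b ha hb iha ihb =>
      have e : a * b * s' * (a * b)⁻¹ * s'⁻¹ =
          a * (b * s' * b⁻¹ * s'⁻¹) * (s' * a⁻¹ * s'⁻¹) := by group
      rw [e, hc' a ha _ ihb]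
      have e2 : b * s' * b⁻¹ * s'⁻¹ * a * (s' * a⁻¹ * s'⁻¹) =
          (b * s' * b⁻¹ * s'⁻¹) * (a * s' * a⁻¹ * s'⁻¹) := by group
      rw [e2]
      exact Z.mul_mem ihb iha
    | inv a ha iha =>
      have e : a⁻¹ * s' * a⁻¹⁻¹ * s'⁻¹ = a⁻¹ * (a * s' * a⁻¹ * s'⁻¹)⁻¹ * a := by group
      rw [e, hc' a⁻¹ (inv_mem ha) _ (Z.inv_mem iha), mul_assoc, inv_mul_cancel, mul_one]
      exact Z.inv_mem iha
  intro a ha b hb
  induction hb using Subgroup.closure_induction with
  | mem s hs => exact step s hs a ha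
  | one => simp [Z.one_mem]
  | mul b c hb hc0 ihb ihc =>
    have e : a * (b * c) * a⁻¹ * (b * c)⁻¹ =
        (a * b * a⁻¹ * b⁻¹) * (b * (a * c * a⁻¹ * c⁻¹)) * b⁻¹ := by group
    rw [e, hc' b hb _ ihc]
    have e2 : a * b * a⁻¹ * b⁻¹ * (a * c * a⁻¹ * c⁻¹ * b) * b⁻¹ =
        (a * b * a⁻¹ * b⁻¹) * (a * c * a⁻¹ * c⁻¹) := by group
    rw [e2]
    exact Z.mul_mem ihb ihc
  | inv b hb ihb =>
    have e : a * b⁻¹ * a⁻¹ * b⁻¹⁻¹ = b⁻¹ * (a * b * a⁻¹ * b⁻¹)⁻¹ * b := by group
    rw [e, hc' b⁻¹ (inv_mem hb) _ (Z.inv_mem ihb), mul_assoc, inv_mul_cancel, mul_one]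
    exact Z.inv_mem ihb

theorem qq_tab : ((List.range 15).all fun r => (List.range 15).all fun s =>
    cmg (33 + r) (33 + s) == [] || cmg (33 + r) (33 + s) == [44]) = true := by decide +kernel

theorem zp_x44 : x 44 ∈ Subgroup.zpowers (x 44) := Subgroup.mem_zpowers _

theorem Q_comm {a b : LL} (ha : a ∈ Qs) (hb : b ∈ Qs) : a * b * a⁻¹ * b⁻¹ ∈ Subgroup.zpowers (x 44) := by
  have hz : ∀ z ∈ Subgroup.zpowers (x 44), ∀ g ∈ Ps, g * z = z * g := by
    intro z hz g hg
    have : Subgroup.zpowers (x 44) ≤ Subgroup.centralizer {g} := by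
      rw [Subgroup.zpowers_le, Subgroup.mem_centralizer_singleton_iff]
      exact (cent44 hg).symm
    exact (Subgroup.mem_centralizer_singleton_iff.1 (this hz)).symm
  refine comm_closure (S := {g | ∃ r < 48, qP r = true ∧ g = x r}) ?_ ?_ a ha b hb
  · rintro z hz' _ ⟨r, hr, hq, rfl⟩
    exact hz z hz' _ (Qs_le_Ps (x_mem_RG hr hq))
  · rintro _ ⟨r, hr, hq, rfl⟩ _ ⟨s, hs, hq', rfl⟩
    unfold qP at hq hq'
    rw [decide_eq_true_eq] at hq hq'
    by_cases e : r = s
    · rw [e, mul_inv_cancel_right, mul_inv_cancel]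
      exact one_mem _
    · rw [conj_x hr hs e (by omega)]
      have h1 := all_of (all_of qq_tab (show r - 33 < 15 by omega)) (show s - 33 < 15 by omega)
      rw [Nat.add_sub_cancel' hq, Nat.add_sub_cancel' hq', Bool.or_eq_true, beq_iff_eq, beq_iff_eq] at h1
      rcases h1 with h1 | h1
      · rw [h1, wd_nil, mul_one, mul_inv_cancel]
        exact one_mem _
      · rw [h1, wd_one, cent44 (Qs_le_Ps (x_mem_RG hs (by unfold qP; exact decide_eq_true hq'))),
          mul_inv_cancel_right]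
        exact zp_x44

/-! ### Normality -/

theorem normB_q : normB psP qP = true := by decide +kernel

theorem normB_w : normB psP wP = true := by decide +kernel

theorem Q_norm {g q : LL} (hg : g ∈ Ps) (hq : q ∈ Qs) : g * q * g⁻¹ ∈ Qs := conj_mem normB_q hg hq

theorem W_norm {g w : LL} (hg : g ∈ Ps) (hw : w ∈ Ws) : g * w * g⁻¹ ∈ Ws := conj_mem normB_w hg hw

/-! ### Codes -/

theorem ec_eq_wd (e : ℕ) : ec e = wd ((lets e).map fun j => 24 + j) := by
  apply Subtype.ext
  rw [coe_wd_eq_wel, coe_ec, wel_lets]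

theorem ec_mem_RG {P : ℕ → Bool} {e : ℕ} (h : ∀ c < 24, e.testBit c = true → P (24 + c) = true) : ec e ∈ RG P := by
  rw [ec_eq_wd]
  refine wd_mem_RG fun r hr => ?_
  obtain ⟨c, hc, rfl⟩ := List.mem_map.1 hr
  rw [mem_lets] at hc
  exact ⟨by omega, h c hc.1 hc.2⟩

theorem ec_mem_Qs (a : ℕ) : ec (a * 512) ∈ Qs := ec_mem_RG fun c hc h => by
  rw [show (512 : ℕ) = 2 ^ 9 by norm_num, Nat.testBit_mul_two_pow] at h
  simp only [Bool.and_eq_true, decide_eq_true_eq] at h
  unfold qP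
  rw [decide_eq_true_eq]
  omega

theorem wv_mem (c : ℕ) : wv c ∈ Ws := ec_mem_RG fun k hk h => by
  rw [show (131072 : ℕ) = 2 ^ 17 by norm_num, Nat.testBit_mul_two_pow] at h
  simp only [Bool.and_eq_true, decide_eq_true_eq] at h
  unfold wP
  rw [decide_eq_true_eq]
  omega

theorem coe_comm {g : LL} {r : ℕ} (h : g * x r = x r * g) :
    (g : GG) * Y r = Y r * (g : GG) := by
  have h1 := congrArg (Subtype.val) h
  exact h1

/-- **`C_L(W_s) ≤ Q_s`** -/
theorem exists_code_of_W {g : LL} (h : ∀ k < 7, g * x (41 + k) = x (41 + k) * g) :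
    ∃ a < 32768, g = ec (a * 512) := by
  obtain ⟨a, ha, e⟩ := FourTwo.CentC.centW g.2 fun k hk => coe_comm (h k hk)
  exact ⟨a, ha, Subtype.ext e⟩

/-- **`C_L(x₃₃, …, x₄₀) ≤ W_s`** -/
theorem exists_code_of_C {g : LL} (h : ∀ k < 8, g * x (33 + k) = x (33 + k) * g) :
    ∃ a < 128, g = wv a := by
  obtain ⟨a, ha, e⟩ := FourTwo.CentC.centC g.2 fun k hk => coe_comm (h k hk)
  exact ⟨a, ha, Subtype.ext e⟩

theorem x_mem_Ws {k : ℕ} (hk : k < 7) : x (41 + k) ∈ Ws :=
  x_mem_RG (by omega) (by unfold wP; exact decide_eq_true (by omega))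

theorem x_mem_Qs {r : ℕ} (h : 33 ≤ r) (h' : r < 48) : x r ∈ Qs :=
  x_mem_RG h' (by unfold qP; exact decide_eq_true h)

theorem exists_code_Q {q : LL} (hq : q ∈ Qs) : ∃ a < 32768, q = ec (a * 512) :=
  exists_code_of_W fun _ hk => comm_W (x_mem_Ws hk) hq

theorem exists_code_Wv {w : LL} (hw : w ∈ Ws) : ∃ c < 128, w = wv c :=
  exists_code_of_C fun _ hk => (comm_W hw (x_mem_Qs (by omega) (by omega))).symm

theorem cent_W {g : LL} (h : ∀ w ∈ Ws, g * w = w * g) : g ∈ Qs := by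
  obtain ⟨a, -, rfl⟩ := exists_code_of_W (g := g) fun k hk => h _ (x_mem_Ws hk)
  exact ec_mem_Qs a

theorem cent_Q {g : LL} (h : ∀ q ∈ Qs, g * q = q * g) : g ∈ Ws := by
  obtain ⟨a, -, rfl⟩ := exists_code_of_C (g := g) fun k hk => h _ (x_mem_Qs (by omega) (by omega))
  exact wv_mem a

theorem closed_w : closedB wP = true := by decide +kernel

theorem x40_not : x 40 ∉ Ws := by
  rw [x_mem_RG_iff closed_w (by norm_num)]
  decide

theorem wv_mul_comm {a b : ℕ} : wv a * wv b = wv b * wv a := comm_W (wv_mem b) (Ws_le_Qs (wv_mem a))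

/-! ### Highest vectors -/

theorem topQ_tab : ((List.range 256).all fun m => !([0, 1, 3].all fun k =>
    Nat.beq (conjU (2 ^ k) (m * 512) % 131072) (m * 512)) || (Nat.beq m 0 || Nat.beq m 128)) = true := by
  decide +kernel

theorem ec_split (a : ℕ) : ec (a * 512) = ec (a % 256 * 512) * wv (a / 256) := by
  have h := FourTwo.CentK.split_aux a 17 (by norm_num) rfl
  apply Subtype.ext
  rw [show (512 : ℕ) = 2 ^ 9 by norm_num]
  exact h

theorem ec_add (m c : ℕ) (hm : m < 256) : ec (m * 512) * wv c = ec (m * 512 + c * 131072) := by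
  apply Subtype.ext
  have h := FourTwo.CentW.el_add (m * 512) c 17 (by omega) (by norm_num)
  rw [show (131072 : ℕ) = 2 ^ 17 by norm_num]
  exact h.symm

theorem top_aux {m r : ℕ} (hm : m < 256) (h1 : 24 ≤ r) (h2 : r < 48)
    (h : x r * ec (m * 512) * (x r)⁻¹ * (ec (m * 512))⁻¹ ∈ Ws) :
    conjU (2 ^ (r - 24)) (m * 512) % 131072 = m * 512 := by
  obtain ⟨c, hc, e⟩ := exists_code_Wv h
  have e1 : x r * ec (m * 512) * (x r)⁻¹ = ec (m * 512) * wv c := by
    rw [comm_W (wv_mem c) (ec_mem_Qs m), ← e]; group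
  rw [x_eq_ec h1 h2, ← ec_conjU, ec_add _ _ hm] at e1
  have e0 := congrArg (fun g : LL => (g : GG)) e1
  simp only [coe_ec] at e0
  have e2 := FourTwo.CentW.eq_mod_of_E e0
  have e3 : ∀ n : ℕ, n % 2 ^ 24 % 131072 = n % 131072 := fun n =>
    Nat.mod_mod_of_dvd n (by norm_num)
  have e4 := congrArg (fun n => n % 131072) e2
  simp only [e3] at e4
  rw [e4]
  omega

theorem top_Q {q : LL} (hq : q ∈ Qs) (h : ∀ r ∈ [24, 25, 27], x r * q * (x r)⁻¹ * q⁻¹ ∈ Ws) :
    q ∈ Ws ∨ q * (x 40)⁻¹ ∈ Ws := by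
  obtain ⟨a, ha, rfl⟩ := exists_code_Q hq
  set m := a % 256 with hm
  set w := wv (a / 256) with hw
  have hm' : m < 256 := Nat.mod_lt _ (by norm_num)
  have hsp : ec (a * 512) = ec (m * 512) * w := ec_split a
  have key : ∀ r ∈ [24, 25, 27], conjU (2 ^ (r - 24)) (m * 512) % 131072 = m * 512 := by
    intro r hr
    have hr' : 24 ≤ r ∧ r < 48 := by
      simp only [List.mem_cons, List.not_mem_nil, or_false] at hr
      omega
    refine top_aux hm' hr'.1 hr'.2 ?_
    have h1 := h r hr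
    rw [hsp] at h1
    have hrP : x r ∈ Ps := x_mem_Ps (by omega) hr'.2
    have hw1 : (x r * w * (x r)⁻¹) * w⁻¹ ∈ Ws := mul_mem (W_norm hrP (wv_mem _)) (inv_mem (wv_mem _))
    have e : x r * (ec (m * 512) * w) * (x r)⁻¹ * (ec (m * 512) * w)⁻¹ =
        (x r * ec (m * 512) * (x r)⁻¹ * (ec (m * 512))⁻¹) *
          (ec (m * 512) * ((x r * w * (x r)⁻¹) * w⁻¹) * (ec (m * 512))⁻¹) := by group
    rw [e] at h1
    have hw2 := W_norm (Qs_le_Ps (ec_mem_Qs m)) hw1
    exact (Subgroup.mul_mem_cancel_right _ hw2).1 h1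
  have ht := topQ_tab
  rw [List.all_eq_true] at ht
  have h1 := ht m (List.mem_range.2 hm')
  have h2 : ([0, 1, 3].all fun k => Nat.beq (conjU (2 ^ k) (m * 512) % 131072) (m * 512)) = true := by
    rw [List.all_eq_true]
    intro k hk
    simp only [List.mem_cons, List.not_mem_nil, or_false] at hk
    rw [Nat.beq_eq]
    rcases hk with rfl | rfl | rfl
    · exact key 24 (by simp)
    · exact key 25 (by simp)
    · exact key 27 (by simp)
  rw [h2, Bool.not_true, Bool.false_or, Bool.or_eq_true, Nat.beq_eq, Nat.beq_eq] at h1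
  rcases h1 with h1 | h1
  · left
    rw [hsp, h1, Nat.zero_mul, ec_zero, one_mul]
    exact wv_mem _
  · right
    have e : ec (128 * 512) = x 40 := by
      rw [x_eq_ec (by norm_num) (by norm_num)]
      norm_num
    rw [hsp, h1, e, comm_W (wv_mem _) (x_mem_Qs (by norm_num) (by norm_num)), mul_inv_cancel_right]
    exact wv_mem _

theorem mem_zp {c : LL} (hc : c ∈ Subgroup.zpowers (x 44)) : c = 1 ∨ c = x 44 := by
  obtain ⟨k, rfl⟩ := hc
  have hz2 : x 44 ^ (2 : ℤ) = 1 := by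
    rw [zpow_two]; exact x_mul_self 44
  rcases Int.even_or_odd' k with ⟨m, rfl | rfl⟩
  · left
    show x 44 ^ (2 * m) = 1
    rw [zpow_mul, hz2, one_zpow]
  · right
    show x 44 ^ (2 * m + 1) = x 44
    rw [zpow_add, zpow_mul, hz2, one_zpow, one_mul, zpow_one]

theorem top_W {w : LL} (hw : w ∈ Ws) (h : ∀ r ∈ [24, 25, 27], x r * w * (x r)⁻¹ * w⁻¹ ∈ Subgroup.zpowers (x 44)) :
    w ∈ Subgroup.zpowers (x 44) ∨ w * (x 47)⁻¹ ∈ Subgroup.zpowers (x 44) := by
  obtain ⟨c, hc, rfl⟩ := exists_code_Wv hw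
  have key : ∀ r ∈ [24, 25, 27], WCode.act r c = c ∨ WCode.act r c = c ^^^ 8 := by
    intro r hr
    have hr' : 24 ≤ r ∧ r < 48 := by
      simp only [List.mem_cons, List.not_mem_nil, or_false] at hr
      omega
    have h1 := h r hr
    rw [conj_wv (by omega) hr'.2 hc] at h1
    have hlt := (WCode.tab_of (r := r) (by omega) hr'.2 hc).1
    rcases mem_zp h1 with h2 | h2
    · left
      rw [mul_inv_eq_one] at h2
      exact wv_inj hlt hc h2
    · right
      rw [mul_inv_eq_iff_eq_mul, ← wv_8, wv_mul (by norm_num) hc, Nat.xor_comm] at h2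
      exact wv_inj hlt (WCode.xor_lt hc (by norm_num)) h2
  rcases WCode.eq_of_top hc key with rfl | rfl | rfl | rfl
  · left; rw [wv_zero]; exact one_mem _
  · left; rw [wv_8]; exact zp_x44
  · right
    rw [show (64 : ℕ) = 2 ^ 6 by norm_num, wv_basis (by norm_num), mul_inv_cancel]
    exact one_mem _
  · right
    have e : wv 72 = wv 8 * wv (2 ^ 6) := by
      rw [wv_mul (by norm_num) (by norm_num)]; rfl
    rw [e, wv_basis (by norm_num), mul_inv_cancel_right, wv_8]
    exact zp_x44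

/-! ### Reflections -/

theorem nmem {i : ℕ} (hi : 1 ≤ i) (hi' : i < 4) : n i ∈ Ps := by
  have : ∀ i < 4, 1 ≤ i → psP (sp i) = true ∧ psP (47 - sp i) = true := by decide
  exact n_mem_RG hi' (this i hi' hi).1 (this i hi' hi).2

theorem nw_mem {w : List ℕ} (hw : ∀ i ∈ w, 1 ≤ i ∧ i < 4) : nw w ∈ Ps := by
  induction w with
  | nil => exact one_mem _
  | cons i w ih =>
    have e : nw (i :: w) = n i * nw w := by simp [nw]
    rw [e]
    have hi := hw i List.mem_cons_self
    exact mul_mem (nmem hi.1 hi.2) (ih fun j hj => hw j (List.mem_cons_of_mem _ hj))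

/-- words carrying `40` to `33, …, 40` -/
def gT : List (List ℕ) :=
  [[1, 2, 1, 3, 2, 1], [2, 1, 3, 2, 1], [1, 3, 2, 1], [1, 2, 1], [3, 2, 1], [2, 1], [1], []]

theorem gT_tab : ∀ k < 8, (∀ i ∈ gT.getD k [], 1 ≤ i ∧ i < 4) ∧ act (gT.getD k []) 40 = 33 + k := by decide

theorem gen_Q : Qs ≤ Subgroup.closure ((Ws : Set LL) ∪ {q | ∃ g ∈ Ps, q = g * x 40 * g⁻¹}) := by
  refine RG_le fun r hr hq => ?_
  unfold qP at hq
  rw [decide_eq_true_eq] at hq
  by_cases h : 41 ≤ r
  · exact Subgroup.subset_closure (Or.inl (x_mem_RG hr (by unfold wP; exact decide_eq_true h)))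
  · obtain ⟨k, rfl⟩ : ∃ k, r = 33 + k := ⟨r - 33, by omega⟩
    obtain ⟨h1, h2⟩ := gT_tab k (by omega)
    refine Subgroup.subset_closure (Or.inr ⟨nw (gT.getD k []), nw_mem h1, ?_⟩)
    rw [nw_conj (fun i hi => (h1 i hi).2) (by norm_num), h2]

theorem gen_xs : Qs ≤ Subgroup.closure ((Ws : Set LL) ∪ Set.range fun i : Fin 8 => x (33 + i)) := by
  refine RG_le fun r hr hq => ?_
  unfold qP at hq
  rw [decide_eq_true_eq] at hq
  by_cases h : 41 ≤ r
  · exact Subgroup.subset_closure (Or.inl (x_mem_RG hr (by unfold wP; exact decide_eq_true h)))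
  · refine Subgroup.subset_closure (Or.inr ⟨⟨r - 33, by omega⟩, ?_⟩)
    show x (33 + (r - 33)) = x r
    rw [show 33 + (r - 33) = r by omega]

theorem n3_40 : n 3 * x 40 * (n 3)⁻¹ = x 40 := by
  rw [n_conj (by norm_num) (by norm_num)]
  rfl

theorem n3_47 : n 3 * x 47 * (n 3)⁻¹ = x 46 := by
  rw [n_conj (by norm_num) (by norm_num)]
  rfl

theorem g0_l0 : n 3 * x 47 * (n 3)⁻¹ * (x 47)⁻¹ ∉ Subgroup.zpowers (x 44) := by
  rw [n3_47]
  intro h
  have e46 : x 46 = wv 32 := (wv_basis (k := 5) (by norm_num)).symm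
  have e47 : x 47 = wv 64 := (wv_basis (k := 6) (by norm_num)).symm
  rw [x_inv, e46, e47, wv_mul (by norm_num) (by norm_num)] at h
  rcases mem_zp h with h | h
  · rw [← wv_zero] at h
    have := wv_inj (by decide) (by norm_num) h
    revert this; decide
  · rw [← wv_8] at h
    have := wv_inj (by decide) (by norm_num) h
    revert this; decide

theorem dual_tab : ∀ i < 8, ∀ j < 8, (40 - i ≠ 33 + j) →
    cmg (40 - i) (33 + j) = if i = j then [44] else [] := by decide +kernel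

theorem dual_aux {i j : ℕ} (hi : i < 8) (hj : j < 8) :
    x (40 - i) * x (33 + j) * (x (40 - i))⁻¹ * (x (33 + j))⁻¹ = if i = j then x 44 else 1 := by
  by_cases e : 40 - i = 33 + j
  · rw [e, mul_inv_cancel_right, mul_inv_cancel, if_neg (by omega)]
  · rw [conj_x (by omega) (by omega) e (by omega), dual_tab i hi j hj e]
    split
    · rw [wd_one, cent44 (Qs_le_Ps (x_mem_Qs (by omega) (by omega))), mul_inv_cancel_right]
    · rw [wd_nil, mul_one, mul_inv_cancel]

theorem c40_tab : ((List.range 24).all fun r => (cmg (24 + r) 40).all fun p => decide (41 ≤ p) && decide (p < 48)) =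
    true := by decide +kernel

theorem U_x0 {u : LL} (hu : u ∈ U) : u * x 40 * u⁻¹ * (x 40)⁻¹ ∈ Ws := by
  have hu' := hu
  rw [U_eq] at hu'
  unfold RG at hu'
  have hle : ∀ u ∈ Subgroup.closure {g : LL | ∃ r < 48, posP r = true ∧ g = x r}, u ∈ Ps := by
    intro u hu
    have h1 : u ∈ U := by rw [U_eq]; exact hu
    exact U_le_Ps h1
  clear hu
  induction hu' using Subgroup.closure_induction with
  | mem s hs =>
    obtain ⟨r, hr, hp, rfl⟩ := hs
    unfold posP at hp
    rw [decide_eq_true_eq] at hp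
    by_cases e : r = 40
    · rw [e, mul_inv_cancel_right, mul_inv_cancel]
      exact one_mem _
    · rw [conj_x hr (by norm_num) e (by omega)]
      have h1 := all_of c40_tab (show r - 24 < 24 by omega)
      rw [Nat.add_sub_cancel' hp, List.all_eq_true] at h1
      have h2 : wd (cmg r 40) ∈ Ws := wd_mem_RG fun p hp => by
        have h3 := h1 p hp
        simp only [Bool.and_eq_true, decide_eq_true_eq] at h3
        exact ⟨h3.2, by unfold wP; exact decide_eq_true h3.1⟩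
      rw [comm_W h2 (x_mem_Qs (by norm_num) (by norm_num)), mul_inv_cancel_right]
      exact h2
  | one => rw [one_mul, inv_one, mul_one, mul_inv_cancel]; exact one_mem _
  | mul a b ha hb iha ihb =>
    have e : a * b * x 40 * (a * b)⁻¹ * (x 40)⁻¹ =
        a * (b * x 40 * b⁻¹ * (x 40)⁻¹) * a⁻¹ * (a * x 40 * a⁻¹ * (x 40)⁻¹) := by group
    rw [e]
    exact mul_mem (W_norm (hle a ha) ihb) iha
  | inv a ha iha =>
    have e : a⁻¹ * x 40 * a⁻¹⁻¹ * (x 40)⁻¹ = a⁻¹ * (a * x 40 * a⁻¹ * (x 40)⁻¹)⁻¹ * a⁻¹⁻¹ := by group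
    rw [e]
    exact W_norm (inv_mem (hle a ha)) (inv_mem iha)

end Cfsg.Agent.F42.ParData
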