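import Mathlib

/-!
# The orthogonal space `W = 2⁷` of a root parabolic of `F₄(2)` in codes

A code `c < 128` stands for `∏ x_{41 + k}` over the bits `k` of `c`; `act r` is the action of the root element
`x r`, `15 ≤ r < 48`, by conjugation; `qf` is the invariant quadratic form.  `Good.exists_word`: every additive
map preserving `qf` is inverse to the action of a word.
-/

set_option autoImplicit false

namespace Cfsg.Agent.F42.WCode

/-- images of the basis under `x r`, `r = 15, …, 47` -/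
def imgT : List (List ℕ) :=
  [[1, 2, 4, 8, 16, 33, 66], [1, 2, 4, 8, 17, 32, 68], [1, 2, 4, 8, 18, 36, 64], [1, 2, 4, 8, 16, 32, 73],
   [1, 2, 4, 8, 16, 42, 64], [1, 2, 4, 8, 28, 32, 64], [1, 2, 5, 8, 16, 32, 80], [1, 2, 6, 8, 16, 48, 64],
   [1, 3, 4, 8, 16, 32, 96], [3, 2, 4, 8, 16, 96, 64], [1, 6, 4, 8, 48, 32, 64], [5, 2, 4, 8, 80, 32, 64],
   [1, 2, 28, 8, 16, 32, 64], [1, 42, 4, 8, 16, 32, 64], [73, 2, 4, 8, 16, 32, 64], [1, 18, 36, 8, 16, 32, 64],
   [17, 2, 68, 8, 16, 32, 64], [33, 66, 4, 8, 16, 32, 64], [1, 2, 4, 8, 16, 32, 64], [1, 2, 4, 8, 16, 32, 64],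
   [1, 2, 4, 8, 16, 32, 64], [1, 2, 4, 8, 16, 32, 64], [1, 2, 4, 8, 16, 32, 64], [1, 2, 4, 8, 16, 32, 64],
   [1, 2, 4, 8, 16, 32, 64], [1, 2, 4, 8, 16, 32, 64], [1, 2, 4, 8, 16, 32, 64], [1, 2, 4, 8, 16, 32, 64],
   [1, 2, 4, 8, 16, 32, 64], [1, 2, 4, 8, 16, 32, 64], [1, 2, 4, 8, 16, 32, 64], [1, 2, 4, 8, 16, 32, 64],
   [1, 2, 4, 8, 16, 32, 64]]

/-- image of the basis vector `k` -/
def im (r k : ℕ) : ℕ := (imgT.getD (r - 15) []).getD k 0

/-- one summand -/
def tm (m : ℕ → ℕ) (c k : ℕ) : ℕ := if c.testBit k then m k else 0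

/-- the additive map with images `m` -/
def lin (m : ℕ → ℕ) (c : ℕ) : ℕ :=
  tm m c 0 ^^^ (tm m c 1 ^^^ (tm m c 2 ^^^ (tm m c 3 ^^^ (tm m c 4 ^^^ (tm m c 5 ^^^ tm m c 6)))))

/-- the action of a letter -/
def act (r c : ℕ) : ℕ := lin (im r) c

/-- the action of a word -/
def actW (w : List ℕ) (c : ℕ) : ℕ := w.foldr act c

/-- the quadratic form -/
def qf (c : ℕ) : Bool :=
  (c.testBit 0 && c.testBit 6) ^^ ((c.testBit 1 && c.testBit 5) ^^ ((c.testBit 2 && c.testBit 4) ^^ c.testBit 3))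

/-- valid letters -/
def okL (w : List ℕ) : Prop := ∀ r ∈ w, 15 ≤ r ∧ r < 48

theorem tm_xor (m : ℕ → ℕ) (a b k : ℕ) : tm m (a ^^^ b) k = tm m a k ^^^ tm m b k := by
  unfold tm
  rw [Nat.testBit_xor]
  cases a.testBit k <;> cases b.testBit k <;> simp

theorem lin_xor (m : ℕ → ℕ) (a b : ℕ) : lin m (a ^^^ b) = lin m a ^^^ lin m b := by
  unfold lin
  rw [tm_xor, tm_xor, tm_xor, tm_xor, tm_xor, tm_xor, tm_xor]
  ac_rfl

theorem act_xor (r a b : ℕ) : act r (a ^^^ b) = act r a ^^^ act r b := lin_xor _ _ _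

theorem actW_cons (r : ℕ) (w : List ℕ) (c : ℕ) : actW (r :: w) c = act r (actW w c) := rfl

theorem actW_append (w w' : List ℕ) (c : ℕ) : actW (w ++ w') c = actW w (actW w' c) := by
  unfold actW; rw [List.foldr_append]

theorem actW_xor (w : List ℕ) (a b : ℕ) : actW w (a ^^^ b) = actW w a ^^^ actW w b := by
  induction w with
  | nil => rfl
  | cons r w ih => rw [actW_cons, actW_cons, actW_cons, ih, act_xor]

/-- tables -/
def tab : Bool := (List.range 33).all fun r => (List.range 128).all fun c =>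
  Nat.blt (act (15 + r) c) 128 && (qf (act (15 + r) c) == qf c) && (Nat.beq (act (15 + r) c) 0 == Nat.beq c 0)

theorem tab_true : tab = true := by decide +kernel

theorem tab_of {r c : ℕ} (h1 : 15 ≤ r) (h2 : r < 48) (hc : c < 128) :
    act r c < 128 ∧ qf (act r c) = qf c ∧ (act r c = 0 → c = 0) := by
  have h := tab_true
  unfold tab at h
  rw [List.all_eq_true] at h
  have h3 := h (r - 15) (List.mem_range.2 (by omega))
  rw [List.all_eq_true] at h3
  have h4 := h3 c (List.mem_range.2 hc)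
  rw [show 15 + (r - 15) = r by omega] at h4
  simp only [Bool.and_eq_true, beq_iff_eq] at h4
  obtain ⟨⟨h5, h6⟩, h7⟩ := h4
  refine ⟨by simpa [Nat.blt_eq] using h5, h6, fun h8 => ?_⟩
  rw [h8] at h7
  have h9 : Nat.beq c 0 = true := by rw [← h7]; rfl
  exact Nat.eq_of_beq_eq_true h9

theorem act8_tab : ((List.range 33).all fun r => Nat.beq (act (15 + r) 8) 8) = true := by decide +kernel

theorem act_8 {r : ℕ} (h1 : 15 ≤ r) (h2 : r < 48) : act r 8 = 8 := by
  have h := act8_tab
  rw [List.all_eq_true] at h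
  have h3 := h (r - 15) (List.mem_range.2 (by omega))
  rw [show 15 + (r - 15) = r by omega] at h3
  exact Nat.eq_of_beq_eq_true h3

theorem actW_of {w : List ℕ} (hw : okL w) {c : ℕ} (hc : c < 128) :
    actW w c < 128 ∧ qf (actW w c) = qf c ∧ (actW w c = 0 → c = 0) := by
  induction w with
  | nil => exact ⟨hc, rfl, fun h => h⟩
  | cons r w ih =>
    have ih' := ih fun s hs => hw s (List.mem_cons_of_mem _ hs)
    have hr := hw r List.mem_cons_self
    have h := tab_of hr.1 hr.2 ih'.1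
    rw [actW_cons]
    exact ⟨h.1, by rw [h.2.1, ih'.2.1], fun h' => ih'.2.2 (h.2.2 h')⟩

theorem actW_8 {w : List ℕ} (hw : okL w) : actW w 8 = 8 := by
  induction w with
  | nil => rfl
  | cons r w ih =>
    have hr := hw r List.mem_cons_self
    rw [actW_cons, ih fun s hs => hw s (List.mem_cons_of_mem _ hs), act_8 hr.1 hr.2]

theorem xor_lt {a b : ℕ} (ha : a < 128) (hb : b < 128) : a ^^^ b < 128 :=
  Nat.xor_lt_two_pow (n := 7) ha hb

theorem qf8_tab : ((List.range 128).all fun c => qf (c ^^^ 8) == !qf c) = true := by decide +kernel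

theorem qf_8 {c : ℕ} (hc : c < 128) : qf (c ^^^ 8) = !qf c := by
  have h := qf8_tab
  rw [List.all_eq_true] at h
  exact beq_iff_eq.1 (h c (List.mem_range.2 hc))

/-- every code is the sum of its bits -/
theorem expand_tab : ((List.range 128).all fun c => Nat.beq c (lin (fun k => 2 ^ k) c)) = true := by decide +kernel

theorem cases128 {P : ℕ → Prop} (h0 : P 0) (h1 : ∀ k < 7, P (2 ^ k))
    (h2 : ∀ a b, a < 128 → b < 128 → P a → P b → P (a ^^^ b)) {c : ℕ} (hc : c < 128) : P c := by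
  have h := expand_tab
  rw [List.all_eq_true] at h
  have e : c = lin (fun k => 2 ^ k) c := Nat.eq_of_beq_eq_true (h c (List.mem_range.2 hc))
  have ht : ∀ k < 7, P (tm (fun k => 2 ^ k) c k) ∧ tm (fun k => 2 ^ k) c k < 128 := by
    intro k hk
    unfold tm
    split
    · refine ⟨h1 k hk, ?_⟩
      have : (2 : ℕ) ^ k < 2 ^ 7 := Nat.pow_lt_pow_right (by norm_num) hk
      simpa using this
    · exact ⟨h0, by norm_num⟩
  rw [e]
  unfold lin
  have s6 := ht 6 (by norm_num)
  have s5 := ht 5 (by norm_num)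
  have s4 := ht 4 (by norm_num)
  have s3 := ht 3 (by norm_num)
  have s2 := ht 2 (by norm_num)
  have s1 := ht 1 (by norm_num)
  have s0 := ht 0 (by norm_num)
  have c5 := h2 _ _ s5.2 s6.2 s5.1 s6.1
  have l5 := xor_lt s5.2 s6.2
  have c4 := h2 _ _ s4.2 l5 s4.1 c5
  have l4 := xor_lt s4.2 l5
  have c3 := h2 _ _ s3.2 l4 s3.1 c4
  have l3 := xor_lt s3.2 l4
  have c2 := h2 _ _ s2.2 l3 s2.1 c3
  have l2 := xor_lt s2.2 l3
  have c1 := h2 _ _ s1.2 l2 s1.1 c2
  have l1 := xor_lt s1.2 l2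
  exact h2 _ _ s0.2 l1 s0.1 c1

/-! ### Stages -/

/-- the check of a stage: candidates `v` (with the same form values as `b`) are moved to `b` by words fixing `F` -/
def stB (F : List ℕ) (b : ℕ) (T : List (List ℕ)) : Bool := (List.range 128).all fun v =>
  (Nat.beq v 0 || qf v || !(F.all fun f => qf (v ^^^ f) == qf (b ^^^ f))) ||
    T.any fun w => (w.all fun r => Nat.ble 15 r && Nat.blt r 48) && Nat.beq (actW w v) b &&
      F.all fun f => Nat.beq (actW w f) f

theorem of_stB {F : List ℕ} {b : ℕ} {T : List (List ℕ)} (h : stB F b T = true) {v : ℕ} (hv : v < 128)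
    (h0 : v ≠ 0) (hq : qf v = false) (hF : ∀ f ∈ F, qf (v ^^^ f) = qf (b ^^^ f)) :
    ∃ w, okL w ∧ actW w v = b ∧ ∀ f ∈ F, actW w f = f := by
  unfold stB at h
  rw [List.all_eq_true] at h
  have h1 := h v (List.mem_range.2 hv)
  have e0 : Nat.beq v 0 = false := by
    cases hb : Nat.beq v 0
    · rfl
    · exact absurd (Nat.eq_of_beq_eq_true hb) h0
  have e1 : (F.all fun f => qf (v ^^^ f) == qf (b ^^^ f)) = true := by
    rw [List.all_eq_true]
    intro f hf
    exact beq_iff_eq.2 (hF f hf)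
  rw [e0, hq, e1] at h1
  simp only [Bool.not_true, Bool.or_false, Bool.false_or, List.any_eq_true, Bool.and_eq_true] at h1
  obtain ⟨w, -, ⟨hw1, hw2⟩, hw3⟩ := h1
  refine ⟨w, fun r hr => ?_, Nat.eq_of_beq_eq_true hw2, fun f hf => ?_⟩
  · rw [List.all_eq_true] at hw1
    have := hw1 r hr
    rw [Bool.and_eq_true] at this
    exact ⟨by simpa using this.1, by simpa [Nat.blt_eq] using this.2⟩
  · rw [List.all_eq_true] at hw3
    exact Nat.eq_of_beq_eq_true (hw3 f hf)

def T1 : List (List ℕ) :=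
  [[18, 29], [15, 32], [15, 18, 29], [16, 31], [16, 18, 29], [15, 16, 31], [15, 16, 18, 29], [21, 26],
   [16, 21, 26], [15, 21, 26], [15, 16, 21, 26], [16, 27, 26], [16, 18, 31], [15, 16, 27, 26], [15, 16, 18, 31],
   [23, 24], [15, 23, 24], [16, 23, 24], [15, 16, 23, 24], [15, 28, 24], [15, 18, 32], [15, 16, 28, 24],
   [15, 16, 18, 32], [21, 23, 24], [15, 21, 23, 24], [15, 16, 30, 24], [15, 16, 21, 32], [15, 21, 26, 28],
   [15, 18, 21, 32], [16, 23, 24, 27], [16, 18, 23, 31], [], [15], [16], [15, 16], [18], [15, 18], [16, 18],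
   [15, 16, 18], [21], [15, 21], [16, 21], [15, 16, 21], [18, 21], [15, 18, 21], [16, 27], [15, 16, 27], [23],
   [15, 23], [16, 23], [15, 16, 23], [18, 23], [15, 28], [16, 18, 23], [15, 16, 28], [21, 23], [15, 21, 23],
   [16, 21, 23], [15, 16, 30], [18, 21, 23], [15, 21, 28], [16, 23, 27], [15, 16, 18, 30]]

def T2 : List (List ℕ) :=
  [[], [24], [26], [24, 25], [31], [24, 30], [26, 27], [24, 25, 27], [32], [26, 30], [24, 28], [24, 25, 28],
   [31, 25], [24, 25, 30], [24, 28, 22], [26, 27, 25], [29], [24, 29], [26, 29], [24, 25, 29], [26, 31],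
   [24, 25, 31], [29, 31], [24, 29, 30], [24, 32], [24, 25, 32], [29, 32], [26, 29, 30], [24, 30, 32],
   [26, 30, 31], [29, 31, 25], [24, 25, 27, 32]]

def T3 : List (List ℕ) :=
  [[19, 28], [17, 30], [17, 19, 28], [22, 25], [17, 22, 25], [17, 27, 25], [17, 19, 30], [], [17], [19],
   [17, 19], [22], [17, 22], [19, 22], [17, 27]]

def T4 : List (List ℕ) := [[], [25], [30], [25, 27], [28], [25, 28], [25, 30], [28, 30]]

theorem st1 : stB [] 64 T1 = true := by decide +kernel
theorem st2 : stB [64] 1 T2 = true := by decide +kernel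
theorem st3 : stB [64, 1] 32 T3 = true := by decide +kernel
theorem st4 : stB [64, 1, 32] 2 T4 = true := by decide +kernel
theorem st5 : stB [64, 1, 32, 2] 16 [[20, 27], [], [20]] = true := by decide +kernel
theorem st6 : stB [64, 1, 32, 2, 16] 4 [[], [27]] = true := by decide +kernel

/-- isometries in codes -/
structure Good (a : ℕ → ℕ) : Prop where
  lt : ∀ c < 128, a c < 128
  xor : ∀ c < 128, ∀ d < 128, a (c ^^^ d) = a c ^^^ a d
  ker : ∀ c < 128, a c = 0 → c = 0
  eight : a 8 = 8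
  q : ∀ c < 128, qf (a c) = qf c

theorem Good.comp {a : ℕ → ℕ} (h : Good a) {w : List ℕ} (hw : okL w) : Good fun c => actW w (a c) where
  lt c hc := (actW_of hw (h.lt c hc)).1
  xor c hc d hd := by
    show actW w (a (c ^^^ d)) = _
    rw [h.xor c hc d hd, actW_xor]
  ker c hc hz := h.ker c hc ((actW_of hw (h.lt c hc)).2.2 hz)
  eight := by
    show actW w (a 8) = 8
    rw [h.eight, actW_8 hw]
  q c hc := by
    show qf (actW w (a c)) = _
    rw [(actW_of hw (h.lt c hc)).2.1, h.q c hc]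

theorem Good.stage {a : ℕ → ℕ} (h : Good a) {F : List ℕ} {b : ℕ} {T : List (List ℕ)} (hs : stB F b T = true)
    (hb : b < 128) (hb0 : b ≠ 0) (hbq : qf b = false) (hF : ∀ f ∈ F, f < 128 ∧ a f = f) :
    ∃ w, okL w ∧ actW w (a b) = b ∧ ∀ f ∈ F, actW w (a f) = f := by
  obtain ⟨w, h1, h2, h3⟩ := of_stB hs (h.lt b hb) (fun h0 => hb0 (h.ker b hb h0)) (by rw [h.q b hb, hbq])
    (fun f hf => by
      have h4 := hF f hf
      have h5 := h.xor b hb f h4.1
      rw [h4.2] at h5
      rw [← h5, h.q _ (xor_lt hb h4.1)])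
  exact ⟨w, h1, h2, fun f hf => by rw [(hF f hf).2]; exact h3 f hf⟩

theorem okL_append {w w' : List ℕ} (h : okL w) (h' : okL w') : okL (w ++ w') := fun r hr =>
  (List.mem_append.1 hr).elim (h r) (h' r)

/-- one more stage on top of a word -/
theorem Good.step {a : ℕ → ℕ} (h : Good a) {F : List ℕ} {b : ℕ} {T : List (List ℕ)} (hs : stB F b T = true)
    (hb : b < 128) (hb0 : b ≠ 0) (hbq : qf b = false) (hFl : ∀ f ∈ F, f < 128)
    (hw : ∃ w, okL w ∧ ∀ f ∈ F, actW w (a f) = f) :
    ∃ w, okL w ∧ ∀ f ∈ b :: F, actW w (a f) = f := by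
  obtain ⟨w, h1, h2⟩ := hw
  obtain ⟨w', h3, h4, h5⟩ := (h.comp h1).stage hs hb hb0 hbq fun f hf => ⟨hFl f hf, h2 f hf⟩
  refine ⟨w' ++ w, okL_append h3 h1, fun f hf => ?_⟩
  rw [actW_append]
  rcases List.mem_cons.1 hf with rfl | hf
  · exact h4
  · exact h5 f hf

/-- the same check with the fixed codes in another order -/
theorem stB_mem {F F' : List ℕ} {b : ℕ} {T : List (List ℕ)} (h : ∀ f, f ∈ F ↔ f ∈ F') (hs : stB F b T = true) :
    stB F' b T = true := by
  unfold stB at hs ⊢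
  have e : ∀ p : ℕ → Bool, F.all p = F'.all p := by
    intro p
    rw [Bool.eq_iff_iff, List.all_eq_true, List.all_eq_true]
    exact ⟨fun h1 x hx => h1 x ((h x).2 hx), fun h1 x hx => h1 x ((h x).1 hx)⟩
  simp only [e] at hs
  exact hs

theorem Good.exists_word {a : ℕ → ℕ} (h : Good a) : ∃ w, okL w ∧ ∀ c < 128, actW w (a c) = c := by
  have s1 : ∃ w, okL w ∧ ∀ f ∈ ([64] : List ℕ), actW w (a f) = f :=
    h.step st1 (by norm_num) (by norm_num) (by decide) (by simp)
      ⟨[], fun r hr => absurd hr List.not_mem_nil, fun f hf => absurd hf List.not_mem_nil⟩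
  have s2 := h.step (b := 1) st2 (by norm_num) (by norm_num) (by decide) (by decide) s1
  have s3 := h.step (b := 32) (stB_mem (F' := [1, 64]) (by simp; tauto) st3) (by norm_num) (by norm_num)
    (by decide) (by decide) s2
  have s4 := h.step (b := 2) (stB_mem (F' := [32, 1, 64]) (by simp; tauto) st4) (by norm_num) (by norm_num)
    (by decide) (by decide) s3
  have s5 := h.step (b := 16) (stB_mem (F' := [2, 32, 1, 64]) (by simp; tauto) st5) (by norm_num) (by norm_num)
    (by decide) (by decide) s4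
  have s6 := h.step (b := 4) (stB_mem (F' := [16, 2, 32, 1, 64]) (by simp; tauto) st6) (by norm_num)
    (by norm_num) (by decide) (by decide) s5
  obtain ⟨w, h1, h2⟩ := s6
  refine ⟨w, h1, fun c hc => ?_⟩
  have hg := h.comp h1
  refine cases128 (P := fun c => actW w (a c) = c) ?_ ?_ ?_ hc
  · have h3 := hg.xor 8 (by norm_num) 8 (by norm_num)
    simpa using h3
  · intro k hk
    have key : ∀ k < 7, 2 ^ k = 8 ∨ 2 ^ k ∈ ([4, 16, 2, 32, 1, 64] : List ℕ) := by decide
    rcases key k hk with h3 | h3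
    · show actW w (a (2 ^ k)) = 2 ^ k
      rw [h3]; exact hg.eight
    · exact h2 _ h3
  · intro x y hx hy ex ey
    have h3 := hg.xor x hx y hy
    show actW w (a (x ^^^ y)) = x ^^^ y
    rw [show actW w (a (x ^^^ y)) = actW w (a x) ^^^ actW w (a y) from h3, ex, ey]

/-! ### Singular and nonsingular codes cannot be interchanged -/

theorem flip_tab : ((List.range 128).all fun u => (List.range 128).all fun v =>
    !(qf u && (qf v && (qf (72 ^^^ u) && (qf (72 ^^^ v) && (qf (u ^^^ v) && qf (72 ^^^ (u ^^^ v)))))))) = true := by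
  decide +kernel

theorem flip_false {a : ℕ → ℕ} (lt : ∀ c < 128, a c < 128)
    (xor : ∀ c < 128, ∀ d < 128, a (c ^^^ d) = a c ^^^ a d) (ker : ∀ c < 128, a c = 0 → c = 0)
    (eight : a 8 = 8) (hf : ∀ c < 128, c ≠ 0 → qf c = false → qf (a c) = true) : False := by
  have h64 := lt 64 (by norm_num)
  have hv : a 64 ^^^ 8 < 128 := xor_lt h64 (by norm_num)
  have hv0 : a 64 ^^^ 8 ≠ 0 := by
    intro h
    have h1 := xor 64 (by norm_num) 8 (by norm_num)
    rw [eight, h] at h1
    have h2 := ker _ (by decide) h1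
    revert h2; decide
  have hvq : qf (a 64 ^^^ 8) = false := by
    rw [qf_8 h64, hf 64 (by norm_num) (by norm_num) (by decide)]; rfl
  obtain ⟨w, hw, h1, -⟩ := of_stB st1 hv hv0 hvq (by simp)
  have h2 : actW w (a 64) = 72 := by
    have e : a 64 = (a 64 ^^^ 8) ^^^ 8 := by rw [Nat.xor_assoc]; simp
    rw [e, actW_xor, h1, actW_8 hw]
    decide
  have hq : ∀ c < 128, c ≠ 0 → qf c = false → qf (actW w (a c)) = true := fun c hc h0 h3 => by
    rw [(actW_of hw (lt c hc)).2.1, hf c hc h0 h3]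
  have hx : ∀ c < 128, ∀ d < 128, actW w (a (c ^^^ d)) = actW w (a c) ^^^ actW w (a d) := fun c hc d hd => by
    rw [xor c hc d hd, actW_xor]
  have hu := (actW_of hw (lt 32 (by norm_num))).1
  have hu' := (actW_of hw (lt 16 (by norm_num))).1
  have h := flip_tab
  rw [List.all_eq_true] at h
  have h3 := h _ (List.mem_range.2 hu)
  rw [List.all_eq_true] at h3
  have h4 := h3 _ (List.mem_range.2 hu')
  have e1 := hq 32 (by norm_num) (by norm_num) (by decide)
  have e2 := hq 16 (by norm_num) (by norm_num) (by decide)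
  have e3 := hq (64 ^^^ 32) (by decide) (by decide) (by decide)
  rw [hx 64 (by norm_num) 32 (by norm_num), h2] at e3
  have e4 := hq (64 ^^^ 16) (by decide) (by decide) (by decide)
  rw [hx 64 (by norm_num) 16 (by norm_num), h2] at e4
  have e5 := hq (32 ^^^ 16) (by decide) (by decide) (by decide)
  rw [hx 32 (by norm_num) 16 (by norm_num)] at e5
  have e6 := hq (64 ^^^ (32 ^^^ 16)) (by decide) (by decide) (by decide)
  rw [hx 64 (by norm_num) (32 ^^^ 16) (by decide), hx 32 (by norm_num) 16 (by norm_num), h2] at e6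
  rw [e1, e2, e3, e4, e5, e6] at h4
  exact Bool.noConfusion h4

/-- every singular code is moved to `64` -/
theorem exists_to64 {v : ℕ} (hv : v < 128) (h0 : v ≠ 0) (hq : qf v = false) : ∃ w, okL w ∧ actW w v = 64 := by
  obtain ⟨w, hw, h1, -⟩ := of_stB st1 hv h0 hq (by simp)
  exact ⟨w, hw, h1⟩

/-- fixed codes of all letters -/
theorem fix_tab : ((List.range 128).all fun c => !((List.range 18).all fun r => Nat.beq (act (15 + r) c) c) ||
    (Nat.beq c 0 || Nat.beq c 8)) = true := by decide +kernel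

theorem eq_of_fix {c : ℕ} (hc : c < 128) (h : ∀ r, 15 ≤ r → r < 33 → act r c = c) : c = 0 ∨ c = 8 := by
  have ht := fix_tab
  rw [List.all_eq_true] at ht
  have h1 := ht c (List.mem_range.2 hc)
  have h2 : ((List.range 18).all fun r => Nat.beq (act (15 + r) c) c) = true := by
    rw [List.all_eq_true]
    intro r hr
    rw [List.mem_range] at hr
    rw [h (15 + r) (by omega) (by omega)]
    exact Nat.beq_refl c
  rw [h2, Bool.not_true, Bool.false_or, Bool.or_eq_true] at h1
  exact h1.imp Nat.eq_of_beq_eq_true Nat.eq_of_beq_eq_true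

/-- `C_{W/z}(U)` -/
theorem top_tab : ((List.range 128).all fun c => !([24, 25, 27].all fun r =>
    Nat.beq (act r c) c || Nat.beq (act r c) (c ^^^ 8)) || [0, 8, 64, 72].contains c) = true := by decide +kernel

theorem eq_of_top {c : ℕ} (hc : c < 128) (h : ∀ r ∈ [24, 25, 27], act r c = c ∨ act r c = c ^^^ 8) :
    c = 0 ∨ c = 8 ∨ c = 64 ∨ c = 72 := by
  have ht := top_tab
  rw [List.all_eq_true] at ht
  have h1 := ht c (List.mem_range.2 hc)
  have h2 : ([24, 25, 27].all fun r => Nat.beq (act r c) c || Nat.beq (act r c) (c ^^^ 8)) = true := by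
    rw [List.all_eq_true]
    intro r hr
    rw [Bool.or_eq_true]
    rcases h r hr with h3 | h3
    · left; rw [h3]; exact Nat.beq_refl c
    · right; rw [h3]; exact Nat.beq_refl _
  rw [h2, Bool.not_true, Bool.false_or] at h1
  simpa using h1

end Cfsg.Agent.F42.WCode
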