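import Cfsg.Agent.FourTwo.Classes
import Cfsg.Agent.FourTwo.Perf
import Cfsg.Agent.FourTwo.CentC
import Cfsg.Agent.F42.AutPar
import Cfsg.Agent.F42.WCode

/-!
# The parabolic `P_s = C_L(x 44)` of `F₄(2)`: facts for the automorphism theorem
-/

set_option autoImplicit false

namespace Cfsg.Agent.F42.ParFacts

open Cfsg.Lie Cfsg.Agent.ChevalleyStructure.TwF4.Rel Cfsg.Agent.ChevalleyStructure.TwF4.Tables
open Cfsg.Agent.FourTwo.Base Cfsg.Agent.FourTwo.Comm Cfsg.Agent.FourTwo.Par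
open Cfsg.Agent.FourTwo.BN hiding act
open Cfsg.Agent.FourTwo.Cent Cfsg.Agent.FourTwo.Classes Cfsg.Agent.FourTwo.UCode WCode

/-- roots of `Q_s` -/
def qP (r : ℕ) : Bool := decide (33 ≤ r)

/-- roots of `W_s` -/
def wP (r : ℕ) : Bool := decide (41 ≤ r)

/-- `Q_s` -/
abbrev Qs : Subgroup LL := RG qP

/-- `W_s` -/
abbrev Ws : Subgroup LL := RG wP

/-! ### codes of `W_s` -/

/-- the element of `W_s` with code `c` -/
def wv (c : ℕ) : LL := ec (c * 131072)

theorem wv_tab : ((List.range 128).all fun a => (List.range 128).all fun b =>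
    Nat.beq (mulU (a * 131072) (b * 131072)) ((a ^^^ b) * 131072)) = true := by decide +kernel

theorem wv_mul {a b : ℕ} (ha : a < 128) (hb : b < 128) : wv a * wv b = wv (a ^^^ b) := by
  have h := wv_tab
  rw [List.all_eq_true] at h
  have h1 := h a (List.mem_range.2 ha)
  rw [List.all_eq_true] at h1
  have h2 := Nat.eq_of_beq_eq_true (h1 b (List.mem_range.2 hb))
  unfold wv
  rw [← ec_mulU, h2]

theorem wv_zero : wv 0 = 1 := by
  unfold wv
  rw [Nat.zero_mul, ec_zero]

theorem wv_basis {k : ℕ} (hk : k < 7) : wv (2 ^ k) = x (41 + k) := by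
  rw [x_eq_ec (by omega) (by omega)]
  unfold wv
  congr 1
  have : ∀ k < 7, 2 ^ k * 131072 = 2 ^ (41 + k - 24) := by decide
  exact this k hk

theorem wv_8 : wv 8 = x 44 := wv_basis (k := 3) (by norm_num)

theorem wv_inj {a b : ℕ} (ha : a < 128) (hb : b < 128) (h : wv a = wv b) : a = b := by
  have := ec_inj (by omega) (by omega) h
  omega

theorem wv_sq {c : ℕ} (hc : c < 128) : wv c * wv c = 1 := by
  rw [wv_mul hc hc, Nat.xor_self, wv_zero]

theorem wv_inv {c : ℕ} (hc : c < 128) : (wv c)⁻¹ = wv c := inv_eq_of_mul_eq_one_right (wv_sq hc)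

/-- check of the action on the basis -/
def actTab : Bool := (List.range 33).all fun r => (List.range 7).all fun k => Nat.beq (15 + r) (41 + k) ||
  ((((41 + k) :: cmg (15 + r) (41 + k)).all fun q => decide (24 ≤ q ∧ q < 48)) &&
    Nat.beq (colW (((41 + k) :: cmg (15 + r) (41 + k)).map fun q => q - 24)) (im (15 + r) k * 131072))

theorem actTab_true : actTab = true := by decide +kernel

theorem act_basis : ∀ r < 48, 15 ≤ r → ∀ k < 7, act r (2 ^ k) = im r k := by decide +kernel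

theorem im_self : ∀ k < 7, im (41 + k) k = 2 ^ k := by decide

theorem conj_basis {r k : ℕ} (h1 : 15 ≤ r) (h2 : r < 48) (hk : k < 7) :
    x r * x (41 + k) * (x r)⁻¹ = wv (im r k) := by
  by_cases he : r = 41 + k
  · subst he
    rw [mul_inv_cancel_right, im_self k hk, wv_basis hk]
  · rw [conj_x h2 (by omega) he (by omega), ← wd_cons]
    have h := actTab_true
    unfold actTab at h
    rw [List.all_eq_true] at h
    have h3 := h (r - 15) (List.mem_range.2 (by omega))
    rw [List.all_eq_true] at h3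
    have h4 := h3 k (List.mem_range.2 hk)
    rw [show 15 + (r - 15) = r by omega] at h4
    rw [Bool.or_eq_true, Bool.and_eq_true] at h4
    rcases h4 with h4 | ⟨h4, h5⟩
    · exact absurd (Nat.eq_of_beq_eq_true h4) he
    · exact wd_eq_ec' _ h4 _ (Nat.eq_of_beq_eq_true h5)

theorem conj_wv {r c : ℕ} (h1 : 15 ≤ r) (h2 : r < 48) (hc : c < 128) :
    x r * wv c * (x r)⁻¹ = wv (act r c) := by
  refine cases128 (P := fun c => x r * wv c * (x r)⁻¹ = wv (act r c)) ?_ ?_ ?_ hc
  · show x r * wv 0 * (x r)⁻¹ = wv (act r 0)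
    have e : act r 0 = 0 := by
      have := act_xor r 0 0
      simpa using this
    rw [e, wv_zero, mul_one, mul_inv_cancel]
  · intro k hk
    show x r * wv (2 ^ k) * (x r)⁻¹ = wv (act r (2 ^ k))
    rw [act_basis r h2 h1 k hk, wv_basis hk, conj_basis h1 h2 hk]
  · intro a b ha hb ea eb
    show x r * wv (a ^^^ b) * (x r)⁻¹ = wv (act r (a ^^^ b))
    rw [act_xor, ← wv_mul (tab_of h1 h2 ha).1 (tab_of h1 h2 hb).1, ← wv_mul ha hb, ← ea, ← eb]
    group

theorem wd_conj_wv {w : List ℕ} (hw : okL w) {c : ℕ} (hc : c < 128) :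
    wd w * wv c * (wd w)⁻¹ = wv (actW w c) := by
  induction w with
  | nil => rw [wd_nil, one_mul, inv_one, mul_one]; rfl
  | cons r w ih =>
    have ih' := ih fun s hs => hw s (List.mem_cons_of_mem _ hs)
    have hr := hw r List.mem_cons_self
    have hw' : okL w := fun s hs => hw s (List.mem_cons_of_mem _ hs)
    rw [wd_cons, actW_cons, ← conj_wv hr.1 hr.2 (actW_of hw' hc).1, ← ih']
    group

theorem x_mem_Ps {r : ℕ} (h1 : 15 ≤ r) (h2 : r < 48) : x r ∈ Ps := x_mem_RG h2 (decide_eq_true h1)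

theorem wd_mem_Ps {w : List ℕ} (hw : okL w) : wd w ∈ Ps :=
  wd_mem_RG fun r hr => ⟨(hw r hr).2, decide_eq_true (hw r hr).1⟩

/-- `P_s` acts on the codes, preserving the quadratic form -/
theorem conj_code {g : LL} (hg : g ∈ Ps) : (∀ c < 128, ∃ d < 128, g * wv c * g⁻¹ = wv d ∧ qf d = qf c) ∧
    ∀ c < 128, ∃ d < 128, g⁻¹ * wv c * g = wv d ∧ qf d = qf c := by
  unfold Ps RG at hg
  induction hg using Subgroup.closure_induction with
  | mem g hg =>
    obtain ⟨r, hr, hp, rfl⟩ := hg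
    have hp' : 15 ≤ r := of_decide_eq_true hp
    have key : ∀ c < 128, ∃ d < 128, x r * wv c * (x r)⁻¹ = wv d ∧ qf d = qf c := fun c hc =>
      ⟨act r c, (tab_of hp' hr hc).1, conj_wv hp' hr hc, (tab_of hp' hr hc).2.1⟩
    refine ⟨key, fun c hc => ?_⟩
    obtain ⟨d, h1, h2, h3⟩ := key c hc
    refine ⟨d, h1, ?_, h3⟩
    rw [x_inv] at h2 ⊢
    exact h2
  | one => exact ⟨fun c hc => ⟨c, hc, by group, rfl⟩, fun c hc => ⟨c, hc, by group, rfl⟩⟩
  | mul g h _ _ ihg ihh =>
    constructor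
    · intro c hc
      obtain ⟨d, h1, h2, h3⟩ := ihh.1 c hc
      obtain ⟨e, h4, h5, h6⟩ := ihg.1 d h1
      refine ⟨e, h4, ?_, h6.trans h3⟩
      rw [← h5, ← h2]; group
    · intro c hc
      obtain ⟨d, h1, h2, h3⟩ := ihg.2 c hc
      obtain ⟨e, h4, h5, h6⟩ := ihh.2 d h1
      refine ⟨e, h4, ?_, h6.trans h3⟩
      rw [← h5, ← h2]; group
  | inv g _ ih =>
    refine ⟨fun c hc => ?_, fun c hc => ?_⟩
    · obtain ⟨d, h1, h2, h3⟩ := ih.2 c hc
      exact ⟨d, h1, by rw [inv_inv]; exact h2, h3⟩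
    · obtain ⟨d, h1, h2, h3⟩ := ih.1 c hc
      exact ⟨d, h1, by rw [inv_inv]; exact h2, h3⟩

end Cfsg.Agent.F42.ParFacts
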