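import Cfsg.Agent.F42.Std
import Cfsg.Agent.F42.PatC
import Cfsg.Agent.F42.Parity

/-!
# The patterns, `C_G(t) = ⟨t⟩ × L`

`S₀ = ⟨t⟩ × φ(U)`.  From the parity of the number of conjugates of `t` in `Z(S₀)`: either exactly one of
`t z_s`, `t z_l` is conjugate to `t` (and then there is an element swapping `t` and `t z`), or all of them are, and
either both swaps exist or an element of `N(S₀)` interchanges `z_s` and `z_l`.
-/

set_option autoImplicit false

namespace Cfsg.Agent.F42.Pattern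

open Cfsg.Agent.FourTwo Cfsg.Agent.FourTwo.Base Cfsg.Agent.FourTwo.BN
open Cfsg.Agent.FourTwo.ZTwo PatC

variable {G : Type*} [Group G] (S : Std G)

/-- `n` normalises `S₀`. -/
structure Norm (n : G) : Prop where
  pos : ∀ g, InS S.φ S.t g → InS S.φ S.t (n * g * n⁻¹)
  neg : ∀ g, InS S.φ S.t g → InS S.φ S.t (n⁻¹ * g * n)

variable {S}

theorem Norm.inv {n : G} (h : Norm S n) : Norm S n⁻¹ :=
  ⟨fun g hg => by
    have := h.neg g hg
    rwa [inv_inv], fun g hg => by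
    have := h.pos g hg
    rwa [inv_inv]⟩

/-! ### the action of an element of `N(S₀)` on `Z(U)` -/

theorem rel_33 : x 33 * x 40 * (x 33)⁻¹ = x 40 * x 44 := by
  have h : wd [33, 40, 33] = wd [40, 44] := wd_eq _ _ (by decide +kernel)
  rw [wd_cons, wd_cons, wd_one, wd_cons, wd_one] at h
  rw [Base.x_inv, mul_assoc, h]

theorem x44_eq : x 33 * x 40 * (x 33)⁻¹ * (x 40)⁻¹ = x 44 := by
  have h : wd [33, 40, 33, 40] = wd [44] := wd_eq _ _ (by decide +kernel)
  rw [wd_cons, wd_cons, wd_cons, wd_one, wd_one] at h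
  rw [Base.x_inv, Base.x_inv, ← h]
  simp only [mul_assoc]

/-- the `U`-component of conjugation by `n` -/
structure D (S : Std G) (n : G) (F : LL → LL) : Prop where
  memU : ∀ u ∈ U, F u ∈ U
  pr : ∀ u ∈ U, Pr S.φ S.t (n * S.φ u * n⁻¹) (F u)
  mul : ∀ u ∈ U, ∀ v ∈ U, F (u * v) = F u * F v
  inv : ∀ u ∈ U, F u⁻¹ = (F u)⁻¹
  exists_conj : ∀ u ∈ U, ∀ g ∈ U, ∃ v ∈ U, g * F u * g⁻¹ = F (v * u * v⁻¹)

theorem exists_D {n : G} (hn : Norm S n) : ∃ F : LL → LL, D S n F := by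
  classical
  have hφ := S.inj
  have htt := S.tt
  have htc := S.comm
  have hne := S.tne
  have h0 : ∀ u : LL, ∃ v : LL, u ∈ U → v ∈ U ∧ Pr S.φ S.t (n * S.φ u * n⁻¹) v := by
    intro u
    by_cases hu : u ∈ U
    · obtain ⟨v, hv, h⟩ := hn.pos (S.φ u) ⟨u, hu, Or.inl rfl⟩
      exact ⟨v, fun _ => ⟨hv, h⟩⟩
    · exact ⟨1, fun h => absurd h hu⟩
  choose F hF using h0
  have hmul : ∀ u ∈ U, ∀ v ∈ U, F (u * v) = F u * F v := by
    intro u hu v hv
    refine Pr.unique hφ hne (hF (u * v) (mul_mem hu hv)).2 ?_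
    have h1 := Pr.mul htt htc (hF u hu).2 (hF v hv).2
    have e : n * S.φ u * n⁻¹ * (n * S.φ v * n⁻¹) = n * S.φ (u * v) * n⁻¹ := by rw [map_mul]; group
    rwa [e] at h1
  have hinv : ∀ u ∈ U, F u⁻¹ = (F u)⁻¹ := by
    intro u hu
    have h2 := hmul 1 (one_mem _) 1 (one_mem _)
    rw [mul_one, left_eq_mul] at h2
    rw [eq_inv_iff_mul_eq_one]
    have h3 := hmul u⁻¹ (inv_mem hu) u hu
    rw [inv_mul_cancel, h2] at h3
    rw [← h3]
  refine ⟨F, fun u hu => (hF u hu).1, fun u hu => (hF u hu).2, hmul, hinv, ?_⟩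
  intro u hu g hg
  obtain ⟨v, hv, h⟩ := hn.neg (S.φ g) ⟨g, hg, Or.inl rfl⟩
  refine ⟨v, hv, ?_⟩
  have h1 : Pr S.φ S.t (S.φ g * (n * S.φ u * n⁻¹) * (S.φ g)⁻¹) (g * F u * g⁻¹) :=
    Pr.mul htt htc (Pr.mul htt htc (Or.inl rfl) (hF u hu).2) (Pr.inv htt htc (Or.inl rfl))
  have h2 : S.φ g * (n * S.φ u * n⁻¹) * (S.φ g)⁻¹ = n * S.φ (v * u * v⁻¹) * n⁻¹ := by
    have e1 : (n⁻¹ * S.φ g * n) * S.φ u * (n⁻¹ * S.φ g * n)⁻¹ = S.φ (v * u * v⁻¹) := by
      rcases h with h | h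
      · rw [h, map_mul, map_mul, map_inv]
      · rw [h, mul_inv_rev, S.t_inv, map_mul, map_mul, map_inv]
        calc S.t * S.φ v * S.φ u * ((S.φ v)⁻¹ * S.t) = S.t * (S.φ v * S.φ u * (S.φ v)⁻¹) * S.t := by group
          _ = S.t * S.φ (v * u * v⁻¹) * S.t := by rw [map_mul, map_mul, map_inv]
          _ = S.t * S.t * S.φ (v * u * v⁻¹) := by rw [mul_assoc, S.comm', ← mul_assoc]
          _ = S.φ v * S.φ u * (S.φ v)⁻¹ := by rw [S.tt, one_mul, map_mul, map_mul, map_inv]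
    rw [← e1]
    group
  rw [h2] at h1
  exact Pr.unique hφ hne h1 (hF _ (mul_mem (mul_mem hv hu) (inv_mem hv))).2

namespace D

variable {n : G} {F : LL → LL} (d : D S n F)

include d

theorem one : F 1 = 1 := by
  have h2 := d.mul 1 (one_mem _) 1 (one_mem _)
  rwa [mul_one, left_eq_mul] at h2

theorem conj {u v : LL} (hu : u ∈ U) (hv : v ∈ U) : F (v * u * v⁻¹) = F v * F u * (F v)⁻¹ := by
  rw [d.mul _ (mul_mem hv hu) _ (inv_mem hv), d.mul _ hv _ hu, d.inv _ hv]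

theorem exact {a b : LL} (ha : a ∈ U) (hb : b ∈ U) :
    n * S.φ (a * b * a⁻¹ * b⁻¹) * n⁻¹ = S.φ (F (a * b * a⁻¹ * b⁻¹)) := by
  have h1 := Pr.comm S.tt S.comm (d.pr a ha) (d.pr b hb)
  have e : F (a * b * a⁻¹ * b⁻¹) = F a * F b * (F a)⁻¹ * (F b)⁻¹ := by
    rw [d.mul _ (mul_mem (mul_mem ha hb) (inv_mem ha)) _ (inv_mem hb), d.mul _ (mul_mem ha hb) _ (inv_mem ha),
      d.mul _ ha _ hb, d.inv _ ha, d.inv _ hb]
  rw [e, ← h1]
  simp only [map_mul, map_inv]
  group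

theorem exact47 : n * S.φ (x 47) * n⁻¹ = S.φ (F (x 47)) := by
  have h := d.exact (mem_U_x (r := 24) (by omega) (by omega)) (mem_U_x (r := 46) (by omega) (by omega))
  rwa [x47_eq] at h

theorem exact44 : n * S.φ (x 44) * n⁻¹ = S.φ (F (x 44)) := by
  have h := d.exact (mem_U_x (r := 33) (by omega) (by omega)) (mem_U_x (r := 40) (by omega) (by omega))
  rwa [x44_eq] at h

theorem central {z : LL} (hz : z ∈ U) (hc : ∀ u ∈ U, u * z * u⁻¹ = z) : ∀ g ∈ U, g * F z * g⁻¹ = F z := by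
  intro g hg
  obtain ⟨v, hv, h⟩ := d.exists_conj z hz g hg
  rw [h, hc v hv]

theorem F47 : F (x 47) = x 44 ∨ F (x 47) = x 47 := by
  have u24 : x 24 ∈ U := mem_U_x (by omega) (by omega)
  have u46 : x 46 ∈ U := mem_U_x (by omega) (by omega)
  have u47 : x 47 ∈ U := mem_U_x (by omega) (by omega)
  have h1 : F (x 47) ≠ 1 := by
    intro h
    have h2 := d.exact47
    rw [h, map_one, mul_inv_eq_one, mul_eq_left] at h2
    exact x_ne_one (r := 47) (by omega) (S.inj (h2.trans (map_one S.φ).symm))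
  have hc := d.central u47 (fun u hu => central_47 hu)
  rcases cen_c (d.memU _ u47) (fun g hg => Or.inl (hc g hg)) with h | h | h | h
  · exact absurd h h1
  · exact Or.inl h
  · exact Or.inr h
  · exfalso
    have hZ : ZU (F (x 46)) := cen_c (d.memU _ u46) fun g hg => by
      obtain ⟨v, hv, h2⟩ := d.exists_conj _ u46 g hg
      rcases conj_46 hv with h3 | h3
      · left; rw [h2, h3]
      · right; rw [h2, h3, d.mul _ u46 _ u47, h]
    have h24 : F (x 24) * F (x 46) * (F (x 24))⁻¹ = F (x 46) * F (x 47) := by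
      rw [← d.conj u46 u24, rel_24, d.mul _ u46 _ u47]
    rw [zU_central hZ (d.memU _ u24), left_eq_mul] at h24
    exact h1 h24

theorem F44 : F (x 44) = x 44 ∨ F (x 44) = x 47 := by
  have u33 : x 33 ∈ U := mem_U_x (by omega) (by omega)
  have u40 : x 40 ∈ U := mem_U_x (by omega) (by omega)
  have u44 : x 44 ∈ U := mem_U_x (by omega) (by omega)
  have h1 : F (x 44) ≠ 1 := by
    intro h
    have h2 := d.exact44
    rw [h, map_one, mul_inv_eq_one, mul_eq_left] at h2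
    exact x_ne_one (r := 44) (by omega) (S.inj (h2.trans (map_one S.φ).symm))
  have hc := d.central u44 (fun u hu => central_44 hu)
  rcases cen_c (d.memU _ u44) (fun g hg => Or.inl (hc g hg)) with h | h | h | h
  · exact absurd h h1
  · exact Or.inl h
  · exact Or.inr h
  · exfalso
    have hZ : ZU (F (x 40)) := cen_c (d.memU _ u40) fun g hg => by
      obtain ⟨v, hv, h2⟩ := d.exists_conj _ u40 g hg
      rcases conj_40 hv with h3 | h3
      · left; rw [h2, h3]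
      · right; rw [h2, h3, d.mul _ u40 _ u44, h]
    have h24 : F (x 33) * F (x 40) * (F (x 33))⁻¹ = F (x 40) * F (x 44) := by
      rw [← d.conj u40 u33, rel_33, d.mul _ u40 _ u44]
    rw [zU_central hZ (d.memU _ u33), left_eq_mul] at h24
    exact h1 h24

end D

theorem x44_ne_x47 : x 44 ≠ x 47 := by
  intro h
  have := x_inj (r := 44) (s := 47) (by omega) (by omega) h
  omega

/-- An element of `N(S₀)` fixes or interchanges `z_s` and `z_l`. -/
theorem perm {n : G} (hn : Norm S n) :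
    (n * S.φ (x 44) * n⁻¹ = S.φ (x 44) ∧ n * S.φ (x 47) * n⁻¹ = S.φ (x 47)) ∨
      (n * S.φ (x 44) * n⁻¹ = S.φ (x 47) ∧ n * S.φ (x 47) * n⁻¹ = S.φ (x 44)) := by
  obtain ⟨F, d⟩ := exists_D hn
  have e44 := d.exact44
  have e47 := d.exact47
  have hne : F (x 44) ≠ F (x 47) := by
    intro h
    rw [h, ← e47] at e44
    exact x44_ne_x47 (S.inj (mul_left_cancel (mul_right_cancel e44)))
  rcases d.F44 with h4 | h4 <;> rcases d.F47 with h7 | h7
  · exact absurd (h4.trans h7.symm) hne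
  · left; rw [e44, e47, h4, h7]; exact ⟨rfl, rfl⟩
  · right; rw [e44, e47, h4, h7]; exact ⟨rfl, rfl⟩
  · exact absurd (h4.trans h7.symm) hne

/-! ### the Sylow subgroup `S₀` -/

variable (S)

/-- `⟨t⟩ × φ(V)` -/
def TV (V : Subgroup LL) : Subgroup G where
  carrier := {g | ∃ u ∈ V, Pr S.φ S.t g u}
  one_mem' := ⟨1, one_mem _, Or.inl (map_one S.φ).symm⟩
  mul_mem' := by
    rintro a b ⟨u, hu, h⟩ ⟨v, hv, h'⟩
    exact ⟨u * v, mul_mem hu hv, Pr.mul S.tt S.comm h h'⟩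
  inv_mem' := by
    rintro a ⟨u, hu, h⟩
    exact ⟨u⁻¹, inv_mem hu, Pr.inv S.tt S.comm h⟩

theorem mem_TV {V : Subgroup LL} {g : G} : g ∈ TV S V ↔ ∃ u ∈ V, Pr S.φ S.t g u := Iff.rfl

theorem card_TV (V : Subgroup LL) : Nat.card (TV S V) = 2 * Nat.card V := by
  have hb : Function.Bijective (fun p : Bool × V => (⟨if p.1 then S.t * S.φ p.2 else S.φ p.2,
      ⟨p.2, p.2.2, by
        unfold Pr
        rcases p.1 with _ | _
        · left; simp
        · right; simp⟩⟩ : TV S V)) := by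
    constructor
    · rintro ⟨b, u⟩ ⟨b', u'⟩ h
      have h1 := congrArg Subtype.val h
      change (if b = true then S.t * S.φ u else S.φ u) = (if b' = true then S.t * S.φ u' else S.φ u') at h1
      rcases b with _ | _ <;> rcases b' with _ | _
      · simp only [Bool.false_eq_true, if_false] at h1
        rw [Subtype.ext (S.inj h1)]
      · simp only [Bool.false_eq_true, if_false, if_true] at h1
        exact absurd h1.symm (S.t_mul_ne _ _)
      · simp only [Bool.false_eq_true, if_false, if_true] at h1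
        exact absurd h1 (S.t_mul_ne _ _)
      · simp only [if_true] at h1
        rw [Subtype.ext (S.t_mul_inj h1)]
    · rintro ⟨g, u, hu, h⟩
      rcases h with h | h
      · exact ⟨(false, ⟨u, hu⟩), Subtype.ext (by simp [h])⟩
      · exact ⟨(true, ⟨u, hu⟩), Subtype.ext (by simp [h])⟩
  rw [← Nat.card_congr (Equiv.ofBijective _ hb), Nat.card_prod]
  simp

theorem TV_mono {V V' : Subgroup LL} (h : V ≤ V') : TV S V ≤ TV S V' := fun _ ⟨u, hu, hg⟩ => ⟨u, h hu, hg⟩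

theorem TV_le_cent (V : Subgroup LL) : TV S V ≤ Subgroup.centralizer {S.t} := by
  rintro g ⟨u, -, h⟩
  rw [Subgroup.mem_centralizer_singleton_iff]
  rcases h with rfl | rfl
  · exact S.comm' u
  · rw [mul_assoc, S.comm']

theorem cent_eq (h : S.E1) : Subgroup.centralizer {S.t} = TV S ⊤ := by
  apply le_antisymm
  · intro g hg
    obtain ⟨l, hl⟩ := h g (Subgroup.mem_centralizer_singleton_iff.1 hg)
    exact ⟨l, Subgroup.mem_top _, hl⟩
  · exact TV_le_cent S ⊤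

/-- `S₀` -/
def P : Subgroup G := TV S U

theorem mem_P {g : G} : g ∈ P S ↔ InS S.φ S.t g := Iff.rfl

theorem P_pgroup : IsPGroup 2 (P S) := by
  apply IsPGroup.of_card (n := 25)
  have h1 := card_TV S U
  rw [Perf.card_U] at h1
  change Nat.card (TV S U) = 2 ^ 25
  rw [h1, ← pow_succ']

theorem P_odd (h : S.E1) : Odd ((P S).relIndex (Subgroup.centralizer {S.t})) := by
  have hle : P S ≤ TV S ⊤ := TV_mono S le_top
  rw [cent_eq S h]
  have : Finite (TV S ⊤) := Nat.finite_of_card_ne_zero (by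
    rw [card_TV]
    have h1 : Nat.card (⊤ : Subgroup LL) = Nat.card LL := Subgroup.card_top
    rw [h1, Perf.card_LL]
    norm_num)
  have h2 := Subgroup.index_mul_card ((P S).subgroupOf (TV S ⊤))
  rw [Nat.card_congr (Subgroup.subgroupOfEquivOfLe hle).toEquiv, card_TV] at h2
  have h3 : Nat.card (⊤ : Subgroup LL) = Nat.card LL := Subgroup.card_top
  have h4 : Nat.card (P S) = 2 * Nat.card U := card_TV S U
  have h5 := Subgroup.index_mul_card U
  rw [h3, h4, ← h5] at h2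
  have h6 : ((P S).subgroupOf (TV S ⊤)).index = U.index := by
    have hpos : 0 < 2 * Nat.card U := by rw [Perf.card_U]; norm_num
    apply Nat.eq_of_mul_eq_mul_right hpos
    rw [h2]
    ring
  change Odd ((P S).subgroupOf (TV S ⊤)).index
  rw [h6]
  exact Perf.odd_index

/-! ### conjugates of `t` centralising `S₀` -/

variable {S}

theorem t_mem_P : S.t ∈ P S := ⟨1, one_mem _, Or.inr (by rw [map_one, mul_one])⟩

theorem x_mem_P {r : ℕ} (h : 24 ≤ r) (h' : r < 48) : S.φ (x r) ∈ P S := ⟨x r, x_mem_U h h', Or.inl rfl⟩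

/-- an involution centralising `S₀` -/
theorem central_cases [Finite G] (h1 : S.E1) {s : G} (hss : s * s = 1) (hs : ∀ p ∈ P S, p * s = s * p) :
    ∃ z, ZU z ∧ (s = S.φ z ∨ s = S.t * S.φ z) := by
  have hsC : s ∈ Subgroup.centralizer {S.t} := Subgroup.mem_centralizer_singleton_iff.2 (hs _ t_mem_P).symm
  obtain ⟨u, hu, hl⟩ := Parity.mem_of_commute (P_pgroup S) (TV_le_cent S U) hsC hs (P_odd S h1) hss
  refine ⟨u, cen_c hu fun g hg => Or.inl ?_, hl⟩
  have h2 := hs (S.φ g) ⟨g, hg, Or.inl rfl⟩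
  rw [mul_inv_eq_iff_eq_mul]
  apply S.inj
  rcases hl with rfl | rfl
  · rw [map_mul, map_mul]
    exact h2
  · rw [← mul_assoc, S.comm', mul_assoc, mul_assoc] at h2
    rw [map_mul, map_mul]
    exact mul_left_cancel h2

theorem zU_comm {z : LL} (hz : ZU z) : ∀ p ∈ P S, p * (S.t * S.φ z) = S.t * S.φ z * p := by
  rintro p ⟨u, hu, hp⟩
  have h1 := zU_central hz hu
  rw [mul_inv_eq_iff_eq_mul] at h1
  have h2 : S.φ u * S.φ z = S.φ z * S.φ u := by rw [← map_mul, h1, map_mul]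
  rcases hp with rfl | rfl
  · rw [← mul_assoc, S.comm', mul_assoc, h2, mul_assoc]
  · calc S.t * S.φ u * (S.t * S.φ z) = S.t * (S.φ u * S.t) * S.φ z := by simp only [mul_assoc]
      _ = S.t * S.t * (S.φ u * S.φ z) := by rw [S.comm']; simp only [mul_assoc]
      _ = S.t * S.t * (S.φ z * S.φ u) := by rw [h2]
      _ = S.t * (S.t * S.φ z) * S.φ u := by simp only [mul_assoc]
      _ = S.t * (S.φ z * S.t) * S.φ u := by rw [S.comm z]
      _ = _ := by simp only [mul_assoc]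

theorem cen_eq [Finite G] (h1 : S.E1) (hD : ∀ z, ZU z → ∀ g, g * S.t * g⁻¹ ≠ S.φ z) :
    Parity.Cen S.t (P S) = (fun z => S.t * S.φ z) '' {z | ZU z ∧ S.Ty z} := by
  ext s
  constructor
  · rintro ⟨hs, hsP⟩
    obtain ⟨g, hg⟩ := isConj_iff.1 hs
    have hss : s * s = 1 := by
      rw [← hg]
      calc g * S.t * g⁻¹ * (g * S.t * g⁻¹) = g * (S.t * S.t) * g⁻¹ := by group
        _ = 1 := by rw [S.tt]; group
    obtain ⟨z, hz, h⟩ := central_cases h1 hss hsP
    rcases h with h | h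
    · exact absurd (hg.trans h) (hD z hz g)
    · exact ⟨z, ⟨hz, g, hg.trans h⟩, h.symm⟩
  · rintro ⟨z, ⟨hz, g, hg⟩, rfl⟩
    exact ⟨isConj_iff.2 ⟨g, hg⟩, zU_comm hz⟩

theorem ncard_eq [Finite G] (h1 : S.E1) (hD : ∀ z, ZU z → ∀ g, g * S.t * g⁻¹ ≠ S.φ z) :
    (Parity.Cen S.t (P S)).ncard = {z | ZU z ∧ S.Ty z}.ncard := by
  rw [cen_eq h1 hD]
  exact Set.ncard_image_of_injective _ (fun a b h => S.t_mul_inj h)

theorem ty_one : S.Ty 1 := ⟨1, by rw [map_one]; group⟩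

theorem x44_ne_one : x 44 ≠ 1 := x_ne_one (by omega)
theorem x47_ne_one : x 47 ≠ 1 := x_ne_one (by omega)

theorem zc_ne_one : x 47 * x 44 ≠ 1 := by
  intro h
  apply x44_ne_x47
  rw [eq_comm, ← Base.x_inv 44, ← mul_eq_one_iff_eq_inv]
  exact h

theorem zc_ne_47 : x 47 * x 44 ≠ x 47 := by
  intro h
  exact x44_ne_one (mul_eq_left.1 h)

theorem zc_ne_44 : x 47 * x 44 ≠ x 44 := by
  intro h
  exact x47_ne_one (mul_eq_right.1 h)

/-- The parity. -/
theorem parity [Finite G] [IsSimpleGroup G] (hG : ¬ ∀ a b : G, a * b = b * a) (h1 : S.E1)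
    (hD : ∀ z, ZU z → ∀ g, g * S.t * g⁻¹ ≠ S.φ z) : Even {z | ZU z ∧ S.Ty z}.ncard := by
  rw [← ncard_eq h1 hD]
  refine Parity.even_cen_of_comm (L := S.φ.range) hG S.tt (M := Subgroup.centralizer {S.t}) rfl ?_ ?_
    (P_pgroup S) (TV_le_cent S U) (P_odd S h1) ?_
  · intro a ha b hb
    rw [cent_eq S h1] at ha hb
    obtain ⟨u, -, hu⟩ := ha
    obtain ⟨v, -, hv⟩ := hb
    rw [Pr.comm S.tt S.comm hu hv]
    exact ⟨_, rfl⟩
  · rintro ⟨l, hl⟩
    exact S.tne l hl.symm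
  · rintro s hs hsP hsc
    obtain ⟨u, hu, h⟩ := hsP
    have hcm := hsc
    have h2 : s ∈ Parity.Cen S.t (P S) := ⟨hs, hsc⟩
    rw [cen_eq h1 hD] at h2
    obtain ⟨z, -, rfl⟩ := h2
    refine ⟨z, ?_⟩
    change S.φ z = S.t * S.φ z * S.t
    rw [mul_assoc, S.comm', ← mul_assoc, S.tt, one_mul]

/-- The possible sets of conjugates of `t` in `Z(S₀)`. -/
theorem trichotomy [Finite G] [IsSimpleGroup G] (hG : ¬ ∀ a b : G, a * b = b * a) (h1 : S.E1)
    (hD : ∀ z, ZU z → ∀ g, g * S.t * g⁻¹ ≠ S.φ z) :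
    (S.Ty (x 44) ∧ ¬ S.Ty (x 47) ∧ ¬ S.Ty (x 47 * x 44)) ∨ (¬ S.Ty (x 44) ∧ S.Ty (x 47) ∧ ¬ S.Ty (x 47 * x 44)) ∨
      (¬ S.Ty (x 44) ∧ ¬ S.Ty (x 47) ∧ S.Ty (x 47 * x 44)) ∨ (S.Ty (x 44) ∧ S.Ty (x 47) ∧ S.Ty (x 47 * x 44)) := by
  have hp := parity hG h1 hD
  by_cases hs : S.Ty (x 44) <;> by_cases hl : S.Ty (x 47) <;> by_cases hc : S.Ty (x 47 * x 44)
  · exact Or.inr (Or.inr (Or.inr ⟨hs, hl, hc⟩))
  · exfalso
    have e : {z | ZU z ∧ S.Ty z} = {1, x 44, x 47} := by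
      ext z
      simp only [Set.mem_setOf_eq, Set.mem_insert_iff, Set.mem_singleton_iff]
      constructor
      · rintro ⟨rfl | rfl | rfl | rfl, h⟩
        · simp
        · simp
        · simp
        · exact absurd h hc
      · rintro (rfl | rfl | rfl)
        · exact ⟨Or.inl rfl, ty_one⟩
        · exact ⟨Or.inr (Or.inl rfl), hs⟩
        · exact ⟨Or.inr (Or.inr (Or.inl rfl)), hl⟩
    rw [e, Set.ncard_eq_three.2 ⟨1, x 44, x 47, x44_ne_one.symm, x47_ne_one.symm, x44_ne_x47, rfl⟩] at hp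
    exact absurd hp (by decide)
  · exfalso
    have e : {z | ZU z ∧ S.Ty z} = {1, x 44, x 47 * x 44} := by
      ext z
      simp only [Set.mem_setOf_eq, Set.mem_insert_iff, Set.mem_singleton_iff]
      constructor
      · rintro ⟨rfl | rfl | rfl | rfl, h⟩
        · simp
        · simp
        · exact absurd h hl
        · simp
      · rintro (rfl | rfl | rfl)
        · exact ⟨Or.inl rfl, ty_one⟩
        · exact ⟨Or.inr (Or.inl rfl), hs⟩
        · exact ⟨Or.inr (Or.inr (Or.inr rfl)), hc⟩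
    rw [e, Set.ncard_eq_three.2 ⟨1, x 44, x 47 * x 44, x44_ne_one.symm, zc_ne_one.symm, zc_ne_44.symm, rfl⟩] at hp
    exact absurd hp (by decide)
  · exact Or.inl ⟨hs, hl, hc⟩
  · exfalso
    have e : {z | ZU z ∧ S.Ty z} = {1, x 47, x 47 * x 44} := by
      ext z
      simp only [Set.mem_setOf_eq, Set.mem_insert_iff, Set.mem_singleton_iff]
      constructor
      · rintro ⟨rfl | rfl | rfl | rfl, h⟩
        · simp
        · exact absurd h hs
        · simp
        · simp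
      · rintro (rfl | rfl | rfl)
        · exact ⟨Or.inl rfl, ty_one⟩
        · exact ⟨Or.inr (Or.inr (Or.inl rfl)), hl⟩
        · exact ⟨Or.inr (Or.inr (Or.inr rfl)), hc⟩
    rw [e, Set.ncard_eq_three.2 ⟨1, x 47, x 47 * x 44, x47_ne_one.symm, zc_ne_one.symm, zc_ne_47.symm, rfl⟩] at hp
    exact absurd hp (by decide)
  · exact Or.inr (Or.inl ⟨hs, hl, hc⟩)
  · exact Or.inr (Or.inr (Or.inl ⟨hs, hl, hc⟩))
  · exfalso
    have e : {z | ZU z ∧ S.Ty z} = {1} := by
      ext z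
      simp only [Set.mem_setOf_eq, Set.mem_singleton_iff]
      constructor
      · rintro ⟨rfl | rfl | rfl | rfl, h⟩
        · rfl
        · exact absurd h hs
        · exact absurd h hl
        · exact absurd h hc
      · rintro rfl
        exact ⟨Or.inl rfl, ty_one⟩
    rw [e, Set.ncard_singleton] at hp
    exact absurd hp (by decide)

/-- conjugacy of `t` and `t z` is realised in `N(S₀)`. -/
theorem exists_norm [Finite G] (h1 : S.E1) {z : LL} (hz : ZU z) (h : S.Ty z) :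
    ∃ n, Norm S n ∧ n * S.t * n⁻¹ = S.t * S.φ z := by
  obtain ⟨g, hg⟩ := h
  set M : Subgroup G := Subgroup.centralizer {S.t * S.φ z} with hM
  set R : Subgroup G := (P S).map (MulAut.conj g).toMonoidHom with hR
  have hMm : M = (Subgroup.centralizer {S.t}).map (MulAut.conj g).toMonoidHom := by
    ext y
    rw [Subgroup.mem_map_equiv, hM, Subgroup.mem_centralizer_singleton_iff,
      Subgroup.mem_centralizer_singleton_iff, MulAut.conj_symm_apply, ← hg]
    constructor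
    · intro hy
      calc g⁻¹ * y * g * S.t = g⁻¹ * (y * (g * S.t * g⁻¹)) * g := by group
        _ = g⁻¹ * (g * S.t * g⁻¹ * y) * g := by rw [hy]
        _ = S.t * (g⁻¹ * y * g) := by group
    · intro hy
      calc y * (g * S.t * g⁻¹) = g * (g⁻¹ * y * g * S.t) * g⁻¹ := by group
        _ = g * (S.t * (g⁻¹ * y * g)) * g⁻¹ := by rw [hy]
        _ = g * S.t * g⁻¹ * y := by group
  have hPM : P S ≤ M := fun p hp => Subgroup.mem_centralizer_singleton_iff.2 (zU_comm hz p hp)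
  have hRM : R ≤ M := by
    rw [hMm]
    exact Subgroup.map_mono (TV_le_cent S U)
  have hR2 : IsPGroup 2 R := (P_pgroup S).map _
  have hRo : Odd (R.relIndex M) := by
    rw [hMm, hR, Subgroup.relIndex_map_map_of_injective _ _ (MulAut.conj g).injective]
    exact P_odd S h1
  have hcardR : Nat.card R = Nat.card (P S) :=
    Nat.card_congr ((P S).equivMapOfInjective _ (MulAut.conj g).injective).symm.toEquiv
  have hPo : Odd ((P S).relIndex M) := by
    have h6 := Parity.relIndex_mul_card' hRM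
    have h7 := Parity.relIndex_mul_card' hPM
    rw [hcardR, ← h7] at h6
    rw [← Nat.eq_of_mul_eq_mul_right Nat.card_pos h6]
    exact hRo
  obtain ⟨m, hm, hmR⟩ := Parity.exists_conj hPM hRM (P_pgroup S) hR2 hPo hRo
  have hmt : m * (S.t * S.φ z) = S.t * S.φ z * m := Subgroup.mem_centralizer_singleton_iff.1 hm
  have hRmem : ∀ y, y ∈ R ↔ g⁻¹ * y * g ∈ P S := by
    intro y
    rw [hR, Subgroup.mem_map_equiv, MulAut.conj_symm_apply]
  refine ⟨m * g, ⟨fun y hy => ?_, fun y hy => ?_⟩, ?_⟩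
  · have h3 : g * y * g⁻¹ ∈ R := by
      rw [hRmem]
      have e : g⁻¹ * (g * y * g⁻¹) * g = y := by group
      rwa [e]
    have h4 := (hmR _).1 h3
    have e : m * (g * y * g⁻¹) * m⁻¹ = m * g * y * (m * g)⁻¹ := by group
    rwa [e] at h4
  · have h3 : m⁻¹ * y * m ∈ R := by
      rw [hmR]
      have e : m * (m⁻¹ * y * m) * m⁻¹ = y := by group
      rwa [e]
    rw [hRmem] at h3
    have e : g⁻¹ * (m⁻¹ * y * m) * g = (m * g)⁻¹ * y * (m * g) := by group
    rwa [e] at h3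
  · calc m * g * S.t * (m * g)⁻¹ = m * (g * S.t * g⁻¹) * m⁻¹ := by group
      _ = m * (S.t * S.φ z) * m⁻¹ := by rw [hg]
      _ = S.t * S.φ z := by rw [hmt, mul_inv_cancel_right]

/-- an element of `N(S₀)` moves `t` to `t z`, and `t z` to `t` if these are the only conjugates. -/
theorem swap_of_two [Finite G] (h1 : S.E1) (hD : ∀ z, ZU z → ∀ g, g * S.t * g⁻¹ ≠ S.φ z) {z : LL} (hz : ZU z)
    (h : S.Ty z) (hz1 : z ≠ 1) (hu : ∀ w, ZU w → S.Ty w → w = 1 ∨ w = z) : S.Swap z := by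
  obtain ⟨n, hn, hnt⟩ := exists_norm h1 hz h
  refine ⟨n, hnt, ?_⟩
  have hmem : n * (S.t * S.φ z) * n⁻¹ ∈ Parity.Cen S.t (P S) := by
    obtain ⟨g, hg⟩ := h
    refine ⟨isConj_iff.2 ⟨n * g, by rw [← hg]; group⟩, fun p hp => ?_⟩
    have h3 := zU_comm (S := S) hz (n⁻¹ * p * n) (hn.neg p hp)
    calc p * (n * (S.t * S.φ z) * n⁻¹) = n * (n⁻¹ * p * n * (S.t * S.φ z)) * n⁻¹ := by group
      _ = n * (S.t * S.φ z * (n⁻¹ * p * n)) * n⁻¹ := by rw [h3]
      _ = n * (S.t * S.φ z) * n⁻¹ * p := by group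
  rw [cen_eq h1 hD] at hmem
  obtain ⟨w, ⟨hw, hwt⟩, he⟩ := hmem
  change S.t * S.φ w = n * (S.t * S.φ z) * n⁻¹ at he
  rcases hu w hw hwt with rfl | rfl
  · rw [map_one, mul_one] at he
    have h4 : n * (S.t * S.φ z) * n⁻¹ = (n * S.t * n⁻¹) * (n * S.φ z * n⁻¹) := by group
    rw [h4, hnt] at he
    have h5 : S.t * S.φ z * (n * S.φ z * n⁻¹) = S.t * (S.φ z * (n * S.φ z * n⁻¹)) := mul_assoc _ _ _
    rw [h5, left_eq_mul] at he
    have hzz : S.φ z * S.φ z = 1 := by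
      obtain ⟨g, hg⟩ := h
      have h6 : (S.t * S.φ z) * (S.t * S.φ z) = 1 := by
        rw [← hg]
        calc g * S.t * g⁻¹ * (g * S.t * g⁻¹) = g * (S.t * S.t) * g⁻¹ := by group
          _ = 1 := by rw [S.tt]; group
      have h7 : (S.t * S.φ z) * (S.t * S.φ z) = S.t * S.t * (S.φ z * S.φ z) := by
        rw [mul_assoc S.t, ← mul_assoc (S.φ z), S.comm']
        simp only [mul_assoc]
      rw [h7, S.tt, one_mul] at h6
      exact h6
    exact mul_left_cancel (he.trans hzz.symm)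
  · exfalso
    have h8 : n * S.t * n⁻¹ = n * (S.t * S.φ w) * n⁻¹ := hnt.trans he
    have h9 : S.t = S.t * S.φ w := mul_left_cancel (mul_right_cancel h8)
    rw [left_eq_mul] at h9
    exact hz1 (S.inj (h9.trans (map_one S.φ).symm))

theorem zU44 : ZU (x 44) := Or.inr (Or.inl rfl)
theorem zU47 : ZU (x 47) := Or.inr (Or.inr (Or.inl rfl))
theorem zUc : ZU (x 47 * x 44) := Or.inr (Or.inr (Or.inr rfl))

/-- **The patterns.** -/
theorem patterns [Finite G] [IsSimpleGroup G] (hG : ¬ ∀ a b : G, a * b = b * a) (h1 : S.E1)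
    (hD : ∀ z, ZU z → ∀ g, g * S.t * g⁻¹ ≠ S.φ z) :
    (S.Swap (x 44) ∧ ¬ S.Ty (x 47) ∧ ¬ S.Ty (x 47 * x 44)) ∨ (S.Swap (x 47) ∧ ¬ S.Ty (x 44) ∧ ¬ S.Ty (x 47 * x 44)) ∨
      (S.Swap (x 44) ∧ S.Swap (x 47)) ∨
      (S.Ty (x 44) ∧ S.Ty (x 47) ∧ S.Ty (x 47 * x 44) ∧ ∃ n, Norm S n ∧ n * S.t * n⁻¹ = S.t * S.φ (x 44) ∧
        n * S.φ (x 44) * n⁻¹ = S.φ (x 47) ∧ n * S.φ (x 47) * n⁻¹ = S.φ (x 44)) := by
  rcases trichotomy hG h1 hD with ⟨hs, hl, hc⟩ | ⟨hs, hl, hc⟩ | ⟨hs, hl, hc⟩ | ⟨hs, hl, hc⟩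
  · left
    refine ⟨swap_of_two h1 hD zU44 hs x44_ne_one ?_, hl, hc⟩
    rintro w (rfl | rfl | rfl | rfl) hw
    · exact Or.inl rfl
    · exact Or.inr rfl
    · exact absurd hw hl
    · exact absurd hw hc
  · right; left
    refine ⟨swap_of_two h1 hD zU47 hl x47_ne_one ?_, hs, hc⟩
    rintro w (rfl | rfl | rfl | rfl) hw
    · exact Or.inl rfl
    · exact absurd hw hs
    · exact Or.inr rfl
    · exact absurd hw hc
  · exfalso
    obtain ⟨n, hn, hnt⟩ := exists_norm h1 zUc hc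
    exact hl (ty_long S.inj S.tt S.comm S.tne hn.pos hn.neg hnt)
  · right; right
    obtain ⟨n, hn, hnt⟩ := exists_norm h1 zU44 hs
    obtain ⟨m, hm, hmt⟩ := exists_norm h1 zU47 hl
    rcases perm hn with ⟨hn4, hn7⟩ | ⟨hn4, hn7⟩
    · rcases perm hm with ⟨hm4, hm7⟩ | ⟨hm4, hm7⟩
      · exact Or.inl ⟨⟨n, hnt, hn4⟩, ⟨m, hmt, hm7⟩⟩
      · right
        refine ⟨hs, hl, hc, m⁻¹, hm.inv, ?_, ?_, ?_⟩
        · -- `m (t z_s) m⁻¹ = t`
          have h3 : m * (S.t * S.φ (x 44)) * m⁻¹ = S.t := by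
            have h4 : m * (S.t * S.φ (x 44)) * m⁻¹ = (m * S.t * m⁻¹) * (m * S.φ (x 44) * m⁻¹) := by group
            rw [h4, hmt, hm4, mul_assoc, ← map_mul, Base.x_mul_self, map_one, mul_one]
          calc m⁻¹ * S.t * m⁻¹⁻¹ = m⁻¹ * (m * (S.t * S.φ (x 44)) * m⁻¹) * m := by rw [h3, inv_inv]
            _ = _ := by group
        · rw [← hm7]; group
        · rw [← hm4]; group
    · right
      exact ⟨hs, hl, hc, n, hn, hnt, hn4, hn7⟩

end Cfsg.Agent.F42.Pattern
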