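import Cfsg.Agent.StdAlt.First
import Cfsg.Agent.Lib.ProductSet

/-!
# A group `X` (`F₄(2)` in the application) has no proper tightly embedded part of even order at least 4

`RedData X`: the facts on `X`. `Tight Rh J M`: the situation in which `Rh` is the group of automorphisms induced on
`X = B` by `C(A) ∩ N(B)`, `J = C(A) ∩ B`, `M = B ∩ N(A)` for a good pair `(A, B)`. `Tight.main`: `M = ⊤`.
-/

set_option autoImplicit false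

namespace Cfsg.Agent.F42.Red

open Subgroup Cfsg.Agent.StdAlt.Pairs
open scoped Pointwise

/-- the facts on `X` which are used -/
structure RedData (X : Type*) [Group X] where
  U : Subgroup X
  Q : Subgroup X
  W : Subgroup X
  s : X
  l : X
  hU : IsPGroup 2 U
  hZ : ∀ b : X, (∀ x, b * x = x * b) → b = 1
  nU : ∀ b, (∀ u ∈ U, b * u * b⁻¹ ∈ U) → b ∈ U
  sU : s ∈ U
  lU : l ∈ U
  s1 : s ≠ 1
  l1 : l ≠ 1
  sl : s ≠ l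
  ss : s * s = 1
  ll : l * l = 1
  sc : ∀ u ∈ U, u * s = s * u
  lc : ∀ u ∈ U, u * l = l * u
  cU : ∀ z ∈ U, (∀ u ∈ U, z * u = u * z) → z = 1 ∨ z = s ∨ z = l ∨ z = s * l
  aut1 : ∀ α : MulAut X, (∀ u ∈ U, α u ∈ U) → α s = s ∨ α s = l
  aut2 : ∀ α : MulAut X, (∀ u ∈ U, α u ∈ U) → α s = s → ∃ b, ∀ x, α x = b * x * b⁻¹
  aut3 : ∀ α : MulAut X, (∀ u ∈ U, α u ∈ U) → α s = l → ∃ u ∈ U, α u * u⁻¹ ≠ 1 ∧ α u * u⁻¹ ≠ s * l
  stepS : ∀ J : Subgroup X, (∀ g, g * s = s * g → ∀ j ∈ J, g * j * g⁻¹ ∈ J) → ∀ w ∈ U, w ≠ 1 → w ≠ s →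
    (∀ u ∈ U, w * u * w⁻¹ * u⁻¹ = 1 ∨ w * u * w⁻¹ * u⁻¹ = s) →
    (∀ g, g * s = s * g → g * w * g⁻¹ * w⁻¹ ∈ J) → l ∈ J
  stepL : ∀ J : Subgroup X, (∀ g, g * l = l * g → ∀ j ∈ J, g * j * g⁻¹ ∈ J) → ∀ w ∈ U, w ≠ 1 → w ≠ l →
    (∀ u ∈ U, w * u * w⁻¹ * u⁻¹ = 1 ∨ w * u * w⁻¹ * u⁻¹ = l) →
    (∀ g, g * l = l * g → g * w * g⁻¹ * w⁻¹ ∈ J) → s ∈ J
  stepC : ∀ w ∈ U, (∀ u ∈ U, w * u * w⁻¹ * u⁻¹ = 1 ∨ w * u * w⁻¹ * u⁻¹ = s * l) → ∀ u ∈ U, w * u = u * w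
  move : ∃ g, g * s = s * g ∧ g * l * g⁻¹ ∈ U ∧ g * l * g⁻¹ ≠ l ∧ g * l * g⁻¹ ≠ s
  gen : ∀ M : Subgroup X, (∀ g, g * s = s * g → g ∈ M) → (∀ g, g * l = l * g → g ∈ M) → M = ⊤
  qs : ∀ q ∈ Q, q * s = s * q
  qq : ∀ q ∈ Q, ∀ q' ∈ Q, q * q' * q⁻¹ * q'⁻¹ = 1 ∨ q * q' * q⁻¹ * q'⁻¹ = s
  wq : ∀ w ∈ W, ∀ q ∈ Q, w * q = q * w
  wn : ∀ g, g * s = s * g → ∀ w ∈ W, g * w * g⁻¹ ∈ W
  cW : ∀ g, g * s = s * g → (∀ w ∈ W, g * w = w * g) → g ∈ Q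
  cQ : ∀ g ∈ Q, (∀ q ∈ Q, g * q = q * g) → g ∈ W
  wc : ∀ w ∈ W, w = 1 ∨ (w * w = 1 ∧ ∃ h : X, ∀ u ∈ U, w * (h * u * h⁻¹) = (h * u * h⁻¹) * w)
  inv : ∀ b, b ≠ 1 → b * b = 1 → ∃ h, h * b * h⁻¹ ∈ Q
  pair : ∀ g, g * s * g⁻¹ ≠ s → ∀ n : ℕ, (s * (g * s * g⁻¹)) ^ 2 ^ n = 1 → ∃ m : ℕ,
    (s * (g * s * g⁻¹)) ^ m ≠ 1 ∧ (s * (g * s * g⁻¹)) ^ m * (s * (g * s * g⁻¹)) ^ m = 1 ∧
      ∃ h : X, ∀ u ∈ U, (s * (g * s * g⁻¹)) ^ m * (h * u * h⁻¹) = (h * u * h⁻¹) * (s * (g * s * g⁻¹)) ^ m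

variable {X : Type*} [Group X]

/-! ### general tools -/

/-- in a 2-group: between two normal subgroups there is an element centralized modulo the smaller one -/
theorem exists_mod [Finite X] {U Z N : Subgroup X} (hU : IsPGroup 2 U) (hZ : ∀ u ∈ U, ∀ z ∈ Z, u * z * u⁻¹ ∈ Z)
    (hN : ∀ u ∈ U, ∀ z ∈ N, u * z * u⁻¹ ∈ N) {n : X} (hnU : n ∈ U) (hnN : n ∈ N) (hnZ : n ∉ Z) :
    ∃ w ∈ N, w ∈ U ∧ w ∉ Z ∧ ∀ u ∈ U, w * u * w⁻¹ * u⁻¹ ∈ Z := by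
  have hZn : (Z.subgroupOf U).Normal := ⟨fun z hz g => mem_subgroupOf.2 (hZ g g.2 _ (mem_subgroupOf.1 hz))⟩
  have hNn : (N.subgroupOf U).Normal := ⟨fun z hz g => mem_subgroupOf.2 (hN g g.2 _ (mem_subgroupOf.1 hz))⟩
  have h2 : IsPGroup 2 (U ⧸ Z.subgroupOf U) := hU.to_quotient _
  have hKn : ((N.subgroupOf U).map (QuotientGroup.mk' (Z.subgroupOf U))).Normal :=
    hNn.map _ (QuotientGroup.mk'_surjective _)
  have hK : (N.subgroupOf U).map (QuotientGroup.mk' (Z.subgroupOf U)) ≠ ⊥ := by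
    intro h
    apply hnZ
    have h1 : QuotientGroup.mk' (Z.subgroupOf U) ⟨n, hnU⟩ ∈
        (N.subgroupOf U).map (QuotientGroup.mk' (Z.subgroupOf U)) :=
      mem_map_of_mem _ (mem_subgroupOf.2 hnN)
    rw [h, mem_bot, QuotientGroup.mk'_apply, QuotientGroup.eq_one_iff, mem_subgroupOf] at h1
    exact h1
  obtain ⟨z, hz, hzc, hzo⟩ := Cfsg.Agent.Transfer.PGroupNormal.exists_mem_inf_center_orderOf h2 _ hK
  obtain ⟨w, hw, rfl⟩ := hz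
  refine ⟨w, mem_subgroupOf.1 hw, w.2, ?_, ?_⟩
  · intro h
    have h1 : QuotientGroup.mk' (Z.subgroupOf U) w = 1 := by
      rw [QuotientGroup.mk'_apply, QuotientGroup.eq_one_iff, mem_subgroupOf]; exact h
    rw [h1, orderOf_one] at hzo
    exact absurd hzo (by norm_num)
  · intro u hu
    have h1 := mem_center_iff.1 hzc (QuotientGroup.mk' (Z.subgroupOf U) ⟨u, hu⟩)
    have h3 : QuotientGroup.mk' (Z.subgroupOf U) (w * ⟨u, hu⟩ * w⁻¹ * ⟨u, hu⟩⁻¹) = 1 := by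
      rw [map_mul, map_mul, map_mul, map_inv, map_inv, ← h1]; group
    rw [QuotientGroup.mk'_apply, QuotientGroup.eq_one_iff, mem_subgroupOf] at h3
    exact h3

/-- a 2-group normalizing `R` (order divisible by 4): there is a 2-subgroup of `R` of order divisible by 4 normalized by it -/
theorem exists_four [Finite X] {R Q : Subgroup X} (h4 : 4 ∣ Nat.card R) (hQ : IsPGroup 2 Q)
    (hn : ∀ q ∈ Q, ∀ r ∈ R, q * r * q⁻¹ ∈ R) :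
    ∃ P : Subgroup X, IsPGroup 2 P ∧ Q ≤ P ∧ 4 ∣ Nat.card ↥(P ⊓ R) ∧ (∀ p ∈ P, ∀ r ∈ R, p * r * p⁻¹ ∈ R) := by
  have hQN : Q ≤ normalizer (R : Set X) := fun q hq => mem_normalizer_fintype (hn q hq)
  obtain ⟨P, hP, hQP, hPY, hPm⟩ := exists_two_subgroup (Q ⊔ R) Q hQ le_sup_left
  have hPN : P ≤ normalizer (R : Set X) := hPY.trans (sup_le hQN le_normalizer)
  refine ⟨P, hP, hQP, ?_, fun p hp r hr => (mem_normalizer_iff.1 (hPN hp) r).1 hr⟩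
  -- orders
  have hPR : P ⊔ R = Q ⊔ R := le_antisymm (sup_le hPY le_sup_right) (sup_le_sup_right hQP R)
  have hcard : Nat.card ↥(P ⊔ R) * Nat.card ↥(P ⊓ R) = Nat.card P * Nat.card R := by
    rw [← Cfsg.Agent.Lib.ProductSet.card_mul_card_inf P R]
    congr 1
    exact Nat.card_congr (Equiv.setCongr (Subgroup.coe_mul_of_left_le_normalizer_right P R hPN))
  obtain ⟨m, hm⟩ := hP.exists_card_eq
  obtain ⟨k, hk⟩ := (hP.to_le (inf_le_left : P ⊓ R ≤ P)).exists_card_eq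
  rw [hk]
  by_contra hcon
  have hk1 : k < 2 := by
    by_contra h
    exact hcon (pow_dvd_pow 2 (not_lt.1 h))
  have h5 : 2 ^ (m + 1) ∣ Nat.card ↥(Q ⊔ R) := by
    obtain ⟨c, hc⟩ := h4
    rw [hPR, hk, hm, hc] at hcard
    have h6 : 2 ^ k * 2 ^ (m + 1) ∣ 2 ^ k * Nat.card ↥(Q ⊔ R) := by
      rw [mul_comm (2 ^ k) (Nat.card ↥(Q ⊔ R)), hcard]
      have : k = 0 ∨ k = 1 := by omega
      rcases this with rfl | rfl
      · exact ⟨2 * c, by ring⟩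
      · exact ⟨c, by ring⟩
    exact Nat.dvd_of_mul_dvd_mul_left (by positivity) h6
  have h7 := hPm _ h5
  rw [hm] at h7
  have h8 := Nat.le_of_dvd (by positivity) h7
  have h9 : 0 < 2 ^ m := by positivity
  rw [pow_succ] at h8
  omega

/-- a 2-subgroup of automorphisms fixes a Sylow 2-subgroup -/
theorem exists_sylow_fixed [Finite X] {P : Subgroup (MulAut X)} (hP : IsPGroup 2 P) :
    ∃ S : Sylow 2 X, ∀ ρ ∈ P, ∀ u ∈ S, ρ u ∈ S := by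
  have h1 : ¬ 2 ∣ Nat.card (Sylow 2 X) := by
    have := card_sylow_modEq_one 2 X
    intro h
    have h2 : Nat.card (Sylow 2 X) ≡ 0 [MOD 2] := (Nat.modEq_zero_iff_dvd).2 h
    exact absurd (this.symm.trans h2) (by decide)
  obtain ⟨S, hS⟩ := hP.nonempty_fixed_point_of_prime_not_dvd_card (Sylow 2 X) h1
  refine ⟨S, fun ρ hρ u hu => ?_⟩
  have h2 : (⟨ρ, hρ⟩ : P) • S = S := hS ⟨ρ, hρ⟩
  have h3 : ρ • S = S := h2
  have h4 : ρ • u ∈ ρ • (S : Subgroup X) := Subgroup.smul_mem_pointwise_smul _ _ _ hu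
  have h5 : ((ρ • S : Sylow 2 X) : Subgroup X) = ρ • (S : Subgroup X) := rfl
  rw [← h5, h3] at h4
  exact h4

end Cfsg.Agent.F42.Red
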