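import Cfsg.Agent.F42.RedTight

/-!
# The tight situation: `M = ⊤` in all cases
-/

set_option autoImplicit false

namespace Cfsg.Agent.F42.Red

open Subgroup Cfsg.Agent.StdAlt.Pairs

variable {X : Type*} [Group X]

namespace Tight

variable {R : Subgroup (MulAut X)} {J M : Subgroup X} (D : RedData X)

/-- a conjugate automorphism is inner if and only if the automorphism is -/
theorem inner_conj {g : X} {ρ : MulAut X} (h : ∃ b, MulAut.conj (MulAut.conj g) ρ = MulAut.conj b) :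
    ∃ b, ρ = MulAut.conj b := by
  obtain ⟨b, hb⟩ := h
  refine ⟨g⁻¹ * b * g, ?_⟩
  rw [MulAut.conj_apply] at hb
  rw [map_mul, map_mul, map_inv, ← hb]
  group

theorem inner_conj' {g : X} {ρ : MulAut X} (h : ∃ b, ρ = MulAut.conj b) :
    ∃ b, MulAut.conj (MulAut.conj g) ρ = MulAut.conj b := by
  obtain ⟨b, rfl⟩ := h
  exact ⟨g * b * g⁻¹, by rw [MulAut.conj_apply, map_mul, map_mul, map_inv]⟩

theorem exists_central {Y : Type*} [Group Y] [Finite Y] {P : Subgroup Y} (hP : IsPGroup 2 P) (h : P ≠ ⊥) :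
    ∃ r ∈ P, r ≠ 1 ∧ r * r = 1 ∧ ∀ x ∈ P, x * r = r * x :=
  Cfsg.Agent.StdAlt.First.exists_comm_inv hP le_rfl h fun _ hx _ hr =>
    mul_mem (mul_mem hx hr) (inv_mem hx)

include D

theorem main [Finite X] (h : Tight R J M) : M = ⊤ ∧ J ≠ ⊥ := by
  have hfin : Finite (MulAut X) := Finite.of_injective (fun ρ : MulAut X => (ρ : X → X)) DFunLike.coe_injective
  by_cases hM : ∃ g : X, ∀ u ∈ D.U, g * u * g⁻¹ ∈ M
  · obtain ⟨g, hg⟩ := hM
    obtain ⟨h1, h2⟩ := (h.conj g⁻¹).of_le D (by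
      intro u hu
      refine ⟨g * u * g⁻¹, hg u hu, ?_⟩
      simp only [MulEquiv.coe_toMonoidHom, MulAut.conj_apply]
      group)
    constructor
    · rw [eq_top_iff]
      intro x _
      have h3 : (MulAut.conj g⁻¹) x ∈ M.map (MulAut.conj g⁻¹).toMonoidHom := by rw [h1]; trivial
      obtain ⟨m, hm, hmx⟩ := h3
      have h4 : m = x := (MulAut.conj g⁻¹).injective hmx
      exact h4 ▸ hm
    · rintro rfl
      exact h2 (Subgroup.map_bot _)
  · exfalso
    push Not at hM
    have hno : ∀ g : X, ¬ ∀ u ∈ D.U, g * u * g⁻¹ ∈ M := by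
      intro g hg
      obtain ⟨u, hu, hu'⟩ := hM g
      exact hu' (hg u hu)
    have hnoc : ∀ k g : X, ¬ ∀ u ∈ D.U, g * u * g⁻¹ ∈ M.map (MulAut.conj k).toMonoidHom := by
      intro k g hg
      apply hno (k⁻¹ * g)
      intro u hu
      obtain ⟨m, hm, hmx⟩ := hg u hu
      have h1 : m = k⁻¹ * g * u * (k⁻¹ * g)⁻¹ := by
        have : k * m * k⁻¹ = g * u * g⁻¹ := hmx
        calc m = k⁻¹ * (k * m * k⁻¹) * k := by group
          _ = k⁻¹ * g * u * (k⁻¹ * g)⁻¹ := by rw [this]; group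
      exact h1 ▸ hm
    -- a Sylow 2-subgroup of `R`
    obtain ⟨P, hP, -, hPR, hPm⟩ := exists_two_subgroup R ⊥ (IsPGroup.of_bot) bot_le
    have hP4 : 4 ∣ Nat.card P := hPm 2 h.four
    have hP4' : 4 ≤ Nat.card P := Nat.le_of_dvd Nat.card_pos hP4
    have hmax : ∀ Q : Subgroup (MulAut X), IsPGroup 2 Q → P ≤ Q → Q ≤ R → Q = P := by
      intro Q hQ hPQ hQR
      obtain ⟨m, hm⟩ := hQ.exists_card_eq
      have h1 : 2 ^ m ∣ Nat.card P := hPm m (hm ▸ card_dvd_of_le hQR)
      exact (eq_of_le_of_card_ge hPQ (by rw [hm]; exact Nat.le_of_dvd Nat.card_pos h1)).symm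
    -- all elements of `P` are inner
    have hPin : ∀ ρ ∈ P, ∃ b, ρ = MulAut.conj b := by
      obtain ⟨S, hS⟩ := exists_sylow_fixed hP
      let US : Sylow 2 X := ⟨D.U, D.hU, fun {Q} hQ hUQ => D.max hQ hUQ⟩
      obtain ⟨g, hg⟩ := MulAction.exists_smul_eq X S US
      -- `g S g⁻¹ = U`
      have hgS : ∀ x, x ∈ S ↔ g * x * g⁻¹ ∈ D.U := by
        intro x
        have e : (D.U : Subgroup X) = ((g • S : Sylow 2 X) : Subgroup X) := by rw [hg]
        have e2 : ((g • S : Sylow 2 X) : Subgroup X) = (S : Subgroup X).map (MulAut.conj g).toMonoidHom := rfl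
        rw [e, e2]
        constructor
        · intro hx
          exact ⟨x, hx, rfl⟩
        · rintro ⟨y, hy, hyx⟩
          have : y = x := (MulAut.conj g).injective hyx
          exact this ▸ hy
      intro ρ hρ
      apply inner_conj (g := g)
      refine (h.conj g).inner_of_fix D (hnoc g) (P := P.map (MulAut.conj (MulAut.conj g)).toMonoidHom)
        (hP.map _) (map_mono hPR) ?_ ?_ _ ⟨ρ, hρ, rfl⟩
      · rw [Nat.card_congr ((P.equivMapOfInjective _ (MulAut.conj (MulAut.conj g)).injective).symm.toEquiv)]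
        exact hP4'
      · rintro _ ⟨σ, hσ, rfl⟩ u hu
        simp only [MulEquiv.coe_toMonoidHom, MulAut.conj_apply, MulAut.mul_apply, MulAut.conj_inv_apply]
        rw [← hgS]
        apply hS σ hσ
        rw [hgS, show g * (g⁻¹ * u * g) * g⁻¹ = u by group]
        exact hu
    have hin : ∀ T : Subgroup (MulAut X), T ≤ R → IsPGroup 2 T → ∀ ρ ∈ T, ∃ b, ρ = MulAut.conj b := by
      intro T hTR hT ρ hρ
      obtain ⟨σ, -, hσ⟩ := exists_conj_le R P T hP hT hPR hTR hmax
      obtain ⟨b, hb⟩ := hPin _ (hσ ρ hρ)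
      refine ⟨σ⁻¹ b, ?_⟩
      rw [← conj_conj, ← hb]
      group
    -- a central involution
    obtain ⟨r, hrP, hr1, hrr, hrc⟩ := exists_central hP (by
      rintro rfl
      rw [card_bot] at hP4'
      omega)
    obtain ⟨b, rfl⟩ := hPin r hrP
    have hb1 : b ≠ 1 := by rintro rfl; exact hr1 (map_one _)
    have hbb : b * b = 1 := by
      apply D.conj_inj
      rw [map_mul, hrr, map_one]
    obtain ⟨k, hk⟩ := D.inv b hb1 hbb
    have ek : MulAut.conj (MulAut.conj k) (MulAut.conj b) = MulAut.conj (k * b * k⁻¹) := by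
      rw [MulAut.conj_apply, map_mul, map_mul, map_inv]
    refine (h.conj k).false_of_inner D (hnoc k) ?_ (b₀ := k * b * k⁻¹) ?_ hk ?_ ?_ ?_
    · intro T hTR hT ρ hρ
      have h1 : ∃ c, MulAut.conj (MulAut.conj k⁻¹) ρ = MulAut.conj c := by
        refine hin (T.map (MulAut.conj (MulAut.conj k⁻¹)).toMonoidHom) ?_ (hT.map _) _ ⟨ρ, hρ, rfl⟩
        rintro _ ⟨σ, hσ, rfl⟩
        obtain ⟨τ, hτ, rfl⟩ := hTR hσ
        have e : (MulAut.conj (MulAut.conj k⁻¹)).toMonoidHom ((MulAut.conj (MulAut.conj k)).toMonoidHom τ) = τ := by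
          simp only [MulEquiv.coe_toMonoidHom, map_inv, MulAut.inv_apply_self]
        rw [e]
        exact hτ
      exact inner_conj h1
    · rw [← ek]
      exact ⟨_, hPR hrP, rfl⟩
    · intro e
      apply hb1
      calc b = k⁻¹ * (k * b * k⁻¹) * k := by group
        _ = 1 := by rw [e]; group
    · calc k * b * k⁻¹ * (k * b * k⁻¹) = k * (b * b) * k⁻¹ := by group
        _ = 1 := by rw [hbb]; group
    · refine Dvd.dvd.trans ?_ (card_dvd_of_le (H := P.map (MulAut.conj (MulAut.conj k)).toMonoidHom) ?_)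
      · rw [Nat.card_congr ((P.equivMapOfInjective _ (MulAut.conj (MulAut.conj k)).injective).symm.toEquiv)]
        exact hP4
      · rintro _ ⟨σ, hσ, rfl⟩
        refine ⟨⟨σ, hPR hσ, rfl⟩, mem_cent.2 ?_⟩
        rw [← ek]
        simp only [MulEquiv.coe_toMonoidHom]
        rw [← map_mul, ← map_mul, hrc σ hσ]

end Tight

end Cfsg.Agent.F42.Red
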