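import Cfsg.Agent.F42.RedMain

/-!
# Reduction for a standard subgroup `A ≅ X`

`X` a finite simple group with `RedData X` (in the application `F₄(2)`), `f : X →* G` injective with range `A`.

* `not_four_dvd`: `4 ∤ |C(A)|`.
* `exists_ctx`: there is an involution `t` with `C_G(t) ≤ N(A)`, `C(A) ∩ C_G(t) = {1, t}`, and any two elements of
  `C_G(t)` outside `A ∪ t A` differ by an element of `A ∪ t A`.
-/

set_option autoImplicit false

namespace Cfsg.Agent.F42.Red

open Subgroup Cfsg.Agent.StdAlt.Conj Cfsg.Agent.StdAlt.Pairs Cfsg.Agent.StdAlt.First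

variable {X G : Type*} [Group X] [Group G]

/-- the action of `N(f.range)` on `X` -/
noncomputable def act (f : X →* G) (hf : Function.Injective f) : ↥(N f.range) →* MulAut X :=
  (MulAut.congr (MonoidHom.ofInjective hf).symm).toMonoidHom.comp f.range.normalizerMonoidHom

theorem f_act (f : X →* G) (hf : Function.Injective f) (r : ↥(N f.range)) (x : X) :
    f (act f hf r x) = (r : G) * f x * (r : G)⁻¹ := by
  have h1 : act f hf r x = (MonoidHom.ofInjective hf).symm
      (f.range.normalizerMonoidHom r (MonoidHom.ofInjective hf x)) := rfl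
  rw [h1]
  have h2 : ∀ y : f.range, f ((MonoidHom.ofInjective hf).symm y) = y := by
    intro y
    obtain ⟨z, rfl⟩ := (MonoidHom.ofInjective hf).surjective y
    rw [MulEquiv.symm_apply_apply]
    rfl
  rw [h2]
  rfl

/-- the tight situation given by a good pair -/
theorem exists_tight [Finite G] {A : Subgroup G} (hA : TE A) (f : X →* G) (hf : Function.Injective f)
    (hB : Cj A f.range) (hne : A ≠ f.range) (h4 : 4 ∣ Nat.card ↥(C A ⊓ N f.range)) :
    ∃ R : Subgroup (MulAut X), Tight R ((C A).comap f) ((N A).comap f) := by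
  have hodd : ∀ k, k ∈ C A → k ∈ C f.range → Odd (orderOf k) := by
    intro k hk hk'
    rw [← Nat.not_even_iff_odd]
    rintro ⟨m, hm⟩
    have h0 : 0 < orderOf k := orderOf_pos k
    have h1 : k ^ m ≠ 1 := by
      intro e
      have := Nat.le_of_dvd (by omega) (orderOf_dvd_of_pow_eq_one e)
      omega
    refine hne (hA.eq_of_mem hB h1 ?_ (pow_mem hk m) (pow_mem hk' m))
    rw [← pow_add, ← hm, pow_orderOf_eq_one]
  set φ := act f hf with hφ
  have key : ∀ (r : ↥(N f.range)) (x : X), f (φ r x) = (r : G) * f x * (r : G)⁻¹ := f_act f hf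
  have hker : ∀ r : ↥(N f.range), φ r = 1 → (r : G) ∈ C f.range := by
    intro r hr
    rw [mem_C]
    rintro _ ⟨x, rfl⟩
    have h1 := key r x
    rw [hr, MulAut.one_apply] at h1
    calc (r : G) * f x = ((r : G) * f x * (r : G)⁻¹) * r := by group
      _ = f x * r := by rw [← h1]
  refine ⟨((C A).subgroupOf (N f.range)).map φ, ?_, ?_, ?_, ?_, ?_, ?_, ?_⟩
  · rintro x hx _ ⟨r, hr, rfl⟩
    have hr' : (r : G) ∈ C A := mem_subgroupOf.1 hr
    rw [mem_comap, map_mul, map_inv, key,
      show (r : G) * f x * (r : G)⁻¹ * (f x)⁻¹ = (r : G) * (f x * (r : G)⁻¹ * (f x)⁻¹) by group]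
    exact mul_mem hr' (conj_mem_C hx (inv_mem hr'))
  · rintro x hx _ ⟨r, hr, rfl⟩
    have hr' : (r : G) ∈ C A := mem_subgroupOf.1 hr
    have hxN : f x ∈ N f.range := le_N ⟨x, rfl⟩
    refine ⟨⟨f x, hxN⟩ * r * ⟨f x, hxN⟩⁻¹, mem_subgroupOf.2 (conj_mem_C hx hr'), ?_⟩
    ext y
    apply hf
    rw [key]
    simp only [MulAut.mul_apply, MulAut.conj_apply, MulAut.conj_inv_apply, map_mul, map_inv]
    rw [key]
    simp only [coe_mul, InvMemClass.coe_inv]
    rw [key]
    simp only [mul_inv_rev, inv_inv]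
    group
  · intro j hj
    exact C_le_N hj
  · intro x hx j hj
    rw [mem_comap, map_mul, map_mul, map_inv]
    exact conj_mem_C hx hj
  · rintro _ ⟨r, hr, rfl⟩ hρ1 hρρ x hx
    have hr' : (r : G) ∈ C A := mem_subgroupOf.1 hr
    have h1 : ((r * r : ↥(N f.range)) : G) ∈ C f.range := hker _ (by rw [map_mul]; exact hρρ)
    rw [coe_mul] at h1
    obtain ⟨m, hm⟩ := hodd _ (mul_mem hr' hr') h1
    -- `r ^ (2 m + 1)` is an involution inducing the same automorphism
    have h2 : φ (r ^ (2 * m + 1)) = φ r := by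
      rw [map_pow, pow_succ, pow_mul, sq, hρρ, one_pow, one_mul]
    have h3 : ((r : G) ^ (2 * m + 1)) * ((r : G) ^ (2 * m + 1)) = 1 := by
      have e : ((r : G) * r) ^ (2 * m + 1) = 1 := by rw [← hm, pow_orderOf_eq_one]
      rw [← e, ← pow_add, ← sq, ← pow_mul]
      congr 1
      ring
    have h4 : (r : G) ^ (2 * m + 1) ≠ 1 := by
      intro e
      apply hρ1
      rw [← h2]
      have : r ^ (2 * m + 1) = 1 := Subtype.ext (by rw [coe_pow, e, coe_one])
      rw [this, map_one]
    refine hA.nrm (k := (r : G) ^ (2 * m + 1)) (pow_mem hr' _) h4 h3 ?_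
    have h5 := key (r ^ (2 * m + 1)) x
    rw [h2, hx, coe_pow] at h5
    calc f x * (r : G) ^ (2 * m + 1) = ((r : G) ^ (2 * m + 1) * f x * ((r : G) ^ (2 * m + 1))⁻¹) *
          (r : G) ^ (2 * m + 1) := by rw [← h5]
      _ = (r : G) ^ (2 * m + 1) * f x := by group
  · intro j hj
    have hjN : f j ∈ N f.range := le_N ⟨j, rfl⟩
    refine ⟨⟨f j, hjN⟩, mem_subgroupOf.2 hj, ?_⟩
    ext y
    apply hf
    rw [key, MulAut.conj_apply, map_mul, map_mul, map_inv]
  · -- orders
    set K := (C A).subgroupOf (N f.range) with hK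
    have h1 : Nat.card ↥(C A ⊓ N f.range) = Nat.card K := by
      rw [hK, ← Subgroup.subgroupOf_map_subtype]
      exact (Nat.card_congr ((K.equivMapOfInjective _ (N f.range).subtype_injective).toEquiv)).symm
    rw [h1] at h4
    set ψ : K →* MulAut X := φ.comp K.subtype with hψ
    have h2 : K.map φ = ψ.range := by
      rw [hψ, MonoidHom.range_comp, range_subtype]
    rw [h2]
    have h3 : Nat.card K = Nat.card ψ.range * Nat.card ψ.ker := by
      rw [← Nat.card_congr (QuotientGroup.quotientKerEquivRange ψ).toEquiv]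
      exact ψ.ker.card_eq_card_quotient_mul_card_subgroup
    have h5 : ¬ 2 ∣ Nat.card ψ.ker := by
      intro h
      have : Fact (Nat.Prime 2) := ⟨Nat.prime_two⟩
      obtain ⟨k, hk⟩ := exists_prime_orderOf_dvd_card' 2 h
      have h6 : ((k : K) : ↥(N f.range)) = ((k : K) : ↥(N f.range)) := rfl
      have h7 : (((k : K) : ↥(N f.range)) : G) ∈ C A := mem_subgroupOf.1 (k : K).2
      have h8 : (((k : K) : ↥(N f.range)) : G) ∈ C f.range := hker _ k.2
      have h9 := hodd _ h7 h8
      rw [orderOf_coe, orderOf_coe, orderOf_coe, hk] at h9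
      exact absurd h9 (by decide)
    rw [h3] at h4
    have h6 : Nat.Coprime 4 (Nat.card ψ.ker) := by
      rw [show 4 = 2 ^ 2 by norm_num]
      exact Nat.Coprime.pow_left 2 ((Nat.prime_two.coprime_iff_not_dvd).2 h5)
    exact h6.dvd_of_dvd_mul_right h4

/-- in a good pair the second group centralizes the first one -/
theorem range_le_C [Finite G] [Finite X] [IsSimpleGroup X] (D : RedData X) {A : Subgroup G} (hA : TE A)
    (f : X →* G) (hf : Function.Injective f) (hB : Cj A f.range) (hne : A ≠ f.range)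
    (h4 : 4 ∣ Nat.card ↥(C A ⊓ N f.range)) : f.range ≤ C A := by
  obtain ⟨R, hR⟩ := exists_tight hA f hf hB hne h4
  obtain ⟨hM, hJ⟩ := hR.main D
  have hn : ((C A).comap f).Normal := ⟨fun j hj x => hR.nJ x (by rw [hM]; trivial) j hj⟩
  rcases hn.eq_bot_or_eq_top with h | h
  · exact absurd h hJ
  · rintro _ ⟨x, rfl⟩
    have : x ∈ (C A).comap f := by rw [h]; trivial
    exact this

theorem not_good [Finite G] [Finite X] [IsSimpleGroup X] (D : RedData X) {A : Subgroup G} (hA : TE A)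
    (hst : ∀ g : G, A.map (MulAut.conj g).toMonoidHom ≠ A → ⁅A, A.map (MulAut.conj g).toMonoidHom⁆ ≠ ⊥)
    (f : X →* G) (hf : Function.Injective f) (hfA : f.range = A) : ¬ Good A := by
  rintro ⟨B, hB, hne, h4⟩
  obtain ⟨g, rfl⟩ := hB.exists_eq
  have hr : ((MulAut.conj g).toMonoidHom.comp f).range = cj g A := by
    rw [MonoidHom.range_comp, hfA]
  have h1 := range_le_C D hA ((MulAut.conj g).toMonoidHom.comp f)
    ((MulAut.conj g).injective.comp hf) (hr ▸ hB) (hr ▸ hne) (hr ▸ h4)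
  rw [hr] at h1
  refine hst g hne.symm ?_
  rw [commutator_comm, commutator_eq_bot_iff_le_centralizer]
  exact h1

/-- `y ∈ N(A)` normalizing a Sylow 2-subgroup: either `y` induces an inner automorphism or it swaps -/
theorem inner_or_swap [Finite X] (D : RedData X) (f : X →* G) (hf : Function.Injective f) {y : G}
    (hy : y ∈ N f.range) (hyp : ∃ n : ℕ, y ^ 2 ^ n = 1) :
    (∃ b : X, f b * y ∈ C f.range) ∨ ∃ g : X, y * f (g * D.s * g⁻¹) * y⁻¹ = f (g * D.l * g⁻¹) := by
  set ρ := act f hf ⟨y, hy⟩ with hρ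
  have key : ∀ x, f (ρ x) = y * f x * y⁻¹ := f_act f hf ⟨y, hy⟩
  have hP : IsPGroup 2 (zpowers ρ) := by
    obtain ⟨n, hn⟩ := hyp
    have h1 : ρ ^ 2 ^ n = 1 := by
      rw [hρ, ← map_pow]
      have : (⟨y, hy⟩ : ↥(N f.range)) ^ 2 ^ n = 1 := Subtype.ext (by rw [coe_pow]; exact hn)
      rw [this, map_one]
    rintro ⟨_, k, rfl⟩
    refine ⟨n, Subtype.ext ?_⟩
    simp only [coe_pow, coe_one]
    rw [← zpow_natCast, ← zpow_mul, mul_comm, zpow_mul, zpow_natCast, h1, one_zpow]
  obtain ⟨S, hS⟩ := exists_sylow_fixed hP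
  let US : Sylow 2 X := ⟨D.U, D.hU, fun {Q} hQ hUQ => D.max hQ hUQ⟩
  obtain ⟨g, hg⟩ := MulAction.exists_smul_eq X US S
  -- `S = g U g⁻¹`
  have hgS : ∀ x, g * x * g⁻¹ ∈ S ↔ x ∈ D.U := by
    intro x
    have e2 : ((g • US : Sylow 2 X) : Subgroup X) = (D.U : Subgroup X).map (MulAut.conj g).toMonoidHom := rfl
    rw [← hg]
    constructor
    · rintro ⟨y, hy, hyx⟩
      have : y = x := (MulAut.conj g).injective hyx
      exact this ▸ hy
    · intro hx
      exact ⟨x, hx, rfl⟩
  set α : MulAut X := (MulAut.conj g)⁻¹ * ρ * MulAut.conj g with hα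
  have hαx : ∀ x, α x = g⁻¹ * ρ (g * x * g⁻¹) * g := by
    intro x
    rw [hα]
    simp [MulAut.mul_apply, MulAut.conj_apply, mul_assoc]
  have hαU : ∀ u ∈ D.U, α u ∈ D.U := by
    intro u hu
    rw [← hgS, hαx, show g * (g⁻¹ * ρ (g * u * g⁻¹) * g) * g⁻¹ = ρ (g * u * g⁻¹) by group]
    exact hS ρ (mem_zpowers ρ) _ ((hgS u).2 hu)
  rcases D.aut1 α hαU with h1 | h1
  · left
    obtain ⟨b, hb⟩ := D.aut2 α hαU h1
    -- `ρ = conj (g b g⁻¹)`
    have h2 : ∀ x, ρ x = (g * b * g⁻¹) * x * (g * b * g⁻¹)⁻¹ := by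
      intro x
      have h3 := hb (g⁻¹ * x * g)
      rw [hαx, show g * (g⁻¹ * x * g) * g⁻¹ = x by group] at h3
      calc ρ x = g * (g⁻¹ * ρ x * g) * g⁻¹ := by group
        _ = (g * b * g⁻¹) * x * (g * b * g⁻¹)⁻¹ := by rw [h3]; group
    refine ⟨(g * b * g⁻¹)⁻¹, ?_⟩
    rw [mem_C]
    rintro _ ⟨x, rfl⟩
    have h3 := key x
    rw [h2, map_mul, map_mul, map_inv] at h3
    rw [map_inv]
    calc (f (g * b * g⁻¹))⁻¹ * y * f x = (f (g * b * g⁻¹))⁻¹ * (y * f x * y⁻¹) * y := by group
      _ = f x * ((f (g * b * g⁻¹))⁻¹ * y) := by rw [← h3]; group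
  · right
    refine ⟨g, ?_⟩
    rw [← key]
    congr 1
    rw [hαx] at h1
    rw [← h1]; group

theorem outer [Finite X] (D : RedData X) (f : X →* G) (hf : Function.Injective f) {A : Subgroup G}
    (hfA : f.range = A) : Outer A := by
  subst hfA
  intro y hy hy1 hyy hout
  rcases inner_or_swap D f hf hy ⟨1, by rw [pow_one, sq]; exact hyy⟩ with ⟨b, hb⟩ | ⟨g, hg⟩
  · exact absurd hb (hout _ ⟨b, rfl⟩)
  · have hyi : y⁻¹ = y := inv_eq_of_mul_eq_one_left hyy
    set S := f (g * D.s * g⁻¹) with hS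
    set L := f (g * D.l * g⁻¹) with hL
    have hSS : S * S = 1 := by
      rw [hS, ← map_mul, show g * D.s * g⁻¹ * (g * D.s * g⁻¹) = g * (D.s * D.s) * g⁻¹ by group, D.ss]
      simp
    have hSi : S⁻¹ = S := inv_eq_of_mul_eq_one_left hSS
    have hSL : S * L = L * S := by
      rw [hS, hL, ← map_mul, ← map_mul,
        show g * D.s * g⁻¹ * (g * D.l * g⁻¹) = g * (D.s * D.l) * g⁻¹ by group, D.scl]
      congr 1
      group
    have hgL : y * L * y⁻¹ = S := by
      rw [← hg, hyi]
      calc y * (y * S * y) * y = (y * y) * S * (y * y) := by group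
        _ = S := by rw [hyy, one_mul, mul_one]
    refine ⟨S * L, ⟨g * D.s * g⁻¹ * (g * D.l * g⁻¹), by rw [map_mul]⟩, ?_, ?_, ?_, S, ⟨_, rfl⟩, ?_⟩
    · intro e
      have h1 : f (g * (D.s * D.l) * g⁻¹) = f 1 := by
        rw [map_one, ← e, hS, hL, ← map_mul]
        congr 1
        group
      have h2 := hf h1
      apply D.c1
      calc D.s * D.l = g⁻¹ * (g * (D.s * D.l) * g⁻¹) * g := by group
        _ = 1 := by rw [h2]; group
    · have hLL : L * L = 1 := by
        rw [hL, ← map_mul, show g * D.l * g⁻¹ * (g * D.l * g⁻¹) = g * (D.l * D.l) * g⁻¹ by group, D.ll]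
        simp
      calc S * L * (S * L) = S * L * (L * S) := by rw [← hSL]
        _ = S * (L * L) * S := by group
        _ = 1 := by rw [hLL, mul_one, hSS]
    · calc S * L * y = L * S * y := by rw [hSL]
        _ = (y * S * y⁻¹) * (y * L * y⁻¹) * y := by rw [hg, hgL]
        _ = y * (S * L) := by group
    · calc S * y * S⁻¹ = S * (y * S * y⁻¹) * y := by rw [hSi]; group
        _ = S * L * y := by rw [hg]

/-- **`4 ∤ |C(A)|`** -/
theorem not_four_dvd [Finite G] [IsSimpleGroup G] [Finite X] [IsSimpleGroup X] (D : RedData X)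
    {A : Subgroup G} (hA : Cfsg.IsStandardSubgroup A) (hcomm : CommHalf G) (f : X →* G)
    (hf : Function.Injective f) (hfA : f.range = A) : ¬ 4 ∣ Nat.card (C A) := by
  intro h4
  have hs : IsSimpleGroup A := by
    subst hfA
    exact (MulEquiv.isSimpleGroup_congr (MonoidHom.ofInjective hf)).1 inferInstance
  have hTE : TE A := TE.of_standard hA hs
  have hsA : f D.s ∈ A := hfA ▸ ⟨_, rfl⟩
  rcases normal_or_good hTE hs hcomm (outer D f hf hfA) h4 (s := f D.s) hsA
    (fun e => D.s1 (hf (by rw [e, map_one]))) (by rw [← map_mul, D.ss, map_one]) with h | h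
  · rcases h.eq_bot_or_eq_top with h1 | h1
    · rw [h1, mem_bot] at hsA
      exact D.s1 (hf (by rw [hsA, map_one]))
    · have h2 : C A = ⊥ := by
        rw [eq_bot_iff]
        intro x hx
        exact mem_bot.2 (hTE.disj x (h1 ▸ mem_top x) hx)
      rw [h2, card_bot] at h4
      exact absurd h4 (by norm_num)
  · exact not_good D hTE hA.2.2.1 f hf hfA h

end Cfsg.Agent.F42.Red
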