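import Cfsg.Agent.F42.Red

/-!
# The tight situation: `M = ⊤`
-/

set_option autoImplicit false

namespace Cfsg.Agent.F42.Red

open Subgroup Cfsg.Agent.StdAlt.Pairs

variable {X : Type*} [Group X]

/-- `R`: automorphisms induced by `C(A) ∩ N(B)`, `J = C(A) ∩ B`, `M = B ∩ N(A)` -/
structure Tight (R : Subgroup (MulAut X)) (J M : Subgroup X) : Prop where
  comm : ∀ x ∈ M, ∀ ρ ∈ R, ρ x * x⁻¹ ∈ J
  nR : ∀ x ∈ M, ∀ ρ ∈ R, MulAut.conj x * ρ * (MulAut.conj x)⁻¹ ∈ R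
  JM : J ≤ M
  nJ : ∀ x ∈ M, ∀ j ∈ J, x * j * x⁻¹ ∈ J
  cent : ∀ ρ ∈ R, ρ ≠ 1 → ρ * ρ = 1 → ∀ x, ρ x = x → x ∈ M
  inn : ∀ j ∈ J, MulAut.conj j ∈ R
  four : 4 ∣ Nat.card R

theorem conj_conj (ρ : MulAut X) (x : X) : ρ * MulAut.conj x * ρ⁻¹ = MulAut.conj (ρ x) := by
  ext y
  simp only [MulAut.mul_apply, MulAut.conj_apply, map_mul, map_inv, MulAut.apply_inv_self]

theorem mem_three [Finite X] {T : Subgroup X} (h4 : 4 ≤ Nat.card T) {a b c : X}
    (h : ∀ x ∈ T, x = a ∨ x = b ∨ x = c) : False := by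
  have h1 : (T : Set X) ⊆ {a, b, c} := by
    intro x hx
    simpa using h x hx
  have h2 := Set.ncard_le_ncard h1 (Set.toFinite _)
  have h3 : ({a, b, c} : Set X).ncard ≤ 3 := by
    refine (Set.ncard_insert_le _ _).trans ?_
    have := Set.ncard_insert_le b ({c} : Set X)
    rw [Set.ncard_singleton] at this
    omega
  have h4' : Nat.card T = (T : Set X).ncard := rfl
  omega

theorem exists_ne_ne [Finite X] {T : Subgroup X} (h4 : 4 ≤ Nat.card T) (a b : X) :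
    ∃ x ∈ T, x ≠ a ∧ x ≠ b := by
  by_contra h
  push Not at h
  refine mem_three h4 (a := a) (b := b) (c := b) fun x hx => ?_
  by_cases h1 : x = a
  · exact Or.inl h1
  · exact Or.inr (Or.inl (h x hx h1))

theorem mem_of_four [Finite X] {T : Subgroup X} (h4 : 4 ≤ Nat.card T) {a b c d : X}
    (h : ∀ x ∈ T, x = a ∨ x = b ∨ x = c ∨ x = d) : b ∈ T := by
  by_contra hb
  refine mem_three h4 (a := a) (b := c) (c := d) fun x hx => ?_
  rcases h x hx with h1 | h1 | h1 | h1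
  · exact Or.inl h1
  · exact absurd (h1 ▸ hx) hb
  · exact Or.inr (Or.inl h1)
  · exact Or.inr (Or.inr h1)

/-! ### consequences of the data -/

namespace RedData

variable (D : RedData X)
include D

theorem conj_inj {b c : X} (h : MulAut.conj b = MulAut.conj c) : b = c := by
  have h1 : c⁻¹ * b = 1 := by
    apply D.hZ
    intro x
    have h2 : b * x * b⁻¹ = c * x * c⁻¹ := by
      have := congrArg (fun ρ : MulAut X => ρ x) h
      simpa [MulAut.conj_apply] using this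
    calc c⁻¹ * b * x = c⁻¹ * (b * x * b⁻¹) * b := by group
      _ = c⁻¹ * (c * x * c⁻¹) * b := by rw [h2]
      _ = x * (c⁻¹ * b) := by group
  calc b = c * (c⁻¹ * b) := by group
    _ = c := by rw [h1, mul_one]

theorem conj_ne_one {b : X} (h : b ≠ 1) : MulAut.conj b ≠ 1 := by
  intro e
  apply h
  apply D.conj_inj
  rw [e, map_one]

theorem max [Finite X] {V : Subgroup X} (hV : IsPGroup 2 V) (hUV : D.U ≤ V) : V = D.U := by
  by_contra hne
  obtain ⟨c, -, hcU, hc⟩ := exists_normalizing V D.U hV hUV (Ne.symm hne)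
  exact hcU (D.nU c hc)

theorem scl : D.s * D.l = D.l * D.s := D.lc _ D.sU

theorem c1 : D.s * D.l ≠ 1 := by
  intro h
  apply D.sl
  calc D.s = D.s * (D.l * D.l) := by rw [D.ll, mul_one]
    _ = (D.s * D.l) * D.l := by group
    _ = D.l := by rw [h, one_mul]

theorem cc : D.s * D.l * (D.s * D.l) = 1 := by
  calc D.s * D.l * (D.s * D.l) = D.s * D.l * (D.l * D.s) := by rw [← D.scl]
    _ = D.s * (D.l * D.l) * D.s := by group
    _ = 1 := by rw [D.ll, mul_one, D.ss]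

theorem sinv : D.s⁻¹ = D.s := inv_eq_of_mul_eq_one_left D.ss

theorem linv : D.l⁻¹ = D.l := inv_eq_of_mul_eq_one_left D.ll

theorem cc' : ∀ u ∈ D.U, u * (D.s * D.l) = D.s * D.l * u := by
  intro u hu
  rw [← mul_assoc, D.sc u hu, mul_assoc, D.lc u hu, ← mul_assoc]

end RedData

namespace Tight

variable {R : Subgroup (MulAut X)} {J M : Subgroup X}

theorem conj (h : Tight R J M) (g : X) : Tight (R.map (MulAut.conj (MulAut.conj g)).toMonoidHom)
    (J.map (MulAut.conj g).toMonoidHom) (M.map (MulAut.conj g).toMonoidHom) := by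
  constructor
  · rintro _ ⟨x, hx, rfl⟩ _ ⟨ρ, hρ, rfl⟩
    refine ⟨ρ x * x⁻¹, h.comm x hx ρ hρ, ?_⟩
    simp only [MulEquiv.coe_toMonoidHom, MulAut.conj_apply, MulAut.mul_apply, MulAut.conj_inv_apply]
    simp only [map_mul, map_inv, mul_assoc, mul_inv_rev, inv_inv, inv_mul_cancel_left]
  · rintro _ ⟨x, hx, rfl⟩ _ ⟨ρ, hρ, rfl⟩
    refine ⟨_, h.nR x hx ρ hρ, ?_⟩
    simp only [MulEquiv.coe_toMonoidHom]
    have e : MulAut.conj ((MulAut.conj g) x) = MulAut.conj g * MulAut.conj x * (MulAut.conj g)⁻¹ :=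
      (conj_conj _ _).symm
    rw [e, MulAut.conj_apply, MulAut.conj_apply]
    group
  · rintro _ ⟨x, hx, rfl⟩
    exact ⟨x, h.JM hx, rfl⟩
  · rintro _ ⟨x, hx, rfl⟩ _ ⟨j, hj, rfl⟩
    refine ⟨x * j * x⁻¹, h.nJ x hx j hj, ?_⟩
    simp only [MulEquiv.coe_toMonoidHom, map_mul, map_inv]
  · rintro _ ⟨ρ, hρ, rfl⟩ h1 h2 x hx
    refine ⟨g⁻¹ * x * g, h.cent ρ hρ ?_ ?_ _ ?_, ?_⟩
    · rintro rfl
      exact h1 (map_one _)
    · apply (MulAut.conj (MulAut.conj g)).injective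
      rw [map_mul, map_one]
      exact h2
    · simp only [MulEquiv.coe_toMonoidHom, MulAut.conj_apply, MulAut.mul_apply,
        MulAut.conj_inv_apply] at hx
      calc ρ (g⁻¹ * x * g) = g⁻¹ * (g * ρ (g⁻¹ * x * g) * g⁻¹) * g := by group
        _ = g⁻¹ * x * g := by rw [hx]
    · simp only [MulEquiv.coe_toMonoidHom, MulAut.conj_apply]
      group
  · rintro _ ⟨j, hj, rfl⟩
    refine ⟨_, h.inn j hj, ?_⟩
    simp only [MulEquiv.coe_toMonoidHom]
    rw [MulAut.conj_apply, conj_conj]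
  · rw [Nat.card_congr ((R.equivMapOfInjective _ (MulAut.conj (MulAut.conj g)).injective).symm.toEquiv)]
    exact h.four

variable (D : RedData X)
include D

/-- centralizers of inner involutions -/
theorem cent_le (h : Tight R J M) {b : X} (hb : MulAut.conj b ∈ R) (hb1 : b ≠ 1) (hbb : b * b = 1)
    {x : X} (hx : x * b = b * x) : x ∈ M := by
  refine h.cent _ hb (D.conj_ne_one hb1) ?_ x ?_
  · rw [← map_mul, hbb, map_one]
  · rw [MulAut.conj_apply, ← hx, mul_inv_cancel_right]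

/-- `s, l ∈ J` gives `M = ⊤` -/
theorem finish (h : Tight R J M) (hs : D.s ∈ J) (hl : D.l ∈ J) : M = ⊤ ∧ J ≠ ⊥ := by
  refine ⟨D.gen M (fun g hg => ?_) (fun g hg => ?_), ?_⟩
  · exact h.cent_le D (h.inn _ hs) D.s1 D.ss hg
  · exact h.cent_le D (h.inn _ hl) D.l1 D.ll hg
  · rintro rfl
    exact D.s1 (mem_bot.1 hs)

/-- (A) if `U ≤ M` then `M = ⊤` -/
theorem of_le [Finite X] (h : Tight R J M) (hU : D.U ≤ M) : M = ⊤ ∧ J ≠ ⊥ := by
  have : Finite (MulAut X) := Finite.of_injective (fun ρ : MulAut X => (ρ : X → X)) DFunLike.coe_injective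
  obtain ⟨P, hP, hQP, h4, hPR⟩ := exists_four (X := MulAut X) h.four (Q := D.U.map MulAut.conj) (D.hU.map _) (by
    rintro _ ⟨u, hu, rfl⟩ ρ hρ
    exact h.nR u (hU hu) ρ hρ)
  have h4' : 4 ≤ Nat.card ↥(P ⊓ R) := Nat.le_of_dvd Nat.card_pos h4
  -- `P` fixes `U`
  have hPU : ∀ ρ ∈ P, ∀ u ∈ D.U, ρ u ∈ D.U := by
    intro ρ hρ u hu
    have h1 : P.comap MulAut.conj = D.U := by
      apply D.max
      · exact hP.comap_of_injective _ (fun a b hab => D.conj_inj hab)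
      · intro v hv
        exact hQP ⟨v, hv, rfl⟩
    rw [← h1, mem_comap, ← conj_conj]
    exact mul_mem (mul_mem hρ (hQP ⟨u, hu, rfl⟩)) (inv_mem hρ)
  -- inner elements
  have hin : ∀ ρ ∈ P, ρ D.s = D.s → ∃ b ∈ D.U, ρ = MulAut.conj b := by
    intro ρ hρ hs
    obtain ⟨b, hb⟩ := D.aut2 ρ (hPU ρ hρ) hs
    refine ⟨b, D.nU b fun u hu => ?_, ?_⟩
    · rw [← hb]
      exact hPU ρ hρ u hu
    · ext x
      rw [hb, MulAut.conj_apply]
  have hJU : ∀ ρ ∈ P ⊓ R, ∀ u ∈ D.U, ρ u * u⁻¹ ∈ J ∧ ρ u * u⁻¹ ∈ D.U := fun ρ hρ u hu =>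
    ⟨h.comm u (hU hu) ρ hρ.2, mul_mem (hPU ρ hρ.1 u hu) (inv_mem hu)⟩
  have hcen : ∀ b ∈ D.U, (∀ u ∈ D.U, b * u = u * b) →
      MulAut.conj b = 1 ∨ MulAut.conj b = MulAut.conj D.s ∨ MulAut.conj b = MulAut.conj D.l ∨
        MulAut.conj b = MulAut.conj (D.s * D.l) := by
    intro b hb hbu
    rcases D.cU b hb hbu with rfl | rfl | rfl | rfl
    · exact Or.inl (map_one _)
    · exact Or.inr (Or.inl rfl)
    · exact Or.inr (Or.inr (Or.inl rfl))
    · exact Or.inr (Or.inr (Or.inr rfl))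
  have hJUn : ∀ u ∈ D.U, ∀ z ∈ J ⊓ D.U, u * z * u⁻¹ ∈ J ⊓ D.U := fun u hu z hz =>
    ⟨h.nJ u (hU hu) z hz.1, D.U.mul_mem (D.U.mul_mem hu hz.2) (D.U.inv_mem hu)⟩
  obtain ⟨g, hgs, hgU, hgl, hgs'⟩ := D.move
  by_cases hJ1 : ∀ j ∈ J, j ∈ D.U → j = 1
  · -- `J ∩ U = 1`
    exfalso
    have h1 : ∀ ρ ∈ P ⊓ R, ρ = 1 ∨ ρ = MulAut.conj D.s ∨ ρ = MulAut.conj D.l ∨ ρ = MulAut.conj (D.s * D.l) := by
      intro ρ hρ
      have h2 : ∀ u ∈ D.U, ρ u = u := fun u hu =>
        mul_inv_eq_one.1 (hJ1 _ (hJU ρ hρ u hu).1 (hJU ρ hρ u hu).2)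
      obtain ⟨b, hb, rfl⟩ := hin ρ hρ.1 (h2 _ D.sU)
      apply hcen b hb
      intro u hu
      have := h2 u hu
      rw [MulAut.conj_apply] at this
      calc b * u = b * u * b⁻¹ * b := by group
        _ = u * b := by rw [this]
    have hs : MulAut.conj D.s ∈ P ⊓ R := mem_of_four h4' h1
    have hl : MulAut.conj D.l ∈ P ⊓ R := mem_of_four (a := (1 : MulAut X)) (b := MulAut.conj D.l)
      (c := MulAut.conj D.s) (d := MulAut.conj (D.s * D.l)) h4' (fun x hx => by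
        rcases h1 x hx with h | h | h | h <;> simp [h])
    have hgM : g ∈ M := h.cent_le D hs.2 D.s1 D.ss hgs
    have h2 := h.comm g hgM _ hl.2
    rw [MulAut.conj_apply] at h2
    have h3 : D.l * g * D.l⁻¹ * g⁻¹ = D.l * (g * D.l * g⁻¹)⁻¹ := by group
    rw [h3] at h2
    have h4 := hJ1 _ h2 (mul_mem D.lU (inv_mem hgU))
    exact hgl (mul_inv_eq_one.1 h4).symm
  · push Not at hJ1
    obtain ⟨j, hjJ, hjU, hj1⟩ := hJ1
    -- a central element in `J`
    obtain ⟨z, hz, hzU, hz1, hzc⟩ := exists_mod D.hU (Z := ⊥) (N := J ⊓ D.U) (by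
      intro u _ z hz
      rw [mem_bot] at hz ⊢
      rw [hz]; group) hJUn hjU ⟨hjJ, hjU⟩ (by rw [mem_bot]; exact hj1)
    have hzc' : ∀ u ∈ D.U, z * u = u * z := by
      intro u hu
      have h1 := mem_bot.1 (hzc u hu)
      calc z * u = z * u * z⁻¹ * u⁻¹ * (u * z) := by group
        _ = u * z := by rw [h1, one_mul]
    rw [mem_bot] at hz1
    -- the three steps
    have four' : ∀ a : X, ∃ ρ ∈ P ⊓ R, ρ ≠ 1 ∧ ρ ≠ MulAut.conj a := fun a => exists_ne_ne h4' _ _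
    have hgen : ∀ a ∈ D.U, a ≠ 1 → a * a = 1 → (∀ u ∈ D.U, u * a = a * u) → a ∈ J →
        (∃ w ∈ D.U, w ≠ 1 ∧ w ≠ a ∧ (∀ u ∈ D.U, w * u * w⁻¹ * u⁻¹ = 1 ∨ w * u * w⁻¹ * u⁻¹ = a) ∧
          w ∈ J) ∨ ((∀ w ∈ J, w ∈ D.U → w = 1 ∨ w = a) ∧
            ∀ ρ ∈ P ⊓ R, ∀ u ∈ D.U, ρ u * u⁻¹ = 1 ∨ ρ u * u⁻¹ = a) := by
      intro a haU ha1 haa hac haJ
      by_cases hw : ∀ w ∈ J, w ∈ D.U → w = 1 ∨ w = a
      · right
        refine ⟨hw, fun ρ hρ u hu => ?_⟩
        exact hw _ (hJU ρ hρ u hu).1 (hJU ρ hρ u hu).2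
      · left
        push Not at hw
        obtain ⟨w, hwJ, hwU, hw1, hwa⟩ := hw
        have haz : ∀ x, x ∈ zpowers a ↔ x = 1 ∨ x = a := by
          intro x
          constructor
          · rintro ⟨k, rfl⟩
            have ha2 : a ^ (2 : ℤ) = 1 := by rw [zpow_two]; exact haa
            rcases Int.even_or_odd' k with ⟨m, rfl | rfl⟩
            · left
              show a ^ (2 * m) = 1
              rw [zpow_mul, ha2, one_zpow]
            · right
              show a ^ (2 * m + 1) = a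
              rw [zpow_add, zpow_mul, ha2, one_zpow, one_mul, zpow_one]
          · rintro (rfl | rfl)
            · exact one_mem _
            · exact mem_zpowers _
        obtain ⟨v, hv, hvU, hvZ, hvc⟩ := exists_mod D.hU (Z := zpowers a) (N := J ⊓ D.U) (by
          intro u hu z hz
          rw [haz] at hz ⊢
          rcases hz with rfl | rfl
          · left; group
          · right
            rw [hac u hu, mul_inv_cancel_right]) hJUn hwU ⟨hwJ, hwU⟩ (by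
              rw [haz]
              push Not
              exact ⟨hw1, hwa⟩)
        rw [haz] at hvZ
        push Not at hvZ
        exact ⟨v, hvU, hvZ.1, hvZ.2, fun u hu => (haz _).1 (hvc u hu), hv.1⟩
    -- `s ∈ J → l ∈ J`
    have stS : D.s ∈ J → D.l ∈ J := by
      intro hsJ
      have hCM : ∀ g, g * D.s = D.s * g → g ∈ M := fun g hg => h.cent_le D (h.inn _ hsJ) D.s1 D.ss hg
      rcases hgen D.s D.sU D.s1 D.ss D.sc hsJ with ⟨w, hwU, hw1, hws, hwc, hwJ⟩ | ⟨hw1, h1⟩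
      · refine D.stepS J (fun g hg j hj => h.nJ g (hCM g hg) j hj) w hwU hw1 hws hwc fun g hg => ?_
        exact mul_mem (h.nJ g (hCM g hg) w hwJ) (inv_mem hwJ)
      · obtain ⟨ρ, hρ, hρ1, hρs⟩ := four' D.s
        have h2 : ρ D.s = D.s := by
          rcases D.aut1 ρ (hPU ρ hρ.1) with h2 | h2
          · exact h2
          · exfalso
            rcases h1 ρ hρ _ D.sU with h3 | h3
            · rw [h2] at h3
              exact D.sl (mul_inv_eq_one.1 h3).symm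
            · rw [h2, D.sinv] at h3
              exact D.l1 (mul_eq_right.1 h3)
        obtain ⟨b, hbU, rfl⟩ := hin ρ hρ.1 h2
        refine D.stepS J (fun g hg j hj => h.nJ g (hCM g hg) j hj) b hbU ?_ ?_ ?_ ?_
        · rintro rfl; exact hρ1 (map_one _)
        · rintro rfl; exact hρs rfl
        · intro u hu
          exact h1 _ hρ u hu
        · intro g hg
          have h3 := inv_mem (h.comm g (hCM g hg) _ hρ.2)
          rw [MulAut.conj_apply] at h3
          rwa [show (b * g * b⁻¹ * g⁻¹)⁻¹ = g * b * g⁻¹ * b⁻¹ by group] at h3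
    have stL : D.l ∈ J → D.s ∈ J := by
      intro hsJ
      have hCM : ∀ g, g * D.l = D.l * g → g ∈ M := fun g hg => h.cent_le D (h.inn _ hsJ) D.l1 D.ll hg
      rcases hgen D.l D.lU D.l1 D.ll D.lc hsJ with ⟨w, hwU, hw1, hws, hwc, hwJ⟩ | ⟨hw1, h1⟩
      · refine D.stepL J (fun g hg j hj => h.nJ g (hCM g hg) j hj) w hwU hw1 hws hwc fun g hg => ?_
        exact mul_mem (h.nJ g (hCM g hg) w hwJ) (inv_mem hwJ)
      · obtain ⟨ρ, hρ, hρ1, hρs⟩ := four' D.l
        have h2 : ρ D.s = D.s := by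
          rcases D.aut1 ρ (hPU ρ hρ.1) with h2 | h2
          · exact h2
          · exfalso
            rcases h1 ρ hρ _ D.sU with h3 | h3
            · rw [h2] at h3
              exact D.sl (mul_inv_eq_one.1 h3).symm
            · rw [h2] at h3
              exact D.s1 (inv_eq_one.1 (mul_eq_left.1 h3))
        obtain ⟨b, hbU, rfl⟩ := hin ρ hρ.1 h2
        refine D.stepL J (fun g hg j hj => h.nJ g (hCM g hg) j hj) b hbU ?_ ?_ ?_ ?_
        · rintro rfl; exact hρ1 (map_one _)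
        · rintro rfl; exact hρs rfl
        · intro u hu
          exact h1 _ hρ u hu
        · intro g hg
          have h3 := inv_mem (h.comm g (hCM g hg) _ hρ.2)
          rw [MulAut.conj_apply] at h3
          rwa [show (b * g * b⁻¹ * g⁻¹)⁻¹ = g * b * g⁻¹ * b⁻¹ by group] at h3
    have stC : D.s * D.l ∈ J → D.s ∈ J ∨ D.l ∈ J := by
      intro hcJ
      rcases hgen (D.s * D.l) (mul_mem D.sU D.lU) D.c1 D.cc D.cc' hcJ with ⟨w, hwU, hw1, hws, hwc, hwJ⟩ | ⟨hw1, h1⟩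
      · rcases D.cU w hwU (D.stepC w hwU hwc) with rfl | rfl | rfl | rfl
        · exact absurd rfl hw1
        · exact Or.inl hwJ
        · exact Or.inr hwJ
        · exact absurd rfl hws
      · exfalso
        have h3 : ∀ ρ ∈ P ⊓ R, ρ = 1 ∨ ρ = MulAut.conj D.s ∨ ρ = MulAut.conj D.l ∨
            ρ = MulAut.conj (D.s * D.l) := by
          intro ρ hρ
          have h2 : ρ D.s = D.s := by
            rcases D.aut1 ρ (hPU ρ hρ.1) with h2 | h2
            · exact h2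
            · exfalso
              obtain ⟨u, hu, hu1, hu2⟩ := D.aut3 ρ (hPU ρ hρ.1) h2
              rcases h1 ρ hρ u hu with h3 | h3
              · exact hu1 h3
              · exact hu2 h3
          obtain ⟨b, hbU, rfl⟩ := hin ρ hρ.1 h2
          exact hcen b hbU (D.stepC b hbU fun u hu => h1 _ hρ u hu)
        have hs : MulAut.conj D.s ∈ P ⊓ R := mem_of_four h4' h3
        have hgM : g ∈ M := h.cent_le D hs.2 D.s1 D.ss hgs
        have h5 := h.nJ g hgM _ hcJ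
        have h6 : g * (D.s * D.l) * g⁻¹ = D.s * (g * D.l * g⁻¹) := by
          rw [← mul_assoc, hgs]; group
        rw [h6] at h5
        rcases hw1 _ h5 (mul_mem D.sU hgU) with h7 | h7
        · apply hgs'
          rw [← D.sinv]
          exact (inv_eq_of_mul_eq_one_right h7).symm
        · exact hgl (mul_left_cancel h7)
    rcases D.cU z hzU hzc' with h1 | h1 | h1 | h1
    · exact absurd h1 hz1
    · have hsJ : D.s ∈ J := h1 ▸ hz.1
      exact h.finish D hsJ (stS hsJ)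
    · have hlJ : D.l ∈ J := h1 ▸ hz.1
      exact h.finish D (stL hlJ) hlJ
    · have hcJ : D.s * D.l ∈ J := h1 ▸ hz.1
      rcases stC hcJ with h2 | h2
      · exact h.finish D h2 (stS h2)
      · exact h.finish D (stL h2) h2

/-- no involution of `R` of central type -/
theorem central_false (h : Tight R J M) (hno : ∀ g : X, ¬ ∀ u ∈ D.U, g * u * g⁻¹ ∈ M) {b : X}
    (hb : MulAut.conj b ∈ R) (hb1 : b ≠ 1) (hbb : b * b = 1)
    (hc : ∃ g : X, ∀ u ∈ D.U, b * (g * u * g⁻¹) = (g * u * g⁻¹) * b) : False := by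
  obtain ⟨g, hg⟩ := hc
  exact hno g fun u hu => h.cent_le D hb hb1 hbb (hg u hu).symm

end Tight

/-- involutions in 2-groups -/
theorem exists_pow_inv {Y : Type*} [Group Y] {T : Subgroup Y} (hT : IsPGroup 2 T) {x : Y} (hx : x ∈ T)
    (hx1 : x ≠ 1) : ∃ k : ℕ, x ^ k ≠ 1 ∧ x ^ k * x ^ k = 1 := by
  obtain ⟨n, hn⟩ := hT ⟨x, hx⟩
  have hn' : x ^ 2 ^ n = 1 := by
    have := congrArg Subtype.val hn
    simpa using this
  clear hn
  induction n with
  | zero => rw [pow_zero, pow_one] at hn'; exact absurd hn' hx1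
  | succ n ih =>
    by_cases h : x ^ 2 ^ n = 1
    · exact ih h
    · exact ⟨2 ^ n, h, by rw [← pow_add, ← two_mul, ← pow_succ']; exact hn'⟩

namespace Tight

variable {R : Subgroup (MulAut X)} {J M : Subgroup X} (D : RedData X)
include D

/-- (B2) -/
theorem false_of_inner [Finite X] (h : Tight R J M) (hno : ∀ g : X, ¬ ∀ u ∈ D.U, g * u * g⁻¹ ∈ M)
    (hin : ∀ T : Subgroup (MulAut X), T ≤ R → IsPGroup 2 T → ∀ ρ ∈ T, ∃ b, ρ = MulAut.conj b)
    {b₀ : X} (hb : MulAut.conj b₀ ∈ R) (hbQ : b₀ ∈ D.Q) (hb1 : b₀ ≠ 1) (hbb : b₀ * b₀ = 1)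
    (h4 : 4 ∣ Nat.card ↥(R ⊓ centralizer {MulAut.conj b₀})) : False := by
  have : Finite (MulAut X) := Finite.of_injective (fun ρ : MulAut X => (ρ : X → X)) DFunLike.coe_injective
  have hsb : D.s * b₀ = b₀ * D.s := (D.qs b₀ hbQ).symm
  have hsM : D.s ∈ M := h.cent_le D hb hb1 hbb hsb
  have e1 : MulAut.conj D.s * MulAut.conj D.s = 1 := by rw [← map_mul, D.ss, map_one]
  have e2 : MulAut.conj b₀ * MulAut.conj b₀ = 1 := by rw [← map_mul, hbb, map_one]
  have e3 : MulAut.conj D.s * MulAut.conj b₀ = MulAut.conj b₀ * MulAut.conj D.s := by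
    rw [← map_mul, ← map_mul, hsb]
  set Q := Cfsg.Agent.StdAlt.Pairs.four (MulAut.conj D.s) (MulAut.conj b₀) e1 e2 e3 with hQ
  have hQp : IsPGroup 2 Q := isPGroup_of_sq fun x hx => four_sq hx
  set R₀ := R ⊓ centralizer {MulAut.conj b₀} with hR₀
  have hn1 : ∀ r ∈ R₀, MulAut.conj D.s * r * (MulAut.conj D.s)⁻¹ ∈ R₀ := by
    rintro r ⟨hr, hrc⟩
    refine ⟨h.nR _ hsM r hr, ?_⟩
    have h1 := mem_cent.1 hrc
    refine mem_cent.2 ?_
    have e4 : (MulAut.conj D.s)⁻¹ * MulAut.conj b₀ = MulAut.conj b₀ * (MulAut.conj D.s)⁻¹ := by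
      rw [inv_mul_eq_iff_eq_mul, ← mul_assoc, e3, mul_inv_cancel_right]
    calc MulAut.conj D.s * r * (MulAut.conj D.s)⁻¹ * MulAut.conj b₀
        = MulAut.conj D.s * r * (MulAut.conj b₀ * (MulAut.conj D.s)⁻¹) := by rw [← e4]; group
      _ = MulAut.conj D.s * (r * MulAut.conj b₀) * (MulAut.conj D.s)⁻¹ := by group
      _ = (MulAut.conj D.s * MulAut.conj b₀) * r * (MulAut.conj D.s)⁻¹ := by rw [h1]; group
      _ = MulAut.conj b₀ * (MulAut.conj D.s * r * (MulAut.conj D.s)⁻¹) := by rw [e3]; group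
  have hbR₀ : MulAut.conj b₀ ∈ R₀ := ⟨hb, mem_cent.2 rfl⟩
  have hn2 : ∀ r ∈ R₀, MulAut.conj b₀ * r * (MulAut.conj b₀)⁻¹ ∈ R₀ := fun r hr =>
    mul_mem (mul_mem hbR₀ hr) (inv_mem hbR₀)
  obtain ⟨P, hP, hQP, hP4, hPn⟩ := exists_four (X := MulAut X) h4 hQp (by
    intro q hq r hr
    rcases mem_four.1 hq with rfl | rfl | rfl | rfl
    · rwa [one_mul, inv_one, mul_one]
    · exact hn1 r hr
    · exact hn2 r hr
    · have := hn1 _ (hn2 r hr)
      rwa [mul_inv_rev, show MulAut.conj D.s * MulAut.conj b₀ * r * ((MulAut.conj b₀)⁻¹ * (MulAut.conj D.s)⁻¹) =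
        MulAut.conj D.s * (MulAut.conj b₀ * r * (MulAut.conj b₀)⁻¹) * (MulAut.conj D.s)⁻¹ by group])
  have h4' : 4 ≤ Nat.card ↥(P ⊓ R₀) := Nat.le_of_dvd Nat.card_pos hP4
  have hsP : MulAut.conj D.s ∈ P := hQP (mem_four.2 (Or.inr (Or.inl rfl)))
  have hbP : MulAut.conj b₀ ∈ P := hQP (mem_four.2 (Or.inr (Or.inr (Or.inl rfl))))
  have hTp : IsPGroup 2 ↥(P ⊓ R₀) := hP.to_le inf_le_left
  have hTin : ∀ ρ ∈ P ⊓ R₀, ∃ b, ρ = MulAut.conj b :=
    hin _ (inf_le_right.trans inf_le_left) hTp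
  -- (i)
  have hi : ∀ b, MulAut.conj b ∈ P ⊓ R₀ → b * D.s * b⁻¹ = D.s := by
    intro b hbT
    by_contra hne
    obtain ⟨n, hn⟩ := hP ⟨MulAut.conj (D.s * (b * D.s * b⁻¹)), by
      rw [map_mul, map_mul, map_mul, map_inv]
      exact mul_mem hsP (mul_mem (mul_mem hbT.1 hsP) (inv_mem hbT.1))⟩
    have hn' : (D.s * (b * D.s * b⁻¹)) ^ 2 ^ n = 1 := by
      apply D.conj_inj
      rw [map_pow, map_one]
      have := congrArg Subtype.val hn
      simpa using this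
    obtain ⟨m, hm1, hmm, hmc⟩ := D.pair b hne n hn'
    have h1 : D.s * (b * D.s * b⁻¹) ∈ J := by
      have h2 := inv_mem (h.comm D.s hsM _ hbT.2.1)
      rw [MulAut.conj_apply] at h2
      have h3 : (b * D.s * b⁻¹ * D.s⁻¹)⁻¹ = D.s * (b * D.s * b⁻¹) := by
        rw [mul_inv_rev, inv_inv, mul_inv_rev, mul_inv_rev, inv_inv, D.sinv, mul_assoc b]
      rwa [h3] at h2
    exact h.central_false D hno (h.inn _ (pow_mem h1 m)) hm1 hmm hmc
  have hi' : ∀ b, MulAut.conj b ∈ P ⊓ R₀ → b * D.s = D.s * b := fun b hbT => by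
    calc b * D.s = b * D.s * b⁻¹ * b := by group
      _ = D.s * b := by rw [hi b hbT]
  -- (ii)
  have hii : ∀ b, MulAut.conj b ∈ P ⊓ R₀ → b ∈ D.Q := by
    intro b hbT
    refine D.cW b (hi' b hbT) fun w hw => ?_
    have hwM : w ∈ M := h.cent_le D hb hb1 hbb (D.wq w hw b₀ hbQ)
    have h1 := h.comm w hwM _ hbT.2.1
    rw [MulAut.conj_apply] at h1
    have h2 : b * w * b⁻¹ * w⁻¹ ∈ D.W := mul_mem (D.wn b (hi' b hbT) w hw) (inv_mem hw)
    rcases D.wc _ h2 with h3 | ⟨h3, h4⟩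
    · calc b * w = b * w * b⁻¹ * w⁻¹ * (w * b) := by group
        _ = w * b := by rw [h3, one_mul]
    · by_contra hne
      refine h.central_false D hno (h.inn _ h1) (fun h5 => hne ?_) h3 h4
      calc b * w = b * w * b⁻¹ * w⁻¹ * (w * b) := by group
        _ = w * b := by rw [h5, one_mul]
  -- (iii)
  have hiii : ∀ b, MulAut.conj b ∈ P ⊓ R₀ → b ∈ D.W := by
    intro b hbT
    refine D.cQ b (hii b hbT) fun q hq => ?_
    -- an involution commuting with `q`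
    have h1 : ∃ c, MulAut.conj c ∈ P ⊓ R₀ ∧ c ≠ 1 ∧ c * q = q * c := by
      obtain ⟨ρ₁, hρ₁, h11, -⟩ := exists_ne_ne h4' 1 1
      obtain ⟨b₁, rfl⟩ := hTin _ hρ₁
      obtain ⟨ρ₂, hρ₂, h21, h22⟩ := exists_ne_ne h4' 1 (MulAut.conj b₁)
      obtain ⟨b₂, rfl⟩ := hTin _ hρ₂
      have k1 : b₁ ≠ 1 := by rintro rfl; exact h11 (map_one _)
      have k2 : b₂ ≠ 1 := by rintro rfl; exact h21 (map_one _)
      have key : ∀ c, c * q * c⁻¹ * q⁻¹ = 1 → c * q = q * c := fun c hc => by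
        calc c * q = c * q * c⁻¹ * q⁻¹ * (q * c) := by group
          _ = q * c := by rw [hc, one_mul]
      rcases D.qq _ (hii _ hρ₁) q hq with h5 | h5
      · exact ⟨b₁, hρ₁, k1, key _ h5⟩
      rcases D.qq _ (hii _ hρ₂) q hq with h6 | h6
      · exact ⟨b₂, hρ₂, k2, key _ h6⟩
      refine ⟨b₁⁻¹ * b₂, ?_, ?_, ?_⟩
      · rw [map_mul, map_inv]; exact mul_mem (inv_mem hρ₁) hρ₂
      · intro h7
        apply h22
        rw [inv_mul_eq_one.1 h7]
      · have h7 : b₂ * q * b₂⁻¹ = b₁ * q * b₁⁻¹ := by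
          have := h6.trans h5.symm
          exact mul_right_cancel this
        calc b₁⁻¹ * b₂ * q = b₁⁻¹ * (b₂ * q * b₂⁻¹) * b₂ := by group
          _ = q * (b₁⁻¹ * b₂) := by rw [h7]; group
    obtain ⟨c, hcT, hc1, hcq⟩ := h1
    have hc1' : MulAut.conj c ≠ 1 := D.conj_ne_one hc1
    obtain ⟨k, hk1, hk2⟩ := exists_pow_inv hTp hcT hc1'
    have hk1' : c ^ k ≠ 1 := by
      intro e
      apply hk1
      rw [← map_pow, e, map_one]
    have hk2' : c ^ k * c ^ k = 1 := by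
      apply D.conj_inj
      rw [map_mul, map_pow, map_one]
      exact hk2
    have hqM : q ∈ M := by
      refine h.cent_le D (b := c ^ k) ?_ hk1' hk2' ?_
      · rw [map_pow]
        exact (pow_mem hcT k).2.1
      · have : Commute c q := hcq
        exact ((this.pow_left k).symm).eq
    have h5 := h.comm q hqM _ hbT.2.1
    rw [MulAut.conj_apply] at h5
    rcases D.qq b (hii b hbT) q hq with h6 | h6
    · calc b * q = b * q * b⁻¹ * q⁻¹ * (q * b) := by group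
        _ = q * b := by rw [h6, one_mul]
    · exfalso
      rw [h6] at h5
      exact h.central_false D hno (h.inn _ h5) D.s1 D.ss ⟨1, fun u hu => by
        rw [one_mul, inv_one, mul_one]; exact (D.sc u hu).symm⟩
  rcases D.wc _ (hiii b₀ ⟨hbP, hbR₀⟩) with h5 | ⟨-, h6⟩
  · exact hb1 h5
  · exact h.central_false D hno hb hb1 hbb h6

/-- (B1) -/
theorem inner_of_fix [Finite X] (h : Tight R J M) (hno : ∀ g : X, ¬ ∀ u ∈ D.U, g * u * g⁻¹ ∈ M)
    {P : Subgroup (MulAut X)} (hP : IsPGroup 2 P) (hPR : P ≤ R) (h4 : 4 ≤ Nat.card P)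
    (hPU : ∀ ρ ∈ P, ∀ u ∈ D.U, ρ u ∈ D.U) : ∀ ρ ∈ P, ∃ b, ρ = MulAut.conj b := by
  have : Finite (MulAut X) := Finite.of_injective (fun ρ : MulAut X => (ρ : X → X)) DFunLike.coe_injective
  have hin : ∀ ρ ∈ P, ρ D.s = D.s → ∃ b, ρ = MulAut.conj b := by
    intro ρ hρ hs
    obtain ⟨b, hb⟩ := D.aut2 ρ (hPU ρ hρ) hs
    exact ⟨b, by ext x; rw [hb, MulAut.conj_apply]⟩
  intro ρ hρ
  by_contra hni
  have hρs : ρ D.s = D.l := by
    rcases D.aut1 ρ (hPU ρ hρ) with h1 | h1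
    · exact absurd (hin ρ hρ h1) hni
    · exact h1
  -- a nontrivial inner element
  have h1 : ∃ b, MulAut.conj b ∈ P ∧ b ≠ 1 := by
    obtain ⟨σ, hσ, hσ1, hσρ⟩ := exists_ne_ne h4 1 ρ
    rcases D.aut1 σ (hPU σ hσ) with h2 | h2
    · obtain ⟨b, rfl⟩ := hin σ hσ h2
      exact ⟨b, hσ, fun e => hσ1 (by rw [e, map_one])⟩
    · have h3 : (σ⁻¹ * ρ) D.s = D.s := by
        rw [MulAut.mul_apply, hρs, ← h2, MulAut.inv_apply_self]
      obtain ⟨b, hb⟩ := hin (σ⁻¹ * ρ) (mul_mem (inv_mem hσ) hρ) h3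
      refine ⟨b, hb ▸ mul_mem (inv_mem hσ) hρ, ?_⟩
      rintro rfl
      rw [map_one] at hb
      exact hσρ (inv_mul_eq_one.1 hb)
  obtain ⟨b, hbP, hb1⟩ := h1
  obtain ⟨k, hk1, hk2⟩ := exists_pow_inv hP hbP (D.conj_ne_one hb1)
  rw [← map_pow] at hk1 hk2
  have hb' : MulAut.conj (b ^ k) ∈ P := by rw [map_pow]; exact pow_mem hbP k
  have hk1' : b ^ k ≠ 1 := fun e => hk1 (by rw [e, map_one])
  have hk2' : b ^ k * b ^ k = 1 := by
    apply D.conj_inj
    rw [map_mul, map_one]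
    exact hk2
  have hbU : b ^ k ∈ D.U := D.nU _ fun u hu => by
    have := hPU _ hb' u hu
    rwa [MulAut.conj_apply] at this
  have hsM : D.s ∈ M := h.cent_le D (hPR hb') hk1' hk2' (D.sc _ hbU).symm
  have h2 := h.comm D.s hsM ρ (hPR hρ)
  rw [hρs, D.sinv, ← D.scl] at h2
  exact h.central_false D hno (h.inn _ h2) D.c1 D.cc ⟨1, fun u hu => by
    rw [one_mul, inv_one, mul_one]; exact (D.cc' u hu).symm⟩

end Tight

end Cfsg.Agent.F42.Red
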