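import Cfsg.Agent.F42.RelObt

/-!
# The 60° and 90° relations between the new root elements (abstract form)

Notation of `RelObt`.
-/

set_option autoImplicit false
set_option linter.unusedSimpArgs false

namespace Cfsg.Agent.F42.RelAcu

open RelObt

variable {G : Type*} [Group G]

/-- (T8): `s, q` short at 90°, `z = s + q`. -/
theorem t8 {t xs xq xz as aq : G} (K : Set G)
    (ss : as * as = 1) (qq : aq * aq = 1) (xss : xs * xs = 1) (xqq : xq * xq = 1) (xzz : xz * xz = 1)
    (tt : t * t = 1) (c1 : Commute t xs) (c2 : Commute t xq) (c3 : Commute t xz) (c4 : Commute xs xq)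
    (c5 : Commute xs xz) (c6 : Commute xq xz)
    (d1 : Commute as xs) (d2 : Commute aq xq) (d3 : Commute as xz) (d4 : Commute aq xz)
    (ts : as * t * as = t * xs) (tq : aq * t * aq = t * xq)
    (e1 : as * xq * as = xq * xz) (e2 : aq * xs * aq = xs * xz)
    (n1 : xs ≠ 1) (n2 : xz ≠ 1) (n3 : xs ≠ xz)
    (k1 : ∀ k ∈ K, Commute as k) (k2 : ∀ k ∈ K, Commute aq k)
    (rig : ∀ e : G, Commute e t → (∀ k ∈ K, Commute e k) →
      ∃ a b c d, (a = 1 ∨ a = t) ∧ (b = 1 ∨ b = xs) ∧ (c = 1 ∨ c = xq) ∧ (d = 1 ∨ d = xz) ∧ e = a * b * c * d) :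
    ∃ w, (w = 1 ∨ w = xz) ∧ as * aq * as = aq * w := by
  have r1 := flip ss ts
  have r2 := flip qq tq
  have r3 := flip ss e1
  have r4 := flip qq e2
  have s1 := c1.symm.eq
  have s2 := c2.symm.eq
  have s3 := c3.symm.eq
  have s4 := c4.symm.eq
  have s5 := c5.symm.eq
  have s6 := c6.symm.eq
  have u1 := d1.eq
  have u2 := d2.eq
  have u3 := d3.eq
  have u4 := d4.eq
  have et : Commute (as * aq * as * aq) t := by
    show as * aq * as * aq * t = t * (as * aq * as * aq)
    simp only [mul_assoc, r1, r2, r3, r4, s1, s2, s3, s4, s5, s6, u1, u2, u3, u4, ss, qq, xss, xqq, xzz, tt,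
      tail r1, tail r2, tail r3, tail r4, tail s1, tail s2, tail s3, tail s4, tail s5, tail s6, tail u1, tail u2,
      tail u3, tail u4, tail ss, tail qq, tail xss, tail xqq, tail xzz, tail tt, one_mul, mul_one]
  obtain ⟨a, b, c, d, ha, hb, hc, hd, he⟩ := rig _ et fun k hk =>
    (((k1 k hk).mul_left (k2 k hk)).mul_left (k1 k hk)).mul_left (k2 k hk)
  have hcc : (a * b * c * d) * (a * b * c * d) = 1 := by
    rcases ha with ha | ha <;> rcases hb with hb | hb <;> rcases hc with hc | hc <;> rcases hd with hd | hd <;>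
    simp only [ha, hb, hc, hd, mul_assoc, s1, s2, s3, s4, s5, s6, xss, xqq, xzz, tt, tail s1, tail s2, tail s3,
      tail s4, tail s5, tail s6, tail xss, tail xqq, tail xzz, tail tt, one_mul, mul_one]
  have hinv : (as * aq * as * aq) * (as * aq * as * aq) = 1 := by rw [he]; exact hcc
  have h1 : as * (a * b * c * d) * as = a * b * c * d := by
    rw [← he]
    calc as * (as * aq * as * aq) * as = aq * as * aq * as := by simp only [mul_assoc, tail ss, one_mul]
      _ = (aq * as * aq * as) * ((as * aq * as * aq) * (as * aq * as * aq)) := by rw [hinv, mul_one]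
      _ = as * aq * as * aq := by simp only [mul_assoc, tail ss, tail qq, one_mul]
  have h2 : aq * (a * b * c * d) * aq = a * b * c * d := by
    rw [← he]
    calc aq * (as * aq * as * aq) * aq = (aq * as * aq * as) * (aq * aq) := by simp only [mul_assoc]
      _ = (aq * as * aq * as) * ((as * aq * as * aq) * (as * aq * as * aq)) := by rw [qq, hinv]
      _ = as * aq * as * aq := by simp only [mul_assoc, tail ss, tail qq, one_mul]
  have h3 : as * (a * b * c * d) * as * (a * b * c * d) = 1 := by rw [h1]; exact hcc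
  have h4 : aq * (a * b * c * d) * aq * (a * b * c * d) = 1 := by rw [h2]; exact hcc
  have n3' : xs * xz ≠ 1 := by
    intro e
    apply n3
    calc xs = xs * (xz * xz) := by rw [xzz, mul_one]
      _ = xz := by rw [← mul_assoc, e, one_mul]
  have ha1 : a = 1 := by
    rcases ha with ha | ha
    · exact ha
    exfalso
    rcases hb with hb | hb <;> rcases hc with hc | hc <;> rcases hd with hd | hd <;>
    simp only [ha, hb, hc, hd, mul_assoc, r1, r2, r3, r4, s1, s2, s3, s4, s5, s6, u1, u2, u3, u4, ss, qq, xss, xqq,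
      xzz, tt,
      tail r1, tail r2, tail r3, tail r4, tail s1, tail s2, tail s3, tail s4, tail s5, tail s6, tail u1, tail u2,
      tail u3, tail u4, tail ss, tail qq, tail xss, tail xqq, tail xzz, tail tt, one_mul, mul_one] at h3 <;>
    first
    | exact n1 h3
    | exact n3' h3
  have hc1 : c = 1 := by
    rcases hc with hc | hc
    · exact hc
    exfalso
    rcases hb with hb | hb <;> rcases hd with hd | hd <;>
    simp only [ha1, hb, hc, hd, mul_assoc, r1, r2, r3, r4, s1, s2, s3, s4, s5, s6, u1, u2, u3, u4, ss, qq, xss, xqq,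
      xzz, tt,
      tail r1, tail r2, tail r3, tail r4, tail s1, tail s2, tail s3, tail s4, tail s5, tail s6, tail u1, tail u2,
      tail u3, tail u4, tail ss, tail qq, tail xss, tail xqq, tail xzz, tail tt, one_mul, mul_one] at h3 <;>
    exact n2 h3
  have hb1 : b = 1 := by
    rcases hb with hb | hb
    · exact hb
    exfalso
    rcases hd with hd | hd <;>
    simp only [ha1, hb, hc1, hd, mul_assoc, r1, r2, r3, r4, s1, s2, s3, s4, s5, s6, u1, u2, u3, u4, ss, qq, xss, xqq,
      xzz, tt,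
      tail r1, tail r2, tail r3, tail r4, tail s1, tail s2, tail s3, tail s4, tail s5, tail s6, tail u1, tail u2,
      tail u3, tail u4, tail ss, tail qq, tail xss, tail xqq, tail xzz, tail tt, one_mul, mul_one] at h4 <;>
    exact n2 h4
  refine ⟨d, hd, ?_⟩
  rw [ha1, hb1, hc1, one_mul, one_mul, one_mul] at he
  have hdq : Commute aq d := by
    rcases hd with hd | hd
    · rw [hd]; exact Commute.one_right _
    · rw [hd]; exact d4
  calc as * aq * as = (as * aq * as * aq) * aq := by rw [mul_assoc _ aq aq, qq, mul_one]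
    _ = aq * d := by rw [he, hdq.eq]

/-- 60°, the dichotomy: `s, q` short at 60°, `p = s - q`. -/
theorem t7a {t xs xq xp as aq : G} (K : Set G)
    (ss : as * as = 1) (qq : aq * aq = 1) (xpp : xp * xp = 1)
    (c3 : Commute t xp) (c4 : Commute xs xq)
    (c5 : xp * xq * xp = xq * xs) (d2 : Commute as xq)
    (ts : as * t * as = t * xs) (tq : aq * t * aq = t * xq)
    (k1 : ∀ k ∈ K, Commute as k) (k2 : ∀ k ∈ K, Commute aq k) (k3 : ∀ k ∈ K, Commute aq (xp * k * xp))
    (rig : ∀ e : G, Commute e t → (∀ k ∈ K, Commute e k) →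
      ∃ a b c, (a = 1 ∨ a = t) ∧ (b = 1 ∨ b = xs) ∧ (c = 1 ∨ c = xq) ∧ e = a * b * c) :
    ∃ a b c, (a = 1 ∨ a = t) ∧ (b = 1 ∨ b = xs) ∧ (c = 1 ∨ c = xq) ∧ as * aq = xp * aq * xp * (a * b * c) := by
  have ets : xp * aq * xp * t * (xp * aq * xp) = t * xq * xs := by
    calc xp * aq * xp * t * (xp * aq * xp) = xp * aq * (xp * t * xp) * aq * xp := by simp only [mul_assoc]
      _ = xp * (aq * t * aq) * xp := by rw [← c3.eq, mul_assoc t, xpp, mul_one]; simp only [mul_assoc]
      _ = t * (xp * xq * xp) := by rw [tq, ← mul_assoc, ← c3.eq]; simp only [mul_assoc]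
      _ = t * xq * xs := by rw [c5, mul_assoc]
  have eas : as * aq * t * (aq * as) = t * xs * xq := by
    calc as * aq * t * (aq * as) = as * (aq * t * aq) * as := by simp only [mul_assoc]
      _ = (as * t * as) * xq := by rw [tq, ← mul_assoc, mul_assoc (as * t), ← d2.eq, ← mul_assoc]
      _ = t * xs * xq := by rw [ts]
  have hbb : xp * aq * xp * (xp * aq * xp) = 1 := by
    calc xp * aq * xp * (xp * aq * xp) = xp * (aq * ((xp * xp) * (aq * xp))) := by simp only [mul_assoc]
      _ = 1 := by rw [xpp, one_mul, ← mul_assoc aq, qq, one_mul, xpp]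
  have et : Commute (xp * aq * xp * (as * aq)) t := by
    show xp * aq * xp * (as * aq) * t = t * (xp * aq * xp * (as * aq))
    have h1 : as * aq * t = t * xs * xq * (as * aq) := by
      rw [← eas]
      simp only [mul_assoc, tail ss, ss, tail qq, qq, mul_one, one_mul]
    have h2 : xp * aq * xp * (t * xs * xq) = t * (xp * aq * xp) := by
      have h3 : t * xs * xq = (xp * aq * xp) * t * (xp * aq * xp) := by
        rw [ets, mul_assoc, mul_assoc, c4.eq]
      rw [h3, mul_assoc (xp * aq * xp) t, ← mul_assoc (xp * aq * xp) (xp * aq * xp), hbb, one_mul]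
    rw [mul_assoc, h1, ← mul_assoc, h2, mul_assoc]
  have hk : ∀ k ∈ K, Commute (xp * aq * xp * (as * aq)) k := by
    intro k hk
    refine Commute.mul_left ?_ ((k1 k hk).mul_left (k2 k hk))
    have h := (k3 k hk).eq
    show xp * aq * xp * k = k * (xp * aq * xp)
    have h2 : xp * (aq * (xp * k * xp)) * xp = xp * (xp * k * xp * aq) * xp := by rw [h]
    simp only [mul_assoc, xpp, tail xpp, one_mul, mul_one] at h2
    simpa only [mul_assoc] using h2
  obtain ⟨a, b, c, ha, hb, hc, he⟩ := rig _ et hk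
  refine ⟨a, b, c, ha, hb, hc, ?_⟩
  rw [← he, ← mul_assoc, hbb, one_mul]

/-- 60°: the two cases. -/
theorem t7b {t xs xq xp as aq : G}
    (qq : aq * aq = 1) (ss : as * as = 1) (xss : xs * xs = 1) (xqq : xq * xq = 1) (xpp : xp * xp = 1) (tt : t * t = 1)
    (c1 : Commute t xs) (c2 : Commute t xq) (c3 : Commute t xp) (c4 : Commute xs xq)
    (c5 : xp * xq * xp = xq * xs) (c6 : Commute xp xs) (d1 : Commute aq xs) (d2 : Commute aq xq)
    (tq : aq * t * aq = t * xq)
    (h : ∃ a b c, (a = 1 ∨ a = t) ∧ (b = 1 ∨ b = xs) ∧ (c = 1 ∨ c = xq) ∧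
      as * aq = xp * aq * xp * (a * b * c)) :
    Commute as aq ∨ as * aq * as * aq = xs * xq := by
  have r1 := flip qq tq
  have r2 := flip xpp c5
  have s1 := c1.symm.eq
  have s2 := c2.symm.eq
  have s3 := c3.symm.eq
  have s4 := c4.symm.eq
  have s5 := c6.eq
  have u1 := d1.eq
  have u2 := d2.eq
  obtain ⟨a, b, c, ha, hb, hc, he⟩ := h
  have e1 : as * aq * as * aq = (xp * aq * xp * (a * b * c)) * (xp * aq * xp * (a * b * c)) := by
    rw [← he, mul_assoc]
  rcases ha with ha | ha
  · left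
    have : as * aq * as * aq = 1 := by
      rw [e1]
      rcases hb with hb | hb <;> rcases hc with hc | hc <;>
      simp only [ha, hb, hc, mul_assoc, r1, r2, s1, s2, s3, s4, s5, u1, u2, qq, xss, xqq, xpp, tt, tail r1, tail r2,
        tail s1, tail s2, tail s3, tail s4, tail s5, tail u1, tail u2, tail qq, tail xss, tail xqq, tail xpp,
        tail tt, one_mul, mul_one]
    show as * aq = aq * as
    calc as * aq = (as * aq * as * aq) * (aq * as) := by simp only [mul_assoc, tail qq, ss, one_mul, mul_one]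
      _ = aq * as := by rw [this, one_mul]
  · right
    rw [e1]
    rcases hb with hb | hb <;> rcases hc with hc | hc <;>
    simp only [ha, hb, hc, mul_assoc, r1, r2, s1, s2, s3, s4, s5, u1, u2, qq, xss, xqq, xpp, tt, tail r1, tail r2,
      tail s1, tail s2, tail s3, tail s4, tail s5, tail u1, tail u2, tail qq, tail xss, tail xqq, tail xpp,
      tail tt, one_mul, mul_one]

/-- 60°: the case `[a₁, a₂] = x₁ x₂` is impossible (`s₁, s₂` and `s₂, s₃` at 60°, `s₁, s₃` at 90°, `p = s₂ - s₃`,
`z = s₁ + s₃`). -/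
theorem t7c {t x1 x2 x3 xz xp a1 a2 a3 w : G}
    (a11 : a1 * a1 = 1) (a22 : a2 * a2 = 1) (a33 : a3 * a3 = 1) (x22 : x2 * x2 = 1)
    (x33 : x3 * x3 = 1) (xzz : xz * xz = 1) (xpp : xp * xp = 1) (tt : t * t = 1)
    (c1 : Commute t x1) (c2 : Commute t x2) (c3 : Commute t x3) (c4 : Commute t xz) (c5 : Commute t xp)
    (c12 : Commute x1 x2) (c13 : Commute x1 x3) (c1z : Commute x1 xz) (c1p : Commute x1 xp)
    (c23 : Commute x2 x3) (c2z : Commute x2 xz) (c2p : Commute x2 xp) (c3z : Commute x3 xz)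
    (c3p : xp * x3 * xp = x3 * x2) (czp : Commute xz xp)
    (t1 : a1 * t * a1 = t * x1) (t3 : a3 * t * a3 = t * x3)
    (d11 : Commute a1 x1) (d12 : Commute a1 x2) (d1z : Commute a1 xz) (d1p : Commute a1 xp)
    (d13 : a1 * x3 * a1 = x3 * xz)
    (d31 : a3 * x1 * a3 = x1 * xz) (d32 : Commute a3 x2) (d33 : Commute a3 x3) (d3z : Commute a3 xz)
    (d2z : Commute a2 xz)
    (hw : w = 1 ∨ w = xz) (h13 : a1 * a3 * a1 = a3 * w)
    (h23 : ∃ a b c, (a = 1 ∨ a = t) ∧ (b = 1 ∨ b = x2) ∧ (c = 1 ∨ c = x3) ∧ a2 * a3 = xp * a3 * xp * (a * b * c))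
    (n1 : x1 * x2 ≠ 1) (n2 : x1 * x2 ≠ xz) (n3 : x2 ≠ 1) (n4 : x2 ≠ xz) :
    a1 * a2 * a1 * a2 ≠ x1 * x2 := by
  intro h12
  have r1 := flip a11 t1
  have r2 := flip a33 t3
  have r3 := flip a11 d13
  have r4 := flip a33 d31
  have r5 := flip xpp c3p
  have r6 := flip a11 h13
  have s1 := c1.symm.eq
  have s2 := c2.symm.eq
  have s3 := c3.symm.eq
  have s4 := c4.symm.eq
  have s5 := c5.symm.eq
  have s6 := c12.symm.eq
  have s7 := c13.symm.eq
  have s8 := c1z.symm.eq
  have s9 := c1p.symm.eq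
  have v1 := c23.symm.eq
  have v2 := c2z.symm.eq
  have v3 := c2p.symm.eq
  have v4 := c3z.symm.eq
  have v5 := czp.symm.eq
  have u1 := d11.eq
  have u2 := d12.eq
  have u3 := d1z.eq
  have u4 := d1p.eq
  have u5 := d32.eq
  have u6 := d33.eq
  have u7 := d3z.eq
  have hw2 : w * w = 1 := by rcases hw with hw | hw <;> simp [hw, xzz]
  have hwa : Commute a3 w := by
    rcases hw with hw | hw
    · rw [hw]; exact Commute.one_right _
    · rw [hw]; exact d3z
  have hwa2 : Commute a2 w := by
    rcases hw with hw | hw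
    · rw [hw]; exact Commute.one_right _
    · rw [hw]; exact d2z
  have h131 : a3 * a1 * a3 = a1 * w := by
    calc a3 * a1 * a3 = a1 * (a1 * a3 * a1) * a3 := by simp only [mul_assoc, tail a11, one_mul]
      _ = a1 * w := by rw [h13, hwa.eq, mul_assoc, mul_assoc, a33, mul_one]
  have W1 : a1 * (a2 * a3) * a1 * (a3 * a2) = x1 * x2 * w := by
    calc a1 * (a2 * a3) * a1 * (a3 * a2) = a1 * a2 * (a3 * a1 * a3) * a2 := by simp only [mul_assoc]
      _ = (a1 * a2 * a1 * a2) * w := by rw [h131]; simp only [mul_assoc, hwa2.eq]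
      _ = x1 * x2 * w := by rw [h12]
  obtain ⟨a, b, c, ha, hb, hc, he⟩ := h23
  have hinv : a3 * a2 = c * b * a * (xp * a3 * xp) := by
    have h1 : a3 * a2 = (a2 * a3)⁻¹ := by
      refine eq_inv_of_mul_eq_one_left ?_
      simp only [mul_assoc, tail a22, a33, one_mul]
    have haa : a * a = 1 := by rcases ha with ha | ha <;> simp [ha, tt]
    have hbb : b * b = 1 := by rcases hb with hb | hb <;> simp [hb, x22]
    have hcc : c * c = 1 := by rcases hc with hc | hc <;> simp [hc, x33]
    rw [h1, he]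
    symm
    refine eq_inv_of_mul_eq_one_left ?_
    simp only [mul_assoc, tail xpp, tail a33, tail haa, tail hbb, hcc, one_mul]
  rw [he, hinv] at W1
  have k1 : ¬ (1 = x1 * x2) := fun e => n1 e.symm
  have k2 : ¬ (xz = x1 * x2) := fun e => n2 e.symm
  have k3 : ¬ (xz = x1 * (x2 * xz)) := fun e => by
    rw [← mul_assoc] at e
    exact n1 (mul_eq_right.mp e.symm)
  have k4 : ¬ (1 = x1 * (x2 * xz)) := fun e => by
    apply n2
    calc x1 * x2 = x1 * (x2 * xz) * xz := by simp only [mul_assoc, xzz, mul_one]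
      _ = xz := by rw [← e, one_mul]
  have k5 : ¬ (x1 * xz = x1 * x2) := fun e => n4 (mul_left_cancel e).symm
  have k6 : ¬ (x1 = x1 * (x2 * xz)) := fun e => by
    have e1 : x2 * xz = 1 := mul_eq_left.mp e.symm
    apply n4
    calc x2 = x2 * xz * xz := by rw [mul_assoc, xzz, mul_one]
      _ = xz := by rw [e1, one_mul]
  have k7 : ¬ (x1 = x1 * x2) := fun e => n3 (mul_eq_left.mp e.symm)
  have k8 : ¬ (x1 * xz = x1 * (x2 * xz)) := fun e => n3 (mul_eq_right.mp (mul_left_cancel e).symm)
  rcases ha with ha | ha <;> rcases hb with hb | hb <;> rcases hc with hc | hc <;> rcases hw with hw | hw <;>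
  simp only [ha, hb, hc, hw, mul_assoc, r1, r2, r3, r4, r5, r6, s1, s2, s3, s4, s5, s6, s7, s8, s9, v1, v2, v3, v4, v5,
    u1, u2, u3, u4, u5, u6, u7, a11, a22, a33, x22, x33, xzz, xpp, tt,
    tail r1, tail r2, tail r3, tail r4, tail r5, tail r6, tail s1, tail s2, tail s3, tail s4, tail s5, tail s6,
    tail s7, tail s8, tail s9, tail v1, tail v2, tail v3, tail v4, tail v5, tail u1, tail u2, tail u3, tail u4,
    tail u5, tail u6, tail u7, tail a11, tail a22, tail a33, tail x22, tail x33, tail xzz, tail xpp,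
    tail tt, one_mul, mul_one] at W1 <;>
  first
  | exact k1 W1
  | exact k2 W1
  | exact k3 W1
  | exact k4 W1
  | exact k5 W1
  | exact k6 W1
  | exact k7 W1
  | exact k8 W1

end Cfsg.Agent.F42.RelAcu
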