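import Cfsg.Agent.F42.RelSys
import Cfsg.Agent.FourTwo.LongShort
import Cfsg.Agent.FourTwo.Perf
import Cfsg.Agent.FourTwo.ClassSep
import Cfsg.Agent.F42.Std

/-!
# The end of the case SHORT

`exists_sign`: if the new elements `a s` (`s` short) satisfy the relations `Sys` over `φ : F₄(2) → G` and `t` is
conjugate neither to `t φ(x 47)` nor to `t φ(x 44 * x 47)` (long root elements and the mixed class), then `G` has
a homomorphism to `{1, -1}` with `t ↦ -1`.
-/

set_option autoImplicit false

namespace Cfsg.Agent.F42.ShortEnd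

open Subgroup RelTab RelSys
open Cfsg.Agent.FourTwo.Base hiding comm bar bar_lt
open Cfsg.Agent.FourTwo.BN Cfsg.Agent.FourTwo.Par Cfsg.Agent.FourTwo.Perf
open Cfsg.Agent.ChevalleyStructure.TwF4.Torus (all_of)
open Cfsg.Agent.ChevalleyStructure.F4TwU (posList mem_posList)

/-! ### the group of the positive long roots -/

/-- the positive long roots -/
def longP (r : ℕ) : Bool := decide (24 ≤ r ∧ r < 48) && lg r

/-- the positive roots above `k` -/
def gtP (k r : ℕ) : Bool := decide (24 ≤ r ∧ r < 48) && decide (k < r)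

theorem closedB_longP : closedB longP = true := by decide +kernel

theorem closedB_gtP_tab : ((List.range 25).all fun k => closedB (gtP (23 + k))) = true := by decide +kernel

theorem closedB_gtP {k : ℕ} (hk : 23 ≤ k) (hk' : k < 48) : closedB (gtP k) = true := by
  have h := all_of closedB_gtP_tab (show k - 23 < 25 by omega)
  rwa [Nat.add_sub_cancel' hk] at h

theorem longP_iff {r : ℕ} : longP r = true ↔ (24 ≤ r ∧ r < 48) ∧ lg r = true := by
  unfold longP
  rw [Bool.and_eq_true, decide_eq_true_eq]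

theorem gtP_iff {k r : ℕ} : gtP k r = true ↔ (24 ≤ r ∧ r < 48) ∧ k < r := by
  unfold gtP
  rw [Bool.and_eq_true, decide_eq_true_eq, decide_eq_true_eq]

theorem longP_isLong_tab : ((List.range 48).all fun r => !longP r || Cfsg.Agent.FourTwo.LongShort.isLong r) = true := by
  decide +kernel

theorem isLong_of_longP {r : ℕ} (h : longP r = true) : Cfsg.Agent.FourTwo.LongShort.isLong r = true := by
  have h1 := all_of longP_isLong_tab (longP_iff.1 h).1.2
  rw [h, Bool.not_true, Bool.false_or] at h1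
  exact h1

/-- products of positive long root elements do not start with a short root element -/
theorem short_mul_ne {r : ℕ} (hr : 24 ≤ r) (hr' : r < 48) (hs : lg r = false) {y m : LL} (hy : y ∈ RG longP)
    (hm : m ∈ RG (gtP r)) : x r * m ≠ y := by
  intro h
  have h1 : y ∈ RG (gtP (r - 1)) := by
    rw [← h]
    refine mul_mem (x_mem_RG hr' (gtP_iff.2 ⟨⟨hr, hr'⟩, by omega⟩)) (RG_mono ?_ hm)
    intro q hq hp
    rw [gtP_iff] at hp ⊢
    exact ⟨hp.1, by omega⟩
  obtain ⟨S, hS⟩ := nf_RG closedB_longP hy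
  rw [hS, mem_RG_iff (closedB_gtP (by omega) (by omega))] at h1
  have h2 : y ∈ RG (gtP r) := by
    rw [hS, mem_RG_iff (closedB_gtP (by omega) hr')]
    intro q hq hq' hp
    have h3 := h1 q hq hq' hp
    rw [gtP_iff] at h3 ⊢
    rw [Bool.and_eq_true, longP_iff] at hp
    refine ⟨h3.1, ?_⟩
    have : q ≠ r := by
      rintro rfl
      rw [hs] at hp
      exact absurd hp.1.2 (by decide)
    omega
  have h4 : x r ∈ RG (gtP r) := by
    have e : x r = y * m⁻¹ := by rw [← h, mul_inv_cancel_right]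
    rw [e]
    exact mul_mem h2 (inv_mem hm)
  rw [x_mem_RG_iff (closedB_gtP (by omega) hr') hr', gtP_iff] at h4
  omega

theorem conj_32_47 : ∃ y : LL, y * x 32 * y⁻¹ = x 47 := by
  refine (Cfsg.Agent.FourTwo.ClassSep.conj_of_rk2 (x_mul_self 32) (x_ne_one (by omega))).2.1 ?_
  have h : Cfsg.Agent.FourTwo.ClassSep.iv [32] = (10, 6) := by decide +kernel
  rw [← h, ← Cfsg.Agent.FourTwo.ClassSep.rk2_wd _ (by decide), wd_one]

/-! ### the transport to `G` -/

variable {G : Type*} [Group G]

theorem map_RG (φ : LL →* G) (P : ℕ → Bool) :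
    (RG P).map φ = closure {g | ∃ r < 48, P r = true ∧ g = φ (x r)} := by
  unfold RG
  rw [MonoidHom.map_closure]
  congr 1
  ext g
  constructor
  · rintro ⟨_, ⟨r, hr, hp, rfl⟩, rfl⟩
    exact ⟨r, hr, hp, rfl⟩
  · rintro ⟨r, hr, hp, rfl⟩
    exact ⟨x r, ⟨r, hr, hp, rfl⟩, rfl⟩

/-- **The case SHORT.** -/
theorem exists_sign [Finite G] (φ : LL →* G) (hφ : Function.Injective φ) {t : G} {a : ℕ → G}
    (S : Sys t (fun r => φ (x r)) a) (ha : ∀ r, r < 48 → lg r = true → a r = 1)
    (hne : ∀ l, t ≠ φ l) (hcomm : ∀ l, t * φ l = φ l * t)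
    (hcent : ∀ g, g * t = t * g → ∃ l, g = φ l ∨ g = t * φ l)
    (h47 : ¬ ∃ g, g * t * g⁻¹ = t * φ (x 47)) (h4447 : ¬ ∃ g, g * t * g⁻¹ = t * φ (x 44 * x 47)) :
    ∃ m : G →* ℤˣ, m t = -1 := by
  have tt := S.tt
  have e_t : (S.rootData ha).t = t := rfl
  have htriv : (S.rootData ha).triv = (RG longP).map φ := by
    rw [map_RG]
    unfold RootChain.RootData.triv
    congr 1
    ext g
    constructor
    · rintro ⟨q, h1, h2, h3, hg⟩
      have h4 : lg q = true := by
        have : ¬ lg q = false := h3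
        simpa using this
      exact ⟨q, h2, longP_iff.2 ⟨⟨h1, h2⟩, h4⟩, hg⟩
    · rintro ⟨q, h2, h3, hg⟩
      rw [longP_iff] at h3
      refine ⟨q, h3.1.1, h2, ?_, hg⟩
      show ¬ lg q = false
      rw [h3.2]
      decide
  have hxa : ∀ r, 23 ≤ r → (S.rootData ha).xabove r = (RG (gtP r)).map φ := by
    intro r hr
    rw [map_RG]
    unfold RootChain.RootData.xabove
    congr 1
    ext g
    constructor
    · rintro ⟨q, h1, h2, hg⟩
      exact ⟨q, h2, gtP_iff.2 ⟨⟨by omega, h2⟩, h1⟩, hg⟩
    · rintro ⟨q, h2, h3, hg⟩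
      rw [gtP_iff] at h3
      exact ⟨q, h3.2, h2, hg⟩
  refine (S.rootData ha).exists_sign φ.range ?_ ?_ ?_ ?_ ?_ ?_
  · rintro ⟨l, hl⟩
    exact hne l hl.symm
  · intro r _ _
    exact ⟨x r, rfl⟩
  · intro g
    constructor
    · intro hg
      obtain ⟨l, hl | hl⟩ := hcent g hg
      · exact Or.inl ⟨l, hl.symm⟩
      · refine Or.inr ⟨l, ?_⟩
        show φ l = t * g
        rw [hl, ← mul_assoc, tt, one_mul]
    · rintro (⟨l, hl⟩ | ⟨l, hl⟩)
      · rw [← hl]
        exact (hcomm l).symm
      · have hl' : φ l = t * g := hl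
        have e : g = t * φ l := by rw [hl', ← mul_assoc, tt, one_mul]
        show g * t = t * g
        rw [e, ← mul_assoc, tt, one_mul, mul_assoc, ← hcomm, ← mul_assoc, tt, one_mul]
  · rw [hxa 23 le_rfl, MonoidHom.range_eq_map, Subgroup.relIndex_map_map_of_injective _ _ hφ,
      Subgroup.relIndex_top_right]
    have e : RG (gtP 23) = U := by
      rw [U_eq_RG]
      apply RG_congr
      intro r hr
      rw [Bool.eq_iff_iff, gtP_iff, decide_eq_true_eq]
      omega
    rw [e]
    exact odd_index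
  · intro r hr hr' hf y hy m hm
    rw [htriv] at hy
    rw [hxa r (by omega)] at hm
    obtain ⟨y', hy', rfl⟩ := hy
    obtain ⟨m', hm', rfl⟩ := hm
    show φ (x r) * φ m' ≠ φ y'
    rw [← map_mul]
    intro h
    exact short_mul_ne hr hr' hf hy' hm' (hφ h)
  · intro y hy g hg
    rw [htriv] at hy
    rw [e_t] at hg
    obtain ⟨y', hy', rfl⟩ := hy
    by_contra hne1
    have hy1 : y' ≠ 1 := fun h => hne1 (by rw [h, map_one])
    have hy2 : y' * y' = 1 := by
      apply hφ
      rw [map_mul, map_one]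
      have h1 : (t * φ y') * (t * φ y') = 1 := by
        rw [← hg]
        have : g * t * g⁻¹ * (g * t * g⁻¹) = g * (t * t) * g⁻¹ := by group
        rw [this, tt, mul_one, mul_inv_cancel]
      have h2 : (t * φ y') * (t * φ y') = φ y' * φ y' := by
        have : t * φ y' * (t * φ y') = t * (φ y' * t) * φ y' := by simp only [mul_assoc]
        rw [this, ← hcomm, ← mul_assoc, tt, one_mul]
      rw [← h2, h1]
    -- conjugation by elements of `L`
    have hconj : ∀ (z l : LL), (∃ g, g * t * g⁻¹ = t * φ l) → ∃ g, g * t * g⁻¹ = t * φ (z * l * z⁻¹) := by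
      rintro z l ⟨g, hg⟩
      refine ⟨φ z * g, ?_⟩
      have e1 : φ z * g * t * (φ z * g)⁻¹ = φ z * (g * t * g⁻¹) * (φ z)⁻¹ := by group
      rw [e1, hg, map_mul, map_mul, map_inv, ← mul_assoc, ← hcomm]
      simp only [mul_assoc]
    obtain ⟨z, hz⟩ := Cfsg.Agent.FourTwo.Classes.exists_class hy2 hy1
    have h1 := hconj z y' ⟨g, hg⟩
    rcases hz with hz | hz | hz | hz
    · obtain ⟨S', hS'⟩ := nf_RG closedB_longP hy'
      have h2 : z⁻¹ * x 44 * z⁻¹⁻¹ = wd ((posList 24).filter fun r => longP r && S' r) := by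
        rw [← hS', ← hz]
        group
      refine Cfsg.Agent.FourTwo.LongShort.short_not_long (s := 44) (by omega) (by decide +kernel) z⁻¹ ?_ h2
      intro r hr
      rw [Bool.and_eq_true] at hr
      exact isLong_of_longP hr.1
    · rw [hz] at h1
      exact h47 h1
    · rw [hz] at h1
      exact h4447 h1
    · rw [hz] at h1
      obtain ⟨g1, hg1⟩ := h1
      have ha44 := S.tr 44 (by omega) (by decide +kernel)
      have haa := S.aa 44 (by omega) (by decide +kernel)
      have hinv : (a 44)⁻¹ = a 44 := by rw [inv_eq_iff_mul_eq_one, haa]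
      have hF : Commute (a 44) (φ (x 32)) := S.aF 44 (by omega) (by decide +kernel) 32 (by omega) (by decide +kernel)
      have hF' : Commute (a 44) (φ (x 44)) := S.aF 44 (by omega) (by decide +kernel) 44 (by omega) (by decide +kernel)
      have h2 : ∃ g, g * t * g⁻¹ = t * φ (x 32) := by
        refine ⟨a 44 * g1, ?_⟩
        have e1 : a 44 * g1 * t * (a 44 * g1)⁻¹ = a 44 * (g1 * t * g1⁻¹) * (a 44)⁻¹ := by group
        rw [e1, hg1, hinv, map_mul]
        have e2 : a 44 * (t * (φ (x 44) * φ (x 32))) * a 44 = (a 44 * t * a 44) * (a 44 * a 44) *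
            φ (x 44) * φ (x 32) := by
          have c1 : φ (x 44) * φ (x 32) * a 44 = a 44 * (φ (x 44) * φ (x 32)) := (hF'.mul_right hF).symm.eq
          have e3 : a 44 * (t * (φ (x 44) * φ (x 32))) * a 44 = a 44 * t * (φ (x 44) * φ (x 32) * a 44) := by
            simp only [mul_assoc]
          rw [e3, c1, haa, mul_one]
          simp only [mul_assoc]
        rw [e2, haa, mul_one]
        have ha44' : a 44 * t * a 44 = t * φ (x 44) := ha44
        rw [ha44', mul_assoc t, ← map_mul, x_mul_self, map_one, mul_one]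
      obtain ⟨y1, hy1'⟩ := conj_32_47
      have h3 := hconj y1 _ h2
      rw [hy1'] at h3
      exact h47 h3

end Cfsg.Agent.F42.ShortEnd

namespace Cfsg.Agent.F42.Std

open RelTab Cfsg.Agent.FourTwo.Base

/-- **The case SHORT**, in terms of `Std`. -/
theorem exists_sign_short {G : Type*} [Group G] [Finite G] (S : Std G) (hE : S.E1) {a : ℕ → G}
    (Y : RelSys.Sys S.t (fun r => S.φ (x r)) a) (ha : ∀ r, r < 48 → lg r = true → a r = 1)
    (h47 : ¬ S.Ty (x 47)) (h4447 : ¬ S.Ty (x 44 * x 47)) : ∃ m : G →* ℤˣ, m S.t = -1 :=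
  ShortEnd.exists_sign S.φ S.inj Y ha S.tne S.comm hE h47 h4447

end Cfsg.Agent.F42.Std
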