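import Cfsg.Agent.F42.RelNon
import Cfsg.Agent.F42.ShortEnd

/-!
# The end of the case SHORT

`t` is inverted by a sign if `s = x 44` is of nonsplit type, `C_G(t) = ⟨t⟩ × L` and neither `t x₄₇` nor `t x₄₄ x₄₇` is
conjugate to `t`.
-/

set_option autoImplicit false

namespace Cfsg.Agent.F42.RelEnd

open Cfsg.Agent.FourTwo.Base (LL x)

theorem exists_sign {G : Type*} [Group G] [Finite G] (S : Std G) {a0 : G} (H : S.IsNon a0) (hE : S.E1)
    (h47 : ¬ S.Ty (x 47)) (h4447 : ¬ S.Ty (x 44 * x 47)) : ∃ m : G →* ℤˣ, m S.t = -1 :=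
  ShortEnd.exists_sign S.φ S.inj (RelNon.sysN S H) (fun _ _ hl => RelNon.aS_long S hl) (fun l => S.tne l)
    (fun l => S.comm l) hE h47 h4447

end Cfsg.Agent.F42.RelEnd
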