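import Mathlib

/-!
# The 120° and 135° relations between the new root elements (abstract form)

`t` is the involution, `xs, xq, …` root elements of `L`, `as, ah, …` the new elements `a_s` with
`a_s t a_s⁻¹ = t x_s`.  The rigidity of `C_L(K)` enters through the hypotheses `rig`.
-/

set_option autoImplicit false
set_option linter.unusedSimpArgs false

namespace Cfsg.Agent.F42.RelObt

variable {G : Type*} [Group G]

theorem tail {a b c : G} (h : a * b = c) (z : G) : a * (b * z) = c * z := by
  rw [← mul_assoc, h]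

/-- `x a x = b`, `x² = 1`: `x a = b x`. -/
theorem flip {x a b : G} (hx : x * x = 1) (h : x * a * x = b) : x * a = b * x := by
  rw [← h, mul_assoc, hx, mul_one]

/-- (T6): `s, q` short at 120°, `h = s + q`. -/
theorem t6 {t xs xq xh as ah : G} (K : Set G)
    (ss : as * as = 1) (hh : ah * ah = 1) (xss : xs * xs = 1) (xhh : xh * xh = 1) (xqq : xq * xq = 1)
    (tt : t * t = 1) (c1 : Commute t xs) (c2 : Commute t xq) (c3 : Commute t xh) (c4 : Commute xs xh)
    (c5 : Commute xq xh) (c6 : xq * xs * xq = xs * xh) (c7 : Commute as xs) (c8 : Commute as xh)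
    (c9 : Commute ah xs) (c10 : Commute ah xh) (c11 : Commute ah xq) (c12 : Commute as ah)
    (ts : as * t * as = t * xs) (th : ah * t * ah = t * xh) (n2 : xh ≠ 1) (n3 : xs ≠ xh)
    (k1 : ∀ k ∈ K, Commute as k) (k2 : ∀ k ∈ K, Commute ah k) (k3 : ∀ k ∈ K, Commute as (xq * k * xq))
    (rig : ∀ e : G, Commute e t → (∀ k ∈ K, Commute e k) →
      ∃ a b c, (a = 1 ∨ a = t) ∧ (b = 1 ∨ b = xs) ∧ (c = 1 ∨ c = xh) ∧ e = a * b * c) :
    ∃ c, (c = 1 ∨ c = xh) ∧ xq * as * xq = as * ah * c := by
  have r1 := flip ss ts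
  have r2 := flip hh th
  have r3 := flip xqq c6
  have r4 := c1.symm.eq
  have r5 := c2.symm.eq
  have r6 := c3.symm.eq
  have r7 := c4.symm.eq
  have r8 := c5.eq
  have r9 := c7.eq
  have r10 := c8.eq
  have r11 := c9.eq
  have r12 := c10.eq
  have r13 := c11.eq
  have r14 := c12.symm.eq
  have et : Commute (ah * as * (xq * as * xq)) t := by
    show ah * as * (xq * as * xq) * t = t * (ah * as * (xq * as * xq))
    simp only [mul_assoc, r1, r2, r3, r4, r5, r6, r7, r8, r9, r10, r11, r12, r13, r14, ss, hh, xss, xhh, xqq, tt,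
      tail r1, tail r2, tail r3, tail r4, tail r5, tail r6, tail r7, tail r8, tail r9, tail r10,
      tail r11, tail r12, tail r13, tail r14, tail ss, tail hh, tail xss, tail xhh, tail xqq, tail tt,
      one_mul, mul_one]
  have ek : ∀ k ∈ K, Commute (ah * as * (xq * as * xq)) k := by
    intro k hk
    refine ((k2 k hk).mul_left (k1 k hk)).mul_left ?_
    have h := (k3 k hk).eq
    show xq * as * xq * k = k * (xq * as * xq)
    have h2 : xq * (as * (xq * k * xq)) * xq = xq * (xq * k * xq * as) * xq := by rw [h]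
    simp only [mul_assoc, xqq, tail xqq, one_mul, mul_one] at h2
    simpa only [mul_assoc] using h2
  obtain ⟨a, b, c, ha, hb, hc, he⟩ := rig _ et ek
  have hg : xq * as * xq = as * ah * (a * b * c) := by
    rw [← he]
    simp only [mul_assoc, tail ss, tail hh, one_mul]
  have hg2 : (as * ah * (a * b * c)) * (as * ah * (a * b * c)) = 1 := by
    rw [← hg]
    simp only [mul_assoc, ss, xqq, tail ss, tail xqq, one_mul, mul_one]
  have ha1 : a = 1 := by
    rcases ha with rfl | rfl
    · rfl
    exfalso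
    apply n3
    have key : xs * xh = 1 := by
      rcases hb with rfl | rfl <;> rcases hc with rfl | rfl <;>
      simp only [mul_assoc, r1, r2, r3, r4, r5, r6, r7, r8, r9, r10, r11, r12, r13, r14, ss, hh, xss, xhh, xqq, tt,
        tail r1, tail r2, tail r3, tail r4, tail r5, tail r6, tail r7, tail r8, tail r9, tail r10,
        tail r11, tail r12, tail r13, tail r14, tail ss, tail hh, tail xss, tail xhh, tail xqq, tail tt,
        one_mul, mul_one] at hg2 <;> exact hg2
    calc xs = xs * (xh * xh) := by rw [xhh, mul_one]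
      _ = xh := by rw [← mul_assoc, key, one_mul]
  subst ha1
  refine ⟨c, hc, ?_⟩
  rcases hb with rfl | rfl
  · rw [hg, one_mul, one_mul]
  exfalso
  have hg3 : xq * (as * ah * (1 * b * c)) * xq = as := by
    rw [← hg]
    simp only [mul_assoc, xqq, tail xqq, one_mul, mul_one]
  have e1 : xq * (as * ah * (1 * b * c)) * xq = (xq * as * xq) * ah * (xq * (b * c) * xq) := by
    simp only [mul_assoc, one_mul, tail xqq, r13, tail r13]
  rw [e1, hg] at hg3
  apply n2
  rcases hc with rfl | rfl <;>
  simp only [mul_assoc, r1, r2, r3, r4, r5, r6, r7, r8, r9, r10, r11, r12, r13, r14, ss, hh, xss, xhh, xqq, tt,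
    tail r1, tail r2, tail r3, tail r4, tail r5, tail r6, tail r7, tail r8, tail r9, tail r10,
    tail r11, tail r12, tail r13, tail r14, tail ss, tail hh, tail xss, tail xhh, tail xqq, tail tt,
    one_mul, mul_one] at hg3
  all_goals exact mul_eq_right.mp hg3

/-- (T3): `s` short, `l` long at 135°, `h = s + l`, `z = 2 s + l`. -/
theorem t3 {t xs xl xh xz as ah w : G} (K : Set G)
    (ss : as * as = 1) (hh : ah * ah = 1) (xss : xs * xs = 1) (xhh : xh * xh = 1) (xll : xl * xl = 1)
    (xzz : xz * xz = 1)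
    (tt : t * t = 1) (c1 : Commute t xs) (c2 : Commute t xl) (c3 : Commute t xh) (c4 : Commute t xz)
    (c5 : Commute xs xh) (c6 : Commute xs xz) (c7 : Commute xh xz) (c8 : Commute xl xh) (c9 : Commute xl xz)
    (m1 : xl * xs * xl = xs * xh * xz)
    (d1 : Commute as xs) (d2 : Commute ah xh) (d3 : Commute as xz) (d4 : Commute ah xz) (d5 : Commute ah xl)
    (ts : as * t * as = t * xs) (th : ah * t * ah = t * xh)
    (e1 : as * xh * as = xh * xz) (e2 : ah * xs * ah = xs * xz)
    (f1 : as * ah * as = ah * w) (f2 : w = 1 ∨ w = xz)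
    (n1 : xh ≠ xz) (n2 : xs ≠ xh) (n3 : xs * xh ≠ xz)
    (k1 : ∀ k ∈ K, Commute as k) (k2 : ∀ k ∈ K, Commute ah k) (k3 : ∀ k ∈ K, Commute as (xl * k * xl))
    (rig : ∀ e : G, Commute e t → (∀ k ∈ K, Commute e k) →
      ∃ a b c d, (a = 1 ∨ a = t) ∧ (b = 1 ∨ b = xs) ∧ (c = 1 ∨ c = xh) ∧ (d = 1 ∨ d = xz) ∧ e = a * b * c * d) :
    ∃ c d, (c = 1 ∨ c = xh) ∧ (d = 1 ∨ d = xz) ∧ xl * as * xl = as * ah * c * d := by
  have r1 := flip ss ts
  have r2 := flip hh th
  have r3 := flip xll m1
  have r4 := flip ss e1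
  have r5 := flip hh e2
  have r6 := flip ss f1
  have s1 := c1.symm.eq
  have s2 := c2.symm.eq
  have s3 := c3.symm.eq
  have s4 := c4.symm.eq
  have s5 := c5.symm.eq
  have s6 := c6.symm.eq
  have s7 := c7.symm.eq
  have s8 := c8.eq
  have s9 := c9.eq
  have u1 := d1.eq
  have u2 := d2.eq
  have u3 := d3.eq
  have u4 := d4.eq
  have u5 := d5.eq
  have hww : w * w = 1 := by rcases f2 with rfl | rfl <;> simp [xzz]
  have et : Commute (ah * as * (xl * as * xl)) t := by
    show ah * as * (xl * as * xl) * t = t * (ah * as * (xl * as * xl))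
    simp only [mul_assoc, r1, r2, r3, r4, r5, s1, s2, s3, s4, s5, s6, s7, s8, s9, u1, u2, u3, u4, u5, ss, hh, xss,
      xhh, xll, xzz, tt, tail r1, tail r2, tail r3, tail r4, tail r5, tail s1, tail s2, tail s3, tail s4,
      tail s5, tail s6, tail s7, tail s8, tail s9, tail u1, tail u2, tail u3, tail u4, tail u5, tail ss, tail hh,
      tail xss, tail xhh, tail xll, tail xzz, tail tt, one_mul, mul_one]
  have ek : ∀ k ∈ K, Commute (ah * as * (xl * as * xl)) k := by
    intro k hk
    refine ((k2 k hk).mul_left (k1 k hk)).mul_left ?_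
    have h := (k3 k hk).eq
    show xl * as * xl * k = k * (xl * as * xl)
    have h2 : xl * (as * (xl * k * xl)) * xl = xl * (xl * k * xl * as) * xl := by rw [h]
    simp only [mul_assoc, xll, tail xll, one_mul, mul_one] at h2
    simpa only [mul_assoc] using h2
  obtain ⟨a, b, c, d, ha, hb, hc, hd, he⟩ := rig _ et ek
  have hg : xl * as * xl = as * ah * (a * b * c * d) := by
    rw [← he]
    simp only [mul_assoc, tail ss, tail hh, one_mul]
  have hg2 : (as * ah * (a * b * c * d)) * (as * ah * (a * b * c * d)) = 1 := by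
    rw [← hg]
    simp only [mul_assoc, ss, xll, tail ss, tail xll, one_mul, mul_one]
  have ha1 : a = 1 := by
    rcases ha with rfl | rfl
    · rfl
    exfalso
    have key : xs * xh = 1 ∨ xs * (xh * xz) = 1 := by
      rcases hb with hb | hb <;> rcases hc with hc | hc <;> rcases hd with hd | hd <;> rcases f2 with f2 | f2 <;>
      simp only [mul_assoc, hb, hc, hd, f2, r1, r2, r3, r4, r5, r6, s1, s2, s3, s4, s5, s6, s7, s8, s9, u1, u2, u3, u4,
        u5, ss, hh, xss, xhh, xll, xzz, tt, tail r1, tail r2, tail r3, tail r4, tail r5, tail r6, tail s1, tail s2,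
        tail s3, tail s4, tail s5, tail s6, tail s7, tail s8, tail s9, tail u1, tail u2, tail u3, tail u4, tail u5,
        tail ss, tail hh, tail xss, tail xhh, tail xll, tail xzz, tail tt, one_mul, mul_one] at hg2 <;>
      first
      | exact Or.inl hg2
      | exact Or.inr hg2
    rcases key with key | key
    · apply n2
      calc xs = xs * (xh * xh) := by rw [xhh, mul_one]
        _ = xh := by rw [← mul_assoc, key, one_mul]
    · apply n3
      calc xs * xh = xs * (xh * xz) * xz := by simp only [mul_assoc, xzz, mul_one]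
        _ = xz := by rw [key, one_mul]
  subst ha1
  rcases hb with hb | hb
  · refine ⟨c, d, hc, hd, ?_⟩
    rw [hg, hb]
    simp only [mul_assoc, one_mul]
  exfalso
  have hg3 : xl * (as * ah * (1 * b * c * d)) * xl = as := by
    rw [← hg]
    simp only [mul_assoc, xll, tail xll, one_mul, mul_one]
  have e3 : xl * (as * ah * (1 * b * c * d)) * xl = (xl * as * xl) * ah * (xl * (b * c * d) * xl) := by
    simp only [mul_assoc, one_mul, tail xll, u5, tail u5]
  rw [e3, hg] at hg3
  apply n1
  have key : xh * xz * as = as := by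
    rw [mul_assoc]
    rcases hc with hc | hc <;> rcases hd with hd | hd <;> rcases f2 with f2 | f2 <;>
  simp only [mul_assoc, hb, hc, hd, f2, r1, r2, r3, r4, r5, r6, s1, s2, s3, s4, s5, s6, s7, s8, s9, u1, u2, u3, u4,
        u5, ss, hh, xss, xhh, xll, xzz, tt, tail r1, tail r2, tail r3, tail r4, tail r5, tail r6, tail s1, tail s2,
        tail s3, tail s4, tail s5, tail s6, tail s7, tail s8, tail s9, tail u1, tail u2, tail u3, tail u4, tail u5,
        tail ss, tail hh, tail xss, tail xhh, tail xll, tail xzz, tail tt, one_mul, mul_one] at hg3 <;> exact hg3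
  have key2 : xh * xz = 1 := mul_eq_right.mp key
  calc xh = xh * (xz * xz) := by rw [xzz, mul_one]
    _ = xz := by rw [← mul_assoc, key2, one_mul]


/-- (T9), one side: `s, q` short at 120°, `h = s + q`; `[a_s, a_q] ∈ ⟨x_q⟩ ⟨a_h, x_h⟩`. -/
theorem t9a {t xs xq xh as aq ah v w : G} (K : Set G)
    (ss : as * as = 1) (qq : aq * aq = 1) (hh : ah * ah = 1) (xss : xs * xs = 1) (xhh : xh * xh = 1)
    (xqq : xq * xq = 1) (_tt : t * t = 1)
    (c1 : Commute t xs) (c2 : Commute t xq) (c3 : Commute t xh) (c4 : Commute xs xh) (c5 : Commute xq xh)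
    (c6 : xq * xs * xq = xs * xh)
    (d1 : Commute as xs) (d2 : Commute as xh) (d3 : Commute aq xq) (d4 : Commute aq xh) (d5 : Commute ah xs)
    (d6 : Commute ah xq) (d7 : Commute ah xh) (d8 : Commute as ah) (d9 : Commute aq ah)
    (ts : as * t * as = t * xs) (tq : aq * t * aq = t * xq) (th : ah * t * ah = t * xh)
    (f1 : as * xq * as = xq * v * ah) (f2 : v = 1 ∨ v = xh)
    (f3 : aq * xs * aq = xs * w * ah) (f4 : w = 1 ∨ w = xh)
    (n1 : xh ≠ 1)
    (k1 : ∀ k ∈ K, Commute as k) (k2 : ∀ k ∈ K, Commute aq k) (k3 : ∀ k ∈ K, Commute ah k)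
    (rig : ∀ e : G, Commute e t → (∀ k ∈ K, Commute e k) →
      ∃ a b c d, (a = 1 ∨ a = t) ∧ (b = 1 ∨ b = xs) ∧ (c = 1 ∨ c = xq) ∧ (d = 1 ∨ d = xh) ∧ e = a * b * c * d) :
    ∃ c d e, (c = 1 ∨ c = xq) ∧ (d = 1 ∨ d = xh) ∧ (e = 1 ∨ e = ah) ∧ as * aq * as * aq = c * d * e := by
  have r1 := flip ss ts
  have r2 := flip qq tq
  have r3 := flip hh th
  have r4 := flip xqq c6
  have r5 := flip ss f1
  have r6 := flip qq f3
  have s1 := c1.symm.eq
  have s2 := c2.symm.eq
  have s3 := c3.symm.eq
  have s4 := c4.symm.eq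
  have s5 := c5.symm.eq
  have u1 := d1.eq
  have u2 := d2.eq
  have u3 := d3.eq
  have u4 := d4.eq
  have u5 := d5.eq
  have u6 := d6.eq
  have u7 := d7.eq
  have u8 := d8.eq
  have u9 := d9.eq
  have hβ : ∃ β, (β = 1 ∨ β = ah) ∧ Commute (β * (as * aq * as * aq)) t := by
    by_cases hvw : v = w
    · refine ⟨ah, Or.inr rfl, ?_⟩
      show ah * (as * aq * as * aq) * t = t * (ah * (as * aq * as * aq))
      rcases f4 with f4 | f4 <;>
      simp only [mul_assoc, hvw, f4, r1, r2, r3, r4, r5, r6, s1, s2, s3, s4, s5, u1, u2, u3, u4, u5, u6, u7, u8, u9,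
        ss, qq, hh, xss, xhh, xqq, _tt, tail r1, tail r2, tail r3, tail r4, tail r5, tail r6, tail s1, tail s2, tail s3,
        tail s4, tail s5, tail u1, tail u2, tail u3, tail u4, tail u5, tail u6, tail u7, tail u8, tail u9, tail ss,
        tail qq, tail hh, tail xss, tail xhh, tail xqq, tail _tt, one_mul, mul_one]
    · refine ⟨1, Or.inl rfl, ?_⟩
      show 1 * (as * aq * as * aq) * t = t * (1 * (as * aq * as * aq))
      rcases f2 with f2 | f2 <;> rcases f4 with f4 | f4
      · exact absurd (f2.trans f4.symm) hvw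
      · simp only [mul_assoc, f2, f4, r1, r2, r3, r4, r5, r6, s1, s2, s3, s4, s5, u1, u2, u3, u4, u5, u6, u7, u8, u9,
          ss, qq, hh, xss, xhh, xqq, _tt, tail r1, tail r2, tail r3, tail r4, tail r5, tail r6, tail s1, tail s2,
          tail s3, tail s4, tail s5, tail u1, tail u2, tail u3, tail u4, tail u5, tail u6, tail u7, tail u8, tail u9,
          tail ss, tail qq, tail hh, tail xss, tail xhh, tail xqq, tail _tt, one_mul, mul_one]
      · simp only [mul_assoc, f2, f4, r1, r2, r3, r4, r5, r6, s1, s2, s3, s4, s5, u1, u2, u3, u4, u5, u6, u7, u8, u9,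
          ss, qq, hh, xss, xhh, xqq, _tt, tail r1, tail r2, tail r3, tail r4, tail r5, tail r6, tail s1, tail s2,
          tail s3, tail s4, tail s5, tail u1, tail u2, tail u3, tail u4, tail u5, tail u6, tail u7, tail u8, tail u9,
          tail ss, tail qq, tail hh, tail xss, tail xhh, tail xqq, tail _tt, one_mul, mul_one]
      · exact absurd (f2.trans f4.symm) hvw
  obtain ⟨β, hβ, hβt⟩ := hβ
  have hβs : Commute β as := by
    rcases hβ with hβ | hβ
    · rw [hβ]; exact Commute.one_left _
    · rw [hβ]; exact d8.symm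
  have hβk : ∀ k ∈ K, Commute (β * (as * aq * as * aq)) k := by
    intro k hk
    have h1 : Commute β k := by
      rcases hβ with hβ | hβ
      · rw [hβ]; exact Commute.one_left _
      · rw [hβ]; exact k3 k hk
    exact h1.mul_left ((((k1 k hk).mul_left (k2 k hk)).mul_left (k1 k hk)).mul_left (k2 k hk))
  obtain ⟨a, b, c, d, ha, hb, hc, hd, he⟩ := rig _ hβt hβk
  have hββ : β * β = 1 := by rcases hβ with hβ | hβ <;> simp [hβ, hh]
  have hg : as * aq * as * aq = β * (a * b * c * d) := by
    rw [← he, ← mul_assoc β β, hββ, one_mul]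
  -- commuting with `a_h`
  have hah : Commute (as * aq * as * aq) ah := ((d8.mul_left d9).mul_left d8).mul_left d9
  have hβh : Commute β ah := by
    rcases hβ with hβ | hβ
    · rw [hβ]; exact Commute.one_left _
    · rw [hβ]
  have hbh : Commute b ah := by
    rcases hb with hb | hb
    · rw [hb]; exact Commute.one_left _
    · rw [hb]; exact d5.symm
  have hch : Commute c ah := by
    rcases hc with hc | hc
    · rw [hc]; exact Commute.one_left _
    · rw [hc]; exact d6.symm
  have hdh : Commute d ah := by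
    rcases hd with hd | hd
    · rw [hd]; exact Commute.one_left _
    · rw [hd]; exact d7.symm
  have ha1 : a = 1 := by
    rcases ha with ha | ha
    · exact ha
    exfalso
    have h1 : Commute (a * b * c * d) ah := by
      rw [← he]
      exact hβh.mul_left hah
    have h2 : Commute t ah := by
      have e : t = a * b * c * d * d⁻¹ * c⁻¹ * b⁻¹ := by rw [ha]; group
      rw [e]
      exact ((h1.mul_left hdh.inv_left).mul_left hch.inv_left).mul_left hbh.inv_left
    apply n1
    have h3 : t * xh = t := by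
      rw [← th, ← h2.eq, mul_assoc, hh, mul_one]
    exact mul_eq_left.mp h3
  -- commuting with `a_s x_q a_s`
  have hξ : Commute (as * aq * as) (as * xq * as) := by
    show as * aq * as * (as * xq * as) = as * xq * as * (as * aq * as)
    simp only [mul_assoc, tail ss, one_mul]
    rw [← mul_assoc aq xq as, d3.eq, mul_assoc]
  have hv : Commute v xq := by
    rcases f2 with f2 | f2
    · rw [f2]; exact Commute.one_left _
    · rw [f2]; exact c5.symm
  have hb1 : b = 1 := by
    rcases hb with hb | hb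
    · exact hb
    exfalso
    have hg2 : as * aq * as = β * (b * c * d) * aq := by
      have : as * aq * as = (as * aq * as * aq) * aq := by rw [mul_assoc _ aq aq, qq, mul_one]
      rw [this, hg, ha1, one_mul]
    rw [hg2, f1] at hξ
    -- all factors but `b` commute with `x_q v a_h`
    have a1 : Commute β (xq * v * ah) := by
      have h1 : Commute β xq := by
        rcases hβ with hβ | hβ
        · rw [hβ]; exact Commute.one_left _
        · rw [hβ]; exact d6
      have h2 : Commute β v := by
        rcases hβ with hβ | hβ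
        · rw [hβ]; exact Commute.one_left _
        · rw [hβ]
          rcases f2 with f2 | f2
          · rw [f2]; exact Commute.one_right _
          · rw [f2]; exact d7
      exact (h1.mul_right h2).mul_right hβh
    have a2 : Commute aq (xq * v * ah) := by
      have h2 : Commute aq v := by
        rcases f2 with f2 | f2
        · rw [f2]; exact Commute.one_right _
        · rw [f2]; exact d4
      exact (d3.mul_right h2).mul_right d9
    have a3 : Commute c (xq * v * ah) := by
      rcases hc with hc | hc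
      · rw [hc]; exact Commute.one_left _
      · rw [hc]
        exact ((Commute.refl xq).mul_right hv.symm).mul_right d6.symm
    have a4 : Commute d (xq * v * ah) := by
      rcases hd with hd | hd
      · rw [hd]; exact Commute.one_left _
      · rw [hd]
        have h2 : Commute xh v := by
          rcases f2 with f2 | f2
          · rw [f2]; exact Commute.one_right _
          · rw [f2]
        exact (c5.symm.mul_right h2).mul_right d7.symm
    have a5 : Commute b (xq * v * ah) := by
      have e : b = β⁻¹ * (β * (b * c * d) * aq) * aq⁻¹ * d⁻¹ * c⁻¹ := by group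
      rw [e]
      exact ((((a1.inv_left.mul_left hξ).mul_left a2.inv_left).mul_left a4.inv_left).mul_left a3.inv_left)
    have a6 : Commute xs xq := by
      rw [← hb]
      have e : xq = xq * v * ah * ah⁻¹ * v⁻¹ := by group
      rw [e]
      have h2 : Commute b v := by
        rw [hb]
        rcases f2 with f2 | f2
        · rw [f2]; exact Commute.one_right _
        · rw [f2]; exact c4
      exact (a5.mul_right hbh.inv_right).mul_right h2.inv_right
    apply n1
    have h3 : xs * xh = xs := by rw [← c6, ← a6.eq, mul_assoc, xqq, mul_one]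
    exact mul_eq_left.mp h3
  refine ⟨c, d, β, hc, hd, hβ, ?_⟩
  rw [hg, ha1, hb1, one_mul, one_mul]
  have h1 : Commute β (c * d) := by
    rcases hβ with hβ | hβ
    · rw [hβ]; exact Commute.one_left _
    · rw [hβ]
      rw [hβ] at *
      exact hch.symm.mul_right hdh.symm
  exact h1.eq

/-- (T9): `s, q` short at 120°, `h = s + q`; `[a_s, a_q] ∈ ⟨a_h, x_h⟩`. -/
theorem t9 {t xs xq xh as aq ah v w : G} (K : Set G)
    (ss : as * as = 1) (qq : aq * aq = 1) (hh : ah * ah = 1) (xss : xs * xs = 1) (xhh : xh * xh = 1)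
    (xqq : xq * xq = 1) (tt : t * t = 1)
    (c1 : Commute t xs) (c2 : Commute t xq) (c3 : Commute t xh) (c4 : Commute xs xh) (c5 : Commute xq xh)
    (c6 : xq * xs * xq = xs * xh)
    (d1 : Commute as xs) (d2 : Commute as xh) (d3 : Commute aq xq) (d4 : Commute aq xh) (d5 : Commute ah xs)
    (d6 : Commute ah xq) (d7 : Commute ah xh) (d8 : Commute as ah) (d9 : Commute aq ah)
    (ts : as * t * as = t * xs) (tq : aq * t * aq = t * xq) (th : ah * t * ah = t * xh)
    (f1 : as * xq * as = xq * v * ah) (f2 : v = 1 ∨ v = xh)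
    (f3 : aq * xs * aq = xs * w * ah) (f4 : w = 1 ∨ w = xh)
    (n1 : xh ≠ 1)
    (k1 : ∀ k ∈ K, Commute as k) (k2 : ∀ k ∈ K, Commute aq k) (k3 : ∀ k ∈ K, Commute ah k)
    (rig : ∀ e : G, Commute e t → (∀ k ∈ K, Commute e k) →
      ∃ a b c d, (a = 1 ∨ a = t) ∧ (b = 1 ∨ b = xs) ∧ (c = 1 ∨ c = xq) ∧ (d = 1 ∨ d = xh) ∧ e = a * b * c * d) :
    ∃ d e, (d = 1 ∨ d = xh) ∧ (e = 1 ∨ e = ah) ∧ as * aq * as * aq = d * e := by
  have hsw : xq * xs = xs * xq * xh := by
    rw [flip xqq c6, mul_assoc, mul_assoc, c5.eq]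
  obtain ⟨c, d, e, hc, hd, he, h⟩ := t9a K ss qq hh xss xhh xqq tt c1 c2 c3 c4 c5 c6 d1 d2 d3 d4 d5 d6 d7 d8 d9
    ts tq th f1 f2 f3 f4 n1 k1 k2 k3 rig
  have c6' : xs * xq * xs = xq * xh := by
    have : xs * xq = xq * xs * xh := by
      rw [hsw, mul_assoc, xhh, mul_one]
    rw [this, mul_assoc, ← c4.eq, ← mul_assoc, mul_assoc xq, xss, mul_one]
  obtain ⟨c', d', e', hc', hd', he', h'⟩ := t9a (v := w) (w := v) K qq ss hh xqq xhh xss tt c2 c1 c3 c5 c4 c6'
    d3 d4 d1 d2 d6 d5 d7 d9 d8 tq ts th f3 f4 f1 f2 n1 k2 k1 k3 (by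
      intro g hg hK
      obtain ⟨a, b, c, d, ha, hb, hc, hd, hgg⟩ := rig g hg hK
      rcases hb with hb | hb
      · exact ⟨a, c, 1, d, ha, hc, Or.inl rfl, hd, by rw [hgg, hb, mul_one, mul_one]⟩
      · rcases hc with hc | hc
        · exact ⟨a, 1, b, d, ha, Or.inl rfl, Or.inr hb, hd, by rw [hgg, hc, mul_one, mul_one]⟩
        · refine ⟨a, c, b, xh * d, ha, Or.inr hc, Or.inr hb, ?_, ?_⟩
          · rcases hd with hd | hd
            · rw [hd]; right; rw [mul_one]
            · rw [hd]; left; exact xhh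
          · rw [hgg, hb, hc]
            have e1 : a * xq * xs * (xh * d) = a * (xq * xs) * (xh * d) := by rw [mul_assoc a xq xs]
            rw [e1, hsw]
            simp only [mul_assoc, tail xhh, one_mul])
  refine ⟨d, e, hd, he, ?_⟩
  have hprod : c * d * e * (c' * d' * e') = 1 := by
    rw [← h, ← h']
    simp only [mul_assoc, ss, qq, tail ss, tail qq, one_mul, mul_one]
  rcases hc with hc | hc
  · rw [h, hc, one_mul]
  exfalso
  have cm : ∀ {y p q : G}, (p = 1 ∨ p = xh) → (q = 1 ∨ q = ah) → Commute xh y → Commute ah y → Commute (p * q) y := by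
    intro y p q hp hq h1 h2
    refine Commute.mul_left ?_ ?_
    · rcases hp with hp | hp
      · rw [hp]; exact Commute.one_left _
      · rw [hp]; exact h1
    · rcases hq with hq | hq
      · rw [hq]; exact Commute.one_left _
      · rw [hq]; exact h2
  have D1 : Commute (d * e) xs := cm hd he c4.symm d5
  have D2 : Commute (d * e) xq := cm hd he c5.symm d6
  have D3 : Commute (d' * e') xs := cm hd' he' c4.symm d5
  have D4 : Commute (d' * e') xq := cm hd' he' c5.symm d6
  have hcomm : Commute xq xs := by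
    rcases hc' with hc' | hc'
    · have e1 : xq = (d' * e')⁻¹ * (d * e)⁻¹ := by
        rw [hc, hc'] at hprod
        have : xq * ((d * e) * (d' * e')) = 1 := by
          rw [← hprod]; simp only [mul_assoc, one_mul]
        rw [← mul_inv_rev]
        exact eq_inv_of_mul_eq_one_left this
      rw [e1]
      exact D3.inv_left.mul_left D1.inv_left
    · have e1 : xq * xs = (d' * e')⁻¹ * (d * e)⁻¹ := by
        rw [hc, hc'] at hprod
        have h2 : xq * xs * ((d * e) * (d' * e')) = 1 := by
          have : xs * ((d * e) * (d' * e')) = (d * e) * (xs * (d' * e')) := by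
            rw [← mul_assoc, ← D1.eq, mul_assoc]
          rw [mul_assoc, this, ← hprod]; simp only [mul_assoc]
        rw [← mul_inv_rev]
        exact eq_inv_of_mul_eq_one_left h2
      have h3 : Commute (xq * xs) xq := by
        rw [e1]
        exact D4.inv_left.mul_left D2.inv_left
      have h4 : Commute (xq⁻¹ * (xq * xs)) xq := ((Commute.refl xq).inv_left).mul_left h3
      rw [inv_mul_cancel_left] at h4
      exact h4.symm
  apply n1
  have h3 : xs * xh = xs := by rw [← c6, hcomm.eq, mul_assoc, xqq, mul_one]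
  exact mul_eq_left.mp h3

/-! ### Explicit forms of the elements of small closures -/

theorem form2 {x y g : G} (hx : x * x = 1) (hy : y * y = 1) (hxy : Commute x y)
    (hg : g ∈ Subgroup.closure ({x, y} : Set G)) : ∃ b c, (b = 1 ∨ b = x) ∧ (c = 1 ∨ c = y) ∧ g = b * c := by
  have key : ∀ u ∈ ({x, y} : Set G), ∀ v : G, (∃ b c, (b = 1 ∨ b = x) ∧ (c = 1 ∨ c = y) ∧ v = b * c) →
      ∃ b c, (b = 1 ∨ b = x) ∧ (c = 1 ∨ c = y) ∧ u * v = b * c := by
    rintro u (rfl | rfl) v ⟨b, c, hb, hc, rfl⟩
    · rcases hb with rfl | rfl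
      · exact ⟨u, c, Or.inr rfl, hc, by rw [one_mul]⟩
      · exact ⟨1, c, Or.inl rfl, hc, by rw [← mul_assoc, hx]⟩
    · have hbu : u * b = b * u := by
        rcases hb with rfl | rfl
        · rw [one_mul, mul_one]
        · exact hxy.symm.eq
      refine ⟨b, u * c, hb, ?_, by rw [← mul_assoc, hbu, mul_assoc]⟩
      rcases hc with rfl | rfl
      · right; rw [mul_one]
      · left; exact hy
  refine Subgroup.closure_induction_left (p := fun g _ => ∃ b c, (b = 1 ∨ b = x) ∧ (c = 1 ∨ c = y) ∧ g = b * c)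
    ⟨1, 1, Or.inl rfl, Or.inl rfl, by rw [one_mul]⟩ ?_ ?_ hg
  · intro u hu v _ hv
    exact key u hu v hv
  · intro u hu v _ hv
    have : u⁻¹ = u := by
      rcases hu with rfl | rfl
      · exact inv_eq_of_mul_eq_one_left hx
      · exact inv_eq_of_mul_eq_one_left hy
    rw [this]
    exact key u hu v hv

theorem form3 {x y z g : G} (hx : x * x = 1) (hy : y * y = 1) (hz : z * z = 1) (hxy : y * x = x * y * z ∨ y * x = x * y)
    (hxz : Commute x z) (hyz : Commute y z)
    (hg : g ∈ Subgroup.closure ({x, y, z} : Set G)) :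
    ∃ b c d, (b = 1 ∨ b = x) ∧ (c = 1 ∨ c = y) ∧ (d = 1 ∨ d = z) ∧ g = b * c * d := by
  have hzd : ∀ d : G, (d = 1 ∨ d = z) → (z * d = 1 ∨ z * d = z) := by
    rintro d (rfl | rfl)
    · right; rw [mul_one]
    · left; exact hz
  have key : ∀ u ∈ ({x, y, z} : Set G), ∀ v : G,
      (∃ b c d, (b = 1 ∨ b = x) ∧ (c = 1 ∨ c = y) ∧ (d = 1 ∨ d = z) ∧ v = b * c * d) →
      ∃ b c d, (b = 1 ∨ b = x) ∧ (c = 1 ∨ c = y) ∧ (d = 1 ∨ d = z) ∧ u * v = b * c * d := by
    rintro u (rfl | rfl | rfl) v ⟨b, c, d, hb, hc, hd, rfl⟩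
    · rcases hb with rfl | rfl
      · exact ⟨u, c, d, Or.inr rfl, hc, hd, by rw [one_mul, mul_assoc]⟩
      · exact ⟨1, c, d, Or.inl rfl, hc, hd, by rw [← mul_assoc, ← mul_assoc, hx]⟩
    · rcases hb with rfl | rfl
      · rcases hc with rfl | rfl
        · exact ⟨1, u, d, Or.inl rfl, Or.inr rfl, hd, by simp only [one_mul]⟩
        · exact ⟨1, 1, d, Or.inl rfl, Or.inl rfl, hd, by simp only [one_mul, tail hy]⟩
      · rcases hxy with hxy | hxy
        · rcases hc with rfl | rfl
          · exact ⟨b, u, z * d, Or.inr rfl, Or.inr rfl, hzd d hd, by simp only [mul_one, mul_assoc, tail hxy]⟩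
          · refine ⟨b, 1, z * d, Or.inr rfl, Or.inl rfl, hzd d hd, ?_⟩
            have := hyz.eq
            simp only [mul_one, mul_assoc, tail hxy, tail this.symm, tail hy, one_mul]
        · rcases hc with rfl | rfl
          · exact ⟨b, u, d, Or.inr rfl, Or.inr rfl, hd, by simp only [mul_one, mul_assoc, tail hxy]⟩
          · exact ⟨b, 1, d, Or.inr rfl, Or.inl rfl, hd, by simp only [mul_one, mul_assoc, tail hxy, tail hy, one_mul]⟩
    · refine ⟨b, c, u * d, hb, hc, hzd d hd, ?_⟩
      have h1 : u * b = b * u := by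
        rcases hb with rfl | rfl
        · rw [one_mul, mul_one]
        · exact hxz.symm.eq
      have h2 : u * c = c * u := by
        rcases hc with rfl | rfl
        · rw [one_mul, mul_one]
        · exact hyz.symm.eq
      simp only [mul_assoc, tail h1, tail h2]
  refine Subgroup.closure_induction_left (p := fun g _ =>
    ∃ b c d, (b = 1 ∨ b = x) ∧ (c = 1 ∨ c = y) ∧ (d = 1 ∨ d = z) ∧ g = b * c * d)
    ⟨1, 1, 1, Or.inl rfl, Or.inl rfl, Or.inl rfl, by simp only [one_mul]⟩ ?_ ?_ hg
  · intro u hu v _ hv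
    exact key u hu v hv
  · intro u hu v _ hv
    have : u⁻¹ = u := by
      rcases hu with rfl | rfl | rfl
      · exact inv_eq_of_mul_eq_one_left hx
      · exact inv_eq_of_mul_eq_one_left hy
      · exact inv_eq_of_mul_eq_one_left hz
    rw [this]
    exact key u hu v hv

end Cfsg.Agent.F42.RelObt
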