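import Cfsg.Agent.F42.RelSys
import Cfsg.Agent.F42.RelAcu

/-!
# The relations at 60° and 90° for all pairs

`Pre t X a` : the hypotheses of `RelSys.Sys` without (T7) and (T8); `Pre.sys : Sys t X a`.
-/

set_option autoImplicit false

namespace Cfsg.Agent.F42.RelPre

open Subgroup RelTab RelObt RelSys
open Cfsg.Agent.ChevalleyStructure.F4NTab (ct)
open Cfsg.Agent.FourTwo.Comm (cmg)

variable {G : Type*} [Group G]

structure Pre (t : G) (X a : ℕ → G) : Prop where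
  tt : t * t = 1
  xx : ∀ r, r < 48 → X r * X r = 1
  xt : ∀ r, r < 48 → Commute t (X r)
  comm : ∀ r s, r < 48 → s < 48 → r ≠ s → r + s ≠ 47 → X r * X s = X s * ((cmg r s).map X).prod * X r
  ne_one : ∀ r, r < 48 → X r ≠ 1
  inj : ∀ r s, r < 48 → s < 48 → X r = X s → r = s
  aa : ∀ s, s < 48 → lg s = false → a s * a s = 1
  tr : ∀ s, s < 48 → lg s = false → a s * t * a s = t * X s
  aF : ∀ s, s < 48 → lg s = false → ∀ b, b < 48 → F s b = true → Commute (a s) (X b)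
  /-- (T5) -/
  t5 : ∀ s q, s < 48 → q < 48 → p90 s q = true → a s * X q * a s = X q * X (sm s q)
  rig60 : ∀ s q, s < 48 → q < 48 → p60 s q = true → ∀ e : G, Commute e t →
    (∀ b, b < 48 → F s b = true → F q b = true → Commute e (X b)) →
    ∃ a b c, (a = 1 ∨ a = t) ∧ (b = 1 ∨ b = X s) ∧ (c = 1 ∨ c = X q) ∧ e = a * b * c
  rig90 : ∀ s q, s < 48 → q < 48 → p90 s q = true → ∀ e : G, Commute e t →
    (∀ b, b < 48 → F s b = true → F q b = true → Commute e (X b)) →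
    ∃ a b c d, (a = 1 ∨ a = t) ∧ (b = 1 ∨ b = X s) ∧ (c = 1 ∨ c = X q) ∧ (d = 1 ∨ d = X (sm s q)) ∧ e = a * b * c * d
  rig120 : ∀ s q, s < 48 → q < 48 → p120 s q = true → ∀ e : G, Commute e t →
    (∀ b, b < 48 → F s b = true → F q b = true → Commute e (X b)) →
    ∃ a b c d, (a = 1 ∨ a = t) ∧ (b = 1 ∨ b = X s) ∧ (c = 1 ∨ c = X q) ∧ (d = 1 ∨ d = X (sm s q)) ∧ e = a * b * c * d

/-! ### Tables -/

/-- facts on a pair at 90°, `b = r - s` -/
def f90 (s q z b : ℕ) : Bool :=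
  decide (z < 48) && decide (b < 48) && !lg s && !lg q && cb s q && cb s z && cb q z && F s s && F q q && F s z && F q z &&
    p90 q s && decide (sm q s = z) && decide (s ≠ z) && decide (b ≠ s) && decide (b ≠ q) && decide (b ≠ z) &&
    cb b s && cb b z && decide (b + q ≠ 47) && decide (cmg b q = [s, z])

theorem f90_tab : all2 (fun s q => !p90 s q || f90 s q (sm s q) (sm s (47 - q))) = true := by decide +kernel

/-- facts on a pair at 60°, `p = s - q` -/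
def f60 (s q p : ℕ) : Bool :=
  decide (p < 48) && !lg s && !lg q && cb s q && cb p s && decide (p ≠ q) && decide (p + q ≠ 47) &&
    decide (cmg p q = [s]) && F s s && F s q && F q s && F q q && decide (s ≠ q) &&
    (List.range 48).all fun b => !(F s b && F q b) || (!(Nat.beq p b) && !(Nat.beq (p + b) 47) && (cmg p b).all (F q))

theorem f60_tab : all2 (fun s q => !p60 s q || f60 s q (sm s (47 - q))) = true := by decide +kernel

/-- the third root for (T7) -/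
def f7 (s q r p z : ℕ) : Bool :=
  decide (p < 48) && decide (z < 48) && !lg r && p60 q r && p90 s r && p90 r s && decide (sm r s = z) && cb s r &&
    cb s z && cb s p && cb q r && cb q z && cb q p && cb r z && decide (p ≠ r) && decide (p + r ≠ 47) &&
    decide (cmg p r = [q]) && cb z p && F s z && F s p && F r q && F r r && F r z && F q z && decide (q ≠ z)

theorem f7_tab : all2 (fun s q => !p60 s q ||
    (List.range 48).any fun r => f7 s q r (sm q (47 - r)) (sm s r)) = true := by decide +kernel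

namespace Pre

variable {t : G} {X a : ℕ → G} (S : Pre t X a)
include S

theorem xcomm {r s : ℕ} (hr : r < 48) (hs : s < 48) (h : cb r s = true) : Commute (X r) (X s) := by
  obtain ⟨hc, h⟩ := cb_spec h
  by_cases hrs : r = s
  · rw [hrs]
  · have := S.comm r s hr hs hrs h
    rw [hc, List.map_nil, List.prod_nil, mul_one] at this
    exact this

theorem conj_x {r s : ℕ} (hr : r < 48) (hs : s < 48) (h1 : r ≠ s) (h2 : r + s ≠ 47) :
    X r * X s * X r = X s * ((cmg r s).map X).prod := by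
  rw [S.comm r s hr hs h1 h2, mul_assoc, S.xx r hr, mul_one]

theorem ne_mul {s q : ℕ} (hs : s < 48) (hq : q < 48) (hp : p90 s q = true) : X s * X q ≠ X (sm s q) := by
  have hf := imp_of (all2_spec f90_tab hs hq) hp
  generalize sm s q = z at hf ⊢
  generalize sm s (47 - q) = b at hf
  unfold f90 at hf
  simp only [Bool.and_eq_true, decide_eq_true_eq, Bool.not_eq_true'] at hf
  obtain ⟨⟨⟨⟨⟨⟨⟨⟨⟨⟨⟨⟨⟨⟨⟨⟨⟨⟨⟨⟨hz, hb⟩, l1⟩, l2⟩, b1⟩, b2⟩, b3⟩, F1⟩, F2⟩, F3⟩, F4⟩, q1⟩, z1⟩, n1⟩, n2⟩, n3⟩, n4⟩, b4⟩, b5⟩,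
    n5⟩, m1⟩ := hf
  intro h
  have h1 : Commute (X b) (X q) := by
    have e : X q = X s * X z := by rw [← h, ← mul_assoc, S.xx s hs, one_mul]
    rw [e]
    exact (S.xcomm hb hs b4).mul_right (S.xcomm hb hz b5)
  have h2 := S.conj_x hb hq n3 n5
  rw [m1, h1.eq, mul_assoc, S.xx b hb, mul_one] at h2
  simp only [List.map_cons, List.map_nil, List.prod_cons, List.prod_nil, mul_one] at h2
  have h3 : X s * X z = 1 := mul_eq_left.mp h2.symm
  apply n1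
  apply S.inj s z hs hz
  calc X s = X s * (X z * X z) := by rw [S.xx z hz, mul_one]
    _ = X z := by rw [← mul_assoc, h3, one_mul]

/-- (T8) -/
theorem t8 {s q : ℕ} (hs : s < 48) (hq : q < 48) (hp : p90 s q = true) :
    ∃ w, (w = 1 ∨ w = X (sm s q)) ∧ a s * a q * a s = a q * w := by
  have hf := imp_of (all2_spec f90_tab hs hq) hp
  have h5 := S.t5 s q hs hq hp
  have hrig := S.rig90 s q hs hq hp
  generalize sm s (47 - q) = b at hf
  have h5' := S.t5 q s hq hs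
  generalize sm s q = z at *
  unfold f90 at hf
  simp only [Bool.and_eq_true, decide_eq_true_eq, Bool.not_eq_true'] at hf
  obtain ⟨⟨⟨⟨⟨⟨⟨⟨⟨⟨⟨⟨⟨⟨⟨⟨⟨⟨⟨⟨hz, hb⟩, l1⟩, l2⟩, b1⟩, b2⟩, b3⟩, F1⟩, F2⟩, F3⟩, F4⟩, q1⟩, z1⟩, n1⟩, n2⟩, n3⟩, n4⟩, b4⟩, b5⟩,
    n5⟩, m1⟩ := hf
  have h5'' := h5' q1
  rw [z1] at h5''
  refine RelAcu.t8 (t := t) {g | ∃ b, b < 48 ∧ F s b = true ∧ F q b = true ∧ g = X b} (S.aa s hs l1)
    (S.aa q hq l2) (S.xx s hs) (S.xx q hq) (S.xx z hz) S.tt (S.xt s hs) (S.xt q hq) (S.xt z hz)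
    (S.xcomm hs hq b1) (S.xcomm hs hz b2) (S.xcomm hq hz b3) (S.aF s hs l1 s hs F1) (S.aF q hq l2 q hq F2)
    (S.aF s hs l1 z hz F3) (S.aF q hq l2 z hz F4) (S.tr s hs l1) (S.tr q hq l2) h5 h5'' (S.ne_one s hs)
    (S.ne_one z hz) (fun e => n1 (S.inj s z hs hz e)) ?_ ?_ ?_
  · rintro _ ⟨b, hb, hb1, -, rfl⟩
    exact S.aF s hs l1 b hb hb1
  · rintro _ ⟨b, hb, -, hb2, rfl⟩
    exact S.aF q hq l2 b hb hb2
  · intro e he hk
    exact hrig e he fun b hb hb1 hb2 => hk _ ⟨b, hb, hb1, hb2, rfl⟩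

/-- the product of two new elements at 60° -/
theorem t7a {s q : ℕ} (hs : s < 48) (hq : q < 48) (hp : p60 s q = true) :
    ∃ a' b c, (a' = 1 ∨ a' = t) ∧ (b = 1 ∨ b = X s) ∧ (c = 1 ∨ c = X q) ∧
      a s * a q = X (sm s (47 - q)) * a q * X (sm s (47 - q)) * (a' * b * c) := by
  have hf := imp_of (all2_spec f60_tab hs hq) hp
  generalize sm s (47 - q) = p at hf ⊢
  unfold f60 at hf
  simp only [Bool.and_eq_true, decide_eq_true_eq, Bool.not_eq_true', List.all_eq_true, Bool.or_eq_true] at hf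
  obtain ⟨⟨⟨⟨⟨⟨⟨⟨⟨⟨⟨⟨⟨hp', l1⟩, l2⟩, b1⟩, b2⟩, n1⟩, n2⟩, m1⟩, F1⟩, F2⟩, F3⟩, F4⟩, n3⟩, hK⟩ := hf
  refine RelAcu.t7a (t := t) {g | ∃ b, b < 48 ∧ F s b = true ∧ F q b = true ∧ g = X b} (S.aa s hs l1)
    (S.aa q hq l2) (S.xx p hp') (S.xt p hp') (S.xcomm hs hq b1) ?_ (S.aF s hs l1 q hq F2) (S.tr s hs l1)
    (S.tr q hq l2) ?_ ?_ ?_ ?_
  · rw [S.conj_x hp' hq n1 n2, m1]
    simp
  · rintro _ ⟨b, hb, hb1, -, rfl⟩
    exact S.aF s hs l1 b hb hb1
  · rintro _ ⟨b, hb, -, hb2, rfl⟩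
    exact S.aF q hq l2 b hb hb2
  · rintro _ ⟨b, hb, hb1, hb2, rfl⟩
    have h1 := hK b (List.mem_range.2 hb)
    rcases h1 with h1 | ⟨⟨e1, e2⟩, e3⟩
    · rw [hb1, hb2] at h1; exact Bool.noConfusion h1
    have e1' : p ≠ b := fun e => by rw [e, Nat.beq_refl] at e1; exact Bool.noConfusion e1
    have e2' : p + b ≠ 47 := fun e => by rw [e] at e2; exact Bool.noConfusion e2
    rw [S.conj_x hp' hb e1' e2']
    exact (S.aF q hq l2 b hb hb2).mul_right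
      (Sys.commute_prod fun c hc => S.aF q hq l2 c (cmg_lt hp' hb hc) (e3 c hc))
  · intro e he hk
    exact S.rig60 s q hs hq hp e he fun b hb hb1 hb2 => hk _ ⟨b, hb, hb1, hb2, rfl⟩

theorem t7b {s q : ℕ} (hs : s < 48) (hq : q < 48) (hp : p60 s q = true) :
    Commute (a s) (a q) ∨ a s * a q * a s * a q = X s * X q := by
  have h := S.t7a hs hq hp
  have hf := imp_of (all2_spec f60_tab hs hq) hp
  generalize sm s (47 - q) = p at hf h
  unfold f60 at hf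
  simp only [Bool.and_eq_true, decide_eq_true_eq, Bool.not_eq_true', List.all_eq_true, Bool.or_eq_true] at hf
  obtain ⟨⟨⟨⟨⟨⟨⟨⟨⟨⟨⟨⟨⟨hp', l1⟩, l2⟩, b1⟩, b2⟩, n1⟩, n2⟩, m1⟩, F1⟩, F2⟩, F3⟩, F4⟩, n3⟩, hK⟩ := hf
  refine RelAcu.t7b (t := t) (xp := X p) (S.aa q hq l2) (S.aa s hs l1) (S.xx s hs) (S.xx q hq) (S.xx p hp') S.tt
    (S.xt s hs) (S.xt q hq) (S.xt p hp') (S.xcomm hs hq b1) ?_ (S.xcomm hp' hs b2) (S.aF q hq l2 s hs F3)
    (S.aF q hq l2 q hq F4) (S.tr q hq l2) h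
  rw [S.conj_x hp' hq n1 n2, m1]
  simp

/-- (T7) -/
theorem t7 {s q : ℕ} (hs : s < 48) (hq : q < 48) (hp : p60 s q = true) : Commute (a s) (a q) := by
  rcases S.t7b hs hq hp with h | h
  · exact h
  exfalso
  have hf := imp_of (all2_spec f60_tab hs hq) hp
  have h7 := imp_of (all2_spec f7_tab hs hq) hp
  rw [List.any_eq_true] at h7
  obtain ⟨r, hr, h7⟩ := h7
  rw [List.mem_range] at hr
  unfold f60 at hf
  simp only [Bool.and_eq_true, decide_eq_true_eq, Bool.not_eq_true', List.all_eq_true, Bool.or_eq_true] at hf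
  obtain ⟨⟨⟨⟨⟨⟨⟨⟨⟨⟨⟨⟨⟨-, l1⟩, l2⟩, b1⟩, -⟩, -⟩, -⟩, -⟩, F1⟩, F2⟩, F3⟩, F4⟩, n3⟩, -⟩ := hf
  have h8 := S.t8 hs hr
  have h5 := S.t5 s r hs hr
  have h23 := S.t7a hq hr
  generalize sm q (47 - r) = p at h7 h23
  generalize sm s r = z at *
  unfold f7 at h7
  simp only [Bool.and_eq_true, decide_eq_true_eq, Bool.not_eq_true'] at h7
  obtain ⟨⟨⟨⟨⟨⟨⟨⟨⟨⟨⟨⟨⟨⟨⟨⟨⟨⟨⟨⟨⟨⟨⟨⟨hp', hz⟩, l3⟩, q1⟩, q2⟩, q3⟩, z1⟩, b2⟩, b3⟩, b4⟩, b5⟩, b6⟩, b7⟩, b8⟩, n4⟩, n5⟩, m1⟩, b9⟩,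
    F5⟩, F6⟩, F7⟩, F8⟩, F9⟩, F10⟩, n6⟩ := h7
  obtain ⟨w, hw, hw'⟩ := h8 q2
  have h5' := S.t5 r s hr hs q3
  rw [z1] at h5'
  have hn1 : X s * X q ≠ 1 := by
    intro e
    apply n3
    apply S.inj s q hs hq
    calc X s = X s * (X q * X q) := by rw [S.xx q hq, mul_one]
      _ = X q := by rw [← mul_assoc, e, one_mul]
  have haz := S.aF r hr l3 z hz F9
  have haq := S.aF r hr l3 q hq F7
  refine RelAcu.t7c (S.aa s hs l1) (S.aa q hq l2) (S.aa r hr l3) (S.xx q hq) (S.xx r hr) (S.xx z hz) (S.xx p hp') S.tt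
    (S.xt s hs) (S.xt q hq) (S.xt r hr) (S.xt z hz) (S.xt p hp') (S.xcomm hs hq b1) (S.xcomm hs hr b2)
    (S.xcomm hs hz b3) (S.xcomm hs hp' b4) (S.xcomm hq hr b5) (S.xcomm hq hz b6) (S.xcomm hq hp' b7)
    (S.xcomm hr hz b8) ?_ (S.xcomm hz hp' b9) (S.tr s hs l1) (S.tr r hr l3) (S.aF s hs l1 s hs F1)
    (S.aF s hs l1 q hq F2) (S.aF s hs l1 z hz F5) (S.aF s hs l1 p hp' F6) (h5 q2) h5' haq
    (S.aF r hr l3 r hr F8) haz (S.aF q hq l2 z hz F10) hw hw' (h23 q1) hn1 ?_ (S.ne_one q hq)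
    (fun e => n6 (S.inj q z hq hz e)) h
  · rw [S.conj_x hp' hr n4 n5, m1]
    simp
  · intro e
    apply hn1
    have h1 : a r * (X s * X q) * a r = X z := by
      rw [e, haz.eq, mul_assoc, S.aa r hr l3, mul_one]
    have h2 : a r * (X s * X q) * a r = X s * X z * X q := by
      calc a r * (X s * X q) * a r = a r * X s * (X q * a r) := by simp only [mul_assoc]
        _ = a r * X s * a r * X q := by rw [← haq.eq, ← mul_assoc]
        _ = X s * X z * X q := by rw [h5']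
    rw [h2, (S.xcomm hs hz b3).eq, mul_assoc] at h1
    exact mul_eq_left.mp h1

/-- All relations. -/
theorem sys : Sys t X a where
  tt := S.tt
  xx := S.xx
  xt := S.xt
  comm := S.comm
  ne_one := S.ne_one
  inj := S.inj
  ne_mul _ _ hr hs hp := S.ne_mul hr hs hp
  aa := S.aa
  tr := S.tr
  aF := S.aF
  t5 := S.t5
  t7 _ _ hs hq hp := S.t7 hs hq hp
  t8 _ _ hs hq hp := S.t8 hs hq hp
  rig60 := S.rig60
  rig90 := S.rig90
  rig120 := S.rig120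

end Pre

end Cfsg.Agent.F42.RelPre
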