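import Cfsg.Agent.F42.RelTab
import Cfsg.Agent.F42.RelObt
import Cfsg.Agent.F42.RootChain

/-!
# The root groups of the case SHORT

`Sys t X a`: `X r` the root elements of `L`, `a s` (`s` short) the new elements; the relations at 45°, 60°, 90° and
the rigidity of the pairs are part of the data.  `Sys.toRootData`: the relations at 120° and 135° and the data of
`RootChain`.
-/

set_option autoImplicit false

namespace Cfsg.Agent.F42.RelSys

open Subgroup RelTab RelObt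
open Cfsg.Agent.ChevalleyStructure.F4NTab (ct)
open Cfsg.Agent.FourTwo.Comm (cmg)

variable {G : Type*} [Group G]

structure Sys (t : G) (X a : ℕ → G) : Prop where
  tt : t * t = 1
  xx : ∀ r, r < 48 → X r * X r = 1
  xt : ∀ r, r < 48 → Commute t (X r)
  comm : ∀ r s, r < 48 → s < 48 → r ≠ s → r + s ≠ 47 → X r * X s = X s * ((cmg r s).map X).prod * X r
  ne_one : ∀ r, r < 48 → X r ≠ 1
  inj : ∀ r s, r < 48 → s < 48 → X r = X s → r = s
  ne_mul : ∀ r s, r < 48 → s < 48 → p90 r s = true → X r * X s ≠ X (sm r s)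
  aa : ∀ s, s < 48 → lg s = false → a s * a s = 1
  tr : ∀ s, s < 48 → lg s = false → a s * t * a s = t * X s
  aF : ∀ s, s < 48 → lg s = false → ∀ b, b < 48 → F s b = true → Commute (a s) (X b)
  /-- (T5) -/
  t5 : ∀ s q, s < 48 → q < 48 → p90 s q = true → a s * X q * a s = X q * X (sm s q)
  /-- (T7) -/
  t7 : ∀ s q, s < 48 → q < 48 → p60 s q = true → Commute (a s) (a q)
  /-- (T8) -/
  t8 : ∀ s q, s < 48 → q < 48 → p90 s q = true → ∃ w, (w = 1 ∨ w = X (sm s q)) ∧ a s * a q * a s = a q * w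
  rig60 : ∀ s q, s < 48 → q < 48 → p60 s q = true → ∀ e : G, Commute e t →
    (∀ b, b < 48 → F s b = true → F q b = true → Commute e (X b)) →
    ∃ a b c, (a = 1 ∨ a = t) ∧ (b = 1 ∨ b = X s) ∧ (c = 1 ∨ c = X q) ∧ e = a * b * c
  rig90 : ∀ s q, s < 48 → q < 48 → p90 s q = true → ∀ e : G, Commute e t →
    (∀ b, b < 48 → F s b = true → F q b = true → Commute e (X b)) →
    ∃ a b c d, (a = 1 ∨ a = t) ∧ (b = 1 ∨ b = X s) ∧ (c = 1 ∨ c = X q) ∧ (d = 1 ∨ d = X (sm s q)) ∧ e = a * b * c * d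
  rig120 : ∀ s q, s < 48 → q < 48 → p120 s q = true → ∀ e : G, Commute e t →
    (∀ b, b < 48 → F s b = true → F q b = true → Commute e (X b)) →
    ∃ a b c d, (a = 1 ∨ a = t) ∧ (b = 1 ∨ b = X s) ∧ (c = 1 ∨ c = X q) ∧ (d = 1 ∨ d = X (sm s q)) ∧ e = a * b * c * d

/-! ### Table facts -/

/-- commuting root elements -/
def cb (r s : ℕ) : Bool := decide (cmg r s = []) && decide (r + s ≠ 47)

theorem cb_spec {r s : ℕ} (h : cb r s = true) : cmg r s = [] ∧ r + s ≠ 47 := by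
  unfold cb at h
  simpa only [Bool.and_eq_true, decide_eq_true_eq] using h

/-- all facts on a pair at 120° -/
def f120 (s q h : ℕ) : Bool :=
  decide (h < 48) && cb s h && cb q h && F s s && F s h && F h s && F h h && F h q && F q q && F q h &&
    p60 s h && p60 q h && decide (s ≠ h) && decide (s ≠ q) && decide (s + q ≠ 47) && decide (cmg q s = [h]) &&
    decide (cmg s q = [h]) && !lg s && !lg q && !lg h

theorem f120_tab : all2 (fun s q => !p120 s q || f120 s q (sm s q)) = true := by decide +kernel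

/-- all facts on a pair at 135° -/
def f135 (s l h z : ℕ) : Bool :=
  decide (h < 48) && decide (z < 48) && cb s h && cb s z && cb h z && cb l h && cb l z &&
    F s s && F h h && F s z && F h z && F h l && decide (s ≠ h) && decide (h ≠ z) && decide (s ≠ l) &&
    decide (s + l ≠ 47) && p90 s h && p90 h s && decide (sm h s = z) && decide (sm s h = z) &&
    decide (cmg l s = [h, z]) && !lg s && !lg h

theorem f135_tab : all2 (fun s l => !p135 s l || f135 s l (sm s l) (sm s (sm s l))) = true := by decide +kernel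

theorem cmg_tab : all2 (fun r s => (cmg r s).all fun c => Nat.blt c 48) = true := by decide +kernel

theorem cmg_lt {r s c : ℕ} (hr : r < 48) (hs : s < 48) (hc : c ∈ cmg r s) : c < 48 := by
  have h := all2_spec cmg_tab hr hs
  rw [List.all_eq_true] at h
  simpa using h c hc

theorem imp_of {a b : Bool} (h : (!a || b) = true) (ha : a = true) : b = true := by
  rw [ha] at h; simpa using h

namespace Sys

theorem commute_prod {X : ℕ → G} {g : G} {w : List ℕ} (h : ∀ c ∈ w, Commute g (X c)) :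
    Commute g (w.map X).prod := by
  induction w with
  | nil => exact Commute.one_right _
  | cons c w ih =>
    rw [List.map_cons, List.prod_cons]
    exact (h c List.mem_cons_self).mul_right (ih fun c' hc' => h c' (List.mem_cons_of_mem _ hc'))

variable {t : G} {X a : ℕ → G} (S : Sys t X a)
include S

theorem xcomm {r s : ℕ} (hr : r < 48) (hs : s < 48) (h : cb r s = true) : Commute (X r) (X s) := by
  obtain ⟨hc, h⟩ := cb_spec h
  by_cases hrs : r = s
  · rw [hrs]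
  · have := S.comm r s hr hs hrs h
    rw [hc, List.map_nil, List.prod_nil, mul_one] at this
    exact this

theorem conj_x {r s : ℕ} (hr : r < 48) (hs : s < 48) (h1 : r ≠ s) (h2 : r + s ≠ 47) :
    X r * X s * X r = X s * ((cmg r s).map X).prod := by
  rw [S.comm r s hr hs h1 h2, mul_assoc, S.xx r hr, mul_one]

/-- (T6) -/
theorem t6 {s q : ℕ} (hs : s < 48) (hq : q < 48) (hp : p120 s q = true) :
    ∃ c, (c = 1 ∨ c = X (sm s q)) ∧ X q * a s * X q = a s * a (sm s q) * c := by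
  have hf := imp_of (all2_spec f120_tab hs hq) hp
  have hK := imp_of (all2_spec tab120 hs hq) hp
  simp only [Bool.and_eq_true] at hK
  obtain ⟨-, hK⟩ := hK
  rw [List.all_eq_true] at hK
  generalize sm s q = h at hf hK ⊢
  unfold f120 at hf
  simp only [Bool.and_eq_true, decide_eq_true_eq, Bool.not_eq_true'] at hf
  obtain ⟨⟨⟨⟨⟨⟨⟨⟨⟨⟨⟨⟨⟨⟨⟨⟨⟨⟨⟨hh, b1⟩, b2⟩, F1⟩, F2⟩, F3⟩, F4⟩, F5⟩, F6⟩, F7⟩, q1⟩, q2⟩, n1⟩, n2⟩, n3⟩, m1⟩, m2⟩, l1⟩, l2⟩, l3⟩ := hf
  refine RelObt.t6 (t := t) {g | ∃ b, b < 48 ∧ F s b = true ∧ F h b = true ∧ g = X b} (S.aa s hs l1) (S.aa h hh l3)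
    (S.xx s hs) (S.xx h hh) (S.xx q hq) S.tt (S.xt s hs) (S.xt q hq) (S.xt h hh) (S.xcomm hs hh b1)
    (S.xcomm hq hh b2) ?_ (S.aF s hs l1 s hs F1) (S.aF s hs l1 h hh F2) (S.aF h hh l3 s hs F3)
    (S.aF h hh l3 h hh F4) (S.aF h hh l3 q hq F5) (S.t7 s h hs hh q1) (S.tr s hs l1) (S.tr h hh l3)
    (S.ne_one h hh) (fun e => n1 (S.inj s h hs hh e)) ?_ ?_ ?_ ?_
  · rw [S.conj_x hq hs (Ne.symm n2) (by omega), m1]
    simp
  · rintro _ ⟨b, hb, hb1, -, rfl⟩
    exact S.aF s hs l1 b hb hb1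
  · rintro _ ⟨b, hb, -, hb2, rfl⟩
    exact S.aF h hh l3 b hb hb2
  · rintro _ ⟨b, hb, hb1, hb2, rfl⟩
    have h1 := imp_of (hK b (List.mem_range.2 hb)) (by rw [hb1, hb2]; rfl)
    simp only [Bool.and_eq_true, Bool.not_eq_true', List.all_eq_true] at h1
    obtain ⟨⟨e1, e2⟩, e3⟩ := h1
    have e1' : q ≠ b := fun e => by rw [e, Nat.beq_refl] at e1; exact Bool.noConfusion e1
    have e2' : q + b ≠ 47 := fun e => by rw [e] at e2; exact Bool.noConfusion e2
    rw [S.conj_x hq hb e1' e2']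
    exact (S.aF s hs l1 b hb hb1).mul_right (commute_prod fun c hc => S.aF s hs l1 c (cmg_lt hq hb hc) (e3 c hc))
  · intro e he hk
    exact S.rig60 s h hs hh q1 e he fun b hb hb1 hb2 => hk _ ⟨b, hb, hb1, hb2, rfl⟩

/-- (T3) -/
theorem t3 {s l : ℕ} (hs : s < 48) (hl : l < 48) (hp : p135 s l = true) :
    ∃ c d, (c = 1 ∨ c = X (sm s l)) ∧ (d = 1 ∨ d = X (sm s (sm s l))) ∧
      X l * a s * X l = a s * a (sm s l) * c * d := by
  have hf := imp_of (all2_spec f135_tab hs hl) hp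
  have hK := imp_of (all2_spec tab135 hs hl) hp
  simp only [Bool.and_eq_true] at hK
  obtain ⟨-, hK⟩ := hK
  rw [List.all_eq_true] at hK
  generalize sm s l = h at hf hK ⊢
  unfold f135 at hf
  simp only [Bool.and_eq_true, decide_eq_true_eq, Bool.not_eq_true'] at hf
  obtain ⟨⟨⟨⟨⟨⟨⟨⟨⟨⟨⟨⟨⟨⟨⟨⟨⟨⟨⟨⟨⟨⟨hh, hz⟩, b1⟩, b2⟩, b3⟩, b4⟩, b5⟩, F1⟩, F2⟩, F3⟩, F4⟩, F5⟩, n1⟩, n2⟩, n3⟩, n4⟩, q1⟩, q2⟩,
    z1⟩, z2⟩, m1⟩, l1⟩, l3⟩ := hf
  obtain ⟨w, hw, hw2⟩ := S.t8 s h hs hh q1
  have h5 := S.t5 s h hs hh q1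
  have h5' := S.t5 h s hh hs q2
  rw [z1] at h5'
  have hrig := S.rig90 s h hs hh q1
  have hne := S.ne_mul s h hs hh q1
  generalize sm s h = z at *
  refine RelObt.t3 (t := t) (w := w) {g | ∃ b, b < 48 ∧ F s b = true ∧ F h b = true ∧ g = X b} (S.aa s hs l1)
    (S.aa h hh l3) (S.xx s hs) (S.xx h hh) (S.xx l hl) (S.xx z hz) S.tt (S.xt s hs) (S.xt l hl) (S.xt h hh)
    (S.xt z hz) (S.xcomm hs hh b1) (S.xcomm hs hz b2) (S.xcomm hh hz b3) (S.xcomm hl hh b4) (S.xcomm hl hz b5) ?_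
    (S.aF s hs l1 s hs F1) (S.aF h hh l3 h hh F2) (S.aF s hs l1 z hz F3) (S.aF h hh l3 z hz F4)
    (S.aF h hh l3 l hl F5) (S.tr s hs l1) (S.tr h hh l3) ?_ ?_ hw2 hw ?_ ?_ ?_ ?_ ?_ ?_ ?_
  · rw [S.conj_x hl hs (Ne.symm n3) (by omega), m1]
    simp [mul_assoc]
  · exact h5
  · exact h5'
  · exact fun e => n2 (S.inj h z hh hz e)
  · exact fun e => n1 (S.inj s h hs hh e)
  · exact hne
  · rintro _ ⟨b, hb, hb1, -, rfl⟩
    exact S.aF s hs l1 b hb hb1
  · rintro _ ⟨b, hb, -, hb2, rfl⟩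
    exact S.aF h hh l3 b hb hb2
  · rintro _ ⟨b, hb, hb1, hb2, rfl⟩
    have h1 := imp_of (hK b (List.mem_range.2 hb)) (by rw [hb1, hb2]; rfl)
    simp only [Bool.and_eq_true, Bool.not_eq_true', List.all_eq_true] at h1
    obtain ⟨⟨e1, e2⟩, e3⟩ := h1
    have e1' : l ≠ b := fun e => by rw [e, Nat.beq_refl] at e1; exact Bool.noConfusion e1
    have e2' : l + b ≠ 47 := fun e => by rw [e] at e2; exact Bool.noConfusion e2
    rw [S.conj_x hl hb e1' e2']
    exact (S.aF s hs l1 b hb hb1).mul_right (commute_prod fun c hc => S.aF s hs l1 c (cmg_lt hl hb hc) (e3 c hc))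
  · intro e he hk
    exact hrig e he fun b hb hb1 hb2 => hk _ ⟨b, hb, hb1, hb2, rfl⟩

/-- (T6) in the other form: `a_s x_q a_s = x_q c a_h` -/
theorem t6' {s q : ℕ} (hs : s < 48) (hq : q < 48) (hp : p120 s q = true) :
    ∃ c, (c = 1 ∨ c = X (sm s q)) ∧ a s * X q * a s = X q * c * a (sm s q) := by
  obtain ⟨c, hc, h⟩ := S.t6 hs hq hp
  have hf := imp_of (all2_spec f120_tab hs hq) hp
  generalize sm s q = h' at *
  unfold f120 at hf
  simp only [Bool.and_eq_true, decide_eq_true_eq, Bool.not_eq_true'] at hf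
  obtain ⟨⟨⟨⟨⟨⟨⟨⟨⟨⟨⟨⟨⟨⟨⟨⟨⟨⟨⟨hh, b1⟩, b2⟩, F1⟩, F2⟩, F3⟩, F4⟩, F5⟩, F6⟩, F7⟩, q1⟩, q2⟩, n1⟩, n2⟩, n3⟩, m1⟩, m2⟩, l1⟩, l2⟩, l3⟩ := hf
  refine ⟨c, hc, ?_⟩
  have e1 : a s * X q * a s = a s * (X q * a s * X q) * X q := by
    simp only [mul_assoc, S.xx q hq, mul_one]
  have hc1 : Commute c (X q) := by
    rcases hc with hc | hc
    · rw [hc]; exact Commute.one_left _
    · rw [hc]; exact (S.xcomm hq hh b2).symm
  have hc2 : Commute (a h') (X q) := S.aF h' hh l3 q hq F5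
  have hc3 : Commute (a h') c := by
    rcases hc with hc | hc
    · rw [hc]; exact Commute.one_right _
    · rw [hc]; exact S.aF h' hh l3 h' hh F4
  rw [e1, h]
  calc a s * (a s * a h' * c) * X q = (a s * a s) * (a h' * (c * X q)) := by simp only [mul_assoc]
    _ = X q * c * a h' := by
      rw [S.aa s hs l1, one_mul, hc1.eq, ← mul_assoc, hc2.eq, mul_assoc, mul_assoc, hc3.eq]

/-- (T9) -/
theorem t9 {s q : ℕ} (hs : s < 48) (hq : q < 48) (hp : p120 s q = true) (hp' : p120 q s = true)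
    (hsm : sm q s = sm s q) :
    ∃ d e, (d = 1 ∨ d = X (sm s q)) ∧ (e = 1 ∨ e = a (sm s q)) ∧ a s * a q * a s * a q = d * e := by
  obtain ⟨v, hv, hv'⟩ := S.t6' hs hq hp
  obtain ⟨w, hw, hw'⟩ := S.t6' hq hs hp'
  rw [hsm] at hw hw'
  have hf := imp_of (all2_spec f120_tab hs hq) hp
  have hK := imp_of (all2_spec tab120' hs hq) hp
  rw [List.all_eq_true] at hK
  have hrig := S.rig120 s q hs hq hp
  generalize sm s q = h at *
  unfold f120 at hf
  simp only [Bool.and_eq_true, decide_eq_true_eq, Bool.not_eq_true'] at hf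
  obtain ⟨⟨⟨⟨⟨⟨⟨⟨⟨⟨⟨⟨⟨⟨⟨⟨⟨⟨⟨hh, b1⟩, b2⟩, F1⟩, F2⟩, F3⟩, F4⟩, F5⟩, F6⟩, F7⟩, q1⟩, q2⟩, n1⟩, n2⟩, n3⟩, m1⟩, m2⟩, l1⟩, l2⟩, l3⟩ := hf
  refine RelObt.t9 (t := t) {g | ∃ b, b < 48 ∧ F s b = true ∧ F q b = true ∧ g = X b} (S.aa s hs l1) (S.aa q hq l2)
    (S.aa h hh l3) (S.xx s hs) (S.xx h hh) (S.xx q hq) S.tt (S.xt s hs) (S.xt q hq) (S.xt h hh) (S.xcomm hs hh b1)
    (S.xcomm hq hh b2) ?_ (S.aF s hs l1 s hs F1) (S.aF s hs l1 h hh F2) (S.aF q hq l2 q hq F6)
    (S.aF q hq l2 h hh F7) (S.aF h hh l3 s hs F3) (S.aF h hh l3 q hq F5) (S.aF h hh l3 h hh F4)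
    (S.t7 s h hs hh q1) (S.t7 q h hq hh q2) (S.tr s hs l1) (S.tr q hq l2) (S.tr h hh l3) hv' hv hw' hw
    (S.ne_one h hh) ?_ ?_ ?_ ?_
  · rw [S.conj_x hq hs (Ne.symm n2) (by omega), m1]
    simp
  · rintro _ ⟨b, hb, hb1, -, rfl⟩
    exact S.aF s hs l1 b hb hb1
  · rintro _ ⟨b, hb, -, hb2, rfl⟩
    exact S.aF q hq l2 b hb hb2
  · rintro _ ⟨b, hb, hb1, hb2, rfl⟩
    exact S.aF h hh l3 b hb (imp_of (hK b (List.mem_range.2 hb)) (by rw [hb1, hb2]; rfl))
  · intro e he hk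
    exact hrig e he fun b hb hb1 hb2 => hk _ ⟨b, hb, hb1, hb2, rfl⟩

end Sys

/-! ### Positive roots -/

/-- position of a root -/
def bd (s b h : ℕ) : Bool := Nat.blt s h && Nat.blt b h && Nat.blt h 48

theorem bd_spec {s b h : ℕ} (H : bd s b h = true) : s < h ∧ b < h ∧ h < 48 := by
  unfold bd at H
  simp only [Bool.and_eq_true, Nat.blt_eq] at H
  exact ⟨H.1.1, H.1.2, H.2⟩

def fax (s b : ℕ) : Bool :=
  lg s || F s b || (p90 s b && bd s b (sm s b) && cb (sm s b) b) || (p120 s b && bd s b (sm s b)) ||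
    (p135 s b && bd s b (sm s b) && bd s b (sm s (sm s b)))

def faa (s q : ℕ) : Bool :=
  lg s || lg q || decide (s = q) || p60 s q || (p90 s q && bd s q (sm s q) && F q (sm s q)) ||
    (p120 s q && bd s q (sm s q) && p120 q s && decide (sm q s = sm s q))

def fxx (r s : ℕ) : Bool := (cmg r s).all fun c => bd r s c && cb s c

/-- all pairs of positive roots -/
def allp (f : ℕ → ℕ → Bool) : Bool := (List.range 24).all fun r => (List.range 24).all fun s => f (24 + r) (24 + s)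

theorem allp_spec {f : ℕ → ℕ → Bool} (h : allp f = true) {r s : ℕ} (hr : 24 ≤ r) (hr' : r < 48) (hs : 24 ≤ s)
    (hs' : s < 48) : f r s = true := by
  unfold allp at h
  rw [List.all_eq_true] at h
  have h1 := h (r - 24) (List.mem_range.2 (by omega))
  rw [List.all_eq_true] at h1
  have h2 := h1 (s - 24) (List.mem_range.2 (by omega))
  rwa [show 24 + (r - 24) = r by omega, show 24 + (s - 24) = s by omega] at h2

theorem fax_tab : allp fax = true := by decide +kernel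
theorem faa_tab : allp faa = true := by decide +kernel
theorem fxx_tab : allp (fun r s => Nat.ble s r || fxx r s) = true := by decide +kernel

namespace Sys

variable {t : G} {X a : ℕ → G} (S : Sys t X a)

/-- the group generated by the root groups above `k` -/
def A (X a : ℕ → G) (k : ℕ) : Subgroup G := closure {g | ∃ q, k < q ∧ q < 48 ∧ (g = X q ∨ g = a q)}

theorem X_mem {X a : ℕ → G} {k q : ℕ} (h : k < q) (hq : q < 48) : X q ∈ A X a k :=
  subset_closure ⟨q, h, hq, Or.inl rfl⟩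

theorem a_mem {X a : ℕ → G} {k q : ℕ} (h : k < q) (hq : q < 48) : a q ∈ A X a k :=
  subset_closure ⟨q, h, hq, Or.inr rfl⟩

theorem or_mem {H : Subgroup G} {c x : G} (hc : c = 1 ∨ c = x) (hx : x ∈ H) : c ∈ H := by
  rcases hc with hc | hc
  · rw [hc]; exact one_mem _
  · rw [hc]; exact hx

include S

theorem inv_X {r : ℕ} (hr : r < 48) : (X r)⁻¹ = X r := inv_eq_of_mul_eq_one_left (S.xx r hr)

theorem inv_a {s : ℕ} (hs : s < 48) (hl : lg s = false) : (a s)⁻¹ = a s := inv_eq_of_mul_eq_one_left (S.aa s hs hl)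

theorem comm_ax {s b : ℕ} (hs : 24 ≤ s) (hs' : s < 48) (hb : 24 ≤ b) (hb' : b < 48) (hl : lg s = false) :
    a s * X b * (a s)⁻¹ * (X b)⁻¹ ∈ A X a (max s b) := by
  rw [S.inv_X hb', S.inv_a hs' hl]
  have h := allp_spec fax_tab hs hs' hb hb'
  unfold fax at h
  simp only [Bool.or_eq_true, Bool.and_eq_true] at h
  rcases h with (((h | h) | ⟨⟨h1, h2⟩, h3⟩) | ⟨h1, h2⟩) | ⟨⟨h1, h2⟩, h3⟩
  · rw [hl] at h; exact Bool.noConfusion h
  · rw [(S.aF s hs' hl b hb' h).eq, mul_assoc (X b), S.aa s hs' hl, mul_one, S.xx b hb']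
    exact one_mem _
  · obtain ⟨e1, e2, e3⟩ := bd_spec h2
    rw [S.t5 s b hs' hb' h1, mul_assoc, (S.xcomm e3 hb' h3).eq, ← mul_assoc, S.xx b hb', one_mul]
    exact X_mem (max_lt e1 e2) e3
  · obtain ⟨e1, e2, e3⟩ := bd_spec h2
    obtain ⟨c, hc, h⟩ := S.t6 hs' hb' h1
    have e : a s * X b * a s * X b = a s * (X b * a s * X b) := by simp only [mul_assoc]
    rw [e, h, ← mul_assoc, ← mul_assoc, S.aa s hs' hl, one_mul]
    exact mul_mem (a_mem (max_lt e1 e2) e3) (or_mem hc (X_mem (max_lt e1 e2) e3))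
  · obtain ⟨e1, e2, e3⟩ := bd_spec h2
    obtain ⟨k1, k2, k3⟩ := bd_spec h3
    obtain ⟨c, d, hc, hd, h⟩ := S.t3 hs' hb' h1
    have e : a s * X b * a s * X b = a s * (X b * a s * X b) := by simp only [mul_assoc]
    rw [e, h, ← mul_assoc, ← mul_assoc, ← mul_assoc, S.aa s hs' hl, one_mul]
    exact mul_mem (mul_mem (a_mem (max_lt e1 e2) e3) (or_mem hc (X_mem (max_lt e1 e2) e3)))
      (or_mem hd (X_mem (max_lt k1 k2) k3))

theorem comm_aa {s q : ℕ} (hs : 24 ≤ s) (hs' : s < 48) (hq : 24 ≤ q) (hq' : q < 48) (hl : lg s = false)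
    (hl' : lg q = false) : a s * a q * (a s)⁻¹ * (a q)⁻¹ ∈ A X a (max s q) := by
  rw [S.inv_a hq' hl', S.inv_a hs' hl]
  have h := allp_spec faa_tab hs hs' hq hq'
  unfold faa at h
  simp only [Bool.or_eq_true, Bool.and_eq_true, decide_eq_true_eq] at h
  rcases h with ((((h | h) | h) | h) | ⟨⟨h1, h2⟩, h3⟩) | ⟨⟨⟨h1, h2⟩, h3⟩, h4⟩
  · rw [hl] at h; exact Bool.noConfusion h
  · rw [hl'] at h; exact Bool.noConfusion h
  · rw [h, S.aa q hq' hl', one_mul, S.aa q hq' hl']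
    exact one_mem _
  · rw [(S.t7 s q hs' hq' h).eq, mul_assoc (a q), S.aa s hs' hl, mul_one, S.aa q hq' hl']
    exact one_mem _
  · obtain ⟨e1, e2, e3⟩ := bd_spec h2
    obtain ⟨w, hw, h⟩ := S.t8 s q hs' hq' h1
    have hwq : Commute (a q) w := by
      rcases hw with hw | hw
      · rw [hw]; exact Commute.one_right _
      · rw [hw]; exact S.aF q hq' hl' _ e3 h3
    rw [h, hwq.eq, mul_assoc, S.aa q hq' hl', mul_one]
    exact or_mem hw (X_mem (max_lt e1 e2) e3)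
  · obtain ⟨e1, e2, e3⟩ := bd_spec h2
    obtain ⟨d, e, hd, he, h⟩ := S.t9 hs' hq' h1 h3 h4
    rw [h]
    exact mul_mem (or_mem hd (X_mem (max_lt e1 e2) e3)) (or_mem he (a_mem (max_lt e1 e2) e3))

theorem comm_xx {r s : ℕ} (hr : 24 ≤ r) (hrs : r ≤ s) (hs' : s < 48) :
    X r * X s * (X r)⁻¹ * (X s)⁻¹ ∈ A X a s := by
  by_cases h : r = s
  · rw [h, mul_inv_cancel_right, mul_inv_cancel]
    exact one_mem _
  · have hf := allp_spec fxx_tab hr (by omega) (by omega : 24 ≤ s) hs'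
    have h1 : fxx r s = true := by
      rw [Bool.or_eq_true] at hf
      rcases hf with hf | hf
      · have := Nat.le_of_ble_eq_true hf
        omega
      · exact hf
    unfold fxx at h1
    simp only [List.all_eq_true, Bool.and_eq_true] at h1
    rw [S.comm r s (by omega) hs' h (by omega), mul_inv_cancel_right]
    have hc : Commute (X s) ((cmg r s).map X).prod :=
      commute_prod fun c hc => S.xcomm hs' (bd_spec (h1 c hc).1).2.2 (h1 c hc).2
    rw [hc.eq, mul_inv_cancel_right]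
    refine list_prod_mem fun y hy => ?_
    obtain ⟨c, hc, rfl⟩ := List.mem_map.1 hy
    obtain ⟨-, e2, e3⟩ := bd_spec (h1 c hc).1
    exact X_mem e2 e3

end Sys

theorem swap_mem {H : Subgroup G} {g h : G} (H1 : h * g * h⁻¹ * g⁻¹ ∈ H) : g * h * g⁻¹ * h⁻¹ ∈ H := by
  have h2 := inv_mem H1
  have e : (h * g * h⁻¹ * g⁻¹)⁻¹ = g * h * g⁻¹ * h⁻¹ := by group
  rwa [e] at h2

/-- The root data of the case SHORT. -/
def Sys.rootData {t : G} {X a : ℕ → G} (S : Sys t X a) (ha : ∀ r, r < 48 → lg r = true → a r = 1) :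
    RootChain.RootData G where
  t := t
  x := X
  a := a
  fr r := lg r = false
  tt := S.tt
  xx r _ hr := S.xx r hr
  xt r _ hr := (S.xt r hr).symm.eq
  at_fr r _ hr hf := by
    rw [S.inv_a hr hf]
    exact S.tr r hr hf
  a_one r _ hr hf := ha r hr (by simpa using hf)
  aa r _ hr := by
    by_cases hf : lg r = false
    · rw [S.aa r hr hf]; exact one_mem _
    · rw [ha r hr (by simpa using hf), mul_one]; exact one_mem _
  comm r s hr hrs hs g h hg hh := by
    have hone : ∀ {x : G}, 1 * x * 1⁻¹ * x⁻¹ = 1 := fun {x} => by group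
    have hone' : ∀ {x : G}, x * 1 * x⁻¹ * 1⁻¹ = 1 := fun {x} => by group
    have hm : max r s = s := max_eq_right hrs
    have hm' : max s r = s := max_eq_left hrs
    rcases hg with rfl | rfl <;> rcases hh with rfl | rfl
    · exact S.comm_xx hr hrs hs
    · by_cases hf : lg s = false
      · have := S.comm_ax (by omega) hs hr (by omega) hf
        rw [hm'] at this
        exact swap_mem this
      · rw [ha s hs (by simpa using hf), hone']
        exact one_mem _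
    · by_cases hf : lg r = false
      · have := S.comm_ax hr (by omega) (by omega) hs hf
        rw [hm] at this
        exact this
      · rw [ha r (by omega) (by simpa using hf), hone]
        exact one_mem _
    · by_cases hf : lg s = false
      · by_cases hf' : lg r = false
        · have := S.comm_aa hr (by omega) (by omega) hs hf' hf
          rw [hm] at this
          exact this
        · rw [ha r (by omega) (by simpa using hf'), hone]
          exact one_mem _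
      · rw [ha s hs (by simpa using hf), hone']
        exact one_mem _

end Cfsg.Agent.F42.RelSys
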