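import Cfsg.Agent.F42.ParAut
import Cfsg.Agent.F42.Std

/-!
# The element `y` of a swap

If some `n` moves `t` to `t * s`, `s = x 44`, and fixes `s`, then there is an involution `y` doing the same,
centralising `Q_s` and moving every element of `P_s = C_L(s)` by an element of `W_s`.
-/

set_option autoImplicit false

namespace Cfsg.Agent.F42.SwapY

open Cfsg.Agent.FourTwo.Base Cfsg.Agent.FourTwo.Par Cfsg.Agent.FourTwo.Cent
open ParFacts ParData ParAut
open scoped commutatorElement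

variable {G : Type*} [Group G] (S : Std G)

/-- `n` normalises `φ(P_s)` -/
theorem conj_mem_map {n : G} (hn : n * S.t * n⁻¹ = S.t * S.φ (x 44)) (hz : n * S.φ (x 44) * n⁻¹ = S.φ (x 44))
    {g : LL} (hg : g ∈ Ps) : ∃ l ∈ Ps, n * S.φ g * n⁻¹ = S.φ l := by
  have h1 : ∀ g ∈ Ps, ∃ l ∈ Ps, n * S.φ g * n⁻¹ = S.φ l ∨ n * S.φ g * n⁻¹ = S.t * S.φ l := by
    intro g hg
    have hgz : S.φ g * S.φ (x 44) = S.φ (x 44) * S.φ g := by
      rw [← map_mul, ← map_mul, cent44 hg]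
    have e1 : n * S.φ g * n⁻¹ * S.φ (x 44) = S.φ (x 44) * (n * S.φ g * n⁻¹) := by
      calc n * S.φ g * n⁻¹ * S.φ (x 44) = n * S.φ g * n⁻¹ * (n * S.φ (x 44) * n⁻¹) := by rw [hz]
        _ = n * (S.φ g * S.φ (x 44)) * n⁻¹ := by group
        _ = n * (S.φ (x 44) * S.φ g) * n⁻¹ := by rw [hgz]
        _ = (n * S.φ (x 44) * n⁻¹) * (n * S.φ g * n⁻¹) := by group
        _ = _ := by rw [hz]
    have e2 : n * S.φ g * n⁻¹ * (S.t * S.φ (x 44)) = (S.t * S.φ (x 44)) * (n * S.φ g * n⁻¹) := by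
      calc n * S.φ g * n⁻¹ * (S.t * S.φ (x 44)) = n * S.φ g * n⁻¹ * (n * S.t * n⁻¹) := by rw [hn]
        _ = n * (S.φ g * S.t) * n⁻¹ := by group
        _ = n * (S.t * S.φ g) * n⁻¹ := by rw [S.comm']
        _ = (n * S.t * n⁻¹) * (n * S.φ g * n⁻¹) := by group
        _ = _ := by rw [hn]
    have e3 : n * S.φ g * n⁻¹ * S.t = S.t * (n * S.φ g * n⁻¹) := by
      have c0 : Commute (n * S.φ g * n⁻¹) (S.φ (x 44)) := e1
      have e5 : n * S.φ g * n⁻¹ * (S.φ (x 44))⁻¹ = (S.φ (x 44))⁻¹ * (n * S.φ g * n⁻¹) := c0.inv_right.eq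
      calc n * S.φ g * n⁻¹ * S.t = n * S.φ g * n⁻¹ * (S.t * S.φ (x 44)) * (S.φ (x 44))⁻¹ := by group
        _ = (S.t * S.φ (x 44)) * (n * S.φ g * n⁻¹ * (S.φ (x 44))⁻¹) := by rw [e2]; group
        _ = (S.t * S.φ (x 44)) * ((S.φ (x 44))⁻¹ * (n * S.φ g * n⁻¹)) := by rw [e5]
        _ = _ := by group
    obtain ⟨l, hl⟩ := S.root _ e3 44 (by norm_num) e1
    refine ⟨l, mem_Ps_of_comm ?_, hl⟩
    apply S.inj
    rw [map_mul, map_mul]
    rcases hl with hl | hl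
    · rw [← hl]
      exact e1
    · have e6 : S.φ l = S.t⁻¹ * (n * S.φ g * n⁻¹) := by rw [hl]; group
      have e7 : S.t⁻¹ * S.φ (x 44) = S.φ (x 44) * S.t⁻¹ := by
        rw [S.t_inv, S.comm]
      rw [e6, mul_assoc, e1, ← mul_assoc, e7, mul_assoc]
  have h2 : ⁅Ps, Ps⁆ ≤ (Ps.map S.φ).comap ((MulAut.conj n).toMonoidHom.comp S.φ) := by
    rw [Subgroup.commutator_le]
    intro a ha b hb
    rw [Subgroup.mem_comap]
    show n * S.φ ⁅a, b⁆ * n⁻¹ ∈ Ps.map S.φ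
    obtain ⟨l, hl, el⟩ := h1 a ha
    obtain ⟨m, hm, em⟩ := h1 b hb
    have e0 : n * S.φ ⁅a, b⁆ * n⁻¹ = (n * S.φ a * n⁻¹) * (n * S.φ b * n⁻¹) * (n * S.φ a * n⁻¹)⁻¹ *
        (n * S.φ b * n⁻¹)⁻¹ := by
      rw [commutatorElement_def, map_mul, map_mul, map_mul, map_inv, map_inv]; group
    have key : ∀ A B : G, (A = S.φ l ∨ A = S.t * S.φ l) → (B = S.φ m ∨ B = S.t * S.φ m) →
        A * B * A⁻¹ * B⁻¹ = S.φ (l * m * l⁻¹ * m⁻¹) := by
      intro A B hA hB
      have hl' := S.comm' l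
      have hm' := S.comm' m
      have c1 : Commute S.t (S.φ l) := S.comm l
      have c2 : Commute S.t (S.φ m) := S.comm m
      simp only [map_mul, map_inv]
      rcases hA with rfl | rfl <;> rcases hB with rfl | rfl
      · rfl
      · calc S.φ l * (S.t * S.φ m) * (S.φ l)⁻¹ * (S.t * S.φ m)⁻¹
            = (S.φ l * S.t) * S.φ m * (S.φ l)⁻¹ * (S.φ m)⁻¹ * S.t⁻¹ := by group
          _ = (S.t * S.φ l) * S.φ m * (S.φ l)⁻¹ * (S.φ m)⁻¹ * S.t⁻¹ := by rw [hl']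
          _ = S.t * (S.φ l * S.φ m * (S.φ l)⁻¹ * (S.φ m)⁻¹) * S.t⁻¹ := by group
          _ = _ := by
            have c : Commute S.t (S.φ l * S.φ m * (S.φ l)⁻¹ * (S.φ m)⁻¹) :=
              ((c1.mul_right c2).mul_right c1.inv_right).mul_right c2.inv_right
            rw [c.eq, mul_inv_cancel_right]
      · calc S.t * S.φ l * S.φ m * (S.t * S.φ l)⁻¹ * (S.φ m)⁻¹
            = S.t * (S.φ l * S.φ m * (S.φ l)⁻¹) * (S.t⁻¹ * (S.φ m)⁻¹) := by group
          _ = S.t * (S.φ l * S.φ m * (S.φ l)⁻¹) * ((S.φ m)⁻¹ * S.t⁻¹) := by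
            rw [(c2.inv_left.inv_right).eq]
          _ = S.t * (S.φ l * S.φ m * (S.φ l)⁻¹ * (S.φ m)⁻¹) * S.t⁻¹ := by group
          _ = _ := by
            have c : Commute S.t (S.φ l * S.φ m * (S.φ l)⁻¹ * (S.φ m)⁻¹) :=
              ((c1.mul_right c2).mul_right c1.inv_right).mul_right c2.inv_right
            rw [c.eq, mul_inv_cancel_right]
      · have c3 : Commute (S.φ l) S.t := c1.symm
        calc S.t * S.φ l * (S.t * S.φ m) * (S.t * S.φ l)⁻¹ * (S.t * S.φ m)⁻¹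
            = S.t * (S.φ l * S.t) * S.φ m * (S.φ l)⁻¹ * S.t⁻¹ * (S.φ m)⁻¹ * S.t⁻¹ := by group
          _ = S.t * (S.t * S.φ l) * S.φ m * (S.φ l)⁻¹ * (S.t⁻¹ * (S.φ m)⁻¹) * S.t⁻¹ := by rw [hl']; group
          _ = S.t * (S.t * S.φ l) * S.φ m * (S.φ l)⁻¹ * ((S.φ m)⁻¹ * S.t⁻¹) * S.t⁻¹ := by
            rw [(c2.inv_left.inv_right).eq]
          _ = (S.t * S.t) * (S.φ l * S.φ m * (S.φ l)⁻¹ * (S.φ m)⁻¹) * (S.t * S.t)⁻¹ := by group
          _ = _ := by rw [S.tt]; group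
    rw [e0, key _ _ el em]
    exact ⟨_, mul_mem (mul_mem (mul_mem hl hm) (inv_mem hl)) (inv_mem hm), rfl⟩
  rw [FourTwo.Perf.perfect_Ps] at h2
  obtain ⟨l, hl, h3⟩ := h2 hg
  exact ⟨l, hl, h3.symm⟩

/-- conjugation by `n` as an automorphism of `P_s` -/
theorem exists_aut {n : G} (hn : n * S.t * n⁻¹ = S.t * S.φ (x 44)) (hz : n * S.φ (x 44) * n⁻¹ = S.φ (x 44)) :
    ∃ α : MulAut PP, ∀ g : PP, S.φ (α g) = n * S.φ g * n⁻¹ := by
  have h := fun g : PP => conj_mem_map S hn hz g.2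
  choose f hf1 hf2 using h
  let β : PP →* PP :=
    { toFun := fun g => ⟨f g, hf1 g⟩
      map_one' := by
        apply ext_iff
        apply S.inj
        show S.φ (f 1) = S.φ 1
        rw [← hf2]
        show n * S.φ 1 * n⁻¹ = S.φ 1
        rw [map_one]; group
      map_mul' := fun a b => by
        apply ext_iff
        apply S.inj
        show S.φ (f (a * b)) = S.φ (f a * f b)
        rw [map_mul, ← hf2, ← hf2, ← hf2, val_mul, map_mul]
        group }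
  have hβ : ∀ g : PP, S.φ (β g) = n * S.φ g * n⁻¹ := fun g => (hf2 g).symm
  have hinj : Function.Injective β := by
    intro a b hab
    have h1 := hβ a
    rw [hab, hβ b] at h1
    have h2 : S.φ (b : LL) = S.φ a := mul_left_cancel (mul_right_cancel h1)
    exact (ext_iff (S.inj h2)).symm
  have hfin : Finite PP := inferInstance
  exact ⟨MulEquiv.ofBijective β ((Finite.injective_iff_bijective).1 hinj), hβ⟩

/-- the centre of `P_s` inside `W_s` -/
theorem eq_of_central {w : LL} (hw : w ∈ Ws) (h : ∀ g ∈ Ps, g * w = w * g) : w = 1 ∨ w = x 44 := by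
  obtain ⟨e, he, rfl⟩ := exists_code_Wv hw
  have h3 : ∀ r, 15 ≤ r → r < 33 → WCode.act r e = e := by
    intro r hr hr'
    have h5 : x r * wv e * (x r)⁻¹ = wv e := by
      rw [h _ (x_mem_Ps hr (by omega)), mul_inv_cancel_right]
    rw [conj_wv hr (by omega) he] at h5
    exact wv_inj (WCode.tab_of hr (by omega) he).1 he h5
  rcases WCode.eq_of_fix he h3 with rfl | rfl
  · exact Or.inl wv_zero
  · exact Or.inr wv_8

theorem sq_W {w : LL} (hw : w ∈ Ws) : w * w = 1 := by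
  obtain ⟨e, he, rfl⟩ := exists_code_Wv hw
  exact wv_sq he

/-- **The element `y`.** -/
theorem exists_y (h : S.Swap (x 44)) : ∃ y, y * y = 1 ∧ y * S.t * y⁻¹ = S.t * S.φ (x 44) ∧
    (∀ q ∈ Qs, y * S.φ q = S.φ q * y) ∧ ∀ g ∈ Ps, ∃ w ∈ Ws, y * S.φ g * y⁻¹ = S.φ (w * g) := by
  obtain ⟨n, hn, hz⟩ := h
  obtain ⟨α, hα⟩ := exists_aut S hn hz
  obtain ⟨p, hp1, hp2⟩ := ParAut.exists_inner α
  obtain ⟨y, hy⟩ : ∃ y, y = (S.φ p)⁻¹ * n := ⟨_, rfl⟩
  have hconj : ∀ g : PP, y * S.φ g * y⁻¹ = S.φ ((p⁻¹ * α g * p : PP) : LL) := by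
    intro g
    rw [val_mul, val_mul, val_inv, map_mul, map_mul, map_inv, hα, hy]
    group
  have hQ : ∀ q ∈ Qs, y * S.φ q = S.φ q * y := by
    intro q hq
    have h1 := hconj ⟨q, Qs_le_Ps hq⟩
    rw [hp1 _ (mem_QP.2 hq)] at h1
    have e : p⁻¹ * (p * (⟨q, Qs_le_Ps hq⟩ : PP) * p⁻¹) * p = (⟨q, Qs_le_Ps hq⟩ : PP) := by group
    rw [e] at h1
    have h2 : y * S.φ q * y⁻¹ = S.φ q := h1
    rwa [mul_inv_eq_iff_eq_mul] at h2
  have hP : ∀ g ∈ Ps, ∃ w ∈ Ws, y * S.φ g * y⁻¹ = S.φ (w * g) := by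
    intro g hg
    have h1 := hconj ⟨g, hg⟩
    have h2 := hp2 ⟨g, hg⟩
    obtain ⟨w, hw⟩ : ∃ w : PP, w = p⁻¹ * α ⟨g, hg⟩ * p * (⟨g, hg⟩ : PP)⁻¹ := ⟨_, rfl⟩
    have h3 : p⁻¹ * α ⟨g, hg⟩ * p = w * ⟨g, hg⟩ := by rw [hw]; group
    rw [← hw] at h2
    rw [h3] at h1
    exact ⟨w, mem_WP.1 h2, h1⟩
  have hyt : y * S.t * y⁻¹ = S.t * S.φ (x 44) := by
    have e1 : y * S.t * y⁻¹ = (S.φ p)⁻¹ * (n * S.t * n⁻¹) * S.φ p := by rw [hy]; group
    have c1 : Commute S.t (S.φ p) := S.comm p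
    rw [e1, hn]
    calc (S.φ (p : LL))⁻¹ * (S.t * S.φ (x 44)) * S.φ (p : LL)
        = ((S.φ (p : LL))⁻¹ * S.t) * (S.φ (x 44) * S.φ (p : LL)) := by group
      _ = (S.t * (S.φ (p : LL))⁻¹) * (S.φ (p : LL) * S.φ (x 44)) := by
        rw [← c1.inv_right.eq, ← map_mul, ← map_mul, cent44 p.2]
      _ = _ := by group
  have hzQ : x 44 ∈ Qs := Ws_le_Qs x44_mem
  have hyz := hQ _ hzQ
  have zz : S.φ (x 44) * S.φ (x 44) = 1 := by rw [← map_mul, x_mul_self, map_one]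
  -- `y²`
  have hyt' : y * S.t = S.t * S.φ (x 44) * y := by
    rw [← hyt]; group
  have ct : y * y * S.t = S.t * (y * y) := by
    calc y * y * S.t = y * (y * S.t) := by group
      _ = y * (S.t * S.φ (x 44) * y) := by rw [hyt']
      _ = (y * S.t) * S.φ (x 44) * y := by group
      _ = (S.t * S.φ (x 44) * y) * S.φ (x 44) * y := by rw [hyt']
      _ = S.t * S.φ (x 44) * (y * S.φ (x 44)) * y := by group
      _ = S.t * (S.φ (x 44) * S.φ (x 44)) * (y * y) := by rw [hyz]; group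
      _ = _ := by rw [zz, mul_one]
  have cQ : ∀ q ∈ Qs, y * y * S.φ q = S.φ q * (y * y) := by
    intro q hq
    rw [mul_assoc, hQ q hq, ← mul_assoc, hQ q hq, mul_assoc]
  obtain ⟨l, hl⟩ := S.root _ ct 44 (by norm_num) (cQ _ hzQ)
  have hl2 : y * y = S.φ l := by
    rcases hl with hl | hl
    · exact hl
    · exfalso
      have hlQ : l ∈ Ws := cent_Q fun q hq => by
        have h1 := cQ q hq
        rw [hl] at h1
        apply S.inj
        rw [map_mul, map_mul]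
        have h2 : S.t * (S.φ l * S.φ q) = S.t * (S.φ q * S.φ l) := by
          calc S.t * (S.φ l * S.φ q) = S.t * S.φ l * S.φ q := by group
            _ = S.φ q * S.t * S.φ l := by rw [h1]; group
            _ = _ := by rw [S.comm']; group
        exact mul_left_cancel h2
      have h1 := hQ l (Ws_le_Qs hlQ)
      have h2 : y * (S.t * S.φ l) = (S.t * S.φ l) * y := by
        rw [← hl]; group
      rw [← mul_assoc, hyt'] at h2
      have h3 : S.t * S.φ (x 44) * y * S.φ l = S.t * S.φ (x 44) * (S.φ l * y) := by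
        rw [← h1]; group
      rw [h3] at h2
      have h4 : S.φ (x 44) * (S.φ l * y) = S.φ l * y := by
        have h5 : S.t * (S.φ (x 44) * (S.φ l * y)) = S.t * (S.φ l * y) := by
          rw [← mul_assoc, h2]; group
        exact mul_left_cancel h5
      have h6 : S.φ (x 44) = 1 := mul_eq_right.1 h4
      have h7 : x 44 = 1 := S.inj (by rw [h6, map_one])
      exact FourTwo.BN.x_ne_one (by norm_num) h7
  have hlW : l ∈ Ws := cent_Q fun q hq => by
    have h1 := cQ q hq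
    rw [hl2] at h1
    apply S.inj
    rw [map_mul, map_mul, h1]
  have hlc : l = 1 ∨ l = x 44 := by
    refine eq_of_central hlW fun g hg => ?_
    obtain ⟨w, hw, e⟩ := hP g hg
    have hyw := hQ w (Ws_le_Qs hw)
    have e1 : y * S.φ g = S.φ w * S.φ g * y := by
      rw [← map_mul, ← e]; group
    have e2 : y * y * S.φ g = S.φ g * (y * y) := by
      calc y * y * S.φ g = y * (y * S.φ g) := by group
        _ = y * (S.φ w * S.φ g * y) := by rw [e1]
        _ = (y * S.φ w) * S.φ g * y := by group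
        _ = S.φ w * (y * S.φ g) * y := by rw [hyw]; group
        _ = S.φ w * (S.φ w * S.φ g * y) * y := by rw [e1]
        _ = (S.φ w * S.φ w) * S.φ g * (y * y) := by group
        _ = _ := by rw [← map_mul, sq_W hw, map_one, one_mul]
    rw [hl2] at e2
    apply S.inj
    rw [map_mul, map_mul, e2]
  rcases hlc with hl1 | hl1
  · exact ⟨y, by rw [hl2, hl1, map_one], hyt, hQ, hP⟩
  · have hty : S.t * y = y * S.t * S.φ (x 44) := by
      have e1 : S.t * y = S.t * S.φ (x 44) * (S.φ (x 44) * y) := by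
        rw [mul_assoc, ← mul_assoc (S.φ (x 44)), zz, one_mul]
      rw [e1, ← hyz, ← mul_assoc, ← hyt']
    refine ⟨y * S.t, ?_, ?_, ?_, ?_⟩
    · calc y * S.t * (y * S.t) = y * (S.t * y) * S.t := by group
        _ = y * (y * S.t * S.φ (x 44)) * S.t := by rw [hty]
        _ = (y * y) * S.t * (S.φ (x 44) * S.t) := by group
        _ = S.φ (x 44) * S.t * (S.φ (x 44) * S.t) := by rw [hl2, hl1]
        _ = S.φ (x 44) * S.t * (S.t * S.φ (x 44)) := by rw [← S.comm' (x 44)]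
        _ = S.φ (x 44) * (S.t * S.t) * S.φ (x 44) := by group
        _ = 1 := by rw [S.tt, mul_one, zz]
    · calc y * S.t * S.t * (y * S.t)⁻¹ = y * S.t * y⁻¹ := by group
        _ = _ := hyt
    · intro q hq
      calc y * S.t * S.φ q = y * (S.t * S.φ q) := by group
        _ = (y * S.φ q) * S.t := by rw [S.comm]; group
        _ = _ := by rw [hQ q hq]; group
    · intro g hg
      obtain ⟨w, hw, e⟩ := hP g hg
      refine ⟨w, hw, ?_⟩
      calc y * S.t * S.φ g * (y * S.t)⁻¹ = y * (S.t * S.φ g) * S.t⁻¹ * y⁻¹ := by group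
        _ = y * S.φ g * y⁻¹ := by rw [S.comm]; group
        _ = _ := e

/-- The common form. -/
theorem exists_y' (h : S.Swap (x 44)) : ∃ y, y * y = 1 ∧ y * S.t * y⁻¹ = S.t * S.φ (x 44) ∧
    (∀ r, 33 ≤ r → r < 48 → y * S.φ (x r) = S.φ (x r) * y) ∧
    ∀ g ∈ Ps, ∃ w ∈ Ws, y * S.φ g * y⁻¹ = S.φ (g * w) := by
  obtain ⟨y, h1, h2, h3, h4⟩ := exists_y S h
  refine ⟨y, h1, h2, fun r hr hr' => h3 _ (x_mem_Qs hr hr'), fun g hg => ?_⟩
  obtain ⟨w, hw, e⟩ := h4 g hg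
  have h5 := W_norm (inv_mem hg) hw
  have h6 : g * (g⁻¹ * w * g⁻¹⁻¹) = w * g := by group
  exact ⟨g⁻¹ * w * g⁻¹⁻¹, h5, by rw [e, h6]⟩

end Cfsg.Agent.F42.SwapY
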