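import Cfsg.Agent.F42.Pattern
import Cfsg.Agent.F42.Ctx
import Cfsg.Agent.F42.ShortEnd
import Cfsg.Agent.F42.RelNon
import Cfsg.Agent.F42.AllRoot

/-!
# `F₄(2)` standard, `C_G(t) = ⟨t⟩ × L`: the contradiction, from its pieces
-/

set_option autoImplicit false

namespace Cfsg.Agent.F42.Top

open Cfsg.Agent.FourTwo Cfsg.Agent.FourTwo.Base Cfsg.Agent.FourTwo.ZTwo

universe u

/-- A simple nonabelian group has no sign character nontrivial on `t`. -/
theorem no_sign {G : Type*} [Group G] [IsSimpleGroup G] (hG : ¬ ∀ a b : G, a * b = b * a) {t : G}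
    (h : ∃ m : G →* ℤˣ, m t = -1) : False := by
  obtain ⟨m, hm⟩ := h
  rcases m.normal_ker.eq_bot_or_eq_top with h1 | h1
  · apply hG
    intro a b
    have hinj : Function.Injective m := (MonoidHom.ker_eq_bot_iff m).1 h1
    apply hinj
    rw [map_mul, map_mul, mul_comm]
  · have h2 : t ∈ m.ker := h1 ▸ Subgroup.mem_top t
    rw [MonoidHom.mem_ker, hm] at h2
    exact absurd h2 (by decide)

variable {G : Type u} [Group G]

theorem not_ty_symm {S : Std G} (h : ¬ S.Ty (x 47 * x 44)) : ¬ S.Ty (x 44 * x 47) := by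
  rwa [PatC.zc_symm]

/-- the pieces [A1], [A2]: dichotomy -/
def Dich (S : Std G) : Prop := S.Swap (x 44) → (∃ a, S.IsSplit a) ∨ ∃ a, S.IsNon a

/-- pattern `{z_s}` -/
theorem false_short [Finite G] [IsSimpleGroup G] (hG : ¬ ∀ a b : G, a * b = b * a) (S : Std G) (h1 : S.E1)
    (hdich : Dich S) (hC : ∀ a, S.IsSplit a → S.Ty (x 44 * x 47))
    (h : S.Swap (x 44)) (h47 : ¬ S.Ty (x 47)) (hc : ¬ S.Ty (x 47 * x 44)) : False := by
  rcases hdich h with ⟨a, ha⟩ | ⟨a, ha⟩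
  · exact not_ty_symm hc (hC a ha)
  · exact no_sign hG (S.exists_sign_short h1 (RelNon.sysN S ha) (fun r _ hl => RelNon.aS_long S hl) h47
      (not_ty_symm hc))

theorem dual_dual_split (S : Std G) {α : LL ≃* LL} (hα : ∀ r < 48, α (x r) = x (Base.bar r)) {b : G}
    (h : ((S.dual α hα).dual α hα).IsSplit b) : S.IsSplit b := by
  have e : ∀ l, ((S.dual α hα).dual α hα).φ l = S.φ l := by
    intro l
    change S.φ (α (α l)) = S.φ l
    rw [PatC.alpha_alpha hα]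
  refine ⟨h.aa, ?_, fun r h1 h2 => ?_⟩
  · have := h.at_
    rw [e] at this
    exact this
  · have := h.fix r h1 h2
    rw [e] at this
    exact this

/-- all pieces together -/
theorem false_e1 [Finite G] [IsSimpleGroup G] (hG : ¬ ∀ a b : G, a * b = b * a) {α : LL ≃* LL}
    (hα : ∀ r < 48, α (x r) = x (Base.bar r))
    (hD : ∀ S : Std G, S.E1 → ∀ z, ZU z → ∀ g, g * S.t * g⁻¹ ≠ S.φ z)
    (hdich : ∀ S : Std G, Dich S)
    (hC : ∀ (S : Std G) (a : G), S.IsSplit a → S.Ty (x 44 * x 47))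
    (hS : ∀ (S : Std G) (a : G), S.IsSplit a → S.Swap (x 47) → ∃ b, (S.dual α hα).IsSplit b)
    (hNS : ∀ (S : Std G) (a b : G), S.IsNon a → (S.dual α hα).IsNon b → False)
    (hZ : ∀ (S : Std G) (n : G), S.E1 → Pattern.Norm S n → n * S.t * n⁻¹ = S.t * S.φ (x 44) →
      n * S.φ (x 44) * n⁻¹ = S.φ (x 47) → n * S.φ (x 47) * n⁻¹ = S.φ (x 44) → S.Ty (x 44) → S.Ty (x 47) →
      S.Ty (x 47 * x 44) → False)
    (S : Std G) (h1 : S.E1) : False := by
  have a44 : α (x 44) = x 47 := hα 44 (by omega)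
  have a47 : α (x 47) = x 44 := hα 47 (by omega)
  rcases Pattern.patterns hG h1 (hD S h1) with ⟨h, h47, hc⟩ | ⟨h, h44, hc⟩ | ⟨hs, hl⟩ | ⟨h44, h47, hc, n, hn, e1, e2, e3⟩
  · exact false_short hG S h1 (hdich S) (hC S) h h47 hc
  · refine false_short hG (S.dual α hα) (S.dual_E1 α hα h1) (hdich _) (hC _) ?_ ?_ ?_
    · rw [S.dual_swap α hα, a44]; exact h
    · rw [S.dual_ty α hα, a47]; exact h44
    · rw [S.dual_ty α hα, map_mul, a47, a44, PatC.zc_symm]; exact hc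
  · have hl' : (S.dual α hα).Swap (x 44) := by rw [S.dual_swap α hα, a44]; exact hl
    have hs' : (S.dual α hα).Swap (x 47) := by rw [S.dual_swap α hα, a47]; exact hs
    have fin : (∃ a, S.IsSplit a) → (∃ b, (S.dual α hα).IsSplit b) → False := by
      rintro ⟨a, ha⟩ ⟨b, hb⟩
      exact no_sign hG (AllInst.exists_sign S h1 α hα ha hb)
    rcases hdich S hs with ⟨a, ha⟩ | ⟨a, ha⟩
    · exact fin ⟨a, ha⟩ (hS S a ha hl)
    · rcases hdich (S.dual α hα) hl' with ⟨b, hb⟩ | ⟨b, hb⟩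
      · obtain ⟨b', hb'⟩ := hS (S.dual α hα) b hb hs'
        exact fin ⟨b', dual_dual_split S hα hb'⟩ ⟨b, hb⟩
      · exact hNS S a b ha hb
  · exact hZ S n h1 hn e1 e2 e3 h44 h47 hc

end Cfsg.Agent.F42.Top
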